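import Mathlib
import Groth.Agent.S0982
import Groth.Agent.S0973

/-!
# Two-term complexes in `D(A)` (helper32)

`cone_isLE`: for a distinguished triangle `K ⟶ K' ⟶ C ⟶ K⟦1⟧` with `K` in `D^{≤ n}`, `K'` in `D^{≤ n}`,
`H^n(α)` an isomorphism... more precisely: if `H^i(α)` is epi for `i = m` and iso for all `i > m`,
then `C` is `≤ m - 1`.
-/

set_option autoImplicit false
universe w v u
open CategoryTheory CategoryTheory.Limits

namespace Groth.Agent.Lib.Helper32.TwoTerm
open Pretriangulated DerivedCategory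
open Groth.Agent.S14388 (tt)

variable {C : Type u} [Category.{v} C] [Abelian C] [HasDerivedCategory.{w} C]

/-- If `α = T.mor₁` is an epimorphism on `H^m` and an isomorphism on `H^i` for all `i > m`,
then the cone `T.obj₃` lies in `D^{≤ m - 1}`. -/
lemma isLE_cone (T : Triangle (DerivedCategory C)) (hT : T ∈ distTriang _) (m : ℤ)
    (hepi : Epi ((homologyFunctor C m).map T.mor₁))
    (hiso : ∀ i : ℤ, m < i → IsIso ((homologyFunctor C i).map T.mor₁)) :
    T.obj₃.IsLE (m - 1) := by
  rw [isLE_iff]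
  intro i hi
  have hi' : m ≤ i := by omega
  -- H^i(mor₂) = 0
  have h2 : (homologyFunctor C i).map T.mor₂ = 0 := by
    apply (HomologySequence.epi_homologyMap_mor₁_iff T hT i).mp
    rcases eq_or_lt_of_le hi' with h | h
    · subst h; exact hepi
    · have := hiso i h; infer_instance
  -- δ i (i+1) = 0
  have h3 : HomologySequence.δ T i (i + 1) rfl = 0 := by
    apply (HomologySequence.mono_homologyMap_mor₁_iff T hT i (i + 1) rfl).mp
    have := hiso (i + 1) (by omega)
    infer_instance
  exact (HomologySequence.exact₃ T hT i (i + 1) rfl).isZero_X₂ h2 h3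

/-- Key vanishing: under the hypotheses of `isLE_cone`, a morphism `g : K' ⟶ Y` with `Y` in
`D^{≥ m}` and `α ≫ g = 0` is zero. -/
lemma eq_zero_of_comp_eq_zero {K K' Y : DerivedCategory C} (α : K ⟶ K') (m : ℤ)
    (hepi : Epi ((homologyFunctor C m).map α))
    (hiso : ∀ i : ℤ, m < i → IsIso ((homologyFunctor C i).map α))
    [Y.IsGE m] (g : K' ⟶ Y) (hg : α ≫ g = 0) : g = 0 := by
  obtain ⟨Z, β, γ, hT⟩ := distinguished_cocone_triangle α
  have : (Triangle.mk α β γ).obj₃.IsLE (m - 1) := isLE_cone _ hT m hepi hiso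
  obtain ⟨g', hg'⟩ := Triangle.yoneda_exact₂ _ hT g hg
  have : g' = 0 := (tt C).zero g' (m - 1) m
  rw [hg', this]
  exact comp_zero

end Groth.Agent.Lib.Helper32.TwoTerm
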