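import Mathlib
import Groth.Agent.Lib.Helper12.DRingSingle
import Groth.Agent.Lib.Helper32.TwoTerm

/-!
# Two-term representatives in `D(R)` (helper32)

* `hom_single_projective_eq_zero`: `Hom(F[0], Y) = 0` for `F` projective and `Y ∈ D^{≤ -1}`.
* `nonempty_iso_single`: an object concentrated in degree `c` is `single_c (H^c)`.
* `exists_lift`: lift a surjection `F ↠ H^0(K)` (F projective, `K ∈ D^{≤0}`) to `F[0] ⟶ K`.
* `cone_isLE_isGE`: the cone of such a lift (for `K ∈ D^{[-1,0]}`) is concentrated in degree `-1`.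
* `exists_twoTerm_rep`: `K ∈ D^{[-1,0]}` is represented by a two-term complex `M → F`.
-/

set_option autoImplicit false
universe u
open CategoryTheory CategoryTheory.Limits

namespace Groth.Agent.Lib.Helper32.TwoTermRep
open Pretriangulated DerivedCategory DRing
open Groth.Agent.S14388 (tt)
open Groth.Agent.Lib.Helper12

attribute [local instance] HasDerivedCategory.standard

variable {R : Type u} [CommRing R]

lemma projective_singleCx_X (F : ModuleCat.{u} R) [Module.Projective R F] (i : ℤ) :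
    Module.Projective R ((singleCx 0 F).X i) := by
  by_cases hi : i = 0
  · subst hi
    exact Module.Projective.of_equiv
      (HomologicalComplex.singleObjXSelf (ComplexShape.up ℤ) 0 F).symm.toLinearEquiv
  · have hZ := isZero_singleCx_X 0 F i hi
    have : Subsingleton ((singleCx 0 F).X i) := ModuleCat.subsingleton_of_isZero hZ
    infer_instance

/-- Lemma A: no maps from a projective module in degree `0` to `D^{≤ -1}`. -/
lemma hom_single_projective_eq_zero (F : ModuleCat.{u} R) [Module.Projective R F]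
    (Y : Dual.D R) [Y.IsLE (-1)] (f : (singleFunctor (ModuleCat.{u} R) 0).obj F ⟶ Y) : f = 0 := by
  obtain ⟨L, hL, ⟨e⟩⟩ := exists_iso_Q_obj_of_isLE Y (-1)
  have hK : (singleCx 0 F).IsKProjective :=
    isKProjective_of_vanishesAbove (singleCx 0 F) 0
      (fun i hi => isZero_singleCx_X 0 F i (by omega)) (projective_singleCx_X F)
  obtain ⟨g, hg⟩ := exists_map_of_isKProjective (singleCx 0 F) L
    ((toDSingleIso' 0 F).hom ≫ f ≫ e.hom)
  have hg0 : g = 0 := by
    apply HomologicalComplex.from_single_hom_ext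
    exact (L.isZero_of_isStrictlyLE (-1) 0 (by omega)).eq_of_tgt _ _
  rw [hg0, Functor.map_zero] at hg
  rw [← cancel_epi (toDSingleIso' 0 F).hom, ← cancel_mono e.hom, Category.assoc, ← hg, comp_zero,
    zero_comp]

section general
variable {C : Type*} [Category C] [Abelian C] [HasDerivedCategory C]

/-- an object concentrated in degree `c` is `single_c` of its `H^c`. -/
lemma nonempty_iso_single (X : DerivedCategory C) (c : ℤ) [X.IsGE c] [X.IsLE c] :
    Nonempty (X ≅ (singleFunctor C c).obj ((homologyFunctor C c).obj X)) := by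
  obtain ⟨M, ⟨e⟩⟩ := exists_iso_singleFunctor_obj_of_isGE_of_isLE X c
  let e2 : M ≅ (homologyFunctor C c).obj X :=
    ((singleFunctorCompHomologyFunctorIso C c).app M).symm ≪≫ (homologyFunctor C c).mapIso e.symm
  exact ⟨e ≪≫ (singleFunctor C c).mapIso e2⟩

lemma epi_homologyMap_single_map {M N : C} (u : M ⟶ N) [Epi u] (c : ℤ) :
    Epi ((homologyFunctor C c).map ((singleFunctor C c).map u)) := by
  have hn := (singleFunctorCompHomologyFunctorIso C c).hom.naturality u
  have : (homologyFunctor C c).map ((singleFunctor C c).map u) =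
      (singleFunctorCompHomologyFunctorIso C c).hom.app M ≫ u ≫
        (singleFunctorCompHomologyFunctorIso C c).inv.app N := by
    rw [← Category.assoc, ← Functor.id_map u, ← hn]
    simp
  rw [this]
  infer_instance

end general

lemma epi_of_epi_comp_isIso {D : Type*} [Category D] {X Y Z : D} (f : X ⟶ Y) (g : Y ⟶ Z) [IsIso g]
    (h : Epi (f ≫ g)) : Epi f := by
  have : f = (f ≫ g) ≫ inv g := by simp
  rw [this]
  infer_instance

/-- lift a surjection from a projective module onto `H^0(K)` to a map `F[0] ⟶ K`. -/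
lemma exists_lift (K : Dual.D R) [K.IsLE 0] (F : ModuleCat.{u} R) [Module.Projective R F]
    (p : F ⟶ (homologyFunctor (ModuleCat.{u} R) 0).obj K) [Epi p] :
    ∃ s : (singleFunctor (ModuleCat.{u} R) 0).obj F ⟶ K,
      Epi ((homologyFunctor (ModuleCat.{u} R) 0).map s) := by
  let t := tt (ModuleCat.{u} R)
  let X := (t.truncGE 0).obj K
  have : X.IsLE 0 := inferInstanceAs (t.IsLE ((t.truncGE 0).obj K) 0)
  have : X.IsGE 0 := inferInstanceAs (t.IsGE ((t.truncGE 0).obj K) 0)
  obtain ⟨e0⟩ := nonempty_iso_single X 0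
  have iπ := Groth.Agent.S0973.isIso_homologyMap_truncGEπ K 0 0 le_rfl
  let q : (singleFunctor (ModuleCat.{u} R) 0).obj F ⟶ X :=
    (singleFunctor (ModuleCat.{u} R) 0).map
      (p ≫ (homologyFunctor (ModuleCat.{u} R) 0).map ((t.truncGEπ 0).app K)) ≫ e0.inv
  have hT := t.triangleLTGE_distinguished 0 K
  have hq : q ≫ ((t.triangleLTGE 0).obj K).mor₃ = 0 := by
    have h1 : t.IsLE ((t.truncLT 0).obj K) (-1) := inferInstanceAs (t.IsLE ((t.truncLT 0).obj K) (0 - 1))
    have h2 : t.IsLE (((t.truncLT 0).obj K)⟦(1 : ℤ)⟧) (-2) := t.isLE_shift _ (-1) 1 (-2)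
    have h3 : t.IsLE (((t.truncLT 0).obj K)⟦(1 : ℤ)⟧) (-1) := t.isLE_of_le _ (-2) (-1)
    exact @hom_single_projective_eq_zero _ _ F _ _ h3 _
  obtain ⟨s, hs'⟩ : ∃ s : (singleFunctor (ModuleCat.{u} R) 0).obj F ⟶ K, q = s ≫ (t.truncGEπ 0).app K :=
    Triangle.coyoneda_exact₃ _ hT q hq
  refine ⟨s, ?_⟩
  have e1 : (homologyFunctor (ModuleCat.{u} R) 0).map s ≫
      (homologyFunctor (ModuleCat.{u} R) 0).map ((t.truncGEπ 0).app K) =
      (homologyFunctor (ModuleCat.{u} R) 0).map q := by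
    rw [← Functor.map_comp, ← hs']
  have e2 : Epi ((homologyFunctor (ModuleCat.{u} R) 0).map q) := by
    have := epi_homologyMap_single_map
      (p ≫ (homologyFunctor (ModuleCat.{u} R) 0).map ((t.truncGEπ 0).app K)) 0
    dsimp only [q]
    rw [Functor.map_comp]
    infer_instance
  rw [← e1] at e2
  exact epi_of_epi_comp_isIso _ _ e2

/-- the cone of `s : F[0] ⟶ K` (with `H^0(s)` epi, `K ∈ D^{[-1,0]}`) is concentrated in degree `-1`. -/
lemma cone_isLE_isGE (K : Dual.D R) [K.IsGE (-1)] [K.IsLE 0] (F : ModuleCat.{u} R)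
    (T : Triangle (Dual.D R)) (hT : T ∈ distTriang _)
    (e₁ : T.obj₁ = (singleFunctor (ModuleCat.{u} R) 0).obj F) (e₂ : T.obj₂ = K)
    (hs : Epi ((homologyFunctor (ModuleCat.{u} R) 0).map T.mor₁)) :
    T.obj₃.IsLE (-1) ∧ T.obj₃.IsGE (-1) := by
  subst e₂
  have h1 : T.obj₁.IsLE 0 := by rw [e₁]; infer_instance
  have h1' : T.obj₁.IsGE 0 := by rw [e₁]; infer_instance
  constructor
  · have := Groth.Agent.Lib.Helper32.TwoTerm.isLE_cone T hT 0 hs (by
      intro i hi
      have z1 : IsZero ((homologyFunctor (ModuleCat.{u} R) i).obj T.obj₁) := isZero_of_isLE _ 0 i hi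
      have z2 : IsZero ((homologyFunctor (ModuleCat.{u} R) i).obj T.obj₂) := isZero_of_isLE _ 0 i hi
      exact ⟨0, z1.eq_of_src _ _, z2.eq_of_src _ _⟩)
    exact this
  · rw [isGE_iff]
    intro i hi
    have z1 : IsZero ((homologyFunctor (ModuleCat.{u} R) i).obj T.obj₂) := isZero_of_isGE _ (-1) i hi
    have z3 : IsZero ((homologyFunctor (ModuleCat.{u} R) (i + 1)).obj T.obj₁) :=
      isZero_of_isGE _ 0 (i + 1) (by omega)
    exact (HomologySequence.exact₃ T hT i (i + 1) rfl).isZero_X₂ (z1.eq_of_src _ _) (z3.eq_of_tgt _ _)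

lemma biprod_iso_of_isZero_left {D : Type*} [Category D] [Preadditive D] {X Y : D} [HasBinaryBiproduct X Y]
    (h : IsZero X) : Nonempty (X ⊞ Y ≅ Y) := by
  refine ⟨⟨biprod.snd, biprod.inr, ?_, biprod.inr_snd⟩⟩
  rw [← biprod.total, h.eq_of_tgt (biprod.fst : X ⊞ Y ⟶ X) 0, zero_comp, zero_add]

lemma biprod_iso_of_isZero_right {D : Type*} [Category D] [Preadditive D] {X Y : D} [HasBinaryBiproduct X Y]
    (h : IsZero Y) : Nonempty (X ⊞ Y ≅ X) := by
  refine ⟨⟨biprod.fst, biprod.inl, ?_, biprod.inl_fst⟩⟩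
  rw [← biprod.total, h.eq_of_tgt (biprod.snd : X ⊞ Y ⟶ Y) 0, zero_comp, add_zero]

lemma toDSingleIso'_inv_naturality {M N : ModuleCat.{u} R} (d : M ⟶ N) (a : ℤ) :
    (singleFunctor (ModuleCat.{u} R) a).map d ≫ (toDSingleIso' a N).inv =
      (toDSingleIso' a M).inv ≫ Q.map ((HomologicalComplex.single _ (ComplexShape.up ℤ) a).map d) :=
  (singleFunctorIsoCompQ (ModuleCat.{u} R) a).hom.naturality d

theorem exists_twoTerm_rep (K : Dual.D R) [K.IsGE (-1)] [K.IsLE 0] (F : ModuleCat.{u} R)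
    [Module.Projective R F] (p : F ⟶ (homologyFunctor (ModuleCat.{u} R) 0).obj K) [Epi p] :
    ∃ (M : ModuleCat.{u} R) (E : Cx R), VanishesOutside E (-1) 0 ∧ Nonempty (E.X 0 ≅ F) ∧
      Nonempty (E.X (-1) ≅ M) ∧ Nonempty (toD E ≅ K) ∧
      (IsNoetherianRing R → Module.Finite R ((homologyFunctor (ModuleCat.{u} R) (-1)).obj K) →
        Module.Finite R F → Module.Finite R M) := by
  obtain ⟨s, hs⟩ := exists_lift K F p
  obtain ⟨C, β, γ, hT⟩ := distinguished_cocone_triangle s
  obtain ⟨hLE, hGE⟩ := cone_isLE_isGE K F (Triangle.mk s β γ) hT rfl rfl hs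
  have : C.IsLE (-1) := hLE
  have : C.IsGE (-1) := hGE
  let M := (homologyFunctor (ModuleCat.{u} R) (-1)).obj C
  obtain ⟨eC⟩ := nonempty_iso_single C (-1)
  let sh := ((singleFunctors (ModuleCat.{u} R)).shiftIso 1 (-1) 0 (by omega)).app F
  obtain ⟨d, hd⟩ := (singleFunctor (ModuleCat.{u} R) (-1)).map_surjective (eC.inv ≫ γ ≫ sh.hom)
  let f : singleCx (-1) M ⟶ singleCx (-1) F :=
    (HomologicalComplex.single _ (ComplexShape.up ℤ) (-1)).map d
  have hT2 := rot_of_distTriang _ (rot_of_distTriang _ hT)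
  have hf : (Triangle.mk s β γ).rotate.rotate.mor₁ ≫ (sh ≪≫ (toDSingleIso' (-1) F).symm).hom =
      (eC ≪≫ (toDSingleIso' (-1) M).symm).hom ≫ Q.map f := by
    show γ ≫ sh.hom ≫ (toDSingleIso' (-1) F).inv = (eC.hom ≫ (toDSingleIso' (-1) M).inv) ≫ Q.map f
    have h1 : γ ≫ sh.hom = eC.hom ≫ (singleFunctor (ModuleCat.{u} R) (-1)).map d := by
      rw [hd]; simp
    rw [← Category.assoc, h1, Category.assoc, Category.assoc, toDSingleIso'_inv_naturality]
  obtain ⟨e3⟩ := cone_iso _ hT2 (eC ≪≫ (toDSingleIso' (-1) M).symm)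
    (sh ≪≫ (toDSingleIso' (-1) F).symm) f hf
  refine ⟨M, (CochainComplex.mappingCone f)⟦(-1 : ℤ)⟧, ?_, ?_, ?_, ?_, ?_⟩
  · have h₁ : VanishesOutside (singleCx (-1) M) (-2 + 1) (-1 + 1) :=
      fun i hi => isZero_singleCx_X (-1) M i (by omega)
    have h₂ : VanishesOutside (singleCx (-1) F) (-2) (-1) :=
      fun i hi => isZero_singleCx_X (-1) F i (by omega)
    have := vanishesOutside_shift (vanishesOutside_cone' f h₁ h₂) (-1)
    intro i hi
    exact this i (by omega)
  · have e : ((CochainComplex.mappingCone f)⟦(-1 : ℤ)⟧).X 0 ≅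
        (singleCx (-1) M).X 0 ⊞ (singleCx (-1) F).X (-1) :=
      (CochainComplex.mappingCone f).shiftFunctorObjXIso (-1) 0 (-1) (by omega) ≪≫
      HomologicalComplex.homotopyCofiber.XIsoBiprod f (-1) 0 (by simp)
    obtain ⟨e'⟩ := biprod_iso_of_isZero_left (Y := (singleCx (-1) F).X (-1))
      (isZero_singleCx_X (-1) M 0 (by omega))
    exact ⟨e ≪≫ e' ≪≫ HomologicalComplex.singleObjXSelf (ComplexShape.up ℤ) (-1) F⟩
  · have e : ((CochainComplex.mappingCone f)⟦(-1 : ℤ)⟧).X (-1) ≅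
        (singleCx (-1) M).X (-1) ⊞ (singleCx (-1) F).X (-2) :=
      (CochainComplex.mappingCone f).shiftFunctorObjXIso (-1) (-1) (-2) (by omega) ≪≫
      HomologicalComplex.homotopyCofiber.XIsoBiprod f (-2) (-1) (by simp)
    obtain ⟨e'⟩ := biprod_iso_of_isZero_right (X := (singleCx (-1) M).X (-1))
      (isZero_singleCx_X (-1) F (-2) (by omega))
    exact ⟨e ≪≫ e' ≪≫ HomologicalComplex.singleObjXSelf (ComplexShape.up ℤ) (-1) M⟩
  · exact ⟨toDShiftIso _ (-1) ≪≫ (shiftFunctor (Dual.D R) (-1 : ℤ)).mapIso e3.symm ≪≫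
      (shiftFunctorCompIsoId (Dual.D R) (1 : ℤ) (-1) (by omega)).app K⟩
  · intro hN h1 h0
    have hex := HomologySequence.exact₃ _ hT (-1) 0 (by omega)
    rw [ShortComplex.moduleCat_exact_iff_range_eq_ker] at hex
    have h0' : Module.Finite R ↑((𝟭 (ModuleCat.{u} R)).obj F) := h0
    have : Module.Finite R ((homologyFunctor (ModuleCat.{u} R) 0).obj
        ((singleFunctor (ModuleCat.{u} R) 0).obj F)) :=
      Module.Finite.equiv ((singleFunctorCompHomologyFunctorIso (ModuleCat.{u} R) 0).app F).symm.toLinearEquiv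
    have n1 : IsNoetherian R ((homologyFunctor (ModuleCat.{u} R) (-1)).obj K) := isNoetherian_of_isNoetherianRing_of_finite R _
    have n3 : IsNoetherian R ((homologyFunctor (ModuleCat.{u} R) 0).obj
        ((singleFunctor (ModuleCat.{u} R) 0).obj F)) := isNoetherian_of_isNoetherianRing_of_finite R _
    have n2 : IsNoetherian R M := @isNoetherian_of_range_eq_ker R _ _ _ _ _ _ _ _ _ _ n1 n3 _ _ hex
    exact Module.IsNoetherian.finite R M

end Groth.Agent.Lib.Helper32.TwoTermRep
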