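import Mathlib
import Groth.Agent.S5168

/-!
# Power torsion of injective modules and injective hulls of the residue field

* `injective_powTors`: over a Noetherian ring the `J`-power torsion submodule of an injective module
  is injective.
* `isInjectiveHull_powTors`: if `H` is an injective module over a Noetherian local ring and
  `f₀ : k → H` is an injective map onto the socle of `H`, then the `m`-power torsion of `H` is an
  injective hull of `k`.
-/

namespace Groth.Agent.Lib.Helper32

universe u

open IsLocalRing

/-- The `J`-power torsion submodule, as a union of `torsionBySet`s. -/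
abbrev powTors {A : Type u} [CommRing A] (J : Ideal A) (H : Type u) [AddCommGroup H] [Module A H] :
    Submodule A H :=
  ⨆ n : ℕ, Submodule.torsionBySet A H ((J ^ n : Ideal A) : Set A)

theorem mem_powTors_iff {A : Type u} [CommRing A] (J : Ideal A) {H : Type u} [AddCommGroup H]
    [Module A H] (x : H) : x ∈ powTors J H ↔ ∃ n : ℕ, ∀ a ∈ J ^ n, a • x = 0 := by
  have hdir : Directed (· ≤ ·)
      (fun n : ℕ => Submodule.torsionBySet A H ((J ^ n : Ideal A) : Set A)) := by
    apply Monotone.directed_le
    intro n m hnm
    apply Submodule.torsionBySet_le_torsionBySet_of_subset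
    exact Ideal.pow_le_pow_right hnm
  rw [powTors, Submodule.mem_iSup_of_directed _ hdir]
  constructor
  · rintro ⟨n, hn⟩
    refine ⟨n, fun a ha => ?_⟩
    exact (Submodule.mem_torsionBySet_iff _ _).mp hn ⟨a, ha⟩
  · rintro ⟨n, hn⟩
    refine ⟨n, ?_⟩
    rw [Submodule.mem_torsionBySet_iff]
    rintro ⟨a, ha⟩
    exact hn a ha

theorem isPowerTorsion_powTors {A : Type u} [CommRing A] (J : Ideal A) (H : Type u)
    [AddCommGroup H] [Module A H] : LocCoh.IsPowerTorsion J ↥(powTors J H) := by
  intro x
  obtain ⟨n, hn⟩ := (mem_powTors_iff J (x : H)).mp x.2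
  refine ⟨n, fun a ha => ?_⟩
  apply Subtype.ext
  simpa using hn a ha

theorem injective_powTors {A : Type u} [CommRing A] [IsNoetherianRing A] (J : Ideal A)
    (H : Type u) [AddCommGroup H] [Module A H] (hH : Module.Injective A H) :
    Module.Injective A ↥(powTors J H) := by
  apply (Groth.Agent.S5168.result A J ↥(powTors J H) (isPowerTorsion_powTors J H)).mpr
  intro M _ _ _ hk N g
  obtain ⟨k, hk⟩ := hk
  obtain ⟨g', hg'⟩ := Module.Injective.extension_property A H N M N.subtype N.injective_subtype
    ((powTors J H).subtype ∘ₗ g)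
  have hmem : ∀ x : M, g' x ∈ powTors J H := by
    intro x
    rw [mem_powTors_iff]
    refine ⟨k, fun a ha => ?_⟩
    rw [← map_smul]
    have : a • x ∈ (J ^ k) • (⊤ : Submodule A M) := Submodule.smul_mem_smul ha Submodule.mem_top
    rw [hk] at this
    rw [(Submodule.mem_bot A).mp this, map_zero]
  refine ⟨LinearMap.codRestrict _ g' hmem, ?_⟩
  ext x
  have := LinearMap.congr_fun hg' x
  simpa using this

theorem isInjectiveHull_powTors {A : Type u} [CommRing A] [IsLocalRing A] [IsNoetherianRing A]
    (H : Type u) [AddCommGroup H] [Module A H] (hH : Module.Injective A H)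
    (f₀ : ResidueField A →ₗ[A] H) (hinj : Function.Injective f₀)
    (hsoc : ∀ h : H, (∀ a ∈ maximalIdeal A, a • h = 0) → h ∈ LinearMap.range f₀) :
    ∃ f : ResidueField A →ₗ[A] ↥(powTors (maximalIdeal A) H), InjHull.IsInjectiveHull f := by
  have hmem : ∀ c : ResidueField A, f₀ c ∈ powTors (maximalIdeal A) H := by
    intro c
    rw [mem_powTors_iff]
    refine ⟨1, fun a ha => ?_⟩
    rw [pow_one] at ha
    rw [← map_smul]
    have : a • c = 0 := by
      rw [Algebra.smul_def]
      have : algebraMap A (ResidueField A) a = 0 := (IsLocalRing.residue_eq_zero_iff a).mpr ha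
      rw [this, zero_mul]
    rw [this, map_zero]
  refine ⟨LinearMap.codRestrict _ f₀ hmem, ⟨⟨?_, ?_⟩, injective_powTors _ H hH⟩⟩
  · intro c c' h
    apply hinj
    have := congrArg Subtype.val h
    simpa using this
  · intro N hN
    obtain ⟨t, htN, ht0⟩ := (Submodule.ne_bot_iff N).mp hN
    have hex : ∃ n : ℕ, ∀ a ∈ maximalIdeal A ^ n, a • t = 0 := by
      obtain ⟨n, hn⟩ := (mem_powTors_iff (maximalIdeal A) (t : H)).mp t.2
      refine ⟨n, fun a ha => ?_⟩
      apply Subtype.ext
      simpa using hn a ha
    classical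
    have hmin : ∀ {m : ℕ}, m < Nat.find hex → ¬ (∀ a ∈ maximalIdeal A ^ m, a • t = 0) :=
      fun {m} hm => Nat.find_min hex hm
    have hspec := Nat.find_spec hex
    set n := Nat.find hex with hn
    have hn0 : n ≠ 0 := by
      intro h0
      rw [h0, pow_zero, Ideal.one_eq_top] at hspec
      apply ht0
      simpa using hspec 1 Submodule.mem_top
    obtain ⟨n', hn'⟩ := Nat.exists_eq_succ_of_ne_zero hn0
    have hlt : n' < n := by omega
    have := hmin hlt
    push Not at this
    obtain ⟨b, hb, hbt⟩ := this
    have hsN : b • t ∈ N := N.smul_mem b htN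
    have hsoc' : ∀ a ∈ maximalIdeal A, a • ((b • t : ↥(powTors (maximalIdeal A) H)) : H) = 0 := by
      intro a ha
      have h1 : a * b ∈ maximalIdeal A ^ n := by
        rw [hn', pow_succ']
        exact Ideal.mul_mem_mul ha hb
      have h2 := hspec (a * b) h1
      rw [mul_smul] at h2
      have := congrArg Subtype.val h2
      simpa using this
    obtain ⟨c, hc⟩ := hsoc _ hsoc'
    intro hbot
    have hmem2 : b • t ∈ N ⊓ LinearMap.range (LinearMap.codRestrict _ f₀ hmem) := by
      refine ⟨hsN, ⟨c, ?_⟩⟩
      apply Subtype.ext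
      simpa using hc
    rw [hbot] at hmem2
    exact hbt ((Submodule.mem_bot A).mp hmem2)

end Groth.Agent.Lib.Helper32
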