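import Mathlib

/-! Helper lemmas on `TensorProduct.piRightHom` used for Mittag-Leffler statements (helper32). -/

set_option autoImplicit false
universe u

namespace Groth.Agent.Lib.Helper32

open TensorProduct

/-- Naturality of `piRightHom` in the left tensor factor. -/
theorem piRightHom_rTensor {R : Type u} [CommRing R] {M₁ M₂ : Type u}
    [AddCommGroup M₁] [Module R M₁] [AddCommGroup M₂] [Module R M₂] (f : M₁ →ₗ[R] M₂)
    {ι : Type u} (Q : ι → Type u) [∀ i, AddCommGroup (Q i)] [∀ i, Module R (Q i)]
    (x : M₁ ⊗[R] (∀ i, Q i)) (i : ι) :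
    TensorProduct.piRightHom R R M₂ Q (f.rTensor (∀ i, Q i) x) i =
      f.rTensor (Q i) (TensorProduct.piRightHom R R M₁ Q x i) := by
  induction x using TensorProduct.induction_on with
  | zero => simp
  | tmul m q => simp
  | add x y hx hy => simp only [map_add, Pi.add_apply, hx, hy]

/-- Every element of `N ⊗ Q` is a combination `∑ n_k ⊗ q_k` over a fixed finite generating family. -/
theorem exists_sum_tmul_of_span_eq_top {R : Type u} [CommRing R] {N : Type u} [AddCommGroup N]
    [Module R N] {r : ℕ} (n : Fin r → N) (hn : Submodule.span R (Set.range n) = ⊤)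
    (Q : Type u) [AddCommGroup Q] [Module R Q] (z : N ⊗[R] Q) :
    ∃ c : Fin r → Q, z = ∑ k, n k ⊗ₜ[R] c k := by
  induction z using TensorProduct.induction_on with
  | zero => exact ⟨0, by simp⟩
  | tmul m q =>
    have hm : m ∈ Submodule.span R (Set.range n) := by rw [hn]; trivial
    obtain ⟨a, rfl⟩ := (Submodule.mem_span_range_iff_exists_fun R).mp hm
    refine ⟨fun k => a k • q, ?_⟩
    rw [TensorProduct.sum_tmul]
    refine Finset.sum_congr rfl fun k _ => ?_
    rw [TensorProduct.smul_tmul]
  | add x y hx hy =>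
    obtain ⟨c, rfl⟩ := hx
    obtain ⟨d, rfl⟩ := hy
    refine ⟨c + d, ?_⟩
    rw [← Finset.sum_add_distrib]
    refine Finset.sum_congr rfl fun k _ => ?_
    rw [Pi.add_apply, TensorProduct.tmul_add]

/-- For a finitely generated module `N`, `N ⊗ ∏ Qᵢ → ∏ (N ⊗ Qᵢ)` is surjective. -/
theorem piRightHom_surjective_of_finite {R : Type u} [CommRing R] (N : Type u) [AddCommGroup N]
    [Module R N] [Module.Finite R N]
    {ι : Type u} (Q : ι → Type u) [∀ i, AddCommGroup (Q i)] [∀ i, Module R (Q i)] :
    Function.Surjective (TensorProduct.piRightHom R R N Q) := by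
  obtain ⟨r, n, hn⟩ := Module.Finite.exists_fin (R := R) (M := N)
  intro w
  choose c hc using fun i => exists_sum_tmul_of_span_eq_top n hn (Q i) (w i)
  refine ⟨∑ k, n k ⊗ₜ[R] (fun i => c i k), ?_⟩
  funext i
  rw [map_sum, Finset.sum_apply, hc i]
  rfl

end Groth.Agent.Lib.Helper32
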