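import Mathlib
import Groth.Agent.Lib.Helper56.HashimotoNoeth

/-!
# Jordan–Hölder in abelian categories

* `sup_factors_refinement`: generalized elements of `x ⊔ y` are sums up to refinement;
* `instance : IsModularLattice (Subobject X)` for `X` in an abelian category;
* `covBy_of_simple`, `simple_of_covBy`: `a ⋖ b ↔ Simple (b/a)`; `le_of_isZero_cokernel`;
* `second_iso`: `y/(x ⊓ y) ≅ (x ⊔ y)/x`; `iso_of_jhIso`; `jordanHolder` (S1078).
-/

set_option autoImplicit false
set_option linter.unusedSectionVars false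
universe v u
open CategoryTheory CategoryTheory.Limits
open Groth.Agent.Lib.Helper56.Hashimoto

namespace Groth.Agent.Lib.Helper32.JordanHolderAb

variable {A : Type u} [Category.{v} A] [Abelian A] {X : A}

/-- a generalized element of `x ⊔ y` is, up to refinement, a sum. -/
lemma sup_factors_refinement (x y : Subobject X) {T : A} (f : T ⟶ X) (hf : (x ⊔ y).Factors f) :
    ∃ (T' : A) (π : T' ⟶ T) (_ : Epi π) (a : T' ⟶ (x : A)) (b : T' ⟶ (y : A)),
      π ≫ f = a ≫ x.arrow + b ≫ y.arrow := by
  let d : (x : A) ⊞ (y : A) ⟶ X := biprod.desc x.arrow y.arrow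
  let J := imageSubobject d
  have hxJ : x ≤ J := by
    apply Subobject.le_of_factors
    have : x.arrow = biprod.inl ≫ d := by simp [d]
    rw [this]
    exact Subobject.factors_of_factors_right _
      ((Subobject.factors_iff _ _).2 ⟨factorThruImageSubobject d, imageSubobject_arrow_comp d⟩)
  have hyJ : y ≤ J := by
    apply Subobject.le_of_factors
    have : y.arrow = biprod.inr ≫ d := by simp [d]
    rw [this]
    exact Subobject.factors_of_factors_right _
      ((Subobject.factors_iff _ _).2 ⟨factorThruImageSubobject d, imageSubobject_arrow_comp d⟩)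
  have hJ : J.Factors f := Subobject.factors_of_le f (sup_le hxJ hyJ) hf
  obtain ⟨T', π, hπ, g, hg⟩ := (epi_iff_surjective_up_to_refinements
    (factorThruImageSubobject d)).1 inferInstance (J.factorThru f hJ)
  refine ⟨T', π, hπ, g ≫ biprod.fst, g ≫ biprod.snd, ?_⟩
  have h1 : π ≫ f = g ≫ d := by
    rw [← J.factorThru_arrow f hJ, reassoc_of% hg, imageSubobject_arrow_comp]
  rw [h1]
  have h2 : d = biprod.fst ≫ x.arrow + biprod.snd ≫ y.arrow := by
    apply biprod.hom_ext' <;> simp [d]
  rw [h2, Preadditive.comp_add, Category.assoc, Category.assoc]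

instance : IsModularLattice (Subobject X) where
  sup_inf_le_assoc_of_le {x} y {z} hxz := by
    apply Subobject.le_of_factors
    have h1 : (x ⊔ y).Factors ((x ⊔ y) ⊓ z).arrow := Subobject.inf_arrow_factors_left _ _
    have h2 : z.Factors ((x ⊔ y) ⊓ z).arrow := Subobject.inf_arrow_factors_right _ _
    obtain ⟨T', π, hπ, a, b, hab⟩ := sup_factors_refinement x y _ h1
    apply factors_of_epi_comp π
    rw [hab]
    apply Subobject.factors_add
    · exact Subobject.sup_factors_of_factors_left (Subobject.factors_comp_arrow a)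
    · apply Subobject.sup_factors_of_factors_right
      rw [Subobject.inf_factors]
      refine ⟨Subobject.factors_comp_arrow b, ?_⟩
      have : b ≫ y.arrow = π ≫ ((x ⊔ y) ⊓ z).arrow + (-a) ≫ x.arrow := by
        rw [hab, Preadditive.neg_comp]; abel
      rw [this]
      apply Subobject.factors_add
      · exact Subobject.factors_of_factors_right _ h2
      · exact Subobject.factors_of_le _ hxz (Subobject.factors_comp_arrow (-a))


/-- if the quotient `b/a` vanishes then `b ≤ a` -/
lemma le_of_isZero_cokernel {a b : Subobject X} (h : a ≤ b)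
    (hz : IsZero (cokernel (Subobject.ofLE a b h))) : b ≤ a := by
  have h0 : cokernel.π (Subobject.ofLE a b h) = 0 := hz.eq_of_tgt _ _
  have : Epi (Subobject.ofLE a b h) := Abelian.epi_of_cokernel_π_eq_zero _ h0
  have : IsIso (Subobject.ofLE a b h) := isIso_of_mono_of_epi _
  exact Subobject.le_of_comm (inv (Subobject.ofLE a b h)) (by
    rw [IsIso.inv_comp_eq, Subobject.ofLE_arrow])

lemma covBy_of_simple {a b : Subobject X} (h : a ≤ b)
    (hs : Simple (cokernel (Subobject.ofLE a b h))) : a ⋖ b := by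
  refine ⟨lt_of_le_not_ge h (fun hba => ?_), fun Z haZ hZb => ?_⟩
  · have : IsIso (Subobject.ofLE a b h) :=
      ⟨Subobject.ofLE b a hba, by simp, by simp⟩
    have h0 : cokernel.π (Subobject.ofLE a b h) = 0 := cokernel.π_of_epi _
    apply Simple.not_isZero (cokernel (Subobject.ofLE a b h))
    rw [IsZero.iff_id_eq_zero, ← cancel_epi (cokernel.π (Subobject.ofLE a b h)), h0, zero_comp,
      zero_comp]
  · let π := cokernel.π (Subobject.ofLE a b h)
    by_cases hg : Subobject.ofLE Z b hZb.le ≫ π = 0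
    · -- then `Z ≤ a`
      apply haZ.not_ge
      refine Subobject.le_of_comm (Abelian.monoLift (Subobject.ofLE a b h) _ hg) ?_
      have := Abelian.monoLift_comp (Subobject.ofLE a b h) _ hg
      rw [← Subobject.ofLE_arrow h, ← Category.assoc, this, Subobject.ofLE_arrow]
    · -- then `b ≤ Z`
      have hepi : Epi (Subobject.ofLE Z b hZb.le ≫ π) := epi_of_nonzero_to_simple hg
      have : Epi (Subobject.ofLE Z b hZb.le) := by
        apply Preadditive.epi_of_cancel_zero
        intro T t ht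
        have h1 : Subobject.ofLE a b h ≫ t = 0 := by
          have : Subobject.ofLE a b h = Subobject.ofLE a Z haZ.le ≫ Subobject.ofLE Z b hZb.le := by
            simp
          rw [this, Category.assoc, ht, comp_zero]
        have h2 : t = π ≫ cokernel.desc _ t h1 := (cokernel.π_desc _ t h1).symm
        have h3 : (Subobject.ofLE Z b hZb.le ≫ π) ≫ cokernel.desc _ t h1 = 0 := by
          rw [Category.assoc, ← h2, ht]
        have h4 : cokernel.desc _ t h1 = 0 := by
          rw [← cancel_epi (Subobject.ofLE Z b hZb.le ≫ π), h3, comp_zero]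
        rw [h2, h4, comp_zero]
      have : IsIso (Subobject.ofLE Z b hZb.le) := isIso_of_mono_of_epi _
      apply hZb.not_ge
      exact Subobject.le_of_comm (inv (Subobject.ofLE Z b hZb.le)) (by
        rw [IsIso.inv_comp_eq, Subobject.ofLE_arrow])

lemma simple_of_covBy {a b : Subobject X} (h : a ≤ b) (hc : a ⋖ b) :
    Simple (cokernel (Subobject.ofLE a b h)) := by
  let π := cokernel.π (Subobject.ofLE a b h)
  have hnz : ¬ IsZero (cokernel (Subobject.ofLE a b h)) := fun hz =>
    hc.lt.not_ge (le_of_isZero_cokernel h hz)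
  apply simple_of_cosimple
  intro Z f hf
  -- the kernel of `b ⟶ Q ⟶ Z` as a subobject of `X`
  let K : Subobject X := Subobject.mk (kernel.ι (π ≫ f) ≫ b.arrow)
  have hKb : K ≤ b := Subobject.mk_le_of_comm (kernel.ι (π ≫ f)) rfl
  have haK : a ≤ K := by
    refine Subobject.le_mk_of_comm (kernel.lift (π ≫ f) (Subobject.ofLE a b h) ?_) ?_
    · rw [← Category.assoc, cokernel.condition, zero_comp]
    · rw [← Category.assoc, kernel.lift_ι, Subobject.ofLE_arrow]
  rcases hc.eq_or_eq haK hKb with hK | hK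
  · -- `K = a`: `f` is a monomorphism, hence an isomorphism
    have hmono : Mono f := by
      apply Preadditive.mono_of_cancel_zero
      intro T t ht
      obtain ⟨T', p, hp, t', ht'⟩ := (epi_iff_surjective_up_to_refinements π).1 inferInstance t
      have h1 : t' ≫ π ≫ f = 0 := by rw [← Category.assoc, ← ht', Category.assoc, ht, comp_zero]
      -- `t'` factors through `K = a`
      have h2 : K.Factors (t' ≫ b.arrow) := by
        refine (Subobject.mk_factors_iff _ _).2 ⟨kernel.lift (π ≫ f) t' h1, ?_⟩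
        show kernel.lift (π ≫ f) t' h1 ≫ (kernel.ι (π ≫ f) ≫ b.arrow) = t' ≫ b.arrow
        rw [← Category.assoc, kernel.lift_ι]
      rw [hK] at h2
      have h3 : t' = a.factorThru _ h2 ≫ Subobject.ofLE a b h := by
        rw [← cancel_mono b.arrow, Category.assoc, Subobject.ofLE_arrow, Subobject.factorThru_arrow]
      have h4 : t' ≫ π = 0 := by
        rw [h3, Category.assoc, cokernel.condition, comp_zero]
      rw [← cancel_epi p, ht', h4, comp_zero]
    have hiso : IsIso f := isIso_of_mono_of_epi f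
    refine ⟨fun _ hf0 => hnz ?_, fun _ => hiso⟩
    rw [IsZero.iff_id_eq_zero, ← cancel_mono f, hf0, comp_zero, comp_zero]
  · -- `K = b`: `f = 0`
    have hf0 : f = 0 := by
      have hbK : b ≤ Subobject.mk (kernel.ι (π ≫ f) ≫ b.arrow) := hK.ge
      let g := Subobject.ofLEMk b (kernel.ι (π ≫ f) ≫ b.arrow) hbK
      have hg : g ≫ (kernel.ι (π ≫ f) ≫ b.arrow) = b.arrow := Subobject.ofLEMk_comp hbK
      have h2 : g ≫ kernel.ι (π ≫ f) = 𝟙 _ := by
        rw [← cancel_mono b.arrow, Category.assoc, hg, Category.id_comp]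
      have h3 : π ≫ f = 0 := by
        rw [← Category.id_comp (π ≫ f), ← h2, Category.assoc, kernel.condition, comp_zero]
      rw [← cancel_epi π, h3, comp_zero]
    refine ⟨fun hiso _ => hnz ?_, fun hne => absurd hf0 hne⟩
    rw [IsZero.iff_id_eq_zero, ← cancel_mono f, hf0, comp_zero, comp_zero]


/-- second isomorphism theorem: `y / (x ⊓ y) ≅ (x ⊔ y) / x` -/
lemma second_iso (x y : Subobject X) :
    Nonempty (cokernel (Subobject.ofLE (x ⊓ y) y inf_le_right) ≅
      cokernel (Subobject.ofLE x (x ⊔ y) le_sup_left)) := by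
  let π₁ := cokernel.π (Subobject.ofLE (x ⊓ y) y inf_le_right)
  let π₂ := cokernel.π (Subobject.ofLE x (x ⊔ y) le_sup_left)
  let φ : (y : A) ⟶ cokernel (Subobject.ofLE x (x ⊔ y) le_sup_left) :=
    Subobject.ofLE y (x ⊔ y) le_sup_right ≫ π₂
  have hφ0 : Subobject.ofLE (x ⊓ y) y inf_le_right ≫ φ = 0 := by
    have : Subobject.ofLE (x ⊓ y) y inf_le_right ≫ Subobject.ofLE y (x ⊔ y) le_sup_right =
        Subobject.ofLE (x ⊓ y) x inf_le_left ≫ Subobject.ofLE x (x ⊔ y) le_sup_left := by simp
    dsimp [φ]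
    rw [reassoc_of% this, cokernel.condition, comp_zero]
  -- kernel of `φ`
  have hker : ∀ {T : A} (g : T ⟶ (y : A)), g ≫ φ = 0 →
      ∃ g' : T ⟶ ((x ⊓ y : Subobject X) : A), g = g' ≫ Subobject.ofLE (x ⊓ y) y inf_le_right := by
    intro T g hg
    have hg' : (g ≫ Subobject.ofLE y (x ⊔ y) le_sup_right) ≫ π₂ = 0 := by
      rw [Category.assoc]; exact hg
    let l := Abelian.monoLift (Subobject.ofLE x (x ⊔ y) le_sup_left) _ hg'
    have hl : l ≫ Subobject.ofLE x (x ⊔ y) le_sup_left = g ≫ Subobject.ofLE y (x ⊔ y) le_sup_right :=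
      Abelian.monoLift_comp _ _ hg'
    have hl' : l ≫ x.arrow = g ≫ y.arrow := by
      have := congrArg (fun t => t ≫ (x ⊔ y).arrow) hl
      simpa using this
    have hfac : (x ⊓ y).Factors (g ≫ y.arrow) := by
      rw [Subobject.inf_factors]
      exact ⟨by rw [← hl']; exact Subobject.factors_comp_arrow l, Subobject.factors_comp_arrow g⟩
    refine ⟨(x ⊓ y).factorThru _ hfac, ?_⟩
    rw [← cancel_mono y.arrow, Category.assoc, Subobject.ofLE_arrow, Subobject.factorThru_arrow]
  -- `φ` is an epimorphism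
  have hφepi : Epi φ := by
    rw [epi_iff_surjective_up_to_refinements]
    intro T t
    obtain ⟨T₁, p₁, hp₁, s, hs⟩ := (epi_iff_surjective_up_to_refinements π₂).1 inferInstance t
    obtain ⟨T₂, p₂, hp₂, a, b, hab⟩ := sup_factors_refinement x y (s ≫ (x ⊔ y).arrow)
      (Subobject.factors_comp_arrow s)
    have h1 : p₂ ≫ s = a ≫ Subobject.ofLE x (x ⊔ y) le_sup_left +
        b ≫ Subobject.ofLE y (x ⊔ y) le_sup_right := by
      rw [← cancel_mono (x ⊔ y).arrow, Category.assoc, hab]
      simp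
    refine ⟨T₂, p₂ ≫ p₁, epi_comp _ _, b, ?_⟩
    rw [Category.assoc, hs, reassoc_of% h1, Preadditive.add_comp, Category.assoc, Category.assoc,
      cokernel.condition, comp_zero, zero_add]
  let ψ := cokernel.desc _ φ hφ0
  have hψ : π₁ ≫ ψ = φ := cokernel.π_desc _ _ _
  have : Epi ψ := epi_of_epi_fac hψ
  have : Mono ψ := by
    apply Preadditive.mono_of_cancel_zero
    intro T t ht
    obtain ⟨T', p, hp, t', ht'⟩ := (epi_iff_surjective_up_to_refinements π₁).1 inferInstance t
    have h1 : t' ≫ φ = 0 := by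
      rw [← hψ, ← Category.assoc, ← ht', Category.assoc, ht, comp_zero]
    obtain ⟨g', hg'⟩ := hker t' h1
    have h2 : t' ≫ π₁ = 0 := by rw [hg', Category.assoc, cokernel.condition, comp_zero]
    rw [← cancel_epi p, ht', h2, comp_zero]
  have : IsIso ψ := isIso_of_mono_of_epi ψ
  exact ⟨asIso ψ⟩


lemma cokernel_ofLE_congr {a a' b b' : Subobject X} (ha : a = a') (hb : b = b') (h : a ≤ b)
    (h' : a' ≤ b') :
    Nonempty (cokernel (Subobject.ofLE a b h) ≅ cokernel (Subobject.ofLE a' b' h')) := by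
  subst ha hb
  exact ⟨Iso.refl _⟩

/-- total version of the quotient `p.2 / p.1` -/
noncomputable def Qt (p : Subobject X × Subobject X) : A :=
  cokernel (Subobject.ofLE (p.1 ⊓ p.2) p.2 inf_le_right)

lemma Qt_iso {a b : Subobject X} (h : a ≤ b) :
    Nonempty (Qt (a, b) ≅ cokernel (Subobject.ofLE a b h)) :=
  cokernel_ofLE_congr (inf_eq_left.2 h) rfl _ _

lemma iso_of_jhIso {p q : Subobject X × Subobject X} (h : JordanHolderLattice.Iso p q) :
    Nonempty (Qt p ≅ Qt q) := by
  refine JordanHolderLattice.Iso.rel (fun p q => Nonempty (Qt p ≅ Qt q)) ⟨Iso.refl _⟩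
    (fun ⟨f⟩ => ⟨f.symm⟩) (fun ⟨f⟩ ⟨g⟩ => ⟨f ≪≫ g⟩) ?_ h
  intro x y _
  obtain ⟨e1⟩ := Qt_iso (a := x) (b := x ⊔ y) le_sup_left
  obtain ⟨e2⟩ := Qt_iso (a := x ⊓ y) (b := y) inf_le_right
  obtain ⟨e3⟩ := second_iso x y
  exact ⟨e1 ≪≫ e3.symm ≪≫ e2.symm⟩

theorem jordanHolder (X : A)
    (n : ℕ) (F : Fin (n + 1) → Subobject X) (hF : Monotone F) (hF0 : F 0 = ⊥) (hFn : F (Fin.last n) = ⊤) (hFs : ∀ i : Fin n, Simple (cokernel (Subobject.ofLE (F (Fin.castSucc i)) (F (Fin.succ i)) (hF (Fin.castSucc_lt_succ (i := i)).le))))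
    (m : ℕ) (G : Fin (m + 1) → Subobject X) (hG : Monotone G) (hG0 : G 0 = ⊥) (hGm : G (Fin.last m) = ⊤) (hGs : ∀ j : Fin m, Simple (cokernel (Subobject.ofLE (G (Fin.castSucc j)) (G (Fin.succ j)) (hG (Fin.castSucc_lt_succ (i := j)).le)))) :
    ∃ (e : n = m) (σ : Equiv.Perm (Fin m)), ∀ i : Fin n,
      Nonempty (cokernel (Subobject.ofLE (F (Fin.castSucc i)) (F (Fin.succ i)) (hF (Fin.castSucc_lt_succ (i := i)).le)) ≅
        cokernel (Subobject.ofLE (G (Fin.castSucc (σ (Fin.cast e i)))) (G (Fin.succ (σ (Fin.cast e i)))) (hG (Fin.castSucc_lt_succ (i := σ (Fin.cast e i))).le))) := by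
  let s₁ : CompositionSeries (Subobject X) :=
    { length := n, toFun := F, step := fun i => covBy_of_simple _ (hFs i) }
  let s₂ : CompositionSeries (Subobject X) :=
    { length := m, toFun := G, step := fun j => covBy_of_simple _ (hGs j) }
  have hjh : CompositionSeries.Equivalent s₁ s₂ :=
    CompositionSeries.jordan_holder s₁ s₂ (hF0.trans hG0.symm) (hFn.trans hGm.symm)
  have e : n = m := hjh.length_eq
  obtain ⟨f, hf⟩ := hjh
  subst e
  refine ⟨rfl, f, fun i => ?_⟩
  obtain ⟨e1⟩ := iso_of_jhIso (hf i)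
  obtain ⟨e2⟩ := Qt_iso (hF (Fin.castSucc_lt_succ (i := i)).le)
  obtain ⟨e3⟩ := Qt_iso (hG (Fin.castSucc_lt_succ (i := f i)).le)
  exact ⟨e2.symm ≪≫ e1 ≪≫ e3⟩

end Groth.Agent.Lib.Helper32.JordanHolderAb
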