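import Mathlib
import Groth.Agent.Lib.Helper32.JordanHolderAb

/-!
# Finite length objects in abelian categories

`isArtinianObject_of_shortExact` (dual of helper56's Noetherian version), simple objects are
Artinian and Noetherian, `artinian_noetherian_of_chain`, `exists_chain`, `finiteLength_iff` (S1077).
-/

set_option autoImplicit false
set_option linter.unusedSectionVars false
universe v u
open CategoryTheory CategoryTheory.Limits
open Groth.Agent.Lib.Helper56.Hashimoto Groth.Agent.Lib.Helper32.JordanHolderAb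

namespace Groth.Agent.Lib.Helper32.FiniteLengthAb

variable {A : Type u} [Category.{v} A] [Abelian A]

lemma image_mono {S : ShortComplex A} {P P' : Subobject S.X₂} (h : P ≤ P') :
    imageSubobject (P.arrow ≫ S.g) ≤ imageSubobject (P'.arrow ≫ S.g) := by
  rw [imageSubobject_le_iff]
  have : P.arrow ≫ S.g = Subobject.ofLE P P' h ≫ (P'.arrow ≫ S.g) := by
    rw [← Category.assoc, Subobject.ofLE_arrow]
  rw [this]
  exact Subobject.factors_of_factors_right _
    ((Subobject.factors_iff _ _).2 ⟨factorThruImageSubobject _, imageSubobject_arrow_comp _⟩)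

theorem isArtinianObject_of_shortExact {S : ShortComplex A} (hS : S.ShortExact)
    (hX₁ : IsArtinianObject S.X₁) (hX₃ : IsArtinianObject S.X₃) :
    IsArtinianObject S.X₂ := by
  rw [isArtinianObject_iff_antitone_chain_condition]
  intro f
  let f₁ : ℕ →o (Subobject S.X₁)ᵒᵈ :=
    ⟨fun n => OrderDual.toDual ((Subobject.pullback S.f).obj (OrderDual.ofDual (f n))),
      fun a b hab => (Subobject.pullback S.f).monotone (f.2 hab)⟩
  let f₃ : ℕ →o (Subobject S.X₃)ᵒᵈ :=
    ⟨fun n => OrderDual.toDual (imageSubobject ((OrderDual.ofDual (f n)).arrow ≫ S.g)),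
      fun a b hab => image_mono (f.2 hab)⟩
  obtain ⟨n₁, hn₁⟩ := antitone_chain_condition_of_isArtinianObject f₁
  obtain ⟨n₃, hn₃⟩ := antitone_chain_condition_of_isArtinianObject f₃
  refine ⟨max n₁ n₃, fun m hm => ?_⟩
  have hle : OrderDual.ofDual (f m) ≤ OrderDual.ofDual (f (max n₁ n₃)) := f.2 hm
  apply le_antisymm (f.2 hm)
  show OrderDual.ofDual (f (max n₁ n₃)) ≤ OrderDual.ofDual (f m)
  apply le_of_shortExact hS _ _ hle
  · have e1 : f₁ n₁ = f₁ m := hn₁ m (le_trans (le_max_left _ _) hm)
    have e2 : f₁ n₁ = f₁ (max n₁ n₃) := hn₁ _ (le_max_left _ _)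
    have e3 : f₁ (max n₁ n₃) = f₁ m := e2.symm.trans e1
    exact (congrArg OrderDual.ofDual e3).le
  · have e1 : f₃ n₃ = f₃ m := hn₃ m (le_trans (le_max_right _ _) hm)
    have e2 : f₃ n₃ = f₃ (max n₁ n₃) := hn₃ _ (le_max_right _ _)
    have e3 : f₃ (max n₁ n₃) = f₃ m := e2.symm.trans e1
    exact (congrArg OrderDual.ofDual e3).le

lemma isArtinianObject_of_simple (Q : A) [Simple Q] : IsArtinianObject Q := by
  rw [IsArtinianObject, ObjectProperty.is_iff]
  classical
  have : Finite (Subobject Q) := Finite.of_equiv _ IsSimpleOrder.equivBool.symm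
  exact (inferInstance : WellFoundedLT (Subobject Q))

lemma isNoetherianObject_of_simple (Q : A) [Simple Q] : IsNoetherianObject Q := by
  rw [IsNoetherianObject, ObjectProperty.is_iff]
  classical
  have : Finite (Subobject Q) := Finite.of_equiv _ IsSimpleOrder.equivBool.symm
  exact (inferInstance : WellFoundedGT (Subobject Q))


variable {X : A}

lemma shortExact_ofLE {a b : Subobject X} (h : a ≤ b) :
    (ShortComplex.mk (Subobject.ofLE a b h) (cokernel.π (Subobject.ofLE a b h))
      (cokernel.condition _)).ShortExact :=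
  { exact := ShortComplex.exact_of_g_is_cokernel _ (cokernelIsCokernel _)
    mono_f := by dsimp; infer_instance
    epi_g := by dsimp; infer_instance }

lemma art_noeth_of_eq_bot {a : Subobject X} (h : a = ⊥) :
    IsArtinianObject (a : A) ∧ IsNoetherianObject (a : A) := by
  subst h
  have hz : IsZero ((⊥ : Subobject X) : A) := IsZero.of_iso (isZero_zero A) Subobject.botCoeIsoZero
  exact ⟨isArtinianObject_of_isZero hz, isNoetherianObject_of_isZero hz⟩

theorem artinian_noetherian_of_chain (n : ℕ) (F : Fin (n + 1) → Subobject X) (hF : Monotone F)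
    (hF0 : F 0 = ⊥) (hFn : F (Fin.last n) = ⊤)
    (hFs : ∀ i : Fin n, Simple (cokernel (Subobject.ofLE (F (Fin.castSucc i)) (F (Fin.succ i))
      (hF (Fin.castSucc_lt_succ (i := i)).le)))) :
    IsArtinianObject X ∧ IsNoetherianObject X := by
  have key : ∀ i : Fin (n + 1), IsArtinianObject (F i : A) ∧ IsNoetherianObject (F i : A) := by
    intro i
    induction i using Fin.induction with
    | zero => exact art_noeth_of_eq_bot hF0
    | succ i ih =>
      have hS := shortExact_ofLE (hF (Fin.castSucc_lt_succ (i := i)).le)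
      have := hFs i
      exact ⟨isArtinianObject_of_shortExact hS ih.1 (isArtinianObject_of_simple _),
        isNoetherianObject_of_shortExact hS ih.2 (isNoetherianObject_of_simple _)⟩
  obtain ⟨h1, h2⟩ := key (Fin.last n)
  have hiso : IsIso (F (Fin.last n)).arrow := by
    rw [Subobject.isIso_arrow_iff_eq_top]; exact hFn
  exact ⟨isArtinianObject_of_mono (inv (F (Fin.last n)).arrow),
    isNoetherianObject_of_mono (inv (F (Fin.last n)).arrow)⟩

section construct

variable [IsArtinianObject X]

open Classical in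
/-- a cover of `a`, if `a ≠ ⊤` -/
noncomputable def next (a : Subobject X) : Subobject X :=
  if h : a = ⊤ then ⊤ else
    wellFounded_lt.min (Set.Ioi a) ⟨⊤, lt_top_iff_ne_top.2 h⟩

lemma covBy_next {a : Subobject X} (h : a ≠ ⊤) : a ⋖ next a := by
  have hne : (Set.Ioi a).Nonempty := ⟨⊤, lt_top_iff_ne_top.2 h⟩
  have e : next a = wellFounded_lt.min (Set.Ioi a) hne := by
    unfold next; rw [dif_neg h]
  rw [e]
  refine ⟨wellFounded_lt.min_mem (Set.Ioi a) hne, fun b hab hb => ?_⟩
  exact wellFounded_lt.not_lt_min (Set.Ioi a) (x := b) hab hb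

lemma le_next (a : Subobject X) : a ≤ next a := by
  by_cases h : a = ⊤
  · have e : next a = ⊤ := by unfold next; rw [dif_pos h]
    rw [e]; exact le_top
  · exact (covBy_next h).le

end construct

theorem exists_chain [IsArtinianObject X] [IsNoetherianObject X] :
    ∃ (n : ℕ) (F : Fin (n + 1) → Subobject X) (hF : Monotone F), F 0 = ⊥ ∧ F (Fin.last n) = ⊤ ∧
      ∀ i : Fin n, Simple (cokernel (Subobject.ofLE (F (Fin.castSucc i)) (F (Fin.succ i))
        (hF (Fin.castSucc_lt_succ (i := i)).le))) := by
  let G : ℕ → Subobject X := fun k => next^[k] ⊥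
  have hGs : ∀ k, G (k + 1) = next (G k) := fun k => Function.iterate_succ_apply' next k ⊥
  have hGmono : Monotone G := monotone_nat_of_le_succ (fun k => by rw [hGs]; exact le_next _)
  obtain ⟨n₀, hn₀⟩ := monotone_chain_condition_of_isNoetherianObject ⟨G, hGmono⟩
  have hex : ∃ n, G n = ⊤ := by
    refine ⟨n₀, ?_⟩
    by_contra hne
    have h1 : G n₀ = G (n₀ + 1) := hn₀ (n₀ + 1) (Nat.le_succ _)
    have h2 := (covBy_next hne).lt
    rw [← hGs, ← h1] at h2
    exact lt_irrefl _ h2
  classical
  let N := Nat.find hex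
  have hN : G N = ⊤ := Nat.find_spec hex
  have hlt : ∀ i, i < N → G i ≠ ⊤ := fun i hi => Nat.find_min hex hi
  refine ⟨N, fun i => G i, fun i j hij => hGmono hij, rfl, hN, fun i => ?_⟩
  have hc : G i ⋖ G (i + 1) := by rw [hGs]; exact covBy_next (hlt i i.2)
  exact simple_of_covBy _ hc

theorem finiteLength_iff (X : A) :
    (IsArtinianObject X ∧ IsNoetherianObject X) ↔
      ∃ (n : ℕ) (F : Fin (n + 1) → Subobject X) (hF : Monotone F), F 0 = ⊥ ∧ F (Fin.last n) = ⊤ ∧
        ∀ i : Fin n, Simple (cokernel (Subobject.ofLE (F (Fin.castSucc i)) (F (Fin.succ i)) (hF (Fin.castSucc_lt_succ (i := i)).le))) := by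
  constructor
  · rintro ⟨h1, h2⟩
    exact exists_chain
  · rintro ⟨n, F, hF, hF0, hFn, hFs⟩
    exact artinian_noetherian_of_chain n F hF hF0 hFn hFs

end Groth.Agent.Lib.Helper32.FiniteLengthAb
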