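import Mathlib
import Groth.Prelude.Def_SpSeq

set_option autoImplicit false
open CategoryTheory CategoryTheory.Limits
universe v u

namespace Groth.Agent.Lib.Helper32.AbsSS

variable {C : Type u} [Category.{v} C] [Abelian C] {r₀ : ℤ}

theorem next_eq (k : ℤ) (pq : ℤ × ℤ) :
    (ComplexShape.up' ((k, 1 - k) : ℤ × ℤ)).next pq = pq + (k, 1 - k) :=
  ComplexShape.next_eq' _ (ComplexShape.up'_mk _ _ _ rfl)

theorem prev_eq (k : ℤ) (pq : ℤ × ℤ) :
    (ComplexShape.up' ((k, 1 - k) : ℤ × ℤ)).prev pq = pq - (k, 1 - k) :=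
  ComplexShape.prev_eq' _ (ComplexShape.up'_mk _ _ _ (sub_add_cancel _ _))

/-- the identification of a term with the term on the next page when both differentials vanish -/
noncomputable def pageIsoNext (E : CohomologicalSpectralSequence C r₀) (k : ℤ) (hk : r₀ ≤ k)
    (pq : ℤ × ℤ) (hin : (E.page k hk).d (pq - (k, 1 - k)) pq = 0)
    (hout : (E.page k hk).d pq (pq + (k, 1 - k)) = 0) :
    (E.page k hk).X pq ≅ (E.page (k + 1) (hk.trans (Int.le_add_one le_rfl))).X pq :=
  ((E.page k hk).iCyclesIso pq _ (next_eq k pq) hout).symm ≪≫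
    (E.page k hk).isoHomologyπ _ pq (prev_eq k pq) hin ≪≫ E.iso k (k + 1) pq rfl hk

theorem isZero_next (E : CohomologicalSpectralSequence C r₀) (k : ℤ) (hk : r₀ ≤ k) (pq : ℤ × ℤ)
    (h : IsZero ((E.page k hk).X pq)) :
    IsZero ((E.page (k + 1) (hk.trans (Int.le_add_one le_rfl))).X pq) := by
  have h1 : IsZero ((E.page k hk).homology pq) :=
    (HomologicalComplex.ExactAt.of_isZero h).isZero_homology
  exact IsZero.of_iso h1 (E.iso k (k + 1) pq rfl hk).symm

theorem isZero_page_of_le (E : CohomologicalSpectralSequence C r₀) (r : ℤ) (hr : r₀ ≤ r)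
    (pq : ℤ × ℤ) (h : IsZero ((E.page r hr).X pq)) (k : ℤ) (hk : r ≤ k) :
    IsZero ((E.page k (hr.trans hk)).X pq) := by
  induction k, hk using Int.leInduction with
  | base => exact h
  | succ k hk ih => exact isZero_next E k (hr.trans hk) pq ih

theorem nonempty_iso_of_stationary (E : CohomologicalSpectralSequence C r₀) (pq : ℤ × ℤ) (r : ℤ)
    (hst : SpSeq.StationaryAt E pq r) (k : ℤ) (hk : r ≤ k) :
    Nonempty ((E.page r hst.1).X pq ≅ (E.page k (hst.1.trans hk)).X pq) := by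
  induction k, hk using Int.leInduction with
  | base => exact ⟨Iso.refl _⟩
  | succ k hk ih =>
    obtain ⟨e⟩ := ih
    obtain ⟨hin, hout⟩ := hst.2 k (hst.1.trans hk) hk
    exact ⟨e ≪≫ pageIsoNext E k (hst.1.trans hk) pq hin hout⟩

/-- two pages from which `pq` is stationary have isomorphic terms at `pq` -/
theorem nonempty_iso_of_stationary₂ (E : CohomologicalSpectralSequence C r₀) (pq : ℤ × ℤ)
    (r r' : ℤ) (hst : SpSeq.StationaryAt E pq r) (hst' : SpSeq.StationaryAt E pq r') :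
    Nonempty ((E.page r hst.1).X pq ≅ (E.page r' hst'.1).X pq) := by
  obtain ⟨e⟩ := nonempty_iso_of_stationary E pq r hst (max r r') (le_max_left _ _)
  obtain ⟨e'⟩ := nonempty_iso_of_stationary E pq r' hst' (max r r') (le_max_right _ _)
  exact ⟨e ≪≫ e'.symm⟩

/-- a term that vanishes on page `r` has vanishing limit term -/
theorem isZero_page_rk (E : CohomologicalSpectralSequence C r₀) {H : ℤ → C}
    (a : SpSeq.Abutment E H) (r : ℤ) (hr : r₀ ≤ r) (pq : ℤ × ℤ)
    (h : IsZero ((E.page r hr).X pq)) : IsZero ((E.page (a.rk pq) (a.stat pq).1).X pq) := by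
  rcases le_total r (a.rk pq) with hle | hle
  · exact isZero_page_of_le E r hr pq h _ hle
  · obtain ⟨e⟩ := nonempty_iso_of_stationary E pq (a.rk pq) (a.stat pq) r hle
    exact IsZero.of_iso h e

theorem isZero_grPiece (E : CohomologicalSpectralSequence C r₀) {H : ℤ → C}
    (a : SpSeq.Abutment E H) (r : ℤ) (hr : r₀ ≤ r) (p n : ℤ)
    (h : IsZero ((E.page r hr).X (p, n - p))) :
    IsZero (SpSeq.grPiece (a.fil n) (a.anti n) p) := by
  have h1 := IsZero.of_iso (isZero_page_rk E a r hr (p, n - p) h) (a.β (p, n - p)).symm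
  have key : ∀ (m : ℤ), m = n → IsZero (SpSeq.grPiece (a.fil m) (a.anti m) p) →
      IsZero (SpSeq.grPiece (a.fil n) (a.anti n) p) := by
    intro m hm hh
    subst hm
    exact hh
  exact key _ (by simp) h1

theorem nonempty_grPiece_iso (E : CohomologicalSpectralSequence C r₀) {H : ℤ → C}
    (a : SpSeq.Abutment E H) (r : ℤ) (p n : ℤ) (hst : SpSeq.StationaryAt E (p, n - p) r) :
    Nonempty ((E.page r hst.1).X (p, n - p) ≅ SpSeq.grPiece (a.fil n) (a.anti n) p) := by
  obtain ⟨e⟩ := nonempty_iso_of_stationary₂ E (p, n - p) r (a.rk (p, n - p)) hst (a.stat _)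
  have e1 := e ≪≫ a.β (p, n - p)
  have key : ∀ (m : ℤ), m = n →
      Nonempty ((E.page r hst.1).X (p, n - p) ≅ SpSeq.grPiece (a.fil m) (a.anti m) p) →
      Nonempty ((E.page r hst.1).X (p, n - p) ≅ SpSeq.grPiece (a.fil n) (a.anti n) p) := by
    intro m hm hh
    subst hm
    exact hh
  exact key _ (by simp) ⟨e1⟩

theorem eq_of_isZero_grPiece {X : C} (F : ℤ → Subobject X) (hF : Antitone F) (p : ℤ)
    (h : IsZero (SpSeq.grPiece F hF p)) : F (p + 1) = F p := by
  have hle : F (p + 1) ≤ F p := hF (Int.le_add_one le_rfl)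
  have hepi : Epi ((F (p + 1)).ofLE (F p) hle) :=
    Preadditive.epi_of_cokernel_zero (h.eq_of_tgt _ _)
  have hiso : IsIso ((F (p + 1)).ofLE (F p) hle) := isIso_of_mono_of_epi _
  refine le_antisymm hle ?_
  refine Subobject.le_of_comm (inv ((F (p + 1)).ofLE (F p) hle)) ?_
  rw [IsIso.inv_comp_eq, Subobject.ofLE_arrow]

theorem nonempty_subquot_top_bot_iso {X : C} (Z B : Subobject X) (h : B ≤ Z) (hZ : Z = ⊤)
    (hB : B = ⊥) : Nonempty (SpSeq.subquot Z B h ≅ X) := by
  subst hZ hB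
  unfold SpSeq.subquot
  have hz : IsZero ((⊥ : Subobject X) : C) :=
    (isZero_zero C).of_iso Subobject.botCoeIsoZero
  have h0 : (⊥ : Subobject X).ofLE ⊤ h = 0 := hz.eq_of_src _ _
  exact ⟨cokernelIsoOfEq h0 ≪≫ cokernelZeroIsoTarget ≪≫ asIso (⊤ : Subobject X).arrow⟩

/-- a filtration whose graded pieces vanish except at `p₀`, discrete and exhaustive -/
theorem one_step {X : C} (F : ℤ → Subobject X) (hF : Antitone F) (p₀ : ℤ)
    (hgr : ∀ p : ℤ, p ≠ p₀ → IsZero (SpSeq.grPiece F hF p))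
    (hd : ∃ b : ℤ, F b = ⊥) (he : IsLUB (Set.range F) ⊤) :
    F p₀ = ⊤ ∧ F (p₀ + 1) = ⊥ := by
  have hstep : ∀ p : ℤ, p ≠ p₀ → F (p + 1) = F p := fun p hp =>
    eq_of_isZero_grPiece F hF p (hgr p hp)
  have hlow : ∀ k : ℕ, F (p₀ - k) = F p₀ := by
    intro k
    induction k with
    | zero => simp
    | succ k ih =>
      rw [← ih, ← hstep (p₀ - (k + 1 : ℕ)) (by push_cast; omega)]
      congr 1
      push_cast
      ring
  have hhigh : ∀ k : ℕ, F (p₀ + 1 + k) = F (p₀ + 1) := by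
    intro k
    induction k with
    | zero => simp
    | succ k ih =>
      rw [← ih, ← hstep (p₀ + 1 + k) (by omega)]
      congr 1
      push_cast
      ring
  constructor
  · apply top_le_iff.mp
    apply he.2
    rintro _ ⟨p, rfl⟩
    rcases le_total p p₀ with hp | hp
    · obtain ⟨k, hk⟩ := Int.le.dest hp
      have : p = p₀ - k := by omega
      rw [this, hlow k]
    · exact hF hp
  · obtain ⟨b, hb⟩ := hd
    rcases le_total (p₀ + 1) b with hp | hp
    · obtain ⟨k, hk⟩ := Int.le.dest hp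
      rw [← hhigh k, hk, hb]
    · exact le_bot_iff.mp (hb ▸ hF hp)

theorem main (E : CohomologicalSpectralSequence C r₀) {H : ℤ → C} (a : SpSeq.Abutment E H)
    (r : ℤ) (hr : r₀ ≤ r) (q : ℤ → ℤ)
    (hdeg : ∀ m q' : ℤ, q' ≠ q m → IsZero ((E.page r hr).X (m - q', q')))
    (n : ℤ) (hdisc : (a.filObj n).IsDiscrete) (hexh : a.IsExhaustive n)
    (hst : SpSeq.StationaryAt E (n - q n, q n) r) :
    Nonempty (H n ≅ (E.page r hr).X (n - q n, q n)) := by
  have hgr : ∀ p : ℤ, p ≠ n - q n → IsZero (SpSeq.grPiece (a.fil n) (a.anti n) p) := by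
    intro p hp
    apply isZero_grPiece E a r hr p n
    have h := hdeg n (n - p) (by omega)
    have e : (n - (n - p), n - p) = (p, n - p) := by
      congr 1
      ring
    rwa [e] at h
  obtain ⟨h1, h2⟩ := one_step (a.fil n) (a.anti n) (n - q n) hgr hdisc hexh
  obtain ⟨e1⟩ := nonempty_subquot_top_bot_iso (a.fil n (n - q n)) (a.fil n (n - q n + 1))
    (a.anti n (Int.le_add_one le_rfl)) h1 h2
  have hst' : SpSeq.StationaryAt E (n - q n, n - (n - q n)) r := by
    have e : (n - q n, n - (n - q n)) = (n - q n, q n) := by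
      congr 1
      ring
    rw [e]
    exact hst
  obtain ⟨e2⟩ := nonempty_grPiece_iso E a r (n - q n) n hst'
  have key : ∀ (y : ℤ), y = q n → Nonempty (H n ≅ (E.page r hr).X (n - q n, y)) →
      Nonempty (H n ≅ (E.page r hr).X (n - q n, q n)) := by
    intro y hy hh
    subst hy
    exact hh
  exact key (n - (n - q n)) (by ring) ⟨e1.symm ≪≫ e2.symm⟩

end Groth.Agent.Lib.Helper32.AbsSS
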