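import Mathlib
import Groth.Prelude.Def_SpSeq
import Groth.Agent.Lib.Helper32.AbsSS

set_option autoImplicit false
open CategoryTheory CategoryTheory.Limits
universe v u

namespace Groth.Agent.Lib.Helper32.AbsSSDeg

open Groth.Agent.Lib.Helper32.AbsSS

variable {C : Type u} [Category.{v} C] [Abelian C]

theorem mono_hom_f (E E' : E₂CohomologicalSpectralSequence C) (φ : E ⟶ E')
    (hd' : ∀ (r : ℤ) (hr : 2 ≤ r) (pq : ℤ × ℤ), pq.1 ≠ 0 →
      (E'.page r hr).d pq (pq + (r, 1 - r)) = 0)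
    (hmono : ∀ pq : ℤ × ℤ, Mono ((φ.hom 2 le_rfl).f pq)) (r : ℤ) (hr : 2 ≤ r) :
    ∀ pq : ℤ × ℤ, r ≤ pq.1 → Mono ((φ.hom r hr).f pq) := by
  induction r, hr using Int.leInduction with
  | base => exact fun pq _ => hmono pq
  | succ r hr ih =>
    intro pq hpq
    haveI := ih pq (by omega)
    have hin : (E'.page r hr).d (pq - (r, 1 - r)) pq = 0 := by
      have h := hd' r hr (pq - (r, 1 - r)) (by
        show pq.1 - r ≠ 0
        omega)
      rwa [sub_add_cancel] at h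
    have hm : Mono (HomologicalComplex.homologyMap (φ.hom r hr) pq) := by
      rw [HomologicalComplex.mono_homologyMap_iff_up_to_refinements (φ.hom r hr)
        (pq - (r, 1 - r)) pq (pq + (r, 1 - r)) (prev_eq r pq) (next_eq r pq)]
      intro A x₂ _ y₁ hy
      rw [hin, comp_zero] at hy
      have hx : x₂ = 0 := (cancel_mono ((φ.hom r hr).f pq)).mp (by rw [hy, zero_comp])
      exact ⟨A, 𝟙 A, inferInstance, 0, by rw [hx, comp_zero, zero_comp]⟩
    have hc := φ.comm r (r + 1) pq rfl hr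
    have e : (φ.hom (r + 1) (hr.trans (Int.le_add_one le_rfl))).f pq =
        (E.iso r (r + 1) pq rfl hr).inv ≫ HomologicalComplex.homologyMap (φ.hom r hr) pq ≫
          (E'.iso r (r + 1) pq rfl hr).hom := by
      rw [hc, Iso.inv_hom_id_assoc]
    rw [e]
    infer_instance

theorem main (E E' : E₂CohomologicalSpectralSequence C) (φ : E ⟶ E')
    (hE : ∀ pq : ℤ × ℤ, pq.1 < 0 ∨ pq.2 < 0 → IsZero ((E.page 2 le_rfl).X pq))
    (hd' : ∀ (r : ℤ) (hr : 2 ≤ r) (pq : ℤ × ℤ), pq.1 ≠ 0 →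
      (E'.page r hr).d pq (pq + (r, 1 - r)) = 0)
    (hφd : ∀ (r : ℤ) (hr : 2 ≤ r) (pq : ℤ × ℤ),
      (φ.hom r hr).f pq ≫ (E'.page r hr).d pq (pq + (r, 1 - r)) = 0)
    (hmono : ∀ pq : ℤ × ℤ, Mono ((φ.hom 2 le_rfl).f pq)) :
    SpSeq.Degenerates E 2 := by
  refine ⟨le_rfl, fun r h₀ _ pq pq' => ?_⟩
  by_cases h : pq + (r, 1 - r) = pq'
  · subst h
    by_cases hneg : pq.1 < 0
    · exact (isZero_page_of_le E 2 le_rfl pq (hE pq (Or.inl hneg)) r h₀).eq_of_src _ _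
    · haveI := mono_hom_f E E' φ hd' hmono r h₀ (pq + (r, 1 - r)) (by
        show r ≤ pq.1 + r
        omega)
      apply (cancel_mono ((φ.hom r h₀).f (pq + (r, 1 - r)))).mp
      rw [zero_comp, ← (φ.hom r h₀).comm]
      exact hφd r h₀ pq
  · exact (E.page r h₀).shape _ _ h

end Groth.Agent.Lib.Helper32.AbsSSDeg
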