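import Mathlib
import Groth.Prelude.Def_SpSeq
import Groth.Agent.Lib.Helper32.AbsSS

set_option autoImplicit false
open CategoryTheory CategoryTheory.Limits
universe v u

namespace Groth.Agent.Lib.Helper32.AbsSSDim

open Groth.Agent.Lib.Helper32.AbsSS

variable {K : Type u} [Field K]

section Lin

theorem finite_of_mono {M N : ModuleCat.{v} K} (f : M ⟶ N) [Mono f] [Module.Finite K N] :
    Module.Finite K M :=
  Module.Finite.of_injective f.hom ((ModuleCat.mono_iff_injective f).mp inferInstance)

theorem finite_of_epi {M N : ModuleCat.{v} K} (f : M ⟶ N) [Epi f] [Module.Finite K M] :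
    Module.Finite K N :=
  Module.Finite.of_surjective f.hom ((ModuleCat.epi_iff_surjective f).mp inferInstance)

theorem finite_of_iso {M N : ModuleCat.{v} K} (e : M ≅ N) [Module.Finite K M] :
    Module.Finite K N := finite_of_epi e.hom

theorem finrank_le_of_mono {M N : ModuleCat.{v} K} (f : M ⟶ N) [Mono f] [Module.Finite K N] :
    Module.finrank K M ≤ Module.finrank K N :=
  LinearMap.finrank_le_finrank_of_injective (f := f.hom)
    ((ModuleCat.mono_iff_injective f).mp inferInstance)

theorem finrank_le_of_epi {M N : ModuleCat.{v} K} (f : M ⟶ N) [Epi f] [Module.Finite K M] :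
    Module.finrank K N ≤ Module.finrank K M :=
  LinearMap.finrank_le_finrank_of_surjective (f := f.hom)
    ((ModuleCat.epi_iff_surjective f).mp inferInstance)

theorem finrank_eq_of_iso {M N : ModuleCat.{v} K} (e : M ≅ N) :
    Module.finrank K M = Module.finrank K N :=
  LinearEquiv.finrank_eq e.toLinearEquiv

theorem finrank_eq_zero_of_isZero {M : ModuleCat.{v} K} (h : IsZero M) : Module.finrank K M = 0 := by
  haveI := ModuleCat.subsingleton_of_isZero h
  exact Module.finrank_zero_of_subsingleton

theorem isIso_of_mono_of_finrank_eq {M N : ModuleCat.{v} K} (f : M ⟶ N) [Mono f]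
    [Module.Finite K M] [Module.Finite K N] (h : Module.finrank K M = Module.finrank K N) :
    IsIso f := by
  haveI : Epi f := by
    rw [ModuleCat.epi_iff_surjective]
    exact (LinearMap.injective_iff_surjective_of_finrank_eq_finrank (f := f.hom) h).mp
      ((ModuleCat.mono_iff_injective f).mp inferInstance)
  exact isIso_of_mono_of_epi f

theorem isIso_of_epi_of_finrank_eq {M N : ModuleCat.{v} K} (f : M ⟶ N) [Epi f]
    [Module.Finite K M] [Module.Finite K N] (h : Module.finrank K M = Module.finrank K N) :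
    IsIso f := by
  haveI : Mono f := by
    rw [ModuleCat.mono_iff_injective]
    exact (LinearMap.injective_iff_surjective_of_finrank_eq_finrank (f := f.hom) h).mpr
      ((ModuleCat.epi_iff_surjective f).mp inferInstance)
  exact isIso_of_mono_of_epi f

/-- additivity of `finrank` on a cokernel sequence -/
theorem finrank_cokernel {M N : ModuleCat.{v} K} (f : M ⟶ N) [Mono f] [Module.Finite K N] :
    Module.finrank K N = Module.finrank K M + Module.finrank K (cokernel f : ModuleCat.{v} K) := by
  have hex := (ShortComplex.exact_cokernel f).moduleCat_range_eq_ker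
  dsimp at hex
  have h1 := LinearMap.finrank_range_add_finrank_ker (cokernel.π f).hom
  have hs : Function.Surjective (cokernel.π f).hom :=
    (ModuleCat.epi_iff_surjective (cokernel.π f)).mp inferInstance
  have hi : Function.Injective f.hom := (ModuleCat.mono_iff_injective f).mp inferInstance
  rw [← hex, LinearMap.finrank_range_of_inj hi, LinearMap.range_eq_top.mpr hs, finrank_top] at h1
  omega

end Lin

section Cx

variable {ι : Type*} {c : ComplexShape ι} (X : HomologicalComplex (ModuleCat.{v} K) c) (j : ι)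

theorem finite_homology [Module.Finite K (X.X j)] : Module.Finite K (X.homology j) := by
  haveI : Module.Finite K (X.cycles j) := finite_of_mono (X.iCycles j)
  exact finite_of_epi (X.homologyπ j)

theorem finrank_homology_le [Module.Finite K (X.X j)] :
    Module.finrank K (X.homology j) ≤ Module.finrank K (X.X j) := by
  haveI : Module.Finite K (X.cycles j) := finite_of_mono (X.iCycles j)
  exact (finrank_le_of_epi (X.homologyπ j)).trans (finrank_le_of_mono (X.iCycles j))

theorem d_eq_zero_of_finrank_homology_eq [Module.Finite K (X.X j)]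
    (h : Module.finrank K (X.homology j) = Module.finrank K (X.X j)) (i k : ι) :
    X.d i j = 0 ∧ X.d j k = 0 := by
  haveI : Module.Finite K (X.cycles j) := finite_of_mono (X.iCycles j)
  haveI : Module.Finite K (X.homology j) := finite_homology X j
  have h1 := finrank_le_of_epi (X.homologyπ j)
  have h2 := finrank_le_of_mono (X.iCycles j)
  haveI := isIso_of_epi_of_finrank_eq (X.homologyπ j) (by omega)
  haveI := isIso_of_mono_of_finrank_eq (X.iCycles j) (by omega)
  constructor
  · have : X.toCycles i j = 0 := by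
      apply (cancel_mono (X.homologyπ j)).mp
      rw [X.toCycles_comp_homologyπ, zero_comp]
    rw [← X.toCycles_i i j, this, zero_comp]
  · apply (cancel_epi (X.iCycles j)).mp
    rw [X.iCycles_d, comp_zero]

end Cx

section SS

variable {r₀ : ℤ} (E : CohomologicalSpectralSequence (ModuleCat.{v} K) r₀)

theorem finite_page (hfd : ∀ pq : ℤ × ℤ, Module.Finite K ((E.page r₀ le_rfl).X pq)) (pq : ℤ × ℤ)
    (r : ℤ) (hr : r₀ ≤ r) : Module.Finite K ((E.page r hr).X pq) := by
  induction r, hr using Int.leInduction with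
  | base => exact hfd pq
  | succ r hr ih =>
    haveI := ih
    haveI := finite_homology (E.page r hr) pq
    exact finite_of_iso (E.iso r (r + 1) pq rfl hr)

theorem finrank_succ_le (hfd : ∀ pq : ℤ × ℤ, Module.Finite K ((E.page r₀ le_rfl).X pq))
    (pq : ℤ × ℤ) (r : ℤ) (hr : r₀ ≤ r) :
    Module.finrank K ((E.page (r + 1) (hr.trans (Int.le_add_one le_rfl))).X pq) ≤
      Module.finrank K ((E.page r hr).X pq) := by
  haveI := finite_page E hfd pq r hr
  rw [← finrank_eq_of_iso (E.iso r (r + 1) pq rfl hr)]
  exact finrank_homology_le _ _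

theorem d_zero_of_finrank_succ_eq (hfd : ∀ pq : ℤ × ℤ, Module.Finite K ((E.page r₀ le_rfl).X pq))
    (pq : ℤ × ℤ) (r : ℤ) (hr : r₀ ≤ r)
    (h : Module.finrank K ((E.page (r + 1) (hr.trans (Int.le_add_one le_rfl))).X pq) =
      Module.finrank K ((E.page r hr).X pq)) (i k : ℤ × ℤ) :
    (E.page r hr).d i pq = 0 ∧ (E.page r hr).d pq k = 0 := by
  haveI := finite_page E hfd pq r hr
  apply d_eq_zero_of_finrank_homology_eq
  rw [finrank_eq_of_iso (E.iso r (r + 1) pq rfl hr)]
  exact h

theorem finrank_anti (hfd : ∀ pq : ℤ × ℤ, Module.Finite K ((E.page r₀ le_rfl).X pq))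
    (pq : ℤ × ℤ) (x : ℤ) (hx : r₀ ≤ x) (y : ℤ) (hxy : x ≤ y) :
    Module.finrank K ((E.page y (hx.trans hxy)).X pq) ≤ Module.finrank K ((E.page x hx).X pq) := by
  induction y, hxy using Int.leInduction with
  | base => exact le_rfl
  | succ y hxy ih => exact (finrank_succ_le E hfd pq y (hx.trans hxy)).trans ih

theorem stationary_of_finrank_eq
    (hfd : ∀ pq : ℤ × ℤ, Module.Finite K ((E.page r₀ le_rfl).X pq)) (pq : ℤ × ℤ) (R : ℤ)
    (hst : SpSeq.StationaryAt E pq R)
    (h : Module.finrank K ((E.page R hst.1).X pq) = Module.finrank K ((E.page r₀ le_rfl).X pq)) :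
    SpSeq.StationaryAt E pq r₀ := by
  refine ⟨le_rfl, fun r' h₀ _ => ?_⟩
  by_cases hr' : R ≤ r'
  · exact hst.2 r' h₀ hr'
  · have h1 := finrank_anti E hfd pq (r' + 1) (h₀.trans (Int.le_add_one le_rfl)) R (by omega)
    have h2 := finrank_succ_le E hfd pq r' h₀
    have h3 := finrank_anti E hfd pq r₀ le_rfl r' h₀
    exact d_zero_of_finrank_succ_eq E hfd pq r' h₀ (by omega) _ _

theorem stationary_of_isZero (pq : ℤ × ℤ) (h : IsZero ((E.page r₀ le_rfl).X pq)) :
    SpSeq.StationaryAt E pq r₀ := by
  refine ⟨le_rfl, fun r' h₀ _ => ?_⟩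
  have hz := isZero_page_of_le E r₀ le_rfl pq h r' h₀
  exact ⟨hz.eq_of_tgt _ _, hz.eq_of_src _ _⟩

end SS

section Fil

theorem Ico_succ_right (lo hi : ℤ) (h : lo ≤ hi) :
    Finset.Ico lo (hi + 1) = insert hi (Finset.Ico lo hi) := by
  ext x
  simp only [Finset.mem_Ico, Finset.mem_insert]
  omega

theorem sum_gr (H : ModuleCat.{v} K) [Module.Finite K H] (F : ℤ → Subobject H) (hF : Antitone F)
    (lo : ℤ) (hlo : F lo = ⊤) (hi : ℤ) (hle : lo ≤ hi) :
    ∑ p ∈ Finset.Ico lo hi, Module.finrank K (SpSeq.grPiece F hF p : ModuleCat.{v} K) +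
      Module.finrank K ((F hi : ModuleCat.{v} K)) = Module.finrank K H := by
  induction hi, hle using Int.leInduction with
  | base =>
    haveI : IsIso (F lo).arrow := (Subobject.isIso_arrow_iff_eq_top _).mpr hlo
    simp only [Finset.Ico_self, Finset.sum_empty, zero_add]
    exact finrank_eq_of_iso (asIso (F lo).arrow)
  | succ hi hle ih =>
    rw [Ico_succ_right lo hi hle, Finset.sum_insert (by simp)]
    haveI : Module.Finite K ((F hi : ModuleCat.{v} K)) := finite_of_mono (F hi).arrow
    have h1 := finrank_cokernel ((F (hi + 1)).ofLE (F hi) (hF (Int.le_add_one le_rfl)))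
    have h2 : Module.finrank K (SpSeq.grPiece F hF hi : ModuleCat.{v} K) =
        Module.finrank K
          (cokernel ((F (hi + 1)).ofLE (F hi) (hF (Int.le_add_one le_rfl))) : ModuleCat.{v} K) :=
      rfl
    omega

end Fil

theorem main {r₀ : ℤ} (E : CohomologicalSpectralSequence (ModuleCat.{v} K) r₀)
    (H : ℤ → ModuleCat.{v} K) (a : SpSeq.Abutment E H) (n : ℤ) (hfin : a.IsFinite n)
    (hquad : ∀ pq : ℤ × ℤ, pq.1 < 0 ∨ pq.2 < 0 → IsZero ((E.page r₀ le_rfl).X pq))
    (hfd : ∀ pq : ℤ × ℤ, Module.Finite K ((E.page r₀ le_rfl).X pq))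
    (hH : Module.Finite K (H n))
    (hsum : ∑ s ∈ Finset.Icc (0 : ℤ) n, Module.finrank K ((E.page r₀ le_rfl).X (s, n - s)) =
      Module.finrank K (H n)) :
    ∀ s : ℤ, SpSeq.StationaryAt E (s, n - s) r₀ := by
  obtain ⟨⟨t, ht⟩, ⟨b, hb⟩⟩ := hfin
  have ht' : a.fil n t = ⊤ := ht
  have hb' : a.fil n b = ⊥ := hb
  have hlo : a.fil n (min 0 t) = ⊤ := top_le_iff.mp (ht' ▸ a.anti n (min_le_right 0 t))
  have hhi : a.fil n (max (min 0 t) (max (n + 1) b)) = ⊥ :=
    le_bot_iff.mp (hb' ▸ a.anti n ((le_max_right _ _).trans (le_max_right _ _)))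
  have hzero_out : ∀ s : ℤ, (s < 0 ∨ n < s) → IsZero ((E.page r₀ le_rfl).X (s, n - s)) := by
    intro s hs
    apply hquad
    rcases hs with h | h
    · exact Or.inl h
    · right
      show n - s < 0
      omega
  have hge : ∀ p : ℤ, Module.finrank K (SpSeq.grPiece (a.fil n) (a.anti n) p : ModuleCat.{v} K) ≤
      Module.finrank K ((E.page r₀ le_rfl).X (p, n - p)) := by
    intro p
    obtain ⟨e1⟩ := nonempty_grPiece_iso E a (a.rk (p, n - p)) p n (a.stat _)
    rw [← finrank_eq_of_iso e1]
    exact finrank_anti E hfd (p, n - p) r₀ le_rfl (a.rk _) (a.stat _).1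
  have hsumT := sum_gr (H n) (a.fil n) (a.anti n) (min 0 t) hlo (max (min 0 t) (max (n + 1) b))
    (le_max_left _ _)
  have hzz : Module.finrank K
      ((a.fil n (max (min 0 t) (max (n + 1) b)) : Subobject (H n)) : ModuleCat.{v} K) = 0 := by
    rw [hhi]
    exact finrank_eq_zero_of_isZero ((isZero_zero _).of_iso Subobject.botCoeIsoZero)
  rw [hzz, add_zero] at hsumT
  have hsumE : ∑ p ∈ Finset.Ico (min 0 t) (max (min 0 t) (max (n + 1) b)),
      Module.finrank K ((E.page r₀ le_rfl).X (p, n - p)) = Module.finrank K (H n) := by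
    rw [← hsum]
    symm
    apply Finset.sum_subset
    · intro x hx
      simp only [Finset.mem_Icc, Finset.mem_Ico] at hx ⊢
      constructor
      · exact (min_le_left 0 t).trans hx.1
      · have : n + 1 ≤ max (min 0 t) (max (n + 1) b) :=
          (le_max_left _ _).trans (le_max_right _ _)
        omega
    · intro x _ hx
      simp only [Finset.mem_Icc, not_and_or, not_le] at hx
      exact finrank_eq_zero_of_isZero (hzero_out x hx)
  have heq := (Finset.sum_eq_sum_iff_of_le (fun p _ => hge p)).mp (hsumT.trans hsumE.symm)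
  intro s
  by_cases hs : s < 0 ∨ n < s
  · exact stationary_of_isZero E _ (hzero_out s hs)
  · have hs' : s ∈ Finset.Ico (min 0 t) (max (min 0 t) (max (n + 1) b)) := by
      simp only [Finset.mem_Ico]
      constructor
      · have := min_le_left 0 t
        omega
      · have : n + 1 ≤ max (min 0 t) (max (n + 1) b) :=
          (le_max_left _ _).trans (le_max_right _ _)
        omega
    have h1 := heq s hs'
    obtain ⟨e1⟩ := nonempty_grPiece_iso E a (a.rk (s, n - s)) s n (a.stat _)
    rw [← finrank_eq_of_iso e1] at h1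
    exact stationary_of_finrank_eq E hfd (s, n - s) (a.rk _) (a.stat _) h1

end Groth.Agent.Lib.Helper32.AbsSSDim
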