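import Mathlib
import Groth.Prelude.Def_SpSeq
import Groth.Prelude.Def_W4c1gvcharpAbut
import Groth.Agent.Lib.Helper32.AbsSS

set_option autoImplicit false
open CategoryTheory CategoryTheory.Limits
universe v u

namespace Groth.Agent.Lib.Helper32.AbsSSMor

open Groth.Agent.Lib.Helper32.AbsSS

variable {C : Type u} [Category.{v} C] [Abelian C] {r₀ : ℤ}

theorem homologyMap_eq_zero_of_f {ι : Type*} {c : ComplexShape ι} {K L : HomologicalComplex C c}
    (φ : K ⟶ L) (i : ι) (h : φ.f i = 0) : HomologicalComplex.homologyMap φ i = 0 := by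
  have h1 : HomologicalComplex.cyclesMap φ i = 0 := by
    apply (cancel_mono (L.iCycles i)).mp
    rw [HomologicalComplex.cyclesMap_i, h, comp_zero, zero_comp]
  apply (cancel_epi (K.homologyπ i)).mp
  rw [HomologicalComplex.homologyπ_naturality, h1, zero_comp, comp_zero]

theorem hom_f_eq_zero_of_le {E E' : CohomologicalSpectralSequence C r₀} (φ : E ⟶ E') (r : ℤ)
    (hr : r₀ ≤ r) (pq : ℤ × ℤ) (h : (φ.hom r hr).f pq = 0) (k : ℤ) (hk : r ≤ k) :
    (φ.hom k (hr.trans hk)).f pq = 0 := by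
  induction k, hk using Int.leInduction with
  | base => exact h
  | succ k hk ih =>
    have hc := φ.comm k (k + 1) pq rfl (hr.trans hk)
    rw [homologyMap_eq_zero_of_f _ _ ih, zero_comp] at hc
    have : (E.iso k (k + 1) pq rfl (hr.trans hk)).hom ≫
        (φ.hom (k + 1) ((hr.trans hk).trans (Int.le_add_one le_rfl))).f pq = 0 := hc.symm
    exact (cancel_epi (E.iso k (k + 1) pq rfl (hr.trans hk)).hom).mp (by rw [this, comp_zero])

theorem fil_eq_of_gr_zero {X : C} (F : ℤ → Subobject X) (hF : Antitone F) (s t : ℤ) (hst : s ≤ t)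
    (h : ∀ i : ℤ, s ≤ i → i < t → IsZero (SpSeq.grPiece F hF i)) : F s = F t := by
  induction t, hst using Int.leInduction with
  | base => rfl
  | succ t hst ih =>
    rw [ih (fun i hi hit => h i hi (by omega))]
    exact (eq_of_isZero_grPiece F hF t (h t hst (by omega))).symm

theorem main (E E' : E₂CohomologicalSpectralSequence C) (φ : E ⟶ E') (H H' : ℤ → C)
    (a : SpSeq.Abutment E H) (a' : SpSeq.Abutment E' H')
    (ha : ∀ n : ℤ, a.IsFinite n) (ha' : ∀ n : ℤ, a'.IsFinite n)
    (f : SpSeqMor.AbutHom φ a a') (l a₀ : ℤ)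
    (hE : ∀ i : ℤ, i < a₀ → IsZero ((E.page 2 le_rfl).X (i, l - i)))
    (hE' : ∀ i : ℤ, a₀ < i → IsZero ((E'.page 2 le_rfl).X (i, l - i)))
    (hφ : (φ.hom 2 le_rfl).f (a₀, l - a₀) = 0) :
    f.hom l = 0 := by
  -- the source filtration is everything at `a₀`
  have htop : a.fil l a₀ = ⊤ := by
    obtain ⟨⟨t, ht⟩, -⟩ := ha l
    have ht' : a.fil l t = ⊤ := ht
    rcases le_total a₀ t with h | h
    · exact top_le_iff.mp (ht' ▸ a.anti l h)
    · rw [← ht']
      exact (fil_eq_of_gr_zero (a.fil l) (a.anti l) t a₀ h (fun i _ hi =>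
        isZero_grPiece E a 2 le_rfl i l (hE i hi))).symm
  -- the target filtration is zero at `a₀ + 1`
  have hbot : a'.fil l (a₀ + 1) = ⊥ := by
    obtain ⟨-, ⟨b, hb⟩⟩ := ha' l
    have hb' : a'.fil l b = ⊥ := hb
    rcases le_total b (a₀ + 1) with h | h
    · exact le_bot_iff.mp (hb' ▸ a'.anti l h)
    · rw [← hb']
      exact fil_eq_of_gr_zero (a'.fil l) (a'.anti l) (a₀ + 1) b h (fun i hi _ =>
        isZero_grPiece E' a' 2 le_rfl i l (hE' i (by omega)))
  -- the graded map at `a₀` is zero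
  have hgr0 : (f.fil (a₀ + (l - a₀))).gr a₀ = 0 := by
    have hc := f.comm (a₀, l - a₀)
      (max (a.rk (a₀, l - a₀)) (a'.rk (a₀, l - a₀)) - a.rk (a₀, l - a₀)).toNat
      (max (a.rk (a₀, l - a₀)) (a'.rk (a₀, l - a₀)) - a'.rk (a₀, l - a₀)).toNat (by omega)
    have h0 := hom_f_eq_zero_of_le φ 2 le_rfl (a₀, l - a₀) hφ
      (a'.rk (a₀, l - a₀) +
        ((max (a.rk (a₀, l - a₀)) (a'.rk (a₀, l - a₀)) - a'.rk (a₀, l - a₀)).toNat : ℕ))
      (SpSeqMor.page_le (a'.stat (a₀, l - a₀)).1 _)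
    rw [h0] at hc
    simp only [zero_comp, comp_zero] at hc
    apply (cancel_epi (a.β (a₀, l - a₀)).hom).mp
    exact hc.trans comp_zero.symm
  have hgr : (f.fil l).gr a₀ = 0 := by
    have key : ∀ m : ℤ, m = l → (f.fil m).gr a₀ = 0 → (f.fil l).gr a₀ = 0 := by
      intro m hm hh
      subst hm
      exact hh
    exact key (a₀ + (l - a₀)) (by ring) hgr0
  -- conclude
  have h1 : (f.fil l).lift a₀ ≫
      cokernel.π ((a'.filObj l).stepLE (Int.le_add_one (le_refl a₀))) = 0 := by
    have := cokernel.π_desc ((a.filObj l).stepLE (Int.le_add_one (le_refl a₀)))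
      ((f.fil l).lift a₀ ≫ cokernel.π ((a'.filObj l).stepLE (Int.le_add_one (le_refl a₀))))
      (by
        rw [← Category.assoc, (f.fil l).stepLE_lift, Category.assoc, cokernel.condition,
          comp_zero])
    have e : cokernel.π ((a.filObj l).stepLE (Int.le_add_one (le_refl a₀))) ≫ (f.fil l).gr a₀ =
        (f.fil l).lift a₀ ≫ cokernel.π ((a'.filObj l).stepLE (Int.le_add_one (le_refl a₀))) := by
      unfold SpSeqMor.FilLift.gr
      exact cokernel.π_desc _ _ _
    rw [← e, hgr]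
    exact comp_zero
  have hz : IsZero ((a'.filObj l).step (a₀ + 1)) := by
    have : (a'.filObj l).fil (a₀ + 1) = ⊥ := hbot
    show IsZero (((a'.filObj l).fil (a₀ + 1) : Subobject _) : C)
    rw [this]
    exact (isZero_zero C).of_iso Subobject.botCoeIsoZero
  have h2 : (f.fil l).lift a₀ = 0 := by
    have h0 : (a'.filObj l).stepLE (Int.le_add_one (le_refl a₀)) = 0 := hz.eq_of_src _ _
    haveI : Mono (cokernel.π ((a'.filObj l).stepLE (Int.le_add_one (le_refl a₀)))) := by
      rw [h0]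
      infer_instance
    exact (cancel_mono (cokernel.π ((a'.filObj l).stepLE (Int.le_add_one (le_refl a₀))))).mp
      (by rw [h1, zero_comp])
  have h3 : ((a.filObj l).fil a₀).arrow ≫ (f.fil l).hom = 0 := by
    rw [← (f.fil l).lift_arrow, h2, zero_comp]
  haveI : IsIso ((a.filObj l).fil a₀).arrow :=
    (Subobject.isIso_arrow_iff_eq_top _).mpr htop
  apply (cancel_epi ((a.filObj l).fil a₀).arrow).mp
  exact h3.trans comp_zero.symm

end Groth.Agent.Lib.Helper32.AbsSSMor
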