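import Mathlib
import Groth.Prelude.Def_DerCA

/-!
# Essentially constant inverse systems in a (pre)triangulated category

`split_decomp` (a split mono with chosen retraction gives a biproduct decomposition compatible with
both), `tr_comp`, `cone_tr`, `main` (S6614: decomposition of an essentially constant system).
-/

set_option autoImplicit false
set_option linter.unusedSectionVars false
universe v u
open CategoryTheory CategoryTheory.Limits Opposite CategoryTheory.Pretriangulated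

namespace Groth.Agent.Lib.Helper32.EssConst

variable {D : Type u} [Category.{v} D] [Preadditive D] [HasZeroObject D] [HasShift D ℤ]
    [∀ n : ℤ, (shiftFunctor D n).Additive] [Pretriangulated D]

lemma split_decomp {A X : D} (c : A ⟶ X) (s : X ⟶ A) (hcs : c ≫ s = 𝟙 A) :
    ∃ (Z : D) (e : X ≅ A ⊞ Z), c ≫ e.hom = biprod.inl ∧ e.hom ≫ biprod.fst = s := by
  obtain ⟨Z, p, δ, hT⟩ := distinguished_cocone_triangle c
  have hδ : δ = 0 := by
    have h1 : δ ≫ c⟦(1 : ℤ)⟧' = 0 := comp_distTriang_mor_zero₃₁ _ hT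
    have h2 : c⟦(1 : ℤ)⟧' ≫ s⟦(1 : ℤ)⟧' = 𝟙 _ := by
      rw [← CategoryTheory.Functor.map_comp, hcs, CategoryTheory.Functor.map_id]
    calc δ = δ ≫ c⟦(1 : ℤ)⟧' ≫ s⟦(1 : ℤ)⟧' := by rw [h2, Category.comp_id]
      _ = 0 := by rw [reassoc_of% h1, zero_comp]
  have hcp : c ≫ p = 0 := comp_distTriang_mor_zero₁₂ _ hT
  obtain ⟨q', hq'⟩ : ∃ q' : Z ⟶ X, 𝟙 Z = q' ≫ p :=
    Triangle.coyoneda_exact₃ _ hT (𝟙 Z) (by
      show 𝟙 Z ≫ δ = 0
      rw [hδ, comp_zero])
  let q : Z ⟶ X := q' - q' ≫ s ≫ c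
  have hqp : q ≫ p = 𝟙 Z := by
    dsimp [q]
    rw [Preadditive.sub_comp, Category.assoc, Category.assoc, hcp, comp_zero, comp_zero, sub_zero,
      ← hq']
  have hqs : q ≫ s = 0 := by
    dsimp [q]
    rw [Preadditive.sub_comp, Category.assoc, Category.assoc, hcs, Category.comp_id, sub_self]
  have hu : s ≫ c + p ≫ q = 𝟙 X := by
    have hu0 : 𝟙 X - s ≫ c - p ≫ q = 0 := by
      have h1 : (𝟙 X - s ≫ c - p ≫ q) ≫ p = 0 := by
        rw [Preadditive.sub_comp, Preadditive.sub_comp, Category.id_comp, Category.assoc,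
          Category.assoc, hcp, comp_zero, sub_zero, hqp, Category.comp_id, sub_self]
      obtain ⟨v, hv⟩ : ∃ v : X ⟶ A, 𝟙 X - s ≫ c - p ≫ q = v ≫ c :=
        Triangle.coyoneda_exact₂ _ hT _ h1
      have h2 : (𝟙 X - s ≫ c - p ≫ q) ≫ s = 0 := by
        rw [Preadditive.sub_comp, Preadditive.sub_comp, Category.id_comp, Category.assoc,
          Category.assoc, hcs, Category.comp_id, hqs, comp_zero, sub_self, sub_zero]
      have h3 : v = 0 := by
        have : v ≫ c ≫ s = 0 := by rw [← Category.assoc, ← hv, h2]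
        rwa [hcs, Category.comp_id] at this
      rw [hv, h3, zero_comp]
    have : 𝟙 X = s ≫ c + p ≫ q := by
      rw [sub_sub, sub_eq_zero] at hu0
      exact hu0
    exact this.symm
  refine ⟨Z, ⟨biprod.lift s p, biprod.desc c q, ?_, ?_⟩, ?_, ?_⟩
  · rw [biprod.lift_desc, hu]
  · apply biprod.hom_ext <;> apply biprod.hom_ext' <;> simp [hcs, hcp, hqs, hqp]
  · apply biprod.hom_ext <;> simp [hcs, hcp]
  · simp


lemma tr_comp {C : Type*} [Category C] (X : ARSys.PS C) {a b c : ℕ} (h1 : a ≤ b) (h2 : b ≤ c) :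
    ARSys.tr X h2 ≫ ARSys.tr X h1 = ARSys.tr X (h1.trans h2) := by
  dsimp [ARSys.tr]
  rw [← X.map_comp]
  rfl

lemma cone_tr {C : Type*} [Category C] (X : ARSys.PS C) (A : C) (c : (Functor.const ℕᵒᵖ).obj A ⟶ X)
    {a b : ℕ} (h : a ≤ b) : c.app (op b) ≫ ARSys.tr X h = c.app (op a) := by
  have := c.naturality (homOfLE h).op
  dsimp at this
  rw [Category.id_comp] at this
  exact this.symm

theorem main (X : ARSys.PS D) (A : D) (c : (Functor.const ℕᵒᵖ).obj A ⟶ X)
    (hX : DerCA.IsEssConstant X A c) :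
    ∃ (i : ℕ) (Z : ℕ → D) (e : ∀ j : ℕ, X.obj (op (i + j)) ≅ A ⊞ Z j)
      (z : ∀ j k : ℕ, j ≤ k → (Z k ⟶ Z j)),
      (∀ j : ℕ, c.app (op (i + j)) ≫ (e j).hom = biprod.inl) ∧
      (∀ (j k : ℕ) (hjk : j ≤ k), (e k).inv ≫ ARSys.tr X (Nat.add_le_add_left hjk i) =
        biprod.map (𝟙 A) (z j k hjk) ≫ (e j).inv) ∧
      (∀ j : ℕ, ∃ (k : ℕ) (hjk : j ≤ k), z j k hjk = 0) := by
  obtain ⟨i, s, hcs, hfac⟩ := hX
  -- the retractions
  let sj : ∀ j : ℕ, X.obj (op (i + j)) ⟶ A := fun j => ARSys.tr X (Nat.le_add_right i j) ≫ s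
  have hsj : ∀ j, c.app (op (i + j)) ≫ sj j = 𝟙 A := by
    intro j
    dsimp [sj]
    rw [← Category.assoc, cone_tr, hcs]
  have hsj_tr : ∀ (j k : ℕ) (hjk : j ≤ k),
      ARSys.tr X (Nat.add_le_add_left hjk i) ≫ sj j = sj k := by
    intro j k hjk
    dsimp [sj]
    rw [← Category.assoc, tr_comp]
  have hex : ∀ j : ℕ, ∃ (Zj : D) (ej : X.obj (op (i + j)) ≅ A ⊞ Zj),
      c.app (op (i + j)) ≫ ej.hom = biprod.inl ∧ ej.hom ≫ biprod.fst = sj j :=
    fun j => split_decomp (A := A) (c.app (op (i + j))) (sj j) (hsj j)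
  choose Z e he1 he2 using hex
  have he1' : ∀ j, biprod.inl ≫ (e j).inv = c.app (op (i + j)) := by
    intro j
    have h := he1 j
    rw [← cancel_mono (e j).hom, Category.assoc, Iso.inv_hom_id, Category.comp_id]
    exact h.symm
  let z : ∀ j k : ℕ, j ≤ k → (Z k ⟶ Z j) := fun j k hjk =>
    biprod.inr ≫ (e k).inv ≫ ARSys.tr X (Nat.add_le_add_left hjk i) ≫ (e j).hom ≫ biprod.snd
  refine ⟨i, Z, e, z, he1, ?_, ?_⟩
  · intro j k hjk
    rw [← cancel_mono (e j).hom, Category.assoc, Category.assoc, Iso.inv_hom_id, Category.comp_id]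
    apply biprod.hom_ext'
    · rw [reassoc_of% (he1' k), reassoc_of% (cone_tr X A c (Nat.add_le_add_left hjk i)), he1,
        biprod.inl_map, Category.id_comp]
      rfl
    · apply biprod.hom_ext
      · simp only [Category.assoc, biprod.inr_map_assoc, biprod.inr_fst, comp_zero]
        rw [he2 j, hsj_tr j k hjk, ← he2 k, Iso.inv_hom_id_assoc, biprod.inr_fst]
      · simp only [Category.assoc, biprod.inr_map, biprod.inr_snd, Category.comp_id]
        rfl
  · intro j
    obtain ⟨k', hi, hj, hk⟩ := hfac (i + j)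
    obtain ⟨k, rfl⟩ := Nat.exists_eq_add_of_le hi
    have hjk : j ≤ k := by omega
    refine ⟨k, hjk, ?_⟩
    have h1 : ARSys.tr X (Nat.add_le_add_left hjk i) = sj k ≫ c.app (op (i + j)) := by
      rw [hk]
      dsimp [sj]
      rw [Category.assoc]
    dsimp [z]
    rw [h1, ← he2 k]
    simp only [Category.assoc, Iso.inv_hom_id_assoc]
    rw [reassoc_of% (he1 j)]
    simp

end Groth.Agent.Lib.Helper32.EssConst
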