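import Mathlib
import Groth.Prelude.Def_DerCA
import Groth.Agent.Lib.Helper32.EssConst

/-!
# Essential constancy: two-out-of-three in a triangulated category

`retractions` (normal form of `DerCA.IsEssConstant`: compatible retractions), `main` (S6615: in an inverse
system of distinguished triangles, if the outer systems are essentially constant so is the middle one).
-/

set_option autoImplicit false
set_option linter.unusedSectionVars false
universe v u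
open CategoryTheory CategoryTheory.Limits Opposite CategoryTheory.Pretriangulated
open Groth.Agent.Lib.Helper32.EssConst

namespace Groth.Agent.Lib.Helper32.EssConstTri

section
variable {D : Type u} [Category.{v} D] [Preadditive D]

/-- normal form of essential constancy: compatible retractions `b k : X_k ⟶ A` for `k ≥ i`. -/
lemma retractions (X : ARSys.PS D) (A : D) (c : (Functor.const ℕᵒᵖ).obj A ⟶ X)
    (hX : DerCA.IsEssConstant X A c) :
    ∃ (i : ℕ) (b : ∀ k : ℕ, X.obj (op k) ⟶ A), (∀ k, i ≤ k → c.app (op k) ≫ b k = 𝟙 A) ∧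
      (∀ (k k' : ℕ) (h : k ≤ k'), i ≤ k → ARSys.tr X h ≫ b k = b k') ∧
      (∀ j : ℕ, ∃ k₀ : ℕ, i ≤ k₀ ∧ ∀ (k : ℕ) (hjk : j ≤ k), k₀ ≤ k →
        ARSys.tr X hjk = b k ≫ c.app (op j)) := by
  obtain ⟨i, s, hcs, hj⟩ := hX
  refine ⟨i, fun k => if h : i ≤ k then ARSys.tr X h ≫ s else 0, ?_, ?_, ?_⟩
  · intro k hk
    dsimp only
    rw [dif_pos hk, ← Category.assoc, cone_tr X A c hk, hcs]
  · intro k k' h hk
    dsimp only
    rw [dif_pos hk, dif_pos (hk.trans h), ← Category.assoc, tr_comp]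
  · intro j
    obtain ⟨k₀, hi, hj', e⟩ := hj j
    refine ⟨k₀, hi, fun k hjk hk => ?_⟩
    dsimp only
    rw [dif_pos (hi.trans hk), ← tr_comp X hj' hk, e, ← tr_comp X hi hk]
    simp only [Category.assoc]

end

variable {D : Type u} [Category.{v} D] [Preadditive D] [HasZeroObject D] [HasShift D ℤ]
    [∀ n : ℤ, (shiftFunctor D n).Additive] [Pretriangulated D] [IsTriangulated D]

theorem main (X Y Z : ARSys.PS D) (f : X ⟶ Y) (g : Y ⟶ Z) (h : Z ⟶ X ⋙ shiftFunctor D (1 : ℤ))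
    (hT : ∀ n : ℕ, Triangle.mk (f.app (op n)) (g.app (op n)) (h.app (op n)) ∈ distTriang D)
    (A : D) (cA : (Functor.const ℕᵒᵖ).obj A ⟶ X) (hX : DerCA.IsEssConstant X A cA)
    (C : D) (cC : (Functor.const ℕᵒᵖ).obj C ⟶ Z) (hZ : DerCA.IsEssConstant Z C cC) :
    ∃ (B : D) (cB : (Functor.const ℕᵒᵖ).obj B ⟶ Y), DerCA.IsEssConstant Y B cB := by
  obtain ⟨iA, b, hb1, hb2, hb3⟩ := retractions X A cA hX
  obtain ⟨iC, d, hd1, hd2, hd3⟩ := retractions Z C cC hZ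
  have nf : ∀ {n m : ℕ} (hnm : n ≤ m),
      ARSys.tr X hnm ≫ f.app (op n) = f.app (op m) ≫ ARSys.tr Y hnm :=
    fun hnm => f.naturality (homOfLE hnm).op
  have ng : ∀ {n m : ℕ} (hnm : n ≤ m),
      ARSys.tr Y hnm ≫ g.app (op n) = g.app (op m) ≫ ARSys.tr Z hnm :=
    fun hnm => g.naturality (homOfLE hnm).op
  have nh : ∀ {n m : ℕ} (hnm : n ≤ m),
      ARSys.tr Z hnm ≫ h.app (op n) = h.app (op m) ≫ (ARSys.tr X hnm)⟦(1 : ℤ)⟧' :=
    fun hnm => h.naturality (homOfLE hnm).op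
  obtain ⟨i₀, hiA, hiC⟩ : ∃ i₀, iA ≤ i₀ ∧ iC ≤ i₀ := ⟨max iA iC, le_max_left _ _, le_max_right _ _⟩
  -- δ
  let δ : C ⟶ A⟦(1 : ℤ)⟧ := cC.app (op i₀) ≫ h.app (op i₀) ≫ (b i₀)⟦(1 : ℤ)⟧'
  have hδ : ∀ k, i₀ ≤ k → cC.app (op k) ≫ h.app (op k) ≫ (b k)⟦(1 : ℤ)⟧' = δ := by
    intro k hk
    show _ = cC.app (op i₀) ≫ h.app (op i₀) ≫ (b i₀)⟦(1 : ℤ)⟧'
    rw [← cone_tr Z C cC hk, Category.assoc, reassoc_of% (nh hk), ← Functor.map_comp,
      hb2 i₀ k hk hiA]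
  obtain ⟨B, a, p, hABC⟩ := distinguished_cocone_triangle₂ δ
  -- up
  have up : ∀ k, i₀ ≤ k → ∃ β' : B ⟶ Y.obj (op k),
      a ≫ β' = cA.app (op k) ≫ f.app (op k) ∧ β' ≫ g.app (op k) = p ≫ cC.app (op k) := by
    intro k hk
    have comm : δ ≫ (cA.app (op k))⟦(1 : ℤ)⟧' = cC.app (op k) ≫ h.app (op k) := by
      obtain ⟨k₀, hk₀, hk₀'⟩ := hb3 k
      obtain ⟨K, hK1, hK2, hK3⟩ : ∃ K, k₀ ≤ K ∧ k ≤ K ∧ i₀ ≤ K :=
        ⟨max k₀ (max k i₀), le_max_left _ _, (le_max_left _ _).trans (le_max_right _ _),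
          (le_max_right _ _).trans (le_max_right _ _)⟩
      rw [← hδ K hK3, Category.assoc, Category.assoc, ← Functor.map_comp, ← hk₀' K hK2 hK1,
        ← nh hK2, ← Category.assoc, cone_tr Z C cC hK2]
    obtain ⟨β', h1, h2⟩ := complete_distinguished_triangle_morphism₂ _ _ hABC (hT k)
      (cA.app (op k)) (cC.app (op k)) comm
    exact ⟨β', h1, h2.symm⟩
  -- M
  obtain ⟨k₀', hk₀', hk₀''⟩ := hd3 i₀
  obtain ⟨M, hM1, hM2⟩ : ∃ M, k₀' ≤ M ∧ i₀ ≤ M := ⟨max k₀' i₀, le_max_left _ _, le_max_right _ _⟩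
  obtain ⟨r, hr1, hr2⟩ : ∃ r : Y.obj (op M) ⟶ B,
      f.app (op M) ≫ r = b M ≫ a ∧ r ≫ p = g.app (op M) ≫ d M := by
    have comm : h.app (op M) ≫ (b M)⟦(1 : ℤ)⟧' = d M ≫ δ := by
      show _ = d M ≫ cC.app (op i₀) ≫ h.app (op i₀) ≫ (b i₀)⟦(1 : ℤ)⟧'
      rw [← Category.assoc, ← hk₀'' M hM2 hM1, reassoc_of% (nh hM2),
        ← Functor.map_comp, hb2 i₀ M hM2 hiA]
    obtain ⟨r, h1, h2⟩ := complete_distinguished_triangle_morphism₂ _ _ (hT M) hABC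
      (b M) (d M) comm
    exact ⟨r, h1, h2.symm⟩
  let rr : ∀ k : ℕ, Y.obj (op k) ⟶ B := fun k => if hk : M ≤ k then ARSys.tr Y hk ≫ r else 0
  have rr_eq : ∀ k (hk : M ≤ k), rr k = ARSys.tr Y hk ≫ r := fun k hk => dif_pos hk
  have R1 : ∀ k, M ≤ k → f.app (op k) ≫ rr k = b k ≫ a := by
    intro k hk
    rw [rr_eq k hk, ← reassoc_of% (nf hk), hr1, ← Category.assoc, hb2 M k hk (hiA.trans hM2)]
  have R2 : ∀ k, M ≤ k → rr k ≫ p = g.app (op k) ≫ d k := by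
    intro k hk
    rw [rr_eq k hk, Category.assoc, hr2, reassoc_of% (ng hk), hd2 M k hk (hiC.trans hM2)]
  have R3 : ∀ k k' (hkk' : k ≤ k'), M ≤ k → ARSys.tr Y hkk' ≫ rr k = rr k' := by
    intro k k' hkk' hk
    rw [rr_eq k hk, rr_eq k' (hk.trans hkk'), ← Category.assoc, tr_comp]
  -- sections
  have hsec : ∀ k, M ≤ k → ∃ σ : B ⟶ Y.obj (op k), σ ≫ rr k = 𝟙 B := by
    intro k hk
    obtain ⟨β', h1, h2⟩ := up k (hM2.trans hk)
    let φ : Triangle.mk a p δ ⟶ Triangle.mk a p δ :=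
      { hom₁ := 𝟙 A
        hom₂ := β' ≫ rr k
        hom₃ := 𝟙 C
        comm₁ := by
          show a ≫ β' ≫ rr k = 𝟙 A ≫ a
          rw [reassoc_of% h1, R1 k hk, ← Category.assoc, hb1 k ((hiA.trans hM2).trans hk)]
        comm₂ := by
          show p ≫ 𝟙 C = (β' ≫ rr k) ≫ p
          rw [Category.assoc, R2 k hk, reassoc_of% h2, hd1 k ((hiC.trans hM2).trans hk),
            Category.comp_id]
        comm₃ := by
          show δ ≫ (𝟙 A)⟦(1 : ℤ)⟧' = 𝟙 C ≫ δ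
          rw [CategoryTheory.Functor.map_id, Category.comp_id, Category.id_comp] }
    have : IsIso φ.hom₂ := isIso₂_of_isIso₁₃ φ hABC hABC
      (by show IsIso (𝟙 A); infer_instance) (by show IsIso (𝟙 C); infer_instance)
    have : IsIso (β' ≫ rr k) := this
    exact ⟨inv (β' ≫ rr k) ≫ β', by rw [Category.assoc, IsIso.inv_hom_id]⟩
  have hepi : ∀ k, M ≤ k → Epi (rr k) := by
    intro k hk
    obtain ⟨σ, hσ⟩ := hsec k hk
    exact ⟨fun x y hxy => by rw [← Category.id_comp x, ← Category.id_comp y, ← hσ, Category.assoc,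
      Category.assoc, hxy]⟩
  -- step 4
  have step4 : ∀ n : ℕ, ∃ (k : ℕ) (_ : M ≤ k) (hnk : n ≤ k) (β : B ⟶ Y.obj (op n)),
      rr k ≫ β = ARSys.tr Y hnk := by
    intro n
    obtain ⟨n', hn'1, hn'2⟩ : ∃ n', n ≤ n' ∧ M ≤ n' := ⟨max n M, le_max_left _ _, le_max_right _ _⟩
    obtain ⟨k₁, hk₁, hk₁'⟩ := hb3 n'
    obtain ⟨k', hk'1, hk'2⟩ : ∃ k', k₁ ≤ k' ∧ n' ≤ k' := ⟨max k₁ n', le_max_left _ _, le_max_right _ _⟩
    obtain ⟨k₂, hk₂, hk₂'⟩ := hd3 k'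
    obtain ⟨k, hk1, hk2⟩ : ∃ k, k₂ ≤ k ∧ k' ≤ k := ⟨max k₂ k', le_max_left _ _, le_max_right _ _⟩
    have hMk' : M ≤ k' := hn'2.trans hk'2
    have hMk : M ≤ k := hMk'.trans hk2
    obtain ⟨σ, hσ⟩ := hsec k hMk
    let e : Y.obj (op k) ⟶ Y.obj (op k) := 𝟙 _ - rr k ≫ σ
    have he : e ≫ rr k = 0 := by
      simp only [e, Preadditive.sub_comp, Category.id_comp, Category.assoc, hσ, Category.comp_id,
        sub_self]
    have ha : (e ≫ ARSys.tr Y hk2) ≫ g.app (op k') = 0 := by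
      rw [Category.assoc, ng hk2, hk₂' k hk2 hk1, ← Category.assoc, ← Category.assoc,
        Category.assoc e, ← R2 k hMk, reassoc_of% he, zero_comp, zero_comp]
    obtain ⟨ρ, hρ⟩ : ∃ ρ : Y.obj (op k) ⟶ X.obj (op k'), e ≫ ARSys.tr Y hk2 = ρ ≫ f.app (op k') :=
      Triangle.coyoneda_exact₂ _ (hT k') (e ≫ ARSys.tr Y hk2) ha
    have hw : (ρ ≫ b k') ≫ a = 0 := by
      rw [Category.assoc, ← R1 k' hMk', ← reassoc_of% hρ, R3 k' k hk2 hMk', he]
    obtain ⟨β', h1, -⟩ := up n' (hM2.trans hn'2)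
    have hc : e ≫ ARSys.tr Y (hk'2.trans hk2) = 0 := by
      rw [← tr_comp Y hk'2 hk2, ← Category.assoc, hρ, Category.assoc, ← nf hk'2,
        hk₁' k' hk'2 hk'1, Category.assoc, ← h1, ← Category.assoc, ← Category.assoc,
        hw, zero_comp]
    have hnk : n ≤ k := hn'1.trans (hk'2.trans hk2)
    have hc' : e ≫ ARSys.tr Y hnk = 0 := by
      rw [← tr_comp Y hn'1 (hk'2.trans hk2), ← Category.assoc, hc, zero_comp]
    refine ⟨k, hMk, hnk, σ ≫ ARSys.tr Y hnk, ?_⟩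
    have : (𝟙 _ - rr k ≫ σ) ≫ ARSys.tr Y hnk = 0 := hc'
    rw [Preadditive.sub_comp, Category.id_comp, sub_eq_zero] at this
    rw [← Category.assoc]
    exact this.symm
  choose kk hkM hkn β hβ using step4
  -- uniqueness
  have uniq : ∀ (n K : ℕ) (hK : M ≤ K) (hnK : n ≤ K) (x : B ⟶ Y.obj (op n)),
      rr K ≫ x = ARSys.tr Y hnK → x = β n := by
    intro n K hK hnK x hx
    obtain ⟨K', hK'1, hK'2⟩ : ∃ K', K ≤ K' ∧ kk n ≤ K' := ⟨max K (kk n), le_max_left _ _, le_max_right _ _⟩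
    have := hepi K' (hK.trans hK'1)
    rw [← cancel_epi (rr K')]
    have e1 : rr K' ≫ x = ARSys.tr Y (hnK.trans hK'1) := by
      rw [← R3 K K' hK'1 hK, Category.assoc, hx, tr_comp]
    have e2 : rr K' ≫ β n = ARSys.tr Y (hnK.trans hK'1) := by
      rw [← R3 (kk n) K' hK'2 (hkM n), Category.assoc, hβ, tr_comp]
    rw [e1, e2]
  refine ⟨B, { app := fun j => β j.unop, naturality := ?_ }, M, r, ?_, ?_⟩
  · intro j j' φ
    dsimp
    rw [Category.id_comp]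
    have hle : j'.unop ≤ j.unop := leOfHom φ.unop
    have hφ : Y.map φ = ARSys.tr Y hle := by
      congr 1
    rw [hφ]
    symm
    apply uniq j'.unop (kk j.unop) (hkM _) (hle.trans (hkn _))
    rw [← Category.assoc, hβ, tr_comp]
  · dsimp
    have := hepi (kk M) (hkM M)
    rw [← cancel_epi (rr (kk M)), ← Category.assoc, hβ, Category.comp_id, rr_eq _ (hkM M)]
  · intro j
    refine ⟨kk j, hkM j, hkn j, ?_⟩
    dsimp
    rw [← hβ j, rr_eq _ (hkM j), Category.assoc]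

end Groth.Agent.Lib.Helper32.EssConstTri
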