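import Mathlib
import Groth.Prelude.Def_DerCA
import Groth.Agent.Lib.Helper32.EssConstTri

/-!
# Essential constancy in the derived category from essential constancy of cohomology

`essConst_of_iso` (transport along an iso of systems), `essConst_of_isZero`, `essConst_of_functor`
(lift essential constancy along a functor fully faithful on a class of objects), `bijective_of_iso`,
`homology_bijective` (`H^b` is fully faithful on objects concentrated in degree `b`),
`isIso_homology_truncLTι`, `isIso_homology_truncGEπ`, `isZero_homology_truncGE`, `main` (S6589).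
-/

set_option autoImplicit false
set_option linter.unusedSectionVars false
universe w v u
open CategoryTheory CategoryTheory.Limits Opposite CategoryTheory.Pretriangulated
open Groth.Agent.Lib.Helper32.EssConst

namespace Groth.Agent.Lib.Helper32.EssConstDer

section General
variable {C : Type*} [Category C]

lemma tr_iso {X X' : ARSys.PS C} (e : X ≅ X') {a b : ℕ} (hab : a ≤ b) :
    ARSys.tr X' hab = e.inv.app (op b) ≫ ARSys.tr X hab ≫ e.hom.app (op a) := by
  have := e.hom.naturality (homOfLE hab).op
  dsimp only [ARSys.tr]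
  rw [this, Iso.inv_hom_id_app_assoc]

/-- transport along an isomorphism of systems -/
lemma essConst_of_iso {X X' : ARSys.PS C} (e : X ≅ X') (A : C) (c : (Functor.const ℕᵒᵖ).obj A ⟶ X)
    (h : DerCA.IsEssConstant X A c) : DerCA.IsEssConstant X' A (c ≫ e.hom) := by
  obtain ⟨i, s, hcs, hj⟩ := h
  refine ⟨i, e.inv.app (op i) ≫ s, ?_, ?_⟩
  · simp [hcs]
  · intro j
    obtain ⟨k, hi, hj', hk⟩ := hj j
    refine ⟨k, hi, hj', ?_⟩
    rw [tr_iso e hj', hk, tr_iso e hi]
    simp

lemma essConst_of_isZero [HasZeroMorphisms C] (X : ARSys.PS C) (hX : ∀ n, IsZero (X.obj (op n)))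
    (Z : C) (hZ : IsZero Z) :
    ∃ c : (Functor.const ℕᵒᵖ).obj Z ⟶ X, DerCA.IsEssConstant X Z c := by
  refine ⟨{ app := fun _ => 0, naturality := fun _ _ _ => by simp }, 0, 0, hZ.eq_of_src _ _, ?_⟩
  intro j
  exact ⟨j, Nat.zero_le j, le_refl j, (hX j).eq_of_tgt _ _⟩

lemma essConst_of_functor {D : Type*} [Category D] (F : D ⥤ C) (P : D → Prop)
    (hF : ∀ K L : D, P K → P L → Function.Bijective (F.map : (K ⟶ L) → (F.obj K ⟶ F.obj L)))
    (X : ARSys.PS D) (hX : ∀ n, P (X.obj (op n))) (L : D) (hL : P L) (B : C) (φ : F.obj L ≅ B)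
    (c : (Functor.const ℕᵒᵖ).obj B ⟶ X ⋙ F) (h : DerCA.IsEssConstant (X ⋙ F) B c) :
    ∃ cL : (Functor.const ℕᵒᵖ).obj L ⟶ X, DerCA.IsEssConstant X L cL := by
  obtain ⟨i, s, hcs, hj⟩ := h
  have hγ : ∀ n : ℕ, ∃ γ : L ⟶ X.obj (op n), F.map γ = φ.hom ≫ c.app (op n) :=
    fun n => (hF L _ hL (hX n)).2 _
  choose γ hγ using hγ
  obtain ⟨s', hs'⟩ : ∃ s' : X.obj (op i) ⟶ L, F.map s' = s ≫ φ.inv := (hF _ L (hX i) hL).2 _
  refine ⟨{ app := fun n => γ n.unop, naturality := ?_ }, i, s', ?_, ?_⟩
  · intro n m f
    apply (hF L _ hL (hX m.unop)).1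
    dsimp
    rw [Category.id_comp, F.map_comp, hγ, hγ]
    have := c.naturality f
    dsimp at this
    rw [Category.id_comp] at this
    rw [this, Category.assoc]
  · apply (hF L L hL hL).1
    dsimp
    rw [F.map_comp, hγ, hs', F.map_id, Category.assoc, reassoc_of% hcs]
    erw [Category.id_comp]
    rw [φ.hom_inv_id]
  · intro j
    obtain ⟨k, hi, hj', hk⟩ := hj j
    refine ⟨k, hi, hj', ?_⟩
    apply (hF _ _ (hX k) (hX j)).1
    have e1 : ∀ {a b : ℕ} (hab : a ≤ b), F.map (ARSys.tr X hab) = ARSys.tr (X ⋙ F) hab :=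
      fun _ => rfl
    dsimp
    rw [F.map_comp, F.map_comp, e1, e1, hk, hs', hγ]
    simp

lemma bijective_of_iso {D E : Type*} [Category D] [Category E] (F : D ⥤ E) {K K' L L' : D}
    (eK : K ≅ K') (eL : L ≅ L')
    (h : Function.Bijective (F.map : (K' ⟶ L') → (F.obj K' ⟶ F.obj L'))) :
    Function.Bijective (F.map : (K ⟶ L) → (F.obj K ⟶ F.obj L)) := by
  constructor
  · intro x y hxy
    have h1 : eK.inv ≫ x ≫ eL.hom = eK.inv ≫ y ≫ eL.hom := by
      apply h.1
      simp only [F.map_comp]
      rw [hxy]
    rw [← cancel_epi eK.inv, ← cancel_mono eL.hom, Category.assoc, Category.assoc]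
    exact h1
  · intro z
    obtain ⟨w, hw⟩ := h.2 (F.map eK.inv ≫ z ≫ F.map eL.hom)
    refine ⟨eK.hom ≫ w ≫ eL.inv, ?_⟩
    rw [F.map_comp, F.map_comp, hw]
    simp only [Category.assoc, ← F.map_comp, Iso.hom_inv_id, F.map_id, Category.comp_id]
    rw [← Category.assoc, ← F.map_comp, Iso.hom_inv_id, F.map_id, Category.id_comp]

end General

section Der
open DerivedCategory
open scoped ZeroObject
variable {A : Type u} [Category.{v} A] [Abelian A] [HasDerivedCategory.{w} A]

lemma single_bijective (b : ℤ) (M N : A) :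
    Function.Bijective ((homologyFunctor A b).map :
      ((singleFunctor A b).obj M ⟶ (singleFunctor A b).obj N) → _) := by
  let e := singleFunctorCompHomologyFunctorIso A b
  constructor
  · intro x y hxy
    obtain ⟨x', rfl⟩ := (singleFunctor A b).map_surjective x
    obtain ⟨y', rfl⟩ := (singleFunctor A b).map_surjective y
    have hx := e.hom.naturality x'
    have hy := e.hom.naturality y'
    dsimp at hx hy
    congr 1
    rw [← cancel_epi (e.hom.app M), ← hx, ← hy, hxy]
  · intro z
    refine ⟨(singleFunctor A b).map (e.inv.app M ≫ z ≫ e.hom.app N), ?_⟩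
    have := e.hom.naturality (e.inv.app M ≫ z ≫ e.hom.app N)
    dsimp at this
    rw [← cancel_mono (e.hom.app N), this]
    simp

lemma homology_bijective (b : ℤ) (K L : DerivedCategory A) [K.IsGE b] [K.IsLE b] [L.IsGE b]
    [L.IsLE b] :
    Function.Bijective ((homologyFunctor A b).map : (K ⟶ L) → _) := by
  obtain ⟨M, ⟨eK⟩⟩ := exists_iso_singleFunctor_obj_of_isGE_of_isLE K b
  obtain ⟨N, ⟨eL⟩⟩ := exists_iso_singleFunctor_obj_of_isGE_of_isLE L b
  exact bijective_of_iso _ eK eL (single_bijective b M N)

lemma isIso_homology_truncLTι (K : DerivedCategory A) (b i : ℤ) (hi : i < b) :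
    IsIso ((homologyFunctor A i).map ((TStructure.t.truncLTι b).app K)) := by
  have hT := TStructure.t.triangleLTGE_distinguished b K
  have hm : Mono ((homologyFunctor A i).map ((TStructure.t.truncLTι b).app K)) := by
    refine (HomologySequence.mono_homologyMap_mor₁_iff _ hT (i - 1) i (by omega)).2 ?_
    exact (isZero_of_isGE ((TStructure.t.truncGE b).obj K) b (i - 1) (by omega)).eq_of_src _ _
  have he : Epi ((homologyFunctor A i).map ((TStructure.t.truncLTι b).app K)) := by
    refine (HomologySequence.epi_homologyMap_mor₁_iff _ hT i).2 ?_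
    exact (isZero_of_isGE ((TStructure.t.truncGE b).obj K) b i hi).eq_of_tgt _ _
  exact isIso_of_mono_of_epi _

lemma isIso_homology_truncGEπ (K : DerivedCategory A) (b : ℤ) :
    IsIso ((homologyFunctor A b).map ((TStructure.t.truncGEπ b).app K)) := by
  have hT := TStructure.t.triangleLTGE_distinguished b K
  have hm : Mono ((homologyFunctor A b).map ((TStructure.t.truncGEπ b).app K)) := by
    refine (HomologySequence.mono_homologyMap_mor₂_iff _ hT b).2 ?_
    exact (isZero_of_isLE ((TStructure.t.truncLT b).obj K) (b - 1) b (by omega)).eq_of_src _ _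
  have he : Epi ((homologyFunctor A b).map ((TStructure.t.truncGEπ b).app K)) := by
    refine (HomologySequence.epi_homologyMap_mor₂_iff _ hT b (b + 1) rfl).2 ?_
    exact (isZero_of_isLE ((TStructure.t.truncLT b).obj K) (b - 1) (b + 1) (by omega)).eq_of_tgt _ _
  exact isIso_of_mono_of_epi _

lemma isZero_homology_truncGE (K : DerivedCategory A) (b i : ℤ) (hi : b < i)
    (hK : IsZero ((homologyFunctor A i).obj K)) :
    IsZero ((homologyFunctor A i).obj ((TStructure.t.truncGE b).obj K)) := by
  have hT := TStructure.t.triangleLTGE_distinguished b K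
  exact (HomologySequence.exact₃ _ hT i (i + 1) rfl).isZero_of_both_isZero hK
    (isZero_of_isLE ((TStructure.t.truncLT b).obj K) (b - 1) (i + 1) (by omega))

theorem main_aux (d : ℕ) : ∀ (a b : ℤ) (X : ARSys.PS (DerivedCategory A)), b < a + d →
    (∀ (n : ℕ) (i : ℤ), i < a ∨ b < i → IsZero ((homologyFunctor A i).obj (X.obj (op n)))) →
    (∀ i : ℤ, ∃ (B : A) (c : (Functor.const ℕᵒᵖ).obj B ⟶ X ⋙ homologyFunctor A i),
      DerCA.IsEssConstant (X ⋙ homologyFunctor A i) B c) →
    ∃ (L : DerivedCategory A) (c : (Functor.const ℕᵒᵖ).obj L ⟶ X), DerCA.IsEssConstant X L c := by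
  induction d with
  | zero =>
    intro a b X hab hX hH
    have hz : ∀ n, IsZero (X.obj (op n)) := by
      intro n
      have h1 : (X.obj (op n)).IsGE a := (isGE_iff _ _).2 (fun i hi => hX n i (Or.inl hi))
      have h2 : (X.obj (op n)).IsLE b := (isLE_iff _ _).2 (fun i hi => hX n i (Or.inr hi))
      exact TStructure.t.isZero _ b a (by simpa using hab)
    obtain ⟨c, hc⟩ := essConst_of_isZero X hz 0 (isZero_zero _)
    exact ⟨0, c, hc⟩
  | succ d ih =>
    intro a b X hab hX hH
    let X' : ARSys.PS (DerivedCategory A) := X ⋙ TStructure.t.truncLT b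
    let X'' : ARSys.PS (DerivedCategory A) := X ⋙ TStructure.t.truncGE b
    let f : X' ⟶ X :=
      { app := fun n => (TStructure.t.truncLTι b).app (X.obj n)
        naturality := fun n m φ => (TStructure.t.truncLTι b).naturality (X.map φ) }
    let g : X ⟶ X'' :=
      { app := fun n => (TStructure.t.truncGEπ b).app (X.obj n)
        naturality := fun n m φ => (TStructure.t.truncGEπ b).naturality (X.map φ) }
    let h : X'' ⟶ X' ⋙ shiftFunctor (DerivedCategory A) (1 : ℤ) :=
      { app := fun n => (TStructure.t.truncGEδLT b).app (X.obj n)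
        naturality := fun n m φ => (TStructure.t.truncGEδLT b).naturality (X.map φ) }
    have hT : ∀ n : ℕ, Triangle.mk (f.app (op n)) (g.app (op n)) (h.app (op n)) ∈
        distTriang (DerivedCategory A) :=
      fun n => TStructure.t.triangleLTGE_distinguished b (X.obj (op n))
    -- X' is essentially constant
    have hX' : ∃ (L : DerivedCategory A) (c : (Functor.const ℕᵒᵖ).obj L ⟶ X'),
        DerCA.IsEssConstant X' L c := by
      apply ih a (b - 1) X' (by omega)
      · intro n i hi
        by_cases hib : i < b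
        · have := isIso_homology_truncLTι (X.obj (op n)) b i hib
          have hz : IsZero ((homologyFunctor A i).obj (X.obj (op n))) :=
            hX n i (by omega)
          exact hz.of_iso (asIso ((homologyFunctor A i).map
            ((TStructure.t.truncLTι b).app (X.obj (op n)))))
        · exact isZero_of_isLE ((TStructure.t.truncLT b).obj (X.obj (op n))) (b - 1) i (by omega)
      · intro i
        by_cases hib : i < b
        · obtain ⟨B, c, hc⟩ := hH i
          have : ∀ n, IsIso ((Functor.whiskerRight f (homologyFunctor A i)).app n) :=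
            fun n => isIso_homology_truncLTι (X.obj n) b i hib
          have : IsIso (Functor.whiskerRight f (homologyFunctor A i)) :=
            NatIso.isIso_of_isIso_app _
          exact ⟨B, _, essConst_of_iso (asIso (Functor.whiskerRight f (homologyFunctor A i))).symm
            B c hc⟩
        · obtain ⟨c, hc⟩ := essConst_of_isZero (X' ⋙ homologyFunctor A i)
            (fun n => isZero_of_isLE ((TStructure.t.truncLT b).obj (X.obj (op n))) (b - 1) i
              (by omega)) 0 (isZero_zero _)
          exact ⟨0, c, hc⟩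
    -- X'' is essentially constant
    have hX'' : ∃ (L : DerivedCategory A) (c : (Functor.const ℕᵒᵖ).obj L ⟶ X''),
        DerCA.IsEssConstant X'' L c := by
      obtain ⟨B, c, hc⟩ := hH b
      have : ∀ n, IsIso ((Functor.whiskerRight g (homologyFunctor A b)).app n) :=
        fun n => isIso_homology_truncGEπ (X.obj n) b
      have : IsIso (Functor.whiskerRight g (homologyFunctor A b)) :=
        NatIso.isIso_of_isIso_app _
      have hc' := essConst_of_iso (asIso (Functor.whiskerRight g (homologyFunctor A b))) B c hc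
      obtain ⟨cL, hcL⟩ := essConst_of_functor (homologyFunctor A b)
        (fun K => K.IsGE b ∧ K.IsLE b)
        (fun K L hK hL => by
          obtain ⟨_, _⟩ := hK
          obtain ⟨_, _⟩ := hL
          exact homology_bijective b K L)
        X'' (fun n => ⟨inferInstanceAs (((TStructure.t.truncGE b).obj (X.obj (op n))).IsGE b),
          (isLE_iff _ _).2 (fun i hi => isZero_homology_truncGE _ b i hi (hX n i (Or.inr hi)))⟩)
        ((singleFunctor A b).obj B) ⟨inferInstance, inferInstance⟩ B
        ((singleFunctorCompHomologyFunctorIso A b).app B) _ hc'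
      exact ⟨_, cL, hcL⟩
    obtain ⟨L', c', hc'⟩ := hX'
    obtain ⟨L'', c'', hc''⟩ := hX''
    exact Groth.Agent.Lib.Helper32.EssConstTri.main X' X X'' f g h hT L' c' hc' L'' c'' hc''

theorem main (X : ARSys.PS (DerivedCategory A)) (a b : ℤ)
    (hX : ∀ (n : ℕ) (i : ℤ), i < a ∨ b < i → IsZero ((homologyFunctor A i).obj (X.obj (op n))))
    (hH : ∀ i : ℤ, ∃ (B : A) (c : (Functor.const ℕᵒᵖ).obj B ⟶ X ⋙ homologyFunctor A i),
      DerCA.IsEssConstant (X ⋙ homologyFunctor A i) B c) :
    ∃ (L : DerivedCategory A) (c : (Functor.const ℕᵒᵖ).obj L ⟶ X), DerCA.IsEssConstant X L c := by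
  obtain ⟨d, hd⟩ : ∃ d : ℕ, b < a + d := ⟨(b - a + 1).toNat, by omega⟩
  exact main_aux d a b X hd hX hH

end Der

end Groth.Agent.Lib.Helper32.EssConstDer
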