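import Mathlib
import Groth.Agent.Lib.Helper32.EssConstDer
/-
Helper32 library: devissage for a triangulated functor `Φ`.

* `Bij Φ K L` : `Φ` bijective on `Hom(K, L)`; `Bij.of_iso`, `Bij.shift`, `Bij.unshift`,
  `bij_of_isZero_left/right`
* `five_cov`, `five_contra` : five lemmas along a distinguished triangle
* `SCov Φ K`, `SContra Φ Q` : triangulated subcategories of objects on which `Φ` is
  bijective on Hom's (all shifts)
-/
set_option autoImplicit false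
set_option linter.unusedSectionVars false
universe w v u
open CategoryTheory CategoryTheory.Limits CategoryTheory.Pretriangulated
open scoped ZeroObject

namespace Groth.Agent.Lib.Helper32.Devissage

section Tri
variable {C D : Type*} [Category C] [Category D] [Preadditive C] [Preadditive D]
  [HasZeroObject C] [HasZeroObject D] [HasShift C ℤ] [HasShift D ℤ]
  [∀ n : ℤ, (shiftFunctor C n).Additive] [∀ n : ℤ, (shiftFunctor D n).Additive]
  [Pretriangulated C] [Pretriangulated D]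
  (Φ : C ⥤ D) [Φ.CommShift ℤ] [Φ.IsTriangulated] [Φ.Additive]

/-- `Φ` induces a bijection `Hom(K, L) → Hom(ΦK, ΦL)` -/
def Bij (K L : C) : Prop := Function.Bijective (Φ.map : (K ⟶ L) → (Φ.obj K ⟶ Φ.obj L))

variable {Φ}

lemma Bij.of_iso {K K' L L' : C} (eK : K ≅ K') (eL : L ≅ L') (h : Bij Φ K L) : Bij Φ K' L' :=
  EssConstDer.bijective_of_iso Φ eK.symm eL.symm h

lemma bij_of_isZero_right (K : C) {L : C} (hL : IsZero L) : Bij Φ K L := by
  have hL' : IsZero (Φ.obj L) := Φ.map_isZero hL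
  constructor
  · intro x y _
    exact hL.eq_of_tgt _ _
  · intro z
    exact ⟨0, hL'.eq_of_tgt _ _⟩

lemma bij_of_isZero_left {K : C} (hK : IsZero K) (L : C) : Bij Φ K L := by
  have hK' : IsZero (Φ.obj K) := Φ.map_isZero hK
  constructor
  · intro x y _
    exact hK.eq_of_src _ _
  · intro z
    exact ⟨0, hK'.eq_of_src _ _⟩

lemma Bij.shift {K L : C} (h : Bij Φ K L) (n : ℤ) : Bij Φ (K⟦n⟧) (L⟦n⟧) := by
  have key : ∀ φ : K ⟶ L, Φ.map (φ⟦n⟧') =
      (Φ.commShiftIso n).hom.app K ≫ (Φ.map φ)⟦n⟧' ≫ (Φ.commShiftIso n).inv.app L := by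
    intro φ
    have := (Φ.commShiftIso n).hom.naturality φ
    dsimp at this
    rw [← Category.assoc, ← this, Category.assoc, Iso.hom_inv_id_app]
    simp
  constructor
  · intro x y hxy
    obtain ⟨x', rfl⟩ := (shiftFunctor C n).map_surjective x
    obtain ⟨y', rfl⟩ := (shiftFunctor C n).map_surjective y
    rw [key, key] at hxy
    have h1 : (Φ.map x')⟦n⟧' = (Φ.map y')⟦n⟧' := by
      have h2 := congr_arg (fun f => (Φ.commShiftIso n).inv.app K ≫ f ≫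
        (Φ.commShiftIso n).hom.app L) hxy
      simpa using h2
    have h3 : Φ.map x' = Φ.map y' := (shiftFunctor D n).map_injective h1
    rw [h.1 h3]
  · intro z
    obtain ⟨θ, hθ⟩ := (shiftFunctor D n).map_surjective
      ((Φ.commShiftIso n).inv.app K ≫ z ≫ (Φ.commShiftIso n).hom.app L)
    obtain ⟨φ, rfl⟩ := h.2 θ
    refine ⟨φ⟦n⟧', ?_⟩
    rw [key, hθ]
    simp

/-- exactness facts around a distinguished triangle and its image, with explicit types -/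
lemma exact_facts (T : Triangle C) (hT : T ∈ distTriang C) :
    ∃ u' : T.obj₃⟦(-1 : ℤ)⟧ ⟶ T.obj₁, u' ≫ T.mor₁ = 0 ∧
      (∀ {K : C} (b : K ⟶ T.obj₁), b ≫ T.mor₁ = 0 → ∃ c : K ⟶ T.obj₃⟦(-1 : ℤ)⟧, b = c ≫ u') ∧
      (∀ {K : D} (b : K ⟶ Φ.obj T.obj₁), b ≫ Φ.map T.mor₁ = 0 →
        ∃ c : K ⟶ Φ.obj (T.obj₃⟦(-1 : ℤ)⟧), b = c ≫ Φ.map u') ∧
      (∀ {L : C} (d : T.obj₁ ⟶ L), u' ≫ d = 0 → ∃ e : T.obj₂ ⟶ L, d = T.mor₁ ≫ e) := by
  have hT' : T.invRotate ∈ distTriang C := inv_rot_of_distTriang _ hT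
  have hΦT' : Φ.mapTriangle.obj T.invRotate ∈ distTriang D := Φ.map_distinguished _ hT'
  refine ⟨T.invRotate.mor₁, comp_distTriang_mor_zero₁₂ _ hT', ?_, ?_, ?_⟩
  · intro K b hb
    exact Triangle.coyoneda_exact₂ _ hT' b hb
  · intro K b hb
    exact Triangle.coyoneda_exact₂ _ hΦT' b hb
  · intro L d hd
    exact Triangle.yoneda_exact₂ _ hT' d hd

lemma exact_facts' (T : Triangle C) (hT : T ∈ distTriang C) :
    (∀ {K : D} (b : K ⟶ Φ.obj T.obj₂), b ≫ Φ.map T.mor₂ = 0 →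
        ∃ c : K ⟶ Φ.obj T.obj₁, b = c ≫ Φ.map T.mor₁) ∧
    (∀ {L : D} (b : Φ.obj T.obj₂ ⟶ L), Φ.map T.mor₁ ≫ b = 0 →
        ∃ c : Φ.obj T.obj₃ ⟶ L, b = Φ.map T.mor₂ ≫ c) ∧
    (∀ {L : D} (b : Φ.obj T.obj₃ ⟶ L), Φ.map T.mor₂ ≫ b = 0 →
        ∃ c : (Φ.obj T.obj₁)⟦(1 : ℤ)⟧ ⟶ L,
          b = (Φ.map T.mor₃ ≫ (Φ.commShiftIso (1 : ℤ)).hom.app T.obj₁) ≫ c) := by
  have hΦT : Φ.mapTriangle.obj T ∈ distTriang D := Φ.map_distinguished T hT
  refine ⟨?_, ?_, ?_⟩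
  · intro K b hb
    exact Triangle.coyoneda_exact₂ _ hΦT b hb
  · intro L b hb
    exact Triangle.yoneda_exact₂ _ hΦT b hb
  · intro L b hb
    exact Triangle.yoneda_exact₃ _ hΦT b hb

/-- covariant five lemma -/
theorem five_cov (T : Triangle C) (hT : T ∈ distTriang C) (K : C)
    (h₁ : Bij Φ K T.obj₁) (h₃ : Bij Φ K T.obj₃)
    (h₃' : Bij Φ K (T.obj₃⟦(-1 : ℤ)⟧)) (h₁' : Bij Φ K (T.obj₁⟦(1 : ℤ)⟧)) :
    Bij Φ K T.obj₂ := by
  obtain ⟨u', hu', ex1, ex2, -⟩ := exact_facts (Φ := Φ) T hT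
  obtain ⟨ex3, -, -⟩ := exact_facts' (Φ := Φ) T hT
  constructor
  · -- injectivity
    intro x y hxy
    rw [← sub_eq_zero]
    have ha : Φ.map (x - y) = 0 := by rw [Φ.map_sub, hxy, sub_self]
    generalize x - y = a at ha
    have h1 : a ≫ T.mor₂ = 0 := by
      apply h₃.1
      rw [Φ.map_comp, ha, zero_comp, Φ.map_zero]
    obtain ⟨b, rfl⟩ := Triangle.coyoneda_exact₂ T hT a h1
    have h2 : Φ.map b ≫ Φ.map T.mor₁ = 0 := by
      rw [← Φ.map_comp]; exact ha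
    obtain ⟨c', hc'⟩ := ex2 (Φ.map b) h2
    obtain ⟨c, rfl⟩ := h₃'.2 c'
    have h3 : b = c ≫ u' := by
      apply h₁.1
      rw [hc', Φ.map_comp]
    rw [h3, Category.assoc, hu', comp_zero]
  · -- surjectivity
    intro a'
    obtain ⟨d, hd⟩ := h₃.2 (a' ≫ Φ.map T.mor₂)
    have h1 : d ≫ T.mor₃ = 0 := by
      apply h₁'.1
      rw [Φ.map_comp, hd, Category.assoc, ← Φ.map_comp, comp_distTriang_mor_zero₂₃ _ hT,
        Φ.map_zero, Φ.map_zero, comp_zero]
    obtain ⟨e, rfl⟩ := Triangle.coyoneda_exact₃ T hT d h1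
    have h2 : (a' - Φ.map e) ≫ Φ.map T.mor₂ = 0 := by
      rw [Preadditive.sub_comp, ← hd, Φ.map_comp, sub_self]
    obtain ⟨b', hb'⟩ := ex3 _ h2
    obtain ⟨b, rfl⟩ := h₁.2 b'
    refine ⟨e + b ≫ T.mor₁, ?_⟩
    rw [Φ.map_add, Φ.map_comp]
    have : a' = Φ.map e + (a' - Φ.map e) := by abel
    rw [this, hb']

/-- contravariant five lemma -/
theorem five_contra (T : Triangle C) (hT : T ∈ distTriang C) (L : C)
    (h₁ : Bij Φ T.obj₁ L) (h₃ : Bij Φ T.obj₃ L)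
    (h₃' : Bij Φ (T.obj₃⟦(-1 : ℤ)⟧) L) (h₁' : Bij Φ (T.obj₁⟦(1 : ℤ)⟧) L) :
    Bij Φ T.obj₂ L := by
  obtain ⟨u', hu', -, -, ex4⟩ := exact_facts (Φ := Φ) T hT
  obtain ⟨-, ex5, ex6⟩ := exact_facts' (Φ := Φ) T hT
  constructor
  · -- injectivity
    intro x y hxy
    rw [← sub_eq_zero]
    have ha : Φ.map (x - y) = 0 := by rw [Φ.map_sub, hxy, sub_self]
    generalize x - y = a at ha
    have h1 : T.mor₁ ≫ a = 0 := by
      apply h₁.1
      rw [Φ.map_comp, ha, comp_zero, Φ.map_zero]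
    obtain ⟨b, rfl⟩ := Triangle.yoneda_exact₂ T hT a h1
    have h2 : Φ.map T.mor₂ ≫ Φ.map b = 0 := by
      rw [← Φ.map_comp]; exact ha
    obtain ⟨g, hg⟩ := ex6 (Φ.map b) h2
    obtain ⟨d, hd⟩ := h₁'.2 ((Φ.commShiftIso (1 : ℤ)).hom.app T.obj₁ ≫ g)
    have h3 : b = T.mor₃ ≫ d := by
      apply h₃.1
      rw [hg, Φ.map_comp, hd, Category.assoc]
    rw [h3, ← Category.assoc, comp_distTriang_mor_zero₂₃ _ hT, zero_comp]
  · -- surjectivity
    intro a'
    obtain ⟨d, hd⟩ := h₁.2 (Φ.map T.mor₁ ≫ a')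
    have h1 : u' ≫ d = 0 := by
      apply h₃'.1
      rw [Φ.map_comp, hd, ← Category.assoc, ← Φ.map_comp, hu', Φ.map_zero, Φ.map_zero, zero_comp]
    obtain ⟨e, he⟩ := ex4 d h1
    have h2 : Φ.map T.mor₁ ≫ (a' - Φ.map e) = 0 := by
      rw [Preadditive.comp_sub, ← hd, he, Φ.map_comp, sub_self]
    obtain ⟨b', hb'⟩ := ex5 _ h2
    obtain ⟨b, rfl⟩ := h₃.2 b'
    refine ⟨e + T.mor₂ ≫ b, ?_⟩
    rw [Φ.map_add, Φ.map_comp]
    have : a' = Φ.map e + (a' - Φ.map e) := by abel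
    rw [this, hb']

variable (Φ)

/-- objects `L` such that `Φ` is bijective on `Hom(K, L[n])` for all `n` -/
def SCov (K : C) : ObjectProperty C := fun L => ∀ n : ℤ, Bij Φ K (L⟦n⟧)

/-- objects `K` such that `Φ` is bijective on `Hom(K[n], L)` for all `n` and all `L` in `Q` -/
def SContra (Q : ObjectProperty C) : ObjectProperty C :=
  fun K => ∀ (n : ℤ) (L : C), Q L → Bij Φ (K⟦n⟧) L

instance (K : C) : (SCov Φ K).IsClosedUnderIsomorphisms where
  of_iso e h n := (h n).of_iso (Iso.refl _) ((shiftFunctor C n).mapIso e)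

instance (Q : ObjectProperty C) : (SContra Φ Q).IsClosedUnderIsomorphisms where
  of_iso e h n L hL := (h n L hL).of_iso ((shiftFunctor C n).mapIso e) (Iso.refl _)

instance (K : C) : (SCov Φ K).IsTriangulated where
  exists_zero := ⟨0, isZero_zero _, fun n =>
    bij_of_isZero_right K ((shiftFunctor C n).map_isZero (isZero_zero _))⟩
  isStableUnderShiftBy m := ⟨fun L h n =>
    (h (m + n)).of_iso (Iso.refl _) ((shiftFunctorAdd' C m n (m + n) rfl).app L)⟩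
  ext₂' T hT h₁ h₃ := by
    refine ObjectProperty.le_isoClosure _ _ (fun n => ?_)
    have hTn := Triangle.shift_distinguished T hT n
    exact five_cov _ hTn K (h₁ n) (h₃ n)
      ((h₃ (n + (-1))).of_iso (Iso.refl _) ((shiftFunctorAdd' C n (-1) (n + (-1)) rfl).app _))
      ((h₁ (n + 1)).of_iso (Iso.refl _) ((shiftFunctorAdd' C n 1 (n + 1) rfl).app _))

instance (Q : ObjectProperty C) : (SContra Φ Q).IsTriangulated where
  exists_zero := ⟨0, isZero_zero _, fun n L _ =>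
    bij_of_isZero_left ((shiftFunctor C n).map_isZero (isZero_zero _)) L⟩
  isStableUnderShiftBy m := ⟨fun K h n L hL =>
    (h (m + n) L hL).of_iso ((shiftFunctorAdd' C m n (m + n) rfl).app K) (Iso.refl _)⟩
  ext₂' T hT h₁ h₃ := by
    refine ObjectProperty.le_isoClosure _ _ (fun n L hL => ?_)
    have hTn := Triangle.shift_distinguished T hT n
    exact five_contra _ hTn L (h₁ n L hL) (h₃ n L hL)
      ((h₃ (n + (-1)) L hL).of_iso ((shiftFunctorAdd' C n (-1) (n + (-1)) rfl).app _) (Iso.refl _))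
      ((h₁ (n + 1) L hL).of_iso ((shiftFunctorAdd' C n 1 (n + 1) rfl).app _) (Iso.refl _))

variable {Φ}

/-- moving a shift from the source to the target -/
lemma Bij.unshift {K L : C} (n : ℤ) (h : Bij Φ K (L⟦-n⟧)) : Bij Φ (K⟦n⟧) L :=
  (h.shift n).of_iso (Iso.refl _) ((shiftEquiv C n).counitIso.app L)

end Tri

end Groth.Agent.Lib.Helper32.Devissage
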