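import Mathlib
import Groth.Prelude.Def_DerCA
import Groth.Agent.Lib.Helper32.EssConstDer

/-!
# Pro-isomorphisms of ℕ-indexed systems: five lemma in triangulated categories, derived categories

`proIso_of_isZero`, `proIso_of_iso_conj(')`, `proIso_of_functor`, `proIso_whiskerRight`,
`SurjY`/`InjY` (Yoneda form of pro-iso) with `proIso_of_surjY_injY`, `exists_extension_of_mor₃_comp`,
`proIso_of_triangles` (five lemma for pro-isos in systems of distinguished triangles),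
`sysι/sysπ/sysδ/sys_dist` (truncation triangle of a system in `D(A)`), `main` (S6588).
-/

set_option autoImplicit false
set_option linter.unusedSectionVars false
universe w v u
open CategoryTheory CategoryTheory.Limits Opposite CategoryTheory.Pretriangulated
open Groth.Agent.Lib.Helper32.EssConst Groth.Agent.Lib.Helper32.EssConstDer

namespace Groth.Agent.Lib.Helper32.ProIsoDer

section General
variable {C : Type*} [Category C]

lemma tr_nat {X Y : ARSys.PS C} (f : X ⟶ Y) {a b : ℕ} (h : a ≤ b) :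
    ARSys.tr X h ≫ f.app (op a) = f.app (op b) ≫ ARSys.tr Y h := f.naturality (homOfLE h).op

lemma proIso_of_isZero [HasZeroMorphisms C] {X Y : ARSys.PS C} (f : X ⟶ Y)
    (hX : ∀ n, IsZero (X.obj (op n))) (hY : ∀ n, IsZero (Y.obj (op n))) : DerCA.IsProIso f :=
  fun n => ⟨n, le_refl n, 0, (hX n).eq_of_tgt _ _, (hY n).eq_of_tgt _ _⟩

lemma proIso_of_iso_conj {X Y X₁ Y₁ : ARSys.PS C} (f : X ⟶ Y) (f₁ : X₁ ⟶ Y₁) (eX : X ≅ X₁)
    (eY : Y ≅ Y₁) (comm : eX.hom ≫ f₁ = f ≫ eY.hom) (h : DerCA.IsProIso f) :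
    DerCA.IsProIso f₁ := by
  have c1 : ∀ m, f₁.app m = eX.inv.app m ≫ f.app m ≫ eY.hom.app m := by
    intro m
    have := congr_app comm m
    simp only [NatTrans.comp_app] at this
    rw [← this, Iso.inv_hom_id_app_assoc]
  intro n
  obtain ⟨m, hnm, b, h1, h2⟩ := h n
  refine ⟨m, hnm, eY.inv.app (op m) ≫ b ≫ eX.hom.app (op n), ?_, ?_⟩
  · rw [c1, tr_iso eX hnm]
    simp only [Category.assoc, Iso.hom_inv_id_app_assoc]
    rw [reassoc_of% h1]
  · rw [c1, tr_iso eY hnm]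
    simp only [Category.assoc, Iso.hom_inv_id_app_assoc]
    rw [reassoc_of% h2]

lemma proIso_of_functor {D : Type*} [Category D] (F : D ⥤ C) (P : D → Prop)
    (hF : ∀ K L : D, P K → P L → Function.Bijective (F.map : (K ⟶ L) → (F.obj K ⟶ F.obj L)))
    {X Y : ARSys.PS D} (f : X ⟶ Y) (hX : ∀ n, P (X.obj (op n))) (hY : ∀ n, P (Y.obj (op n)))
    (h : DerCA.IsProIso (Functor.whiskerRight f F)) : DerCA.IsProIso f := by
  intro n
  obtain ⟨m, hnm, b, h1, h2⟩ := h n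
  obtain ⟨b', rfl⟩ := (hF _ _ (hY m) (hX n)).2 b
  refine ⟨m, hnm, b', ?_, ?_⟩
  · apply (hF _ _ (hX m) (hX n)).1
    rw [F.map_comp]
    exact h1
  · apply (hF _ _ (hY m) (hY n)).1
    rw [F.map_comp]
    exact h2

lemma proIso_whiskerRight {D : Type*} [Category D] (F : C ⥤ D) {X Y : ARSys.PS C} (f : X ⟶ Y)
    (h : DerCA.IsProIso f) : DerCA.IsProIso (Functor.whiskerRight f F) := by
  intro n
  obtain ⟨m, hnm, b, h1, h2⟩ := h n
  refine ⟨m, hnm, F.map b, ?_, ?_⟩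
  · show F.map _ ≫ F.map b = F.map _
    rw [← F.map_comp, h1]
  · show F.map b ≫ F.map _ = F.map _
    rw [← F.map_comp, h2]

section Preadd
variable [Preadditive C]

/-- surjectivity of `colim Hom(Y_n, T) ⟶ colim Hom(X_n, T)` -/
def SurjY {X Y : ARSys.PS C} (f : X ⟶ Y) : Prop :=
  ∀ (n : ℕ) (T : C) (u : X.obj (op n) ⟶ T), ∃ (m : ℕ) (h : n ≤ m) (v : Y.obj (op m) ⟶ T),
    f.app (op m) ≫ v = ARSys.tr X h ≫ u

/-- injectivity of `colim Hom(Y_n, T) ⟶ colim Hom(X_n, T)` -/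
def InjY {X Y : ARSys.PS C} (f : X ⟶ Y) : Prop :=
  ∀ (n : ℕ) (T : C) (v : Y.obj (op n) ⟶ T), f.app (op n) ≫ v = 0 →
    ∃ (m : ℕ) (h : n ≤ m), ARSys.tr Y h ≫ v = 0

lemma surjY_of_proIso {X Y : ARSys.PS C} (f : X ⟶ Y) (h : DerCA.IsProIso f) : SurjY f := by
  intro n T u
  obtain ⟨m, hnm, b, h1, -⟩ := h n
  exact ⟨m, hnm, b ≫ u, by rw [reassoc_of% h1]⟩

lemma injY_of_proIso {X Y : ARSys.PS C} (f : X ⟶ Y) (h : DerCA.IsProIso f) : InjY f := by
  intro n T v hv
  obtain ⟨m, hnm, b, -, h2⟩ := h n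
  exact ⟨m, hnm, by rw [← h2, Category.assoc, hv, comp_zero]⟩

lemma proIso_of_surjY_injY {X Y : ARSys.PS C} (f : X ⟶ Y) (hs : SurjY f) (hi : InjY f) :
    DerCA.IsProIso f := by
  intro n
  obtain ⟨m, hnm, b, hb⟩ := hs n _ (𝟙 _)
  rw [Category.comp_id] at hb
  have h0 : f.app (op m) ≫ (b ≫ f.app (op n) - ARSys.tr Y hnm) = 0 := by
    rw [Preadditive.comp_sub, reassoc_of% hb, tr_nat f hnm, sub_self]
  obtain ⟨m', hmm', hz⟩ := hi m _ _ h0
  rw [Preadditive.comp_sub, sub_eq_zero, tr_comp] at hz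
  refine ⟨m', hnm.trans hmm', ARSys.tr Y hmm' ≫ b, ?_, ?_⟩
  · rw [← reassoc_of% (tr_nat f hmm'), hb, tr_comp]
  · rw [Category.assoc, hz]

end Preadd
end General

section Tri
variable {D : Type u} [Category.{v} D] [Preadditive D] [HasZeroObject D] [HasShift D ℤ]
    [∀ n : ℤ, (shiftFunctor D n).Additive] [Pretriangulated D]

lemma exists_extension_of_mor₃_comp (T : Triangle D) (hT : T ∈ distTriang D) {W : D}
    (f : T.obj₁ ⟶ W) (hf : T.mor₃ ≫ f⟦(1 : ℤ)⟧' = 0) : ∃ g : T.obj₂ ⟶ W, f = T.mor₁ ≫ g := by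
  obtain ⟨g', hg'⟩ : ∃ g' : (T.obj₂)⟦(1 : ℤ)⟧ ⟶ W⟦(1 : ℤ)⟧,
      f⟦(1 : ℤ)⟧' = (-(T.mor₁⟦(1 : ℤ)⟧')) ≫ g' :=
    Triangle.yoneda_exact₂ _ (rot_of_distTriang _ (rot_of_distTriang _ hT)) (f⟦(1 : ℤ)⟧') hf
  obtain ⟨g, rfl⟩ : ∃ g : T.obj₂ ⟶ W, g⟦(1 : ℤ)⟧' = g' :=
    (shiftFunctor D (1 : ℤ)).map_surjective g'
  refine ⟨-g, (shiftFunctor D (1 : ℤ)).map_injective ?_⟩
  rw [hg']
  rw [CategoryTheory.Functor.map_comp, CategoryTheory.Functor.map_neg, Preadditive.neg_comp,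
    Preadditive.comp_neg]

theorem proIso_of_triangles (X' X X'' Y' Y Y'' : ARSys.PS D)
    (i : X' ⟶ X) (p : X ⟶ X'') (δ : X'' ⟶ X' ⋙ shiftFunctor D (1 : ℤ))
    (i' : Y' ⟶ Y) (p' : Y ⟶ Y'') (δ' : Y'' ⟶ Y' ⋙ shiftFunctor D (1 : ℤ))
    (hTX : ∀ n : ℕ, Triangle.mk (i.app (op n)) (p.app (op n)) (δ.app (op n)) ∈ distTriang D)
    (hTY : ∀ n : ℕ, Triangle.mk (i'.app (op n)) (p'.app (op n)) (δ'.app (op n)) ∈ distTriang D)
    (φ' : X' ⟶ Y') (φ : X ⟶ Y) (φ'' : X'' ⟶ Y'')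
    (c1 : ∀ n : ℕ, i.app (op n) ≫ φ.app (op n) = φ'.app (op n) ≫ i'.app (op n))
    (c2 : ∀ n : ℕ, p.app (op n) ≫ φ''.app (op n) = φ.app (op n) ≫ p'.app (op n))
    (c3 : ∀ n : ℕ, δ.app (op n) ≫ (φ'.app (op n))⟦(1 : ℤ)⟧' = φ''.app (op n) ≫ δ'.app (op n))
    (h' : DerCA.IsProIso φ') (h'' : DerCA.IsProIso φ'') : DerCA.IsProIso φ := by
  have S' := surjY_of_proIso φ' h'
  have I' := injY_of_proIso φ' h'
  have S'' := surjY_of_proIso φ'' h''
  have I'' := injY_of_proIso φ'' h''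
  have S's := surjY_of_proIso _ (proIso_whiskerRight (shiftFunctor D (1 : ℤ)) φ' h')
  have ni : ∀ {n m : ℕ} (h : n ≤ m), ARSys.tr X' h ≫ i.app (op n) = i.app (op m) ≫ ARSys.tr X h :=
    fun h => tr_nat i h
  have ni' : ∀ {n m : ℕ} (h : n ≤ m),
      ARSys.tr Y' h ≫ i'.app (op n) = i'.app (op m) ≫ ARSys.tr Y h := fun h => tr_nat i' h
  have np : ∀ {n m : ℕ} (h : n ≤ m), ARSys.tr X h ≫ p.app (op n) = p.app (op m) ≫ ARSys.tr X'' h :=
    fun h => tr_nat p h
  have np' : ∀ {n m : ℕ} (h : n ≤ m),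
      ARSys.tr Y h ≫ p'.app (op n) = p'.app (op m) ≫ ARSys.tr Y'' h := fun h => tr_nat p' h
  have nδ : ∀ {n m : ℕ} (h : n ≤ m),
      ARSys.tr X'' h ≫ δ.app (op n) = δ.app (op m) ≫ (ARSys.tr X' h)⟦(1 : ℤ)⟧' :=
    fun h => tr_nat δ h
  have nδ' : ∀ {n m : ℕ} (h : n ≤ m),
      ARSys.tr Y'' h ≫ δ'.app (op n) = δ'.app (op m) ≫ (ARSys.tr Y' h)⟦(1 : ℤ)⟧' :=
    fun h => tr_nat δ' h
  have nφ : ∀ {n m : ℕ} (h : n ≤ m), ARSys.tr X h ≫ φ.app (op n) = φ.app (op m) ≫ ARSys.tr Y h :=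
    fun h => tr_nat φ h
  have nφ' : ∀ {n m : ℕ} (h : n ≤ m),
      ARSys.tr X' h ≫ φ'.app (op n) = φ'.app (op m) ≫ ARSys.tr Y' h := fun h => tr_nat φ' h
  have nφ'' : ∀ {n m : ℕ} (h : n ≤ m),
      ARSys.tr X'' h ≫ φ''.app (op n) = φ''.app (op m) ≫ ARSys.tr Y'' h := fun h => tr_nat φ'' h
  have zX1 : ∀ n : ℕ, i.app (op n) ≫ p.app (op n) = 0 :=
    fun n => comp_distTriang_mor_zero₁₂ _ (hTX n)
  have zX3 : ∀ n : ℕ, δ.app (op n) ≫ (i.app (op n))⟦(1 : ℤ)⟧' = 0 :=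
    fun n => comp_distTriang_mor_zero₃₁ _ (hTX n)
  have zY2 : ∀ n : ℕ, p'.app (op n) ≫ δ'.app (op n) = 0 :=
    fun n => comp_distTriang_mor_zero₂₃ _ (hTY n)
  apply proIso_of_surjY_injY
  · -- surjectivity
    intro n T u
    obtain ⟨m₁, h₁, v', hv'⟩ := S' n T (i.app (op n) ≫ u)
    -- kill the obstruction
    have hob : φ''.app (op m₁) ≫ (δ'.app (op m₁) ≫ v'⟦(1 : ℤ)⟧') = 0 := by
      rw [← reassoc_of% (c3 m₁), ← Functor.map_comp, hv', ← Category.assoc, ni h₁,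
        Category.assoc, Functor.map_comp, reassoc_of% (zX3 m₁), zero_comp]
    obtain ⟨m₂, h₂, hz⟩ := I'' m₁ _ _ hob
    have hz' : δ'.app (op m₂) ≫ (ARSys.tr Y' h₂ ≫ v')⟦(1 : ℤ)⟧' = 0 := by
      rw [Functor.map_comp, ← reassoc_of% (nδ' h₂)]
      exact hz
    obtain ⟨vt, hvt⟩ : ∃ vt : Y.obj (op m₂) ⟶ T, ARSys.tr Y' h₂ ≫ v' = i'.app (op m₂) ≫ vt :=
      exists_extension_of_mor₃_comp _ (hTY m₂) (ARSys.tr Y' h₂ ≫ v') hz'
    have hD : i.app (op m₂) ≫ (φ.app (op m₂) ≫ vt - ARSys.tr X (h₁.trans h₂) ≫ u) = 0 := by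
      rw [Preadditive.comp_sub, reassoc_of% (c1 m₂), ← hvt, ← reassoc_of% (nφ' h₂), hv',
        ← reassoc_of% (ni (h₁.trans h₂)), ← Category.assoc, tr_comp, sub_self]
    obtain ⟨w, hw⟩ : ∃ w : X''.obj (op m₂) ⟶ T,
        φ.app (op m₂) ≫ vt - ARSys.tr X (h₁.trans h₂) ≫ u = p.app (op m₂) ≫ w :=
      Triangle.yoneda_exact₂ _ (hTX m₂) _ hD
    obtain ⟨m₃, h₃, z, hz3⟩ := S'' m₂ T w
    refine ⟨m₃, (h₁.trans h₂).trans h₃, ARSys.tr Y h₃ ≫ vt - p'.app (op m₃) ≫ z, ?_⟩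
    rw [Preadditive.comp_sub, ← reassoc_of% (nφ h₃), ← reassoc_of% (c2 m₃), hz3,
      ← reassoc_of% (np h₃), ← hw, Preadditive.comp_sub, sub_sub_cancel, ← Category.assoc, tr_comp]
  · -- injectivity
    intro n T v hv
    have h0 : φ'.app (op n) ≫ (i'.app (op n) ≫ v) = 0 := by
      rw [← reassoc_of% (c1 n), hv, comp_zero]
    obtain ⟨m₁, h₁, hz1⟩ := I' n _ _ h0
    rw [reassoc_of% (ni' h₁)] at hz1
    obtain ⟨w, hw⟩ : ∃ w : Y''.obj (op m₁) ⟶ T, ARSys.tr Y h₁ ≫ v = p'.app (op m₁) ≫ w :=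
      Triangle.yoneda_exact₂ _ (hTY m₁) _ hz1
    have h1 : p.app (op m₁) ≫ (φ''.app (op m₁) ≫ w) = 0 := by
      rw [reassoc_of% (c2 m₁), ← hw, ← reassoc_of% (nφ h₁), hv, comp_zero]
    obtain ⟨y, hy⟩ : ∃ y : (X'.obj (op m₁))⟦(1 : ℤ)⟧ ⟶ T,
        φ''.app (op m₁) ≫ w = δ.app (op m₁) ≫ y :=
      Triangle.yoneda_exact₃ _ (hTX m₁) _ h1
    obtain ⟨m₂, h₂, y', hy'⟩ := S's m₁ T y
    have hy'' : (φ'.app (op m₂))⟦(1 : ℤ)⟧' ≫ y' = (ARSys.tr X' h₂)⟦(1 : ℤ)⟧' ≫ y := hy'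
    have h2 : φ''.app (op m₂) ≫ (ARSys.tr Y'' h₂ ≫ w - δ'.app (op m₂) ≫ y') = 0 := by
      rw [Preadditive.comp_sub, ← reassoc_of% (nφ'' h₂), hy, ← reassoc_of% (c3 m₂), hy'',
        reassoc_of% (nδ h₂), sub_self]
    obtain ⟨m₃, h₃, hz3⟩ := I'' m₂ _ _ h2
    rw [Preadditive.comp_sub, sub_eq_zero, ← Category.assoc, tr_comp] at hz3
    refine ⟨m₃, (h₁.trans h₂).trans h₃, ?_⟩
    rw [← tr_comp Y h₁ (h₂.trans h₃), Category.assoc, hw, reassoc_of% (np' (h₂.trans h₃)), hz3,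
      reassoc_of% (nδ' h₃), reassoc_of% (zY2 m₃), zero_comp]

end Tri

section Der
open DerivedCategory
open scoped ZeroObject
variable {A : Type u} [Category.{v} A] [Abelian A] [HasDerivedCategory.{w} A]

lemma proIso_of_iso_conj' {C : Type*} [Category C] {X Y X₁ Y₁ : ARSys.PS C} (f₁ : X₁ ⟶ Y₁)
    (f : X ⟶ Y) (eX : X₁ ≅ X) (eY : Y₁ ≅ Y) (comm : f₁ ≫ eY.hom = eX.hom ≫ f)
    (h : DerCA.IsProIso f) : DerCA.IsProIso f₁ :=
  proIso_of_iso_conj f f₁ eX.symm eY.symm (by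
    rw [Iso.symm_hom, Iso.symm_hom, Iso.inv_comp_eq, ← Category.assoc, Iso.eq_comp_inv]
    exact comm) h

/-- the natural maps of systems `τ_{<b} X ⟶ X ⟶ τ_{≥b} X ⟶ (τ_{<b} X)[1]` -/
noncomputable def sysι (X : ARSys.PS (DerivedCategory A)) (b : ℤ) :
    X ⋙ TStructure.t.truncLT b ⟶ X :=
  { app := fun n => (TStructure.t.truncLTι b).app (X.obj n)
    naturality := fun _ _ φ => (TStructure.t.truncLTι b).naturality (X.map φ) }

noncomputable def sysπ (X : ARSys.PS (DerivedCategory A)) (b : ℤ) :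
    X ⟶ X ⋙ TStructure.t.truncGE b :=
  { app := fun n => (TStructure.t.truncGEπ b).app (X.obj n)
    naturality := fun _ _ φ => (TStructure.t.truncGEπ b).naturality (X.map φ) }

noncomputable def sysδ (X : ARSys.PS (DerivedCategory A)) (b : ℤ) :
    X ⋙ TStructure.t.truncGE b ⟶
      (X ⋙ TStructure.t.truncLT b) ⋙ shiftFunctor (DerivedCategory A) (1 : ℤ) :=
  { app := fun n => (TStructure.t.truncGEδLT b).app (X.obj n)
    naturality := fun _ _ φ => (TStructure.t.truncGEδLT b).naturality (X.map φ) }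

lemma sys_dist (X : ARSys.PS (DerivedCategory A)) (b : ℤ) (n : ℕ) :
    Triangle.mk ((sysι X b).app (op n)) ((sysπ X b).app (op n)) ((sysδ X b).app (op n)) ∈
      distTriang (DerivedCategory A) :=
  TStructure.t.triangleLTGE_distinguished b (X.obj (op n))

lemma isZero_homology_truncLT (K : DerivedCategory A) (a b i : ℤ)
    (hK : ∀ i : ℤ, i < a ∨ b < i → IsZero ((homologyFunctor A i).obj K))
    (hi : i < a ∨ b - 1 < i) :
    IsZero ((homologyFunctor A i).obj ((TStructure.t.truncLT b).obj K)) := by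
  by_cases hib : i < b
  · have := isIso_homology_truncLTι K b i hib
    have hz : IsZero ((homologyFunctor A i).obj K) := hK i (by omega)
    exact hz.of_iso (asIso ((homologyFunctor A i).map ((TStructure.t.truncLTι b).app K)))
  · exact isZero_of_isLE ((TStructure.t.truncLT b).obj K) (b - 1) i (by omega)

lemma isIso_whisker_sysι (X : ARSys.PS (DerivedCategory A)) (b i : ℤ) (hib : i < b) :
    IsIso (Functor.whiskerRight (sysι X b) (homologyFunctor A i)) := by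
  have : ∀ n, IsIso ((Functor.whiskerRight (sysι X b) (homologyFunctor A i)).app n) :=
    fun n => isIso_homology_truncLTι (X.obj n) b i hib
  exact NatIso.isIso_of_isIso_app _

lemma isIso_whisker_sysπ (X : ARSys.PS (DerivedCategory A)) (b : ℤ) :
    IsIso (Functor.whiskerRight (sysπ X b) (homologyFunctor A b)) := by
  have : ∀ n, IsIso ((Functor.whiskerRight (sysπ X b) (homologyFunctor A b)).app n) :=
    fun n => isIso_homology_truncGEπ (X.obj n) b
  exact NatIso.isIso_of_isIso_app _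

theorem main_aux (d : ℕ) : ∀ (a b : ℤ) (X Y : ARSys.PS (DerivedCategory A)) (f : X ⟶ Y),
    b < a + d →
    (∀ (n : ℕ) (i : ℤ), i < a ∨ b < i → IsZero ((homologyFunctor A i).obj (X.obj (op n)))) →
    (∀ (n : ℕ) (i : ℤ), i < a ∨ b < i → IsZero ((homologyFunctor A i).obj (Y.obj (op n)))) →
    (∀ i : ℤ, DerCA.IsProIso (Functor.whiskerRight f (homologyFunctor A i))) →
    DerCA.IsProIso f := by
  induction d with
  | zero =>
    intro a b X Y f hab hX hY hH
    have hz : ∀ (X : ARSys.PS (DerivedCategory A)),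
        (∀ (n : ℕ) (i : ℤ), i < a ∨ b < i → IsZero ((homologyFunctor A i).obj (X.obj (op n)))) →
        ∀ n, IsZero (X.obj (op n)) := by
      intro X hX n
      have h1 : (X.obj (op n)).IsGE a := (isGE_iff _ _).2 (fun i hi => hX n i (Or.inl hi))
      have h2 : (X.obj (op n)).IsLE b := (isLE_iff _ _).2 (fun i hi => hX n i (Or.inr hi))
      exact TStructure.t.isZero _ b a (by simpa using hab)
    exact proIso_of_isZero f (hz X hX) (hz Y hY)
  | succ d ih =>
    intro a b X Y f hab hX hY hH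
    let φ' : X ⋙ TStructure.t.truncLT b ⟶ Y ⋙ TStructure.t.truncLT b :=
      Functor.whiskerRight f (TStructure.t.truncLT b)
    let φ'' : X ⋙ TStructure.t.truncGE b ⟶ Y ⋙ TStructure.t.truncGE b :=
      Functor.whiskerRight f (TStructure.t.truncGE b)
    have h' : DerCA.IsProIso φ' := by
      apply ih a (b - 1) _ _ φ' (by omega)
      · intro n i hi
        exact isZero_homology_truncLT (X.obj (op n)) a b i (hX n) hi
      · intro n i hi
        exact isZero_homology_truncLT (Y.obj (op n)) a b i (hY n) hi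
      · intro i
        by_cases hib : i < b
        · have := isIso_whisker_sysι X b i hib
          have := isIso_whisker_sysι Y b i hib
          refine proIso_of_iso_conj' _ (Functor.whiskerRight f (homologyFunctor A i))
            (asIso (Functor.whiskerRight (sysι X b) (homologyFunctor A i)))
            (asIso (Functor.whiskerRight (sysι Y b) (homologyFunctor A i))) ?_ (hH i)
          ext n
          show (homologyFunctor A i).map ((TStructure.t.truncLT b).map (f.app n)) ≫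
            (homologyFunctor A i).map ((TStructure.t.truncLTι b).app (Y.obj n)) =
            (homologyFunctor A i).map ((TStructure.t.truncLTι b).app (X.obj n)) ≫
            (homologyFunctor A i).map (f.app n)
          rw [← Functor.map_comp, ← Functor.map_comp]
          congr 1
          exact (TStructure.t.truncLTι b).naturality (f.app n)
        · exact proIso_of_isZero _
            (fun n => isZero_of_isLE ((TStructure.t.truncLT b).obj (X.obj (op n))) (b - 1) i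
              (by omega))
            (fun n => isZero_of_isLE ((TStructure.t.truncLT b).obj (Y.obj (op n))) (b - 1) i
              (by omega))
    have h'' : DerCA.IsProIso φ'' := by
      have hP : ∀ (X : ARSys.PS (DerivedCategory A)),
          (∀ (n : ℕ) (i : ℤ), i < a ∨ b < i → IsZero ((homologyFunctor A i).obj (X.obj (op n)))) →
          ∀ n : ℕ, (fun K : DerivedCategory A => K.IsGE b ∧ K.IsLE b)
            ((X ⋙ TStructure.t.truncGE b).obj (op n)) := by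
        intro X hX n
        exact ⟨inferInstanceAs (((TStructure.t.truncGE b).obj (X.obj (op n))).IsGE b),
          (isLE_iff _ _).2 (fun i hi => isZero_homology_truncGE _ b i hi (hX n i (Or.inr hi)))⟩
      refine proIso_of_functor (homologyFunctor A b) (fun K => K.IsGE b ∧ K.IsLE b)
        (fun K L hK hL => by
          obtain ⟨_, _⟩ := hK
          obtain ⟨_, _⟩ := hL
          exact homology_bijective b K L) φ'' (hP X hX) (hP Y hY) ?_
      have := isIso_whisker_sysπ X b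
      have := isIso_whisker_sysπ Y b
      refine proIso_of_iso_conj (Functor.whiskerRight f (homologyFunctor A b)) _
        (asIso (Functor.whiskerRight (sysπ X b) (homologyFunctor A b)))
        (asIso (Functor.whiskerRight (sysπ Y b) (homologyFunctor A b))) ?_ (hH b)
      ext n
      show (homologyFunctor A b).map ((TStructure.t.truncGEπ b).app (X.obj n)) ≫
        (homologyFunctor A b).map ((TStructure.t.truncGE b).map (f.app n)) =
        (homologyFunctor A b).map (f.app n) ≫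
        (homologyFunctor A b).map ((TStructure.t.truncGEπ b).app (Y.obj n))
      rw [← Functor.map_comp, ← Functor.map_comp]
      congr 1
      exact ((TStructure.t.truncGEπ b).naturality (f.app n)).symm
    exact proIso_of_triangles _ _ _ _ _ _ (sysι X b) (sysπ X b) (sysδ X b) (sysι Y b) (sysπ Y b)
      (sysδ Y b) (sys_dist X b) (sys_dist Y b) φ' f φ''
      (fun n => ((TStructure.t.truncLTι b).naturality (f.app (op n))).symm)
      (fun n => ((TStructure.t.truncGEπ b).naturality (f.app (op n))).symm)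
      (fun n => ((TStructure.t.truncGEδLT b).naturality (f.app (op n))).symm) h' h''

theorem main (X Y : ARSys.PS (DerivedCategory A)) (f : X ⟶ Y) (a b : ℤ)
    (hX : ∀ (n : ℕ) (i : ℤ), i < a ∨ b < i → IsZero ((homologyFunctor A i).obj (X.obj (op n))))
    (hY : ∀ (n : ℕ) (i : ℤ), i < a ∨ b < i → IsZero ((homologyFunctor A i).obj (Y.obj (op n))))
    (hH : ∀ i : ℤ, DerCA.IsProIso (Functor.whiskerRight f (homologyFunctor A i))) :
    DerCA.IsProIso f := by
  obtain ⟨d, hd⟩ : ∃ d : ℕ, b < a + d := ⟨(b - a + 1).toNat, by omega⟩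
  exact main_aux d a b X Y f hd hX hY hH

end Der

end Groth.Agent.Lib.Helper32.ProIsoDer
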