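import Mathlib
import Groth.Prelude.Def_KZero
import Groth.Agent.Lib.Helper32.EssConstDer
import Groth.Agent.Lib.Helper32.ProIsoDer

/-!
# `K₀(P) ≅ K₀(D^b_P(C))` via the Euler characteristic

`IsAddFun P c` (function additive on short exact sequences in `P`) with `.zero/.iso/.exact_seq`,
`chi c K = Σ (-1)^i c(H^i K)`, `chi_triangle` (additivity on distinguished triangles), `chi_single`,
`PD P` (bounded objects of `D(C)` with cohomology in `P`), `IsAddFunTr P d` with
`.zero/.iso/.shift/.single/.eq_chi` (`d K = Σ (-1)^i d(H^i K [0])`), `assembly`,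
`main_sub` (S3201), `main_top` (S0987).
-/

set_option autoImplicit false
set_option linter.unusedSectionVars false
universe w v u
open CategoryTheory CategoryTheory.Limits CategoryTheory.Pretriangulated DerivedCategory
open scoped ZeroObject
open Groth.Agent.Lib.Helper32.EssConstDer

namespace Groth.Agent.Lib.Helper32.K0Der

section Ab
variable {C : Type u} [Category.{v} C] [Abelian C] (P : ObjectProperty C)
  [P.IsClosedUnderIsomorphisms] [P.ContainsZero] [P.IsClosedUnderKernels]
variable {G : Type*} [AddCommGroup G]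

/-- additive function on `P` -/
def IsAddFun (c : C → G) : Prop :=
  ∀ S : ShortComplex C, S.ShortExact → P S.X₁ → P S.X₂ → P S.X₃ → c S.X₂ = c S.X₁ + c S.X₃

variable {P} {c : C → G} (hc : IsAddFun P c)
include hc

lemma IsAddFun.zero {Z : C} (hZ : IsZero Z) : c Z = 0 := by
  have hS : (ShortComplex.mk (0 : Z ⟶ Z) (0 : Z ⟶ Z) zero_comp).ShortExact :=
    { exact := ShortComplex.exact_of_isZero_X₂ _ hZ
      mono_f := ⟨fun _ _ _ => hZ.eq_of_tgt _ _⟩
      epi_g := ⟨fun _ _ _ => hZ.eq_of_src _ _⟩ }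
  have := hc _ hS (P.prop_of_isZero hZ) (P.prop_of_isZero hZ) (P.prop_of_isZero hZ)
  simpa using this

lemma IsAddFun.iso {X Y : C} (e : X ≅ Y) (hX : P X) : c X = c Y := by
  have hS : (ShortComplex.mk e.hom (0 : Y ⟶ (0 : C)) comp_zero).ShortExact :=
    { exact := (ShortComplex.exact_iff_epi _ (by simp)).2 (by dsimp; infer_instance)
      mono_f := by dsimp; infer_instance
      epi_g := ⟨fun _ _ _ => (isZero_zero C).eq_of_src _ _⟩ }
  have := hc _ hS hX (P.prop_of_iso e hX) (P.prop_of_isZero (isZero_zero C))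
  rw [hc.zero (isZero_zero C), add_zero] at this
  exact this.symm

lemma IsAddFun.exact_seq {X₁ X₂ X₃ : C} (f : X₁ ⟶ X₂) (g : X₂ ⟶ X₃)
    (w : f ≫ g = 0) (hex : (ShortComplex.mk f g w).Exact) (h₁ : P X₁) (h₂ : P X₂) (h₃ : P X₃) :
    c X₁ = c (kernel f) + c (kernel g) := by
  have w' : kernel.ι f ≫ kernel.lift g f w = 0 := by
    rw [← cancel_mono (kernel.ι g), Category.assoc, kernel.lift_ι, kernel.condition, zero_comp]
  have hS : (ShortComplex.mk (kernel.ι f) (kernel.lift g f w) w').ShortExact :=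
    { exact := ShortComplex.exact_of_f_is_kernel _
        (isKernelOfComp (kernel.ι g) f (kernelIsKernel f) w' (kernel.lift_ι _ _ _))
      mono_f := by dsimp; infer_instance
      epi_g := (ShortComplex.exact_iff_epi_kernel_lift _).1 hex }
  exact hc _ hS (P.prop_kernel f h₁ h₂) h₁ (P.prop_kernel g h₂ h₃)

lemma hasFiniteSupport_of_bdd (F : ℤ → C) (a b : ℤ) (hF : ∀ i, i < a ∨ b < i → IsZero (F i)) :
    Function.HasFiniteSupport (fun i : ℤ => ((i.negOnePow : ℤˣ) : ℤ) • c (F i)) := by
  apply (Set.finite_Icc a b).subset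
  intro i hi
  by_contra h
  simp only [Set.mem_Icc, not_and_or, not_le] at h
  apply hi
  show _ • c (F i) = 0
  rw [hc.zero (hF i h), smul_zero]

end Ab

section Chi
variable {C : Type u} [Category.{v} C] [Abelian C] [HasDerivedCategory.{w} C]
  (P : ObjectProperty C)
  [P.IsClosedUnderIsomorphisms] [P.ContainsZero] [P.IsClosedUnderKernels]
variable {G : Type*} [AddCommGroup G]

/-- sign `(-1)^i` as an integer -/
def eps (i : ℤ) : ℤ := ((i.negOnePow : ℤˣ) : ℤ)

lemma eps_succ (i : ℤ) : eps (i + 1) = - eps i := by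
  simp [eps, Int.negOnePow_succ]

/-- Euler characteristic with values in `G` -/
noncomputable def chi (c : C → G) (K : DerivedCategory C) : G :=
  ∑ᶠ i : ℤ, eps i • c ((homologyFunctor C i).obj K)

/-- bounded objects with cohomology in `P` -/
def PD : ObjectProperty (DerivedCategory C) := fun K =>
  (∀ i : ℤ, P ((homologyFunctor C i).obj K)) ∧ ∃ a b : ℤ, K.IsGE a ∧ K.IsLE b

variable {P} {c : C → G} (hc : IsAddFun P c)
include hc

lemma hasFiniteSupport_eps (F : ℤ → C) (a b : ℤ) (hF : ∀ i, i < a ∨ b < i → IsZero (F i)) :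
    Function.HasFiniteSupport (fun i : ℤ => eps i • c (F i)) :=
  hasFiniteSupport_of_bdd hc F a b hF

theorem chi_triangle (T : Triangle (DerivedCategory C)) (hT : T ∈ distTriang _)
    (h₁ : PD P T.obj₁) (h₂ : PD P T.obj₂) (h₃ : PD P T.obj₃) :
    chi c T.obj₂ = chi c T.obj₁ + chi c T.obj₃ := by
  obtain ⟨hP₁, a₁, b₁, _, _⟩ := h₁
  obtain ⟨hP₂, a₂, b₂, _, _⟩ := h₂
  obtain ⟨hP₃, a₃, b₃, _, _⟩ := h₃
  obtain ⟨a, ha₁, ha₂, ha₃⟩ : ∃ a : ℤ, a ≤ a₁ ∧ a ≤ a₂ ∧ a ≤ a₃ :=
    ⟨min a₁ (min a₂ a₃), min_le_left _ _, (min_le_right _ _).trans (min_le_left _ _),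
      (min_le_right _ _).trans (min_le_right _ _)⟩
  obtain ⟨b, hb₁, hb₂, hb₃⟩ : ∃ b : ℤ, b₁ ≤ b ∧ b₂ ≤ b ∧ b₃ ≤ b :=
    ⟨max b₁ (max b₂ b₃), le_max_left _ _, (le_max_left _ _).trans (le_max_right _ _),
      (le_max_right _ _).trans (le_max_right _ _)⟩
  have z₁ : ∀ i, i < a ∨ b < i → IsZero ((homologyFunctor C i).obj T.obj₁) := by
    rintro i (hi | hi)
    · exact isZero_of_isGE T.obj₁ a₁ i (by omega)
    · exact isZero_of_isLE T.obj₁ b₁ i (by omega)
  have z₂ : ∀ i, i < a ∨ b < i → IsZero ((homologyFunctor C i).obj T.obj₂) := by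
    rintro i (hi | hi)
    · exact isZero_of_isGE T.obj₂ a₂ i (by omega)
    · exact isZero_of_isLE T.obj₂ b₂ i (by omega)
  have z₃ : ∀ i, i < a ∨ b < i → IsZero ((homologyFunctor C i).obj T.obj₃) := by
    rintro i (hi | hi)
    · exact isZero_of_isGE T.obj₃ a₃ i (by omega)
    · exact isZero_of_isLE T.obj₃ b₃ i (by omega)
  let kx : ℤ → C := fun i => kernel ((homologyFunctor C i).map T.mor₁)
  let ky : ℤ → C := fun i => kernel ((homologyFunctor C i).map T.mor₂)
  let kz : ℤ → C := fun i => kernel (HomologySequence.δ T i (i + 1) rfl)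
  have zkx : ∀ i, i < a ∨ b < i → IsZero (kx i) := fun i hi =>
    IsZero.of_mono (kernel.ι _) (z₁ i hi)
  have zky : ∀ i, i < a ∨ b < i → IsZero (ky i) := fun i hi =>
    IsZero.of_mono (kernel.ι _) (z₂ i hi)
  have zkz : ∀ i, i < a ∨ b < i → IsZero (kz i) := fun i hi =>
    IsZero.of_mono (kernel.ι _) (z₃ i hi)
  have zkx' : ∀ i, i < a - 1 ∨ b < i → IsZero (kx (i + 1)) := fun i hi =>
    zkx (i + 1) (by omega)
  have E1 : ∀ i, c ((homologyFunctor C i).obj T.obj₁) = c (kx i) + c (ky i) := fun i =>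
    hc.exact_seq _ _ _ (HomologySequence.exact₂ T hT i) (hP₁ i) (hP₂ i) (hP₃ i)
  have E2 : ∀ i, c ((homologyFunctor C i).obj T.obj₂) = c (ky i) + c (kz i) := fun i =>
    hc.exact_seq _ _ _ (HomologySequence.exact₃ T hT i (i + 1) rfl) (hP₂ i) (hP₃ i) (hP₁ (i + 1))
  have E3 : ∀ i, c ((homologyFunctor C i).obj T.obj₃) = c (kz i) + c (kx (i + 1)) := fun i =>
    hc.exact_seq _ _ _ (HomologySequence.exact₁ T hT i (i + 1) rfl) (hP₃ i) (hP₁ (i + 1))
      (hP₂ (i + 1))
  have fx := hasFiniteSupport_eps hc kx a b zkx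
  have fy := hasFiniteSupport_eps hc ky a b zky
  have fz := hasFiniteSupport_eps hc kz a b zkz
  have fx' := hasFiniteSupport_eps hc (fun i => kx (i + 1)) (a - 1) b zkx'
  have hre : ∑ᶠ i : ℤ, eps i • c (kx (i + 1)) = - ∑ᶠ i : ℤ, eps i • c (kx i) := by
    have : (fun i : ℤ => eps i • c (kx (i + 1))) =
        fun i : ℤ => (fun j : ℤ => - (eps j • c (kx j))) (Equiv.addRight (1 : ℤ) i) := by
      funext i
      simp only [Equiv.coe_addRight, eps_succ, neg_smul, neg_neg]
    rw [this]
    exact (finsum_comp_equiv (Equiv.addRight (1 : ℤ))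
      (f := fun j : ℤ => - (eps j • c (kx j)))).trans (finsum_neg_distrib _)
  have hX : chi c T.obj₁ = (∑ᶠ i : ℤ, eps i • c (kx i)) + ∑ᶠ i : ℤ, eps i • c (ky i) := by
    rw [← finsum_add_distrib fx fy]
    apply finsum_congr
    intro i
    rw [E1, smul_add]
  have hY : chi c T.obj₂ = (∑ᶠ i : ℤ, eps i • c (ky i)) + ∑ᶠ i : ℤ, eps i • c (kz i) := by
    rw [← finsum_add_distrib fy fz]
    apply finsum_congr
    intro i
    rw [E2, smul_add]
  have hZ : chi c T.obj₃ = (∑ᶠ i : ℤ, eps i • c (kz i)) + ∑ᶠ i : ℤ, eps i • c (kx (i + 1)) := by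
    rw [← finsum_add_distrib fz fx']
    apply finsum_congr
    intro i
    rw [E3, smul_add]
  rw [hX, hY, hZ, hre]
  abel

end Chi

section Tr
variable {C : Type u} [Category.{v} C] [Abelian C] [HasDerivedCategory.{w} C]
  (P : ObjectProperty C)
  [P.IsClosedUnderIsomorphisms] [P.ContainsZero] [P.IsClosedUnderKernels]
variable {G : Type*} [AddCommGroup G]

lemma chi_single {c : C → G} (hc : IsAddFun P c) (a : ℤ) (X : C) (hX : P X) :
    chi c ((singleFunctor C a).obj X) = eps a • c X := by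
  unfold chi
  rw [finsum_eq_single _ a]
  · have e : (homologyFunctor C a).obj ((singleFunctor C a).obj X) ≅ X :=
      (singleFunctorCompHomologyFunctorIso C a).app X
    rw [hc.iso e (P.prop_of_iso e.symm hX)]
  · intro i hi
    have : IsZero ((homologyFunctor C i).obj ((singleFunctor C a).obj X)) := by
      rcases lt_or_gt_of_ne hi with h | h
      · exact isZero_of_isGE _ a i h
      · exact isZero_of_isLE _ a i h
    rw [hc.zero this, smul_zero]

/-- function on `D(C)` additive on distinguished triangles with vertices in `PD P` -/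
def IsAddFunTr (d : DerivedCategory C → G) : Prop :=
  ∀ T : Triangle (DerivedCategory C), T ∈ distTriang _ → PD P T.obj₁ → PD P T.obj₂ →
    PD P T.obj₃ → d T.obj₂ = d T.obj₁ + d T.obj₃

variable {P}

lemma PD_of_iso {K L : DerivedCategory C} (e : K ≅ L) (h : PD P K) : PD P L := by
  obtain ⟨hP, a, b, _, _⟩ := h
  exact ⟨fun i => P.prop_of_iso ((homologyFunctor C i).mapIso e) (hP i), a, b,
    TStructure.t.isGE_of_iso e a, TStructure.t.isLE_of_iso e b⟩

lemma PD_of_isZero {K : DerivedCategory C} (h : IsZero K) : PD P K :=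
  ⟨fun i => P.prop_of_isZero ((homologyFunctor C i).map_isZero h), 0, 0,
    TStructure.t.isGE_of_isZero h 0, TStructure.t.isLE_of_isZero h 0⟩

lemma isZero_homology_single (a i : ℤ) (hi : i ≠ a) (X : C) :
    IsZero ((homologyFunctor C i).obj ((singleFunctor C a).obj X)) := by
  rcases lt_or_gt_of_ne hi with h | h
  · exact isZero_of_isGE _ a i h
  · exact isZero_of_isLE _ a i h

lemma PD_single (a : ℤ) {X : C} (hX : P X) : PD P ((singleFunctor C a).obj X) := by
  refine ⟨fun i => ?_, a, a, inferInstance, inferInstance⟩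
  by_cases hi : i = a
  · subst hi
    exact P.prop_of_iso ((singleFunctorCompHomologyFunctorIso C i).app X).symm hX
  · exact P.prop_of_isZero (isZero_homology_single a i hi X)

variable {d : DerivedCategory C → G} (hd : IsAddFunTr P d)
include hd

lemma IsAddFunTr.zero_obj : d (0 : DerivedCategory C) = 0 := by
  have := hd _ (contractible_distinguished (0 : DerivedCategory C))
    (PD_of_isZero (isZero_zero _)) (PD_of_isZero (isZero_zero _)) (PD_of_isZero (isZero_zero _))
  simpa using this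

lemma IsAddFunTr.iso {K L : DerivedCategory C} (e : K ≅ L) (hK : PD P K) : d K = d L := by
  have hT : Triangle.mk e.hom (0 : L ⟶ (0 : DerivedCategory C)) 0 ∈ distTriang _ := by
    refine isomorphic_distinguished _ (contractible_distinguished K) _ ?_
    exact Triangle.isoMk _ _ (Iso.refl _) e.symm (Iso.refl _)
      (by show e.hom ≫ e.inv = 𝟙 K ≫ 𝟙 K; simp)
      (by show (0 : L ⟶ (0 : DerivedCategory C)) ≫ 𝟙 _ = e.inv ≫ 0; simp)
      (by show (0 : (0 : DerivedCategory C) ⟶ K⟦(1 : ℤ)⟧) ≫ (𝟙 K)⟦(1 : ℤ)⟧' = 𝟙 _ ≫ 0; simp)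
  have : d L = d K + d (0 : DerivedCategory C) :=
    hd _ hT hK (PD_of_iso e hK) (PD_of_isZero (isZero_zero _))
  rw [hd.zero_obj, add_zero] at this
  exact this.symm

lemma IsAddFunTr.zero {K : DerivedCategory C} (hK : IsZero K) : d K = 0 := by
  rw [hd.iso (hK.iso (isZero_zero _)) (PD_of_isZero hK), hd.zero_obj]

lemma IsAddFunTr.shift {K : DerivedCategory C} (hK : PD P K) (hK' : PD P (K⟦(1 : ℤ)⟧)) :
    d (K⟦(1 : ℤ)⟧) = - d K := by
  have : d (0 : DerivedCategory C) = d K + d (K⟦(1 : ℤ)⟧) :=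
    hd _ (rot_of_distTriang _ (contractible_distinguished K)) hK
      (PD_of_isZero (isZero_zero _)) hK'
  rw [hd.zero_obj] at this
  exact (neg_eq_of_add_eq_zero_right this.symm).symm

lemma IsAddFunTr.isAddFun : IsAddFun P (fun X => d ((singleFunctor C 0).obj X)) := by
  intro S hS h₁ h₂ h₃
  exact hd _ hS.singleTriangle_distinguished (PD_single 0 h₁) (PD_single 0 h₂) (PD_single 0 h₃)

lemma IsAddFunTr.single_succ (a : ℤ) {M : C} (hM : P M) :
    d ((singleFunctor C (a + 1)).obj M) = - d ((singleFunctor C a).obj M) := by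
  have e : ((singleFunctor C (a + 1)).obj M)⟦(1 : ℤ)⟧ ≅ (singleFunctor C a).obj M :=
    ((singleFunctors C).shiftIso 1 a (a + 1) (by omega)).app M
  have h1 := hd.shift (PD_single (a + 1) hM) (PD_of_iso e.symm (PD_single a hM))
  rw [hd.iso e (PD_of_iso e.symm (PD_single a hM))] at h1
  rw [h1, neg_neg]

lemma IsAddFunTr.single (a : ℤ) {M : C} (hM : P M) :
    d ((singleFunctor C a).obj M) = eps a • d ((singleFunctor C 0).obj M) := by
  induction a using Int.induction_on with
  | zero => simp [eps]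
  | succ i ih => rw [hd.single_succ _ hM, ih, eps_succ, neg_smul]
  | pred i ih =>
    have h := hd.single_succ (-(i : ℤ) - 1) hM
    rw [sub_add_cancel] at h
    rw [h] at ih
    have he : eps (-(i : ℤ)) = - eps (-(i : ℤ) - 1) := by
      have := eps_succ (-(i : ℤ) - 1)
      rwa [sub_add_cancel] at this
    rw [he, neg_smul] at ih
    exact neg_injective ih

theorem IsAddFunTr.eq_chi_aux (n : ℕ) : ∀ (a b : ℤ) (K : DerivedCategory C), b < a + n → PD P K →
    (∀ i, i < a ∨ b < i → IsZero ((homologyFunctor C i).obj K)) →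
    d K = chi (fun X => d ((singleFunctor C 0).obj X)) K := by
  have hc := hd.isAddFun
  induction n with
  | zero =>
    intro a b K hab hK hz
    have h1 : K.IsGE a := (isGE_iff _ _).2 (fun i hi => hz i (Or.inl hi))
    have h2 : K.IsLE b := (isLE_iff _ _).2 (fun i hi => hz i (Or.inr hi))
    have hK0 : IsZero K := TStructure.t.isZero _ b a (by simpa using hab)
    rw [hd.zero hK0]
    symm
    apply finsum_eq_zero_of_forall_eq_zero
    intro i
    have h0 : d ((singleFunctor C 0).obj ((homologyFunctor C i).obj K)) = 0 :=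
      hc.zero ((homologyFunctor C i).map_isZero hK0)
    show eps i • d ((singleFunctor C 0).obj ((homologyFunctor C i).obj K)) = 0
    rw [h0, smul_zero]
  | succ n ih =>
    intro a b K hab hK hz
    have hP := hK.1
    have hT := TStructure.t.triangleLTGE_distinguished b K
    have z' : ∀ i, i < a ∨ b - 1 < i →
        IsZero ((homologyFunctor C i).obj ((TStructure.t.truncLT b).obj K)) :=
      fun i hi => ProIsoDer.isZero_homology_truncLT K a b i hz hi
    have iso' : ∀ i, i < b → ((homologyFunctor C i).obj ((TStructure.t.truncLT b).obj K) ≅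
        (homologyFunctor C i).obj K) := fun i hi => by
      have := isIso_homology_truncLTι K b i hi
      exact asIso ((homologyFunctor C i).map ((TStructure.t.truncLTι b).app K))
    have hK' : PD P ((TStructure.t.truncLT b).obj K) :=
      ⟨fun i => by
        by_cases hi : i < b
        · exact P.prop_of_iso (iso' i hi).symm (hP i)
        · exact P.prop_of_isZero (z' i (by omega)),
        a, b - 1, (isGE_iff _ _).2 (fun i hi => z' i (Or.inl hi)), inferInstance⟩
    have z'' : ∀ i, i ≠ b →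
        IsZero ((homologyFunctor C i).obj ((TStructure.t.truncGE b).obj K)) := by
      intro i hi
      rcases lt_or_gt_of_ne hi with h | h
      · exact isZero_of_isGE ((TStructure.t.truncGE b).obj K) b i h
      · exact isZero_homology_truncGE K b i h (hz i (Or.inr h))
    have iso'' : (homologyFunctor C b).obj K ≅
        (homologyFunctor C b).obj ((TStructure.t.truncGE b).obj K) := by
      have := isIso_homology_truncGEπ K b
      exact asIso ((homologyFunctor C b).map ((TStructure.t.truncGEπ b).app K))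
    have hLE'' : ((TStructure.t.truncGE b).obj K).IsLE b :=
      (isLE_iff _ _).2 (fun i hi => z'' i (by omega))
    have hK'' : PD P ((TStructure.t.truncGE b).obj K) :=
      ⟨fun i => by
        by_cases hi : i = b
        · subst hi
          exact P.prop_of_iso iso'' (hP i)
        · exact P.prop_of_isZero (z'' i hi), b, b, inferInstance, hLE''⟩
    have hsum : d K = d ((TStructure.t.truncLT b).obj K) + d ((TStructure.t.truncGE b).obj K) :=
      hd _ hT hK' hK hK''
    obtain ⟨M, ⟨eM⟩⟩ := exists_iso_singleFunctor_obj_of_isGE_of_isLE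
      ((TStructure.t.truncGE b).obj K) b
    have eM' : M ≅ (homologyFunctor C b).obj K :=
      ((singleFunctorCompHomologyFunctorIso C b).app M).symm ≪≫
        (homologyFunctor C b).mapIso eM.symm ≪≫ iso''.symm
    have hM : P M := P.prop_of_iso eM'.symm (hP b)
    have hd'' : d ((TStructure.t.truncGE b).obj K) =
        eps b • d ((singleFunctor C 0).obj ((homologyFunctor C b).obj K)) := by
      rw [hd.iso eM hK'', hd.single b hM]
      congr 1
      exact hc.iso eM' hM
    have hih := ih a (b - 1) _ (by omega) hK' z'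
    rw [hsum, hih, hd'']
    unfold chi
    have fin' := hasFiniteSupport_eps hc
      (fun i => (homologyFunctor C i).obj ((TStructure.t.truncLT b).obj K)) a (b - 1) z'
    have key : (fun i : ℤ => eps i • d ((singleFunctor C 0).obj ((homologyFunctor C i).obj K))) =
        fun i => eps i • d ((singleFunctor C 0).obj
          ((homologyFunctor C i).obj ((TStructure.t.truncLT b).obj K))) +
          (if i = b then eps b • d ((singleFunctor C 0).obj ((homologyFunctor C b).obj K))
            else 0) := by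
      funext i
      rcases lt_trichotomy i b with h | h | h
      · rw [if_neg (by omega), add_zero]
        congr 1
        exact (hc.iso (iso' i h) (hK'.1 i)).symm
      · subst h
        have h0 : d ((singleFunctor C 0).obj
            ((homologyFunctor C i).obj ((TStructure.t.truncLT i).obj K))) = 0 :=
          hc.zero (z' i (by omega))
        rw [if_pos rfl, h0, smul_zero, zero_add]
      · have h0 : d ((singleFunctor C 0).obj
            ((homologyFunctor C i).obj ((TStructure.t.truncLT b).obj K))) = 0 :=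
          hc.zero (z' i (by omega))
        have h1 : d ((singleFunctor C 0).obj ((homologyFunctor C i).obj K)) = 0 :=
          hc.zero (hz i (Or.inr h))
        rw [if_neg (by omega), add_zero, h0, h1]
    have fin'' : Function.HasFiniteSupport (fun i : ℤ =>
        if i = b then eps b • d ((singleFunctor C 0).obj ((homologyFunctor C b).obj K))
          else 0) := by
      apply (Set.finite_singleton b).subset
      intro i hi
      by_contra h
      exact hi (if_neg h)
    rw [key, finsum_add_distrib fin' fin'', finsum_eq_single _ b (fun i hi => if_neg hi), if_pos rfl]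

theorem IsAddFunTr.eq_chi {K : DerivedCategory C} (hK : PD P K) :
    d K = chi (fun X => d ((singleFunctor C 0).obj X)) K := by
  obtain ⟨a, b, _, _⟩ := hK.2
  obtain ⟨n, hn⟩ : ∃ n : ℕ, b < a + n := ⟨(b - a + 1).toNat, by omega⟩
  refine hd.eq_chi_aux n a b K hn hK ?_
  rintro i (hi | hi)
  · exact isZero_of_isGE K a i hi
  · exact isZero_of_isLE K b i hi

end Tr

section Assembly
variable {C : Type u} [Category.{v} C] [Abelian C] [HasDerivedCategory.{w} C]
  (P : ObjectProperty C)
  [P.IsClosedUnderIsomorphisms] [P.ContainsZero] [P.IsClosedUnderKernels]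

theorem assembly {G₁ G₂ : Type*} [AddCommGroup G₁] [AddCommGroup G₂] (c : C → G₁)
    (hc : IsAddFun P c) (d : DerivedCategory C → G₂) (hd : IsAddFunTr P d)
    (φ₁ : G₁ →+ G₂) (φ₂ : G₂ →+ G₁)
    (h₁ : ∀ X, P X → φ₁ (c X) = d ((singleFunctor C 0).obj X))
    (h₂ : ∀ K, PD P K → φ₂ (d K) = chi c K) :
    (∀ X, P X → φ₂ (φ₁ (c X)) = c X) ∧ (∀ K, PD P K → φ₁ (φ₂ (d K)) = d K) := by
  constructor
  · intro X hX
    rw [h₁ X hX, h₂ _ (PD_single 0 hX), chi_single P hc 0 X hX]
    simp [eps]
  · intro K hK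
    rw [h₂ K hK, hd.eq_chi hK]
    unfold chi
    obtain ⟨a, b, _, _⟩ := hK.2
    have fin := hasFiniteSupport_eps hc (fun i => (homologyFunctor C i).obj K) a b (by
      rintro i (hi | hi)
      · exact isZero_of_isGE K a i hi
      · exact isZero_of_isLE K b i hi)
    rw [AddMonoidHom.map_finsum φ₁ fin]
    apply finsum_congr
    intro i
    rw [map_zsmul, h₁ _ (hK.1 i)]

variable {P}

lemma clSub_isAddFun : IsAddFun P (KZero.clSub P) := by
  intro S hS h₁ h₂ h₃
  have mem : FreeAbelianGroup.of (⟨S.X₂, h₂⟩ : Subtype P) - FreeAbelianGroup.of ⟨S.X₁, h₁⟩ -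
      FreeAbelianGroup.of ⟨S.X₃, h₃⟩ ∈ KZero.relSub P :=
    AddSubgroup.subset_closure ⟨S, h₁, h₂, h₃, hS, rfl⟩
  have := (QuotientAddGroup.eq_zero_iff _).2 mem
  rw [QuotientAddGroup.mk_sub, QuotientAddGroup.mk_sub, sub_sub, sub_eq_zero] at this
  simp only [KZero.clSub, dif_pos h₁, dif_pos h₂, dif_pos h₃]
  exact this

lemma cl_isAddFun : IsAddFun (⊤ : ObjectProperty C) (KZero.cl (A := C)) := by
  intro S hS _ _ _
  have mem : FreeAbelianGroup.of S.X₂ - FreeAbelianGroup.of S.X₁ -
      FreeAbelianGroup.of S.X₃ ∈ KZero.relAb C :=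
    AddSubgroup.subset_closure ⟨S, hS, rfl⟩
  have := (QuotientAddGroup.eq_zero_iff _).2 mem
  rw [QuotientAddGroup.mk_sub, QuotientAddGroup.mk_sub, sub_sub, sub_eq_zero] at this
  exact this

lemma clTr_isAddFunTr (Q : ObjectProperty (DerivedCategory C)) (hQ : ∀ K, Q K ↔ PD P K) :
    IsAddFunTr P (KZero.clTr Q) := by
  intro T hT h₁ h₂ h₃
  have q₁ := (hQ _).2 h₁
  have q₂ := (hQ _).2 h₂
  have q₃ := (hQ _).2 h₃
  have mem : FreeAbelianGroup.of (⟨T.obj₂, q₂⟩ : Subtype Q) - FreeAbelianGroup.of ⟨T.obj₁, q₁⟩ -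
      FreeAbelianGroup.of ⟨T.obj₃, q₃⟩ ∈ KZero.relTr Q :=
    AddSubgroup.subset_closure ⟨T, q₁, q₂, q₃, hT, rfl⟩
  have := (QuotientAddGroup.eq_zero_iff _).2 mem
  rw [QuotientAddGroup.mk_sub, QuotientAddGroup.mk_sub, sub_sub, sub_eq_zero] at this
  simp only [KZero.clTr, dif_pos q₁, dif_pos q₂, dif_pos q₃]
  exact this

end Assembly

section Main
variable {C : Type u} [Category.{v} C] [Abelian C] [HasDerivedCategory.{w} C]

lemma clSub_eq {P : ObjectProperty C} {X : C} (hX : P X) :
    KZero.clSub P X = QuotientAddGroup.mk (FreeAbelianGroup.of ⟨X, hX⟩) := dif_pos hX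

lemma clTr_eq {Q : ObjectProperty (DerivedCategory C)} {K : DerivedCategory C} (hK : Q K) :
    KZero.clTr Q K = QuotientAddGroup.mk (FreeAbelianGroup.of ⟨K, hK⟩) := dif_pos hK

theorem main_sub (P : ObjectProperty C)
    [P.IsClosedUnderIsomorphisms] [P.ContainsZero] [P.IsClosedUnderKernels]
    (Q : ObjectProperty (DerivedCategory C)) (hQ : ∀ K, Q K ↔ PD P K) :
    ∃ φ : KZero.K0sub P ≃+ KZero.K0tr Q, ∀ X : C, P X →
      φ (KZero.clSub P X) = KZero.clTr Q ((singleFunctor C 0).obj X) := by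
  have hc : IsAddFun P (KZero.clSub P) := clSub_isAddFun
  have hd : IsAddFunTr P (KZero.clTr Q) := clTr_isAddFunTr Q hQ
  let f₁ : FreeAbelianGroup (Subtype P) →+ KZero.K0tr Q :=
    FreeAbelianGroup.lift (fun X => KZero.clTr Q ((singleFunctor C 0).obj X.1))
  have hle₁ : KZero.relSub P ≤ f₁.ker := by
    rw [KZero.relSub, AddSubgroup.closure_le]
    rintro x ⟨S, h₁, h₂, h₃, hS, rfl⟩
    rw [SetLike.mem_coe, AddMonoidHom.mem_ker, map_sub, map_sub, FreeAbelianGroup.lift_apply_of,
      FreeAbelianGroup.lift_apply_of, FreeAbelianGroup.lift_apply_of]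
    have := hd.isAddFun S hS h₁ h₂ h₃
    dsimp only at this ⊢
    rw [this]
    abel
  let φ₁ : KZero.K0sub P →+ KZero.K0tr Q := QuotientAddGroup.lift _ f₁ hle₁
  let f₂ : FreeAbelianGroup (Subtype Q) →+ KZero.K0sub P :=
    FreeAbelianGroup.lift (fun K => chi (KZero.clSub P) K.1)
  have hle₂ : KZero.relTr Q ≤ f₂.ker := by
    rw [KZero.relTr, AddSubgroup.closure_le]
    rintro x ⟨T, h₁, h₂, h₃, hT, rfl⟩
    rw [SetLike.mem_coe, AddMonoidHom.mem_ker, map_sub, map_sub, FreeAbelianGroup.lift_apply_of,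
      FreeAbelianGroup.lift_apply_of, FreeAbelianGroup.lift_apply_of]
    have := chi_triangle hc T hT ((hQ _).1 h₁) ((hQ _).1 h₂) ((hQ _).1 h₃)
    dsimp only at this ⊢
    rw [this]
    abel
  let φ₂ : KZero.K0tr Q →+ KZero.K0sub P := QuotientAddGroup.lift _ f₂ hle₂
  have e₁ : ∀ X, P X → φ₁ (KZero.clSub P X) = KZero.clTr Q ((singleFunctor C 0).obj X) := by
    intro X hX
    rw [clSub_eq hX]
    show f₁ _ = _
    rw [FreeAbelianGroup.lift_apply_of]
  have e₂ : ∀ K, PD P K → φ₂ (KZero.clTr Q K) = chi (KZero.clSub P) K := by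
    intro K hK
    rw [clTr_eq ((hQ K).2 hK)]
    show f₂ _ = _
    rw [FreeAbelianGroup.lift_apply_of]
  obtain ⟨a₁, a₂⟩ := assembly P _ hc _ hd φ₁ φ₂ e₁ e₂
  have h21 : φ₂.comp φ₁ = AddMonoidHom.id _ := by
    apply QuotientAddGroup.addMonoidHom_ext
    apply FreeAbelianGroup.lift_ext
    rintro ⟨X, hX⟩
    have := a₁ X hX
    rw [clSub_eq hX] at this
    exact this
  have h12 : φ₁.comp φ₂ = AddMonoidHom.id _ := by
    apply QuotientAddGroup.addMonoidHom_ext
    apply FreeAbelianGroup.lift_ext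
    rintro ⟨K, hK⟩
    have := a₂ K ((hQ K).1 hK)
    rw [clTr_eq hK] at this
    exact this
  exact ⟨AddMonoidHom.toAddEquiv φ₁ φ₂ h21 h12, e₁⟩

lemma PD_top_iff (K : DerivedCategory C) :
    (∃ a b : ℤ, K.IsGE a ∧ K.IsLE b) ↔ PD (⊤ : ObjectProperty C) K :=
  ⟨fun h => ⟨fun _ => trivial, h⟩, fun h => h.2⟩

theorem main_top :
    ∃ φ : KZero.K0 C ≃+ KZero.K0tr (fun X : DerivedCategory C => ∃ a b : ℤ, X.IsGE a ∧ X.IsLE b),
      ∀ X : C, φ (KZero.cl X) =
        KZero.clTr (fun X : DerivedCategory C => ∃ a b : ℤ, X.IsGE a ∧ X.IsLE b)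
          ((singleFunctor C 0).obj X) := by
  let Q : ObjectProperty (DerivedCategory C) := fun X => ∃ a b : ℤ, X.IsGE a ∧ X.IsLE b
  have hQ : ∀ K, Q K ↔ PD (⊤ : ObjectProperty C) K := PD_top_iff
  have hc : IsAddFun (⊤ : ObjectProperty C) (KZero.cl (A := C)) := cl_isAddFun
  have hd : IsAddFunTr (⊤ : ObjectProperty C) (KZero.clTr Q) := clTr_isAddFunTr Q hQ
  let f₁ : FreeAbelianGroup C →+ KZero.K0tr Q :=
    FreeAbelianGroup.lift (fun X => KZero.clTr Q ((singleFunctor C 0).obj X))
  have hle₁ : KZero.relAb C ≤ f₁.ker := by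
    rw [KZero.relAb, AddSubgroup.closure_le]
    rintro x ⟨S, hS, rfl⟩
    rw [SetLike.mem_coe, AddMonoidHom.mem_ker, map_sub, map_sub, FreeAbelianGroup.lift_apply_of,
      FreeAbelianGroup.lift_apply_of, FreeAbelianGroup.lift_apply_of]
    have := hd.isAddFun S hS trivial trivial trivial
    dsimp only at this ⊢
    rw [this]
    abel
  let φ₁ : KZero.K0 C →+ KZero.K0tr Q := QuotientAddGroup.lift _ f₁ hle₁
  let f₂ : FreeAbelianGroup (Subtype Q) →+ KZero.K0 C :=
    FreeAbelianGroup.lift (fun K => chi (KZero.cl (A := C)) K.1)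
  have hle₂ : KZero.relTr Q ≤ f₂.ker := by
    rw [KZero.relTr, AddSubgroup.closure_le]
    rintro x ⟨T, h₁, h₂, h₃, hT, rfl⟩
    rw [SetLike.mem_coe, AddMonoidHom.mem_ker, map_sub, map_sub, FreeAbelianGroup.lift_apply_of,
      FreeAbelianGroup.lift_apply_of, FreeAbelianGroup.lift_apply_of]
    have := chi_triangle hc T hT ((hQ _).1 h₁) ((hQ _).1 h₂) ((hQ _).1 h₃)
    dsimp only at this ⊢
    rw [this]
    abel
  let φ₂ : KZero.K0tr Q →+ KZero.K0 C := QuotientAddGroup.lift _ f₂ hle₂
  have e₁ : ∀ X, (⊤ : ObjectProperty C) X →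
      φ₁ (KZero.cl X) = KZero.clTr Q ((singleFunctor C 0).obj X) := by
    intro X _
    show f₁ _ = _
    rw [FreeAbelianGroup.lift_apply_of]
  have e₂ : ∀ K, PD (⊤ : ObjectProperty C) K → φ₂ (KZero.clTr Q K) = chi (KZero.cl (A := C)) K := by
    intro K hK
    rw [clTr_eq ((hQ K).2 hK)]
    show f₂ _ = _
    rw [FreeAbelianGroup.lift_apply_of]
  obtain ⟨a₁, a₂⟩ := assembly (⊤ : ObjectProperty C) _ hc _ hd φ₁ φ₂ e₁ e₂
  have h21 : φ₂.comp φ₁ = AddMonoidHom.id _ := by
    apply QuotientAddGroup.addMonoidHom_ext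
    apply FreeAbelianGroup.lift_ext
    intro X
    exact a₁ X trivial
  have h12 : φ₁.comp φ₂ = AddMonoidHom.id _ := by
    apply QuotientAddGroup.addMonoidHom_ext
    apply FreeAbelianGroup.lift_ext
    rintro ⟨K, hK⟩
    have := a₂ K ((hQ K).1 hK)
    rw [clTr_eq hK] at this
    exact this
  exact ⟨AddMonoidHom.toAddEquiv φ₁ φ₂ h21 h12, fun X => e₁ X trivial⟩

end Main

end Groth.Agent.Lib.Helper32.K0Der
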