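import Mathlib
import Groth.Prelude.Def_WeakSerre
import Groth.Agent.Lib.Helper32.EssConstDer
import Groth.Agent.Lib.Helper32.ProIsoDer
import Groth.Agent.Lib.Helper32.K0Der
import Groth.Agent.Lib.Helper32.DevissageTri
/-
Helper32 library: devissage for `F.mapDerivedCategory` on bounded objects with cohomology in a
weak Serre subcategory.

* `homologyMapIso F K n : H^n(F.mapDerivedCategory K) ≅ F (H^n K)` for exact `F`
* `prop_of_five_term` : five-term characterisation of weak Serre classes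
* instances: `(WSerre.cohIn P).IsTriangulated`, `(WSerre.cohInBdd P).IsTriangulated` (+ iso-closed)
* `gen` : a triangulated iso-closed `S ⊆ D(C)` containing `P` in degree 0 contains `cohInBdd P`
* `part1`, `part2`, `part3` : `F.mapDerivedCategory` restricts to an equivalence
  `D^b_{P₁}(C₁) → D^b_{P₂}(C₂)` under Ext-bijectivity on `P₁` + ess. surjectivity `P₁ → P₂`.
-/
set_option autoImplicit false
set_option linter.unusedSectionVars false
universe w₁ w₂ v₁ v₂ u₁ u₂ w v u
open CategoryTheory CategoryTheory.Limits CategoryTheory.Pretriangulated DerivedCategory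
open scoped ZeroObject

namespace Groth.Agent.Lib.Helper32.Devissage

section MapDer
variable {C₁ : Type u₁} [Category.{v₁} C₁] [Abelian C₁] [HasDerivedCategory.{w₁} C₁]
  {C₂ : Type u₂} [Category.{v₂} C₂] [Abelian C₂] [HasDerivedCategory.{w₂} C₂]
  (F : C₁ ⥤ C₂) [F.Additive] [PreservesFiniteLimits F] [PreservesFiniteColimits F]

/-- an exact functor commutes with cohomology objects -/
noncomputable def homologyMapIso (K : DerivedCategory C₁) (n : ℤ) :
    (homologyFunctor C₂ n).obj (F.mapDerivedCategory.obj K) ≅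
      F.obj ((homologyFunctor C₁ n).obj K) := by
  let K₀ := (Q (C := C₁)).objPreimage K
  let e : Q.obj K₀ ≅ K := (Q (C := C₁)).objObjPreimageIso K
  refine (homologyFunctor C₂ n).mapIso (F.mapDerivedCategory.mapIso e.symm) ≪≫ ?_ ≪≫
    F.mapIso ((homologyFunctor C₁ n).mapIso e)
  refine (homologyFunctor C₂ n).mapIso (F.mapDerivedCategoryFactors.app K₀) ≪≫ ?_ ≪≫
    F.mapIso ((homologyFunctorFactors C₁ n).app K₀).symm
  refine (homologyFunctorFactors C₂ n).app _ ≪≫ ?_
  exact (K₀.sc n).mapHomologyIso F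

end MapDer

section FiveTerm
variable {C : Type u} [Category.{v} C] [Abelian C] (P : ObjectProperty C) [WSerre.IsWeakSerre P]

/-- the five-term characterisation of weak Serre subcategories -/
lemma prop_of_five_term {A' A B E E' : C} (f : A' ⟶ A) (g : A ⟶ B) (h : B ⟶ E) (k : E ⟶ E')
    (w₁ : f ≫ g = 0) (w₂ : g ≫ h = 0) (w₃ : h ≫ k = 0)
    (e₁ : (ShortComplex.mk f g w₁).Exact) (e₂ : (ShortComplex.mk g h w₂).Exact)
    (e₃ : (ShortComplex.mk h k w₃).Exact)
    (hA' : P A') (hA : P A) (hE : P E) (hE' : P E') : P B := by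
  have w : cokernel.desc f g w₁ ≫ kernel.lift k h w₃ = 0 := by
    rw [← cancel_epi (cokernel.π f), ← cancel_mono (kernel.ι k)]
    simp [w₂]
  have hm : Mono (cokernel.desc f g w₁) := (ShortComplex.exact_iff_mono_cokernel_desc _).1 e₁
  have he : Epi (kernel.lift k h w₃) := (ShortComplex.exact_iff_epi_kernel_lift _).1 e₃
  have w' : g ≫ kernel.lift k h w₃ = 0 := by
    rw [← cancel_mono (kernel.ι k)]
    simp [w₂]
  have hmid : (ShortComplex.mk g (kernel.lift k h w₃) w').Exact := by
    let φ₁ : ShortComplex.mk g (kernel.lift k h w₃) w' ⟶ ShortComplex.mk g h w₂ :=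
      { τ₁ := 𝟙 _, τ₂ := 𝟙 _, τ₃ := kernel.ι k, comm₁₂ := by simp, comm₂₃ := by simp }
    have : Epi φ₁.τ₁ := by dsimp [φ₁]; infer_instance
    have : IsIso φ₁.τ₂ := by dsimp [φ₁]; infer_instance
    have : Mono φ₁.τ₃ := by dsimp [φ₁]; infer_instance
    exact (ShortComplex.exact_iff_of_epi_of_isIso_of_mono φ₁).2 e₂
  have hex : (ShortComplex.mk (cokernel.desc f g w₁) (kernel.lift k h w₃) w).Exact := by
    let φ₂ : ShortComplex.mk g (kernel.lift k h w₃) w' ⟶
        ShortComplex.mk (cokernel.desc f g w₁) (kernel.lift k h w₃) w :=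
      { τ₁ := cokernel.π f, τ₂ := 𝟙 _, τ₃ := 𝟙 _, comm₁₂ := by simp, comm₂₃ := by simp }
    have : Epi φ₂.τ₁ := by dsimp [φ₂]; infer_instance
    have : IsIso φ₂.τ₂ := by dsimp [φ₂]; infer_instance
    have : Mono φ₂.τ₃ := by dsimp [φ₂]; infer_instance
    exact (ShortComplex.exact_iff_of_epi_of_isIso_of_mono φ₂).1 hmid
  have hS : (ShortComplex.mk (cokernel.desc f g w₁) (kernel.lift k h w₃) w).ShortExact :=
    { exact := hex, mono_f := hm, epi_g := he }
  exact P.prop_X₂_of_shortExact hS (P.prop_cokernel f hA' hA) (P.prop_kernel k hE hE')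

end FiveTerm

section CohIn
variable {C : Type u} [Category.{v} C] [Abelian C] [HasDerivedCategory.{w} C]
  (P : ObjectProperty C) [WSerre.IsWeakSerre P]

instance : (WSerre.cohIn P).IsClosedUnderIsomorphisms where
  of_iso e h i := P.prop_of_iso ((homologyFunctor C i).mapIso e) (h i)

lemma cohIn_of_isZero {K : DerivedCategory C} (hK : IsZero K) : WSerre.cohIn P K :=
  fun i => P.prop_of_isZero ((homologyFunctor C i).map_isZero hK)

instance : (WSerre.cohIn P).IsTriangulated where
  exists_zero := ⟨0, isZero_zero _, cohIn_of_isZero P (isZero_zero _)⟩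
  isStableUnderShiftBy n := ⟨fun K h i =>
    P.prop_of_iso (((homologyFunctor C 0).shiftIso n i (n + i) rfl).app K).symm (h (n + i))⟩
  ext₂' T hT h₁ h₃ := by
    refine ObjectProperty.le_isoClosure _ _ (fun i => ?_)
    have e₁ := HomologySequence.exact₁ T hT (i - 1) i (by omega)
    have e₂ := HomologySequence.exact₂ T hT i
    have e₃ := HomologySequence.exact₃ T hT i (i + 1) rfl
    exact prop_of_five_term P _ _ _ _ _ _ _ e₁ e₂ e₃ (h₃ (i - 1)) (h₁ i) (h₃ i) (h₁ (i + 1))

instance : (WSerre.cohInBdd P).IsClosedUnderIsomorphisms := by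
  dsimp [WSerre.cohInBdd]; infer_instance

instance : (WSerre.cohInBdd P).IsTriangulated := by
  dsimp [WSerre.cohInBdd]; infer_instance

end CohIn

section Gen
variable {C : Type u} [Category.{v} C] [Abelian C] [HasDerivedCategory.{w} C]
  (P : ObjectProperty C) [P.IsClosedUnderIsomorphisms] [P.ContainsZero]
  (S : ObjectProperty (DerivedCategory C)) [S.IsTriangulated] [S.IsClosedUnderIsomorphisms]

lemma S_single (hS : ∀ M, P M → S ((singleFunctor C 0).obj M)) (b : ℤ) (M : C) (hM : P M) :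
    S ((singleFunctor C b).obj M) := by
  have e : ((singleFunctor C 0).obj M)⟦-b⟧ ≅ (singleFunctor C b).obj M :=
    ((singleFunctors C).shiftIso (-b) b 0 (by omega)).app M
  exact S.prop_of_iso e (S.le_shift (-b) _ (hS M hM))

theorem gen_aux (hS : ∀ M, P M → S ((singleFunctor C 0).obj M)) (n : ℕ) :
    ∀ (a b : ℤ) (K : DerivedCategory C), b < a + n → WSerre.cohIn P K →
    (∀ i, i < a ∨ b < i → IsZero ((homologyFunctor C i).obj K)) → S K := by
  induction n with
  | zero =>
    intro a b K hab hK hz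
    have h1 : K.IsGE a := (isGE_iff _ _).2 (fun i hi => hz i (Or.inl hi))
    have h2 : K.IsLE b := (isLE_iff _ _).2 (fun i hi => hz i (Or.inr hi))
    have hK0 : IsZero K := TStructure.t.isZero _ b a (by simpa using hab)
    exact S.prop_of_isZero hK0
  | succ n ih =>
    intro a b K hab hP hz
    have hT := TStructure.t.triangleLTGE_distinguished b K
    have z' : ∀ i, i < a ∨ b - 1 < i →
        IsZero ((homologyFunctor C i).obj ((TStructure.t.truncLT b).obj K)) :=
      fun i hi => ProIsoDer.isZero_homology_truncLT K a b i hz hi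
    have iso' : ∀ i, i < b → ((homologyFunctor C i).obj ((TStructure.t.truncLT b).obj K) ≅
        (homologyFunctor C i).obj K) := fun i hi => by
      have := EssConstDer.isIso_homology_truncLTι K b i hi
      exact asIso ((homologyFunctor C i).map ((TStructure.t.truncLTι b).app K))
    have hK' : WSerre.cohIn P ((TStructure.t.truncLT b).obj K) := fun i => by
      by_cases hi : i < b
      · exact P.prop_of_iso (iso' i hi).symm (hP i)
      · exact P.prop_of_isZero (z' i (by omega))
    have z'' : ∀ i, i ≠ b →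
        IsZero ((homologyFunctor C i).obj ((TStructure.t.truncGE b).obj K)) := by
      intro i hi
      rcases lt_or_gt_of_ne hi with h | h
      · exact isZero_of_isGE ((TStructure.t.truncGE b).obj K) b i h
      · exact EssConstDer.isZero_homology_truncGE K b i h (hz i (Or.inr h))
    have iso'' : (homologyFunctor C b).obj K ≅
        (homologyFunctor C b).obj ((TStructure.t.truncGE b).obj K) := by
      have := EssConstDer.isIso_homology_truncGEπ K b
      exact asIso ((homologyFunctor C b).map ((TStructure.t.truncGEπ b).app K))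
    have hLE'' : ((TStructure.t.truncGE b).obj K).IsLE b :=
      (isLE_iff _ _).2 (fun i hi => z'' i (by omega))
    obtain ⟨M, ⟨eM⟩⟩ := exists_iso_singleFunctor_obj_of_isGE_of_isLE
      ((TStructure.t.truncGE b).obj K) b
    have eM' : M ≅ (homologyFunctor C b).obj K :=
      ((singleFunctorCompHomologyFunctorIso C b).app M).symm ≪≫
        (homologyFunctor C b).mapIso eM.symm ≪≫ iso''.symm
    have hM : P M := P.prop_of_iso eM'.symm (hP b)
    have h₃ : S ((TStructure.t.truncGE b).obj K) :=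
      S.prop_of_iso eM.symm (S_single P S hS b M hM)
    have h₁ : S ((TStructure.t.truncLT b).obj K) := ih a (b - 1) _ (by omega) hK' z'
    exact S.ext_of_isTriangulatedClosed₂ _ hT h₁ h₃

theorem gen (hS : ∀ M, P M → S ((singleFunctor C 0).obj M)) : WSerre.cohInBdd P ≤ S := by
  rintro K ⟨hK, ⟨a, _⟩, ⟨b, _⟩⟩
  obtain ⟨n, hn⟩ : ∃ n : ℕ, b < a + n := ⟨(b - a + 1).toNat, by omega⟩
  refine gen_aux P S hS n a b K hn hK ?_
  rintro i (hi | hi)
  · exact isZero_of_isGE K a i hi
  · exact isZero_of_isLE K b i hi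

end Gen

section Main
variable {C₁ : Type u₁} [Category.{v₁} C₁] [Abelian C₁] [HasDerivedCategory.{w₁} C₁]
  {C₂ : Type u₂} [Category.{v₂} C₂] [Abelian C₂] [HasDerivedCategory.{w₂} C₂]
  (F : C₁ ⥤ C₂) [F.Additive] [PreservesFiniteLimits F] [PreservesFiniteColimits F]
  (P₁ : ObjectProperty C₁) (P₂ : ObjectProperty C₂)
  [WSerre.IsWeakSerre P₁] [WSerre.IsWeakSerre P₂]

lemma cohInBdd_single {C : Type u} [Category.{v} C] [Abelian C] [HasDerivedCategory.{w} C]
    (P : ObjectProperty C) [WSerre.IsWeakSerre P] (a : ℤ) {X : C} (hX : P X) :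
    WSerre.cohInBdd P ((singleFunctor C a).obj X) :=
  ⟨(K0Der.PD_single a hX).1, ⟨a, inferInstance⟩, ⟨a, inferInstance⟩⟩

include P₁ P₂ in
theorem part1 (h1 : ∀ M, P₁ M → P₂ (F.obj M)) (K : DerivedCategory C₁)
    (hK : WSerre.cohInBdd P₁ K) : WSerre.cohInBdd P₂ (F.mapDerivedCategory.obj K) := by
  obtain ⟨hP, ⟨a, ha⟩, ⟨b, hb⟩⟩ := hK
  refine ⟨fun i => P₂.prop_of_iso (homologyMapIso F K i).symm (h1 _ (hP i)), ⟨a, ?_⟩, ⟨b, ?_⟩⟩
  · refine (isGE_iff _ _).2 (fun i hi => ?_)
    exact (F.map_isZero (isZero_of_isGE K a i hi)).of_iso (homologyMapIso F K i)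
  · refine (isLE_iff _ _).2 (fun i hi => ?_)
    exact (F.map_isZero (isZero_of_isLE K b i hi)).of_iso (homologyMapIso F K i)

theorem part2
    (h2 : ∀ M M', P₁ M → P₁ M' → ∀ n : ℤ, Function.Bijective
      (fun φ : ((singleFunctor C₁ 0).obj M ⟶ ((singleFunctor C₁ 0).obj M')⟦n⟧) =>
        F.mapDerivedCategory.map φ))
    (K L : DerivedCategory C₁) (hK : WSerre.cohInBdd P₁ K) (hL : WSerre.cohInBdd P₁ L) :
    Bij F.mapDerivedCategory K L := by
  have step1 : ∀ M, P₁ M → WSerre.cohInBdd P₁ ≤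
      SCov F.mapDerivedCategory ((singleFunctor C₁ 0).obj M) := fun M hM =>
    gen P₁ _ (fun M' hM' n => h2 M M' hM hM' n)
  have step2 : WSerre.cohInBdd P₁ ≤ SContra F.mapDerivedCategory (WSerre.cohInBdd P₁) :=
    gen P₁ _ (fun M hM n L hL =>
      Bij.unshift n (step1 M hM _ ((WSerre.cohInBdd P₁).le_shift (-n) _ hL) 0 |>.of_iso
        (Iso.refl _) ((shiftFunctorZero _ ℤ).app _)))
  exact (step2 K hK 0 L hL).of_iso ((shiftFunctorZero _ ℤ).app _) (Iso.refl _)

include P₂ in
theorem part3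
    (h1e : ∀ N, P₂ N → ∃ M, P₁ M ∧ Nonempty (F.obj M ≅ N))
    (hff : ∀ K L, WSerre.cohInBdd P₁ K → WSerre.cohInBdd P₁ L → Bij F.mapDerivedCategory K L)
    (M : DerivedCategory C₂) (hM : WSerre.cohInBdd P₂ M) :
    ∃ K : DerivedCategory C₁, WSerre.cohInBdd P₁ K ∧
      Nonempty (F.mapDerivedCategory.obj K ≅ M) := by
  let G : (WSerre.cohInBdd P₁).FullSubcategory ⥤ DerivedCategory C₂ :=
    (WSerre.cohInBdd P₁).ι ⋙ F.mapDerivedCategory
  have : G.Full := ⟨fun {X Y} z => by
    obtain ⟨φ, hφ⟩ := (hff X.obj Y.obj X.property Y.property).2 z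
    exact ⟨(WSerre.cohInBdd P₁).fullyFaithfulι.preimage φ, by
      show F.mapDerivedCategory.map ((WSerre.cohInBdd P₁).ι.map _) = z
      rw [Functor.FullyFaithful.map_preimage]; exact hφ⟩⟩
  have key : WSerre.cohInBdd P₂ ≤ G.essImage := by
    apply gen P₂
    intro N hN
    obtain ⟨M₀, hM₀, ⟨e⟩⟩ := h1e N hN
    refine ⟨⟨(singleFunctor C₁ 0).obj M₀, cohInBdd_single P₁ 0 hM₀⟩, ⟨?_⟩⟩
    exact (F.mapDerivedCategorySingleFunctor 0).app M₀ ≪≫ (singleFunctor C₂ 0).mapIso e
  obtain ⟨X, ⟨e⟩⟩ := key M hM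
  exact ⟨X.obj, X.property, ⟨e⟩⟩

end Main

end Groth.Agent.Lib.Helper32.Devissage
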