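import Mathlib
import Groth.Prelude.Def_WeakSerre
import Groth.Agent.Lib.Helper32.DevissageDer
/-
Helper32 library: devissage for unit/counit of an adjunction `F.mapDerivedCategory ⊣ R`.

* `isoLocus τ` : objects where a shift-compatible nat. trans. of triangulated functors is iso;
  instances `IsClosedUnderIsomorphisms`, `IsTriangulated`
* `isIso_homology_mor₁_of_isGE`, `map_isLE`, `map_isGE` (exact functor is t-exact),
  `right_isGE` (right adjoint of t-exact functor is left t-exact)
* `counit_isIso`, `unit_isIso` : (co)unit iso on bounded below objects if iso on cohomology objects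
-/
set_option autoImplicit false
set_option linter.unusedSectionVars false
universe w₁ w₂ v₁ v₂ u₁ u₂ w v u
open CategoryTheory CategoryTheory.Limits CategoryTheory.Pretriangulated DerivedCategory
open scoped ZeroObject

namespace Groth.Agent.Lib.Helper32.AdjDevissage

section NatTransIso
variable {C D : Type*} [Category C] [Category D] [Preadditive C] [Preadditive D]
  [HasZeroObject C] [HasZeroObject D] [HasShift C ℤ] [HasShift D ℤ]
  [∀ n : ℤ, (shiftFunctor C n).Additive] [∀ n : ℤ, (shiftFunctor D n).Additive]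
  [Pretriangulated C] [Pretriangulated D]
  {G₁ G₂ : C ⥤ D} [G₁.CommShift ℤ] [G₂.CommShift ℤ] [G₁.IsTriangulated] [G₂.IsTriangulated]
  (τ : G₁ ⟶ G₂) [NatTrans.CommShift τ ℤ]

/-- the objects at which a natural transformation is an isomorphism -/
def isoLocus : ObjectProperty C := fun X => IsIso (τ.app X)

instance : (isoLocus τ).IsClosedUnderIsomorphisms where
  of_iso {X Y} e (h : IsIso (τ.app X)) := by
    show IsIso (τ.app Y)
    have : τ.app Y = G₁.map e.inv ≫ τ.app X ≫ G₂.map e.hom := by
      rw [← Category.assoc, τ.naturality, Category.assoc, ← G₂.map_comp, e.inv_hom_id, G₂.map_id,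
        Category.comp_id]
    rw [this]
    infer_instance

instance : (isoLocus τ).IsTriangulated where
  exists_zero := ⟨0, isZero_zero _, by
    show IsIso (τ.app 0)
    exact ⟨⟨0, (G₁.map_isZero (isZero_zero _)).eq_of_src _ _,
      (G₂.map_isZero (isZero_zero _)).eq_of_src _ _⟩⟩⟩
  isStableUnderShiftBy n := ⟨fun X (h : IsIso (τ.app X)) => by
    show IsIso (τ.app (X⟦n⟧))
    rw [NatTrans.app_shift τ n X]
    infer_instance⟩
  ext₂' T hT (h₁ : IsIso (τ.app T.obj₁)) (h₃ : IsIso (τ.app T.obj₃)) := by
    refine ObjectProperty.le_isoClosure _ _ ?_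
    show IsIso (τ.app T.obj₂)
    let φ : G₁.mapTriangle.obj T ⟶ G₂.mapTriangle.obj T :=
      { hom₁ := τ.app T.obj₁
        hom₂ := τ.app T.obj₂
        hom₃ := τ.app T.obj₃
        comm₁ := by
          show G₁.map T.mor₁ ≫ τ.app T.obj₂ = τ.app T.obj₁ ≫ G₂.map T.mor₁
          exact τ.naturality _
        comm₂ := by
          show G₁.map T.mor₂ ≫ τ.app T.obj₃ = τ.app T.obj₂ ≫ G₂.map T.mor₂
          exact τ.naturality _
        comm₃ := by
          show (G₁.map T.mor₃ ≫ (G₁.commShiftIso (1 : ℤ)).hom.app T.obj₁) ≫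
            (τ.app T.obj₁)⟦(1 : ℤ)⟧' =
            τ.app T.obj₃ ≫ G₂.map T.mor₃ ≫ (G₂.commShiftIso (1 : ℤ)).hom.app T.obj₁
          simp only [Category.assoc, NatTrans.shift_app_comm τ (1 : ℤ) T.obj₁,
            NatTrans.naturality_assoc] }
    exact isIso₂_of_isIso₁₃ φ (G₁.map_distinguished T hT) (G₂.map_distinguished T hT) h₁ h₃

end NatTransIso

section Der
variable {A₁ : Type u₁} [Category.{v₁} A₁] [Abelian A₁] [HasDerivedCategory.{w₁} A₁]
  {A₂ : Type u₂} [Category.{v₂} A₂] [Abelian A₂] [HasDerivedCategory.{w₂} A₂]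

/-- in a distinguished triangle whose third vertex is `≥ m`, the first map is an isomorphism on
`H^q` for `q < m` -/
lemma isIso_homology_mor₁_of_isGE (T : Triangle (DerivedCategory A₁)) (hT : T ∈ distTriang _)
    (m q : ℤ) (hq : q < m) [T.obj₃.IsGE m] :
    IsIso ((homologyFunctor A₁ q).map T.mor₁) := by
  have hm : Mono ((homologyFunctor A₁ q).map T.mor₁) := by
    refine (HomologySequence.mono_homologyMap_mor₁_iff _ hT (q - 1) q (by omega)).2 ?_
    exact (isZero_of_isGE T.obj₃ m (q - 1) (by omega)).eq_of_src _ _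
  have he : Epi ((homologyFunctor A₁ q).map T.mor₁) := by
    refine (HomologySequence.epi_homologyMap_mor₁_iff _ hT q).2 ?_
    exact (isZero_of_isGE T.obj₃ m q hq).eq_of_tgt _ _
  exact isIso_of_mono_of_epi _

variable (F : A₁ ⥤ A₂) [F.Additive] [PreservesFiniteLimits F] [PreservesFiniteColimits F]

lemma map_isLE (K : DerivedCategory A₁) (n : ℤ) [K.IsLE n] :
    (F.mapDerivedCategory.obj K).IsLE n :=
  (isLE_iff _ _).2 (fun i hi =>
    (F.map_isZero (isZero_of_isLE K n i hi)).of_iso (Devissage.homologyMapIso F K i))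

lemma map_isGE (K : DerivedCategory A₁) (n : ℤ) [K.IsGE n] :
    (F.mapDerivedCategory.obj K).IsGE n :=
  (isGE_iff _ _).2 (fun i hi =>
    (F.map_isZero (isZero_of_isGE K n i hi)).of_iso (Devissage.homologyMapIso F K i))

variable {F} {R : DerivedCategory A₂ ⥤ DerivedCategory A₁} (adj : F.mapDerivedCategory ⊣ R)
include adj

lemma right_isGE (Y : DerivedCategory A₂) (n : ℤ) [Y.IsGE n] : (R.obj Y).IsGE n := by
  have : R.Additive := adj.right_adjoint_additive
  refine (TStructure.t.isGE_iff_orthogonal (n - 1) n (by omega) _).2 ?_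
  intro K f hK
  have : (F.mapDerivedCategory.obj K).IsLE (n - 1) := map_isLE F K (n - 1)
  have h0 : (adj.homEquiv K Y).symm f = 0 := TStructure.t.zero _ (n - 1) n (by omega)
  have : f = adj.homEquiv K Y ((adj.homEquiv K Y).symm f) := by simp
  rw [this, h0, adj.homEquiv_apply, R.map_zero, comp_zero]

/-- the counit is an isomorphism on bounded below objects as soon as it is on cohomology objects -/
theorem counit_isIso (X : DerivedCategory A₂) (n₀ : ℤ) [X.IsGE n₀]
    (h : ∀ q : ℤ, IsIso (adj.counit.app ((singleFunctor A₂ 0).obj ((homologyFunctor A₂ q).obj X)))) :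
    IsIso (adj.counit.app X) := by
  let _ := adj.rightAdjointCommShift ℤ
  have := adj.commShift_of_leftAdjoint ℤ
  have : R.IsTriangulated := adj.isTriangulated_rightAdjoint
  let P : ObjectProperty A₂ := fun M => IsIso (adj.counit.app ((singleFunctor A₂ 0).obj M))
  have hPiso : P.IsClosedUnderIsomorphisms := ⟨fun {M N} e hM =>
    (isoLocus adj.counit).prop_of_iso ((singleFunctor A₂ 0).mapIso e) hM⟩
  have hP0 : P.ContainsZero := ⟨⟨0, isZero_zero _,
    (isoLocus adj.counit).prop_of_isZero ((singleFunctor A₂ 0).map_isZero (isZero_zero _))⟩⟩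
  have hbdd : WSerre.cohInBdd P ≤ isoLocus adj.counit := Devissage.gen P _ (fun M hM => hM)
  rw [DerivedCategory.isIso_iff]
  intro q
  have hι := EssConstDer.isIso_homology_truncLTι X (q + 1) q (by omega)
  have hT := TStructure.t.triangleLTGE_distinguished (q + 1) X
  have hT' := (R ⋙ F.mapDerivedCategory).map_distinguished _ hT
  have hGE : ((R ⋙ F.mapDerivedCategory).mapTriangle.obj
      ((TStructure.t.triangleLTGE (q + 1)).obj X)).obj₃.IsGE (q + 1) := by
    show (F.mapDerivedCategory.obj (R.obj ((TStructure.t.truncGE (q + 1)).obj X))).IsGE (q + 1)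
    have := right_isGE adj ((TStructure.t.truncGE (q + 1)).obj X) (q + 1)
    exact map_isGE F _ _
  have h1 : IsIso ((homologyFunctor A₂ q).map ((R ⋙ F.mapDerivedCategory).map
      ((TStructure.t.truncLTι (q + 1)).app X))) :=
    isIso_homology_mor₁_of_isGE _ hT' (q + 1) q (by omega)
  have hτ : WSerre.cohInBdd P ((TStructure.t.truncLT (q + 1)).obj X) := by
    refine ⟨fun i => ?_, ⟨n₀, inferInstance⟩, ⟨q + 1 - 1, inferInstance⟩⟩
    by_cases hi : i < q + 1
    · have := EssConstDer.isIso_homology_truncLTι X (q + 1) i hi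
      exact P.prop_of_iso
        (asIso ((homologyFunctor A₂ i).map ((TStructure.t.truncLTι (q + 1)).app X))).symm (h i)
    · exact P.prop_of_isZero
        (isZero_of_isLE ((TStructure.t.truncLT (q + 1)).obj X) (q + 1 - 1) i (by omega))
  have h2 : IsIso (adj.counit.app ((TStructure.t.truncLT (q + 1)).obj X)) := hbdd _ hτ
  have nat := adj.counit.naturality ((TStructure.t.truncLTι (q + 1)).app X)
  have nat' := congr_arg (homologyFunctor A₂ q).map nat
  simp only [Functor.map_comp, Functor.id_map] at nat'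
  have h3 : (homologyFunctor A₂ q).map ((R ⋙ F.mapDerivedCategory).map
      ((TStructure.t.truncLTι (q + 1)).app X)) ≫
      (homologyFunctor A₂ q).map (adj.counit.app X) =
      (homologyFunctor A₂ q).map (adj.counit.app ((TStructure.t.truncLT (q + 1)).obj X)) ≫
      (homologyFunctor A₂ q).map ((TStructure.t.truncLTι (q + 1)).app X) := nat'
  exact IsIso.of_isIso_fac_left h3

/-- the unit is an isomorphism on bounded below objects as soon as it is on cohomology objects -/
theorem unit_isIso (Y : DerivedCategory A₁) (n₀ : ℤ) [Y.IsGE n₀]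
    (h : ∀ q : ℤ, IsIso (adj.unit.app ((singleFunctor A₁ 0).obj ((homologyFunctor A₁ q).obj Y)))) :
    IsIso (adj.unit.app Y) := by
  let _ := adj.rightAdjointCommShift ℤ
  have := adj.commShift_of_leftAdjoint ℤ
  have : R.IsTriangulated := adj.isTriangulated_rightAdjoint
  let P : ObjectProperty A₁ := fun M => IsIso (adj.unit.app ((singleFunctor A₁ 0).obj M))
  have hPiso : P.IsClosedUnderIsomorphisms := ⟨fun {M N} e hM =>
    (isoLocus adj.unit).prop_of_iso ((singleFunctor A₁ 0).mapIso e) hM⟩
  have hP0 : P.ContainsZero := ⟨⟨0, isZero_zero _,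
    (isoLocus adj.unit).prop_of_isZero ((singleFunctor A₁ 0).map_isZero (isZero_zero _))⟩⟩
  have hbdd : WSerre.cohInBdd P ≤ isoLocus adj.unit := Devissage.gen P _ (fun M hM => hM)
  rw [DerivedCategory.isIso_iff]
  intro q
  have hι := EssConstDer.isIso_homology_truncLTι Y (q + 1) q (by omega)
  have hT := TStructure.t.triangleLTGE_distinguished (q + 1) Y
  have hT' := (F.mapDerivedCategory ⋙ R).map_distinguished _ hT
  have hGE : ((F.mapDerivedCategory ⋙ R).mapTriangle.obj
      ((TStructure.t.triangleLTGE (q + 1)).obj Y)).obj₃.IsGE (q + 1) := by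
    show (R.obj (F.mapDerivedCategory.obj ((TStructure.t.truncGE (q + 1)).obj Y))).IsGE (q + 1)
    have := map_isGE F ((TStructure.t.truncGE (q + 1)).obj Y) (q + 1)
    exact right_isGE adj _ _
  have h1 : IsIso ((homologyFunctor A₁ q).map ((F.mapDerivedCategory ⋙ R).map
      ((TStructure.t.truncLTι (q + 1)).app Y))) :=
    isIso_homology_mor₁_of_isGE _ hT' (q + 1) q (by omega)
  have hτ : WSerre.cohInBdd P ((TStructure.t.truncLT (q + 1)).obj Y) := by
    refine ⟨fun i => ?_, ⟨n₀, inferInstance⟩, ⟨q + 1 - 1, inferInstance⟩⟩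
    by_cases hi : i < q + 1
    · have := EssConstDer.isIso_homology_truncLTι Y (q + 1) i hi
      exact P.prop_of_iso
        (asIso ((homologyFunctor A₁ i).map ((TStructure.t.truncLTι (q + 1)).app Y))).symm (h i)
    · exact P.prop_of_isZero
        (isZero_of_isLE ((TStructure.t.truncLT (q + 1)).obj Y) (q + 1 - 1) i (by omega))
  have h2 : IsIso (adj.unit.app ((TStructure.t.truncLT (q + 1)).obj Y)) := hbdd _ hτ
  have nat := adj.unit.naturality ((TStructure.t.truncLTι (q + 1)).app Y)
  have nat' := congr_arg (homologyFunctor A₁ q).map nat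
  simp only [Functor.map_comp, Functor.id_map] at nat'
  have h3 : (homologyFunctor A₁ q).map ((TStructure.t.truncLTι (q + 1)).app Y) ≫
      (homologyFunctor A₁ q).map (adj.unit.app Y) =
      (homologyFunctor A₁ q).map (adj.unit.app ((TStructure.t.truncLT (q + 1)).obj Y)) ≫
      (homologyFunctor A₁ q).map ((F.mapDerivedCategory ⋙ R).map
        ((TStructure.t.truncLTι (q + 1)).app Y)) := nat'
  exact IsIso.of_isIso_fac_left h3

end Der

end Groth.Agent.Lib.Helper32.AdjDevissage
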