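import Mathlib
import Groth.Prelude.Def_WeakSerre
import Groth.Agent.Lib.Helper32.AdjDevissage
/-
Helper32 library: `plus_equiv` — for exact `F`, `adj : F.mapDerivedCategory ⊣ R`, weak Serre
`P₁ ⊆ A₁`, `P₂ ⊆ A₂` with `F(P₁) ⊆ P₂` essentially surjective and unit iso on `P₁`:
`F^*` and `R` are quasi-inverse on `D^+_{P₁}`, `D^+_{P₂}` (Stacks-style dévissage; = S9069).
-/
set_option autoImplicit false
set_option linter.unusedSectionVars false
universe w₁ w₂ v₁ v₂ u₁ u₂ w v u
open CategoryTheory CategoryTheory.Limits CategoryTheory.Pretriangulated DerivedCategory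
open scoped ZeroObject

namespace Groth.Agent.Lib.Helper32.AdjDevissage

section Plus
variable {A₁ : Type u₁} [Category.{v₁} A₁] [Abelian A₁] [HasDerivedCategory.{w₁} A₁]
  {A₂ : Type u₂} [Category.{v₂} A₂] [Abelian A₂] [HasDerivedCategory.{w₂} A₂]
  {F : A₁ ⥤ A₂} [F.Additive] [PreservesFiniteLimits F] [PreservesFiniteColimits F]
  {R : DerivedCategory A₂ ⥤ DerivedCategory A₁} (adj : F.mapDerivedCategory ⊣ R)
  (P₁ : ObjectProperty A₁) (P₂ : ObjectProperty A₂)
  [WSerre.IsWeakSerre P₁] [WSerre.IsWeakSerre P₂]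
include adj

/-- `F^* : D^+_{P₁} → D^+_{P₂}` is an equivalence with quasi-inverse `R` -/
theorem plus_equiv (h2a : ∀ M, P₁ M → P₂ (F.obj M))
    (h2c : ∀ N, P₂ N → ∃ M, P₁ M ∧ Nonempty (F.obj M ≅ N))
    (h3 : ∀ M, P₁ M → IsIso (adj.unit.app ((singleFunctor A₁ 0).obj M))) :
    (∀ Y : DerivedCategory A₁, WSerre.cohInPlus P₁ Y →
      WSerre.cohInPlus P₂ (F.mapDerivedCategory.obj Y) ∧ IsIso (adj.unit.app Y)) ∧
    (∀ X : DerivedCategory A₂, WSerre.cohInPlus P₂ X →
      WSerre.cohInPlus P₁ (R.obj X) ∧ IsIso (adj.counit.app X)) := by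
  let _ := adj.rightAdjointCommShift ℤ
  have := adj.commShift_of_leftAdjoint ℤ
  have : R.IsTriangulated := adj.isTriangulated_rightAdjoint
  -- key facts on single objects of `P₂`
  have key : ∀ N, P₂ N → IsIso (adj.counit.app ((singleFunctor A₂ 0).obj N)) ∧
      WSerre.cohIn P₁ (R.obj ((singleFunctor A₂ 0).obj N)) := by
    intro N hN
    obtain ⟨M, hM, ⟨e⟩⟩ := h2c N hN
    have hη := h3 M hM
    let Z := (singleFunctor A₁ 0).obj M
    have e' : F.mapDerivedCategory.obj Z ≅ (singleFunctor A₂ 0).obj N :=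
      (F.mapDerivedCategorySingleFunctor 0).app M ≪≫ (singleFunctor A₂ 0).mapIso e
    have hε : IsIso (adj.counit.app (F.mapDerivedCategory.obj Z)) := by
      have h := adj.left_triangle_components Z
      have : IsIso (F.mapDerivedCategory.map (adj.unit.app Z)) := inferInstance
      exact IsIso.of_isIso_fac_left h
    refine ⟨(isoLocus adj.counit).prop_of_iso e' hε, ?_⟩
    have e'' : Z ≅ R.obj ((singleFunctor A₂ 0).obj N) := asIso (adj.unit.app Z) ≪≫ R.mapIso e'
    exact (WSerre.cohIn P₁).prop_of_iso e'' (Devissage.cohInBdd_single P₁ 0 hM).1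
  refine ⟨fun Y hY => ?_, fun X hX => ?_⟩
  · obtain ⟨hY, ⟨n₀, hn₀⟩⟩ := hY
    have : Y.IsGE n₀ := hn₀
    exact ⟨⟨fun i => P₂.prop_of_iso (Devissage.homologyMapIso F Y i).symm (h2a _ (hY i)),
      ⟨n₀, map_isGE F Y n₀⟩⟩, unit_isIso adj Y n₀ (fun q => h3 _ (hY q))⟩
  · obtain ⟨hX, ⟨n₀, hn₀⟩⟩ := hX
    have : X.IsGE n₀ := hn₀
    refine ⟨⟨fun q => ?_, ⟨n₀, right_isGE adj X n₀⟩⟩,
      counit_isIso adj X n₀ (fun q => (key _ (hX q)).1)⟩
    have hbdd : WSerre.cohInBdd P₂ ≤ (WSerre.cohIn P₁).inverseImage R :=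
      Devissage.gen P₂ _ (fun N hN => (key N hN).2)
    have hT := TStructure.t.triangleLTGE_distinguished (q + 1) X
    have hT' := R.map_distinguished _ hT
    have hGE : (R.mapTriangle.obj ((TStructure.t.triangleLTGE (q + 1)).obj X)).obj₃.IsGE (q + 1) := by
      show (R.obj ((TStructure.t.truncGE (q + 1)).obj X)).IsGE (q + 1)
      exact right_isGE adj _ _
    have h1 : IsIso ((homologyFunctor A₁ q).map (R.map ((TStructure.t.truncLTι (q + 1)).app X))) :=
      isIso_homology_mor₁_of_isGE _ hT' (q + 1) q (by omega)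
    have hτ : WSerre.cohInBdd P₂ ((TStructure.t.truncLT (q + 1)).obj X) := by
      refine ⟨fun i => ?_, ⟨n₀, inferInstance⟩, ⟨q + 1 - 1, inferInstance⟩⟩
      by_cases hi : i < q + 1
      · have := EssConstDer.isIso_homology_truncLTι X (q + 1) i hi
        exact P₂.prop_of_iso
          (asIso ((homologyFunctor A₂ i).map ((TStructure.t.truncLTι (q + 1)).app X))).symm (hX i)
      · exact P₂.prop_of_isZero
          (isZero_of_isLE ((TStructure.t.truncLT (q + 1)).obj X) (q + 1 - 1) i (by omega))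
    have h2 : WSerre.cohIn P₁ (R.obj ((TStructure.t.truncLT (q + 1)).obj X)) := hbdd _ hτ
    exact P₁.prop_of_iso (asIso ((homologyFunctor A₁ q).map
      (R.map ((TStructure.t.truncLTι (q + 1)).app X)))) (h2 q)

end Plus

end Groth.Agent.Lib.Helper32.AdjDevissage
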