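import Mathlib

/-!
Concrete mapping cones `Cn φ` of cochain complexes of modules and the isomorphism
`M ⊞ Cn φ ≅ N ⊞ Cn (𝟙 M)` attached to a homotopy left inverse of `φ`; contractibility of `Cn φ`
when `φ` is a homotopy equivalence.
-/

set_option autoImplicit false
universe u
open CategoryTheory CategoryTheory.Limits HomologicalComplex

namespace Groth.Agent.Lib.Helper32.ConeSplit

variable {R : Type u} [CommRing R]

lemma dd_apply (A : CochainComplex (ModuleCat.{u} R) ℤ) (n : ℤ) (a : A.X n) :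
    (A.d (n+1) (n+1+1)).hom ((A.d n (n+1)).hom a) = 0 :=
  congr_arg (fun f => f.hom a) (A.d_comp_d n (n+1) (n+1+1))

lemma comm_apply {A B : CochainComplex (ModuleCat.{u} R) ℤ} (φ : A ⟶ B) (n : ℤ) (a : A.X n) :
    (B.d n (n+1)).hom ((φ.f n).hom a) = (φ.f (n+1)).hom ((A.d n (n+1)).hom a) :=
  congr_arg (fun f => f.hom a) (φ.comm n (n+1))

section Prod

variable (A B : CochainComplex (ModuleCat.{u} R) ℤ)

/-- concrete direct sum of two complexes -/
noncomputable def prodCx : CochainComplex (ModuleCat.{u} R) ℤ :=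
  CochainComplex.of (fun n => ModuleCat.of R (A.X n × B.X n))
    (fun n => ModuleCat.ofHom (LinearMap.prodMap (A.d n (n+1)).hom (B.d n (n+1)).hom))
    (fun n => by
      apply ModuleCat.hom_ext
      apply LinearMap.ext
      rintro ⟨a, b⟩
      show ((A.d (n+1) (n+1+1)).hom ((A.d n (n+1)).hom a),
        (B.d (n+1) (n+1+1)).hom ((B.d n (n+1)).hom b)) = 0
      rw [dd_apply, dd_apply]
      rfl)

lemma prodCx_d (n : ℤ) : (prodCx A B).d n (n+1) =
    ModuleCat.ofHom (LinearMap.prodMap (A.d n (n+1)).hom (B.d n (n+1)).hom) := by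
  simp [prodCx]

/-- first inclusion -/
noncomputable def pinl : A ⟶ prodCx A B where
  f n := ModuleCat.ofHom (LinearMap.inl R (A.X n) (B.X n))
  comm' i j h := by
    obtain rfl : i + 1 = j := h
    rw [prodCx_d]
    apply ModuleCat.hom_ext
    apply LinearMap.ext
    intro a
    show ((A.d i (i+1)).hom a, (B.d i (i+1)).hom 0) = ((A.d i (i+1)).hom a, 0)
    rw [map_zero]

/-- second inclusion -/
noncomputable def pinr : B ⟶ prodCx A B where
  f n := ModuleCat.ofHom (LinearMap.inr R (A.X n) (B.X n))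
  comm' i j h := by
    obtain rfl : i + 1 = j := h
    rw [prodCx_d]
    apply ModuleCat.hom_ext
    apply LinearMap.ext
    intro b
    show ((A.d i (i+1)).hom 0, (B.d i (i+1)).hom b) = (0, (B.d i (i+1)).hom b)
    rw [map_zero]

/-- first projection -/
noncomputable def pfst : prodCx A B ⟶ A where
  f n := ModuleCat.ofHom (LinearMap.fst R (A.X n) (B.X n))
  comm' i j h := by
    obtain rfl : i + 1 = j := h
    rw [prodCx_d]
    rfl

/-- second projection -/
noncomputable def psnd : prodCx A B ⟶ B where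
  f n := ModuleCat.ofHom (LinearMap.snd R (A.X n) (B.X n))
  comm' i j h := by
    obtain rfl : i + 1 = j := h
    rw [prodCx_d]
    rfl

@[reassoc (attr := simp)] lemma pinl_pfst : pinl A B ≫ pfst A B = 𝟙 A := rfl
@[reassoc (attr := simp)] lemma pinr_psnd : pinr A B ≫ psnd A B = 𝟙 B := rfl
@[reassoc (attr := simp)] lemma pinl_psnd : pinl A B ≫ psnd A B = 0 := rfl
@[reassoc (attr := simp)] lemma pinr_pfst : pinr A B ≫ pfst A B = 0 := rfl

lemma ptotal : pfst A B ≫ pinl A B + psnd A B ≫ pinr A B = 𝟙 (prodCx A B) := by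
  refine HomologicalComplex.hom_ext _ _ (fun n => ?_)
  apply ModuleCat.hom_ext
  apply LinearMap.ext
  intro x
  obtain ⟨a, b⟩ : A.X n × B.X n := x
  show ((a, (0 : B.X n)) : A.X n × B.X n) + ((0 : A.X n), b) = (a, b)
  simp

/-- the concrete direct sum is a biproduct -/
noncomputable def prodIso : prodCx A B ≅ A ⊞ B :=
  biprod.uniqueUpToIso A B (isBinaryBilimitOfTotal
    { pt := prodCx A B, fst := pfst A B, snd := psnd A B, inl := pinl A B, inr := pinr A B,
      inl_fst := pinl_pfst A B, inl_snd := pinl_psnd A B, inr_fst := pinr_pfst A B,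
      inr_snd := pinr_psnd A B } (ptotal A B))

end Prod

section Cone

variable {M N : CochainComplex (ModuleCat.{u} R) ℤ} (φ : M ⟶ N)

/-- differential of the concrete cone -/
noncomputable def cnD (i : ℤ) : (M.X (i+1) × N.X i) →ₗ[R] (M.X (i+1+1) × N.X (i+1)) :=
  LinearMap.prod (-((M.d (i+1) (i+1+1)).hom ∘ₗ LinearMap.fst R _ _))
    ((φ.f (i+1)).hom ∘ₗ LinearMap.fst R _ _ + (N.d i (i+1)).hom ∘ₗ LinearMap.snd R _ _)

@[simp] lemma cnD_apply (i : ℤ) (x : M.X (i+1) × N.X i) : cnD φ i x =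
    (-(M.d (i+1) (i+1+1)).hom x.1, (φ.f (i+1)).hom x.1 + (N.d i (i+1)).hom x.2) := rfl

/-- the concrete mapping cone -/
noncomputable def Cn : CochainComplex (ModuleCat.{u} R) ℤ :=
  CochainComplex.of (fun n => ModuleCat.of R (M.X (n+1) × N.X n))
    (fun n => ModuleCat.ofHom (cnD φ n))
    (fun n => by
      apply ModuleCat.hom_ext
      apply LinearMap.ext
      rintro ⟨a, b⟩
      show cnD φ (n+1) (cnD φ n (a, b)) = 0
      rw [cnD_apply, cnD_apply]
      simp only [map_neg, map_add, dd_apply, neg_zero, add_zero, comm_apply]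
      simp)

lemma Cn_d (n : ℤ) : (Cn φ).d n (n+1) = ModuleCat.ofHom (cnD φ n) := by
  simp [Cn]

end Cone

section ConeId

variable (M : CochainComplex (ModuleCat.{u} R) ℤ)

/-- contracting homotopy of the cone of the identity, degreewise -/
noncomputable def sId (j : ℤ) : (M.X (j+1+1) × M.X (j+1)) →ₗ[R] (M.X (j+1) × M.X j) :=
  (LinearMap.inl R _ _).comp (LinearMap.snd R _ _)

@[simp] lemma sId_apply (j : ℤ) (p : M.X (j+1+1) × M.X (j+1)) : sId M j p = (p.2, 0) := rfl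

/-- the cone of the identity is contractible -/
noncomputable def cnIdHomotopy : Homotopy (𝟙 (Cn (𝟙 M))) 0 where
  hom i j := if h : j + 1 = i then eqToHom (by subst h; rfl) ≫ ModuleCat.ofHom (sId M j) else 0
  zero i j h := dif_neg h
  comm i := by
    obtain ⟨m, rfl⟩ : ∃ m, i = m + 1 := ⟨i - 1, by ring⟩
    rw [dNext_eq _ (show (ComplexShape.up ℤ).Rel (m+1) (m+1+1) from rfl),
      prevD_eq _ (show (ComplexShape.up ℤ).Rel m (m+1) from rfl)]
    simp only [dif_pos, HomologicalComplex.zero_f, add_zero, HomologicalComplex.id_f]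
    rw [Cn_d, Cn_d]
    apply ModuleCat.hom_ext
    apply LinearMap.ext
    intro p
    show p = sId M (m+1) (cnD (𝟙 M) (m+1) p) + cnD (𝟙 M) m (sId M m p)
    obtain ⟨a, b⟩ := p
    simp

end ConeId

section Theta

variable {M N : CochainComplex (ModuleCat.{u} R) ℤ} (φ : M ⟶ N) (ψ : N ⟶ M)
  (H : Homotopy (φ ≫ ψ) (𝟙 M))

/-- the homotopy, degreewise -/
noncomputable def hh (i : ℤ) : M.X (i+1) →ₗ[R] M.X i := (H.hom (i+1) i).hom

include H in
lemma hh_rel (i : ℤ) (m' : M.X (i+1)) :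
    (ψ.f (i+1)).hom ((φ.f (i+1)).hom m') =
      hh φ ψ H (i+1) ((M.d (i+1) (i+1+1)).hom m') + (M.d i (i+1)).hom (hh φ ψ H i m') + m' := by
  have h := H.comm (i+1)
  rw [dNext_eq _ (show (ComplexShape.up ℤ).Rel (i+1) (i+1+1) from rfl),
    prevD_eq _ (show (ComplexShape.up ℤ).Rel i (i+1) from rfl)] at h
  exact congr_arg (fun f => f.hom m') h

/-- auxiliary linear map -/
noncomputable def mn (i : ℤ) : (M.X i × (M.X (i+1) × N.X i)) →ₗ[R] M.X i :=
  LinearMap.fst R _ _ + (ψ.f i).hom ∘ₗ LinearMap.snd R _ _ ∘ₗ LinearMap.snd R _ _ +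
    hh φ ψ H i ∘ₗ LinearMap.fst R _ _ ∘ₗ LinearMap.snd R _ _

@[simp] lemma mn_apply (i : ℤ) (x : M.X i × (M.X (i+1) × N.X i)) :
    mn φ ψ H i x = x.1 + (ψ.f i).hom x.2.2 + hh φ ψ H i x.2.1 := rfl

/-- the isomorphism, forward direction, degreewise -/
noncomputable def thetaL (i : ℤ) :
    (M.X i × (M.X (i+1) × N.X i)) →ₗ[R] (N.X i × (M.X (i+1) × M.X i)) :=
  LinearMap.prod (LinearMap.snd R _ _ ∘ₗ LinearMap.snd R _ _ - (φ.f i).hom ∘ₗ mn φ ψ H i)
    (LinearMap.prod (LinearMap.fst R _ _ ∘ₗ LinearMap.snd R _ _) (mn φ ψ H i))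

@[simp] lemma thetaL_apply (i : ℤ) (x : M.X i × (M.X (i+1) × N.X i)) :
    thetaL φ ψ H i x = (x.2.2 - (φ.f i).hom (x.1 + (ψ.f i).hom x.2.2 + hh φ ψ H i x.2.1),
      (x.2.1, x.1 + (ψ.f i).hom x.2.2 + hh φ ψ H i x.2.1)) := rfl

/-- auxiliary linear map -/
noncomputable def nn (i : ℤ) : (N.X i × (M.X (i+1) × M.X i)) →ₗ[R] N.X i :=
  LinearMap.fst R _ _ + (φ.f i).hom ∘ₗ LinearMap.snd R _ _ ∘ₗ LinearMap.snd R _ _

/-- the isomorphism, backward direction, degreewise -/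
noncomputable def thetaR (i : ℤ) :
    (N.X i × (M.X (i+1) × M.X i)) →ₗ[R] (M.X i × (M.X (i+1) × N.X i)) :=
  LinearMap.prod (LinearMap.snd R _ _ ∘ₗ LinearMap.snd R _ _ - (ψ.f i).hom ∘ₗ nn φ i -
      hh φ ψ H i ∘ₗ LinearMap.fst R _ _ ∘ₗ LinearMap.snd R _ _)
    (LinearMap.prod (LinearMap.fst R _ _ ∘ₗ LinearMap.snd R _ _) (nn φ i))

@[simp] lemma thetaR_apply (i : ℤ) (y : N.X i × (M.X (i+1) × M.X i)) :
    thetaR φ ψ H i y = (y.2.2 - (ψ.f i).hom (y.1 + (φ.f i).hom y.2.2) - hh φ ψ H i y.2.1,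
      (y.2.1, y.1 + (φ.f i).hom y.2.2)) := rfl

/-- the degreewise linear equivalence -/
noncomputable def thetaEquiv (i : ℤ) :
    (M.X i × (M.X (i+1) × N.X i)) ≃ₗ[R] (N.X i × (M.X (i+1) × M.X i)) :=
  LinearEquiv.ofLinearMap (thetaL φ ψ H i) (thetaR φ ψ H i)
    (by
      apply LinearMap.ext
      rintro ⟨a, b, c⟩
      simp only [LinearMap.comp_apply, thetaL_apply, thetaR_apply, LinearMap.id_apply]
      refine Prod.ext ?_ (Prod.ext rfl ?_)
      · dsimp only
        abel_nf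
      · dsimp only
        abel)
    (by
      apply LinearMap.ext
      rintro ⟨a, b, c⟩
      simp only [LinearMap.comp_apply, thetaL_apply, thetaR_apply, LinearMap.id_apply]
      refine Prod.ext ?_ (Prod.ext rfl ?_)
      · dsimp only
        abel_nf
      · dsimp only
        abel)

/-- the isomorphism `M ⊕ Cn φ ≅ N ⊕ Cn (𝟙 M)` of concrete complexes -/
noncomputable def thetaIso : prodCx M (Cn φ) ≅ prodCx N (Cn (𝟙 M)) :=
  HomologicalComplex.Hom.isoOfComponents (fun i => (thetaEquiv φ ψ H i).toModuleIso) (by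
    rintro i j (rfl : i + 1 = j)
    rw [prodCx_d, prodCx_d, Cn_d, Cn_d]
    apply ModuleCat.hom_ext
    apply LinearMap.ext
    rintro ⟨m, m', n⟩
    show LinearMap.prodMap (N.d i (i+1)).hom (cnD (𝟙 M) i) (thetaL φ ψ H i (m, (m', n))) =
      thetaL φ ψ H (i+1) (LinearMap.prodMap (M.d i (i+1)).hom (cnD φ i) (m, (m', n)))
    simp only [LinearMap.prodMap_apply, cnD_apply, thetaL_apply, HomologicalComplex.id_f,
      ModuleCat.hom_id, LinearMap.id_coe, id_eq]
    refine Prod.ext ?_ (Prod.ext rfl ?_)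
    · simp only [map_add, map_sub, map_neg, comm_apply, hh_rel φ ψ H]
      abel
    · simp only [map_add, map_neg, comm_apply, hh_rel φ ψ H]
      abel)

/-- the isomorphism `M ⊞ Cn φ ≅ N ⊞ Cn (𝟙 M)` -/
noncomputable def biprodIso : M ⊞ Cn φ ≅ N ⊞ Cn (𝟙 M) :=
  (prodIso M (Cn φ)).symm ≪≫ thetaIso φ ψ H ≪≫ prodIso N (Cn (𝟙 M))

lemma pinl_theta_pfst :
    pinl M (Cn φ) ≫ (thetaIso φ ψ H).hom ≫ pfst N (Cn (𝟙 M)) = -φ := by
  refine HomologicalComplex.hom_ext _ _ (fun i => ?_)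
  apply ModuleCat.hom_ext
  apply LinearMap.ext
  intro m
  show (thetaL φ ψ H i (m, (0, 0))).1 = -((φ.f i).hom m)
  simp

include H in
/-- if `φ` is an isomorphism in the homotopy category, its concrete cone is contractible -/
theorem contractible_Cn
    (hφ : IsIso ((HomotopyCategory.quotient (ModuleCat.{u} R) (ComplexShape.up ℤ)).map φ)) :
    Nonempty (Homotopy (𝟙 (Cn φ)) 0) := by
  set Fq := HomotopyCategory.quotient (ModuleCat.{u} R) (ComplexShape.up ℤ) with hFq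
  rw [← HomotopyCategory.isZero_quotient_obj_iff]
  have hQ : IsZero (Fq.obj (Cn (𝟙 M))) :=
    (HomotopyCategory.isZero_quotient_obj_iff _).2 ⟨cnIdHomotopy M⟩
  have h1 : Fq.map (pfst N (Cn (𝟙 M))) ≫ Fq.map (pinl N (Cn (𝟙 M))) = 𝟙 _ := by
    rw [← Fq.map_comp, ← Fq.map_id, ← ptotal N (Cn (𝟙 M)), Fq.map_add, Fq.map_comp,
      Fq.map_comp (psnd N (Cn (𝟙 M))), hQ.eq_of_tgt (Fq.map (psnd N (Cn (𝟙 M)))) 0, zero_comp,
      add_zero]
  haveI : IsIso (Fq.map (pfst N (Cn (𝟙 M)))) :=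
    ⟨⟨Fq.map (pinl N (Cn (𝟙 M))), h1, by rw [← Fq.map_comp, pinl_pfst, Fq.map_id]⟩⟩
  haveI : IsIso (Fq.map (pinl M (Cn φ)) ≫
      (Fq.map (thetaIso φ ψ H).hom ≫ Fq.map (pfst N (Cn (𝟙 M))))) := by
    rw [← Fq.map_comp, ← Fq.map_comp, pinl_theta_pfst, Fq.map_neg]
    exact ⟨⟨-inv (Fq.map φ), by simp, by simp⟩⟩
  haveI : IsIso (Fq.map (pinl M (Cn φ))) :=
    IsIso.of_isIso_comp_right _ (Fq.map (thetaIso φ ψ H).hom ≫ Fq.map (pfst N (Cn (𝟙 M))))
  have h3 : Fq.map (psnd M (Cn φ)) = 0 := by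
    rw [← cancel_epi (Fq.map (pinl M (Cn φ))), ← Fq.map_comp, pinl_psnd, Fq.map_zero, comp_zero]
  rw [IsZero.iff_id_eq_zero, ← Fq.map_id, ← pinr_psnd M (Cn φ), Fq.map_comp, h3, comp_zero]

end Theta

end Groth.Agent.Lib.Helper32.ConeSplit
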