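import Mathlib
import Groth.Agent.Lib.Helper12.FlatExtendScalars

/-!
Making finitely many finite projective modules simultaneously free after inverting one element
outside a prime; contractible bounded complexes of finite projectives become "trivial" complexes
(finite free terms, free boundaries) after such a localization.
-/

set_option autoImplicit false
universe u
open CategoryTheory CategoryTheory.Limits TensorProduct

namespace Groth.Agent.Lib.Helper32.LocFreeFam

open Groth.Agent.Lib.Helper12

variable {R : Type u} [CommRing R]

/-- free after base change to `R_f` for all multiples `f` of `r` -/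
def FreeAbove (r : R) (X : Type u) [AddCommGroup X] [Module R X] : Prop :=
  ∀ f : R, r ∣ f → Module.Free (Localization.Away f) (Localization.Away f ⊗[R] X)

lemma FreeAbove.of_dvd {r r' : R} (h : r ∣ r') {X : Type u} [AddCommGroup X] [Module R X]
    (hX : FreeAbove r X) : FreeAbove r' X := fun f hf => hX f (h.trans hf)

lemma subsingleton_tensor (S : Type u) [CommRing S] [Algebra R S] (X : Type u) [AddCommGroup X]
    [Module R X] [Subsingleton X] : Subsingleton (S ⊗[R] X) := by
  refine ⟨fun x y => ?_⟩
  have h0 : ∀ z : S ⊗[R] X, z = 0 := fun z => by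
    induction z using TensorProduct.induction_on with
    | zero => rfl
    | tmul s m => rw [Subsingleton.elim m 0, TensorProduct.tmul_zero]
    | add x y hx hy => rw [hx, hy, add_zero]
  rw [h0 x, h0 y]

lemma free_tensor_of_free_away (X : Type u) [AddCommGroup X] [Module R X] (r f : R) (hrf : r ∣ f)
    (hfree : Module.Free (Localization.Away r) (LocalizedModule (Submonoid.powers r) X)) :
    Module.Free (Localization.Away f) (Localization.Away f ⊗[R] X) := by
  have e1 : Localization.Away r ⊗[R] X ≃ₗ[Localization.Away r]
      LocalizedModule (Submonoid.powers r) X :=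
    (IsLocalizedModule.isBaseChange (Submonoid.powers r) (Localization.Away r)
      (LocalizedModule.mkLinearMap (Submonoid.powers r) X)).equiv
  haveI : Module.Free (Localization.Away r) (Localization.Away r ⊗[R] X) :=
    Module.Free.of_equiv e1.symm
  have hunit : IsUnit (algebraMap R (Localization.Away f) r) :=
    isUnit_of_dvd_unit (map_dvd _ hrf) (IsLocalization.Away.algebraMap_isUnit f)
  letI : Algebra (Localization.Away r) (Localization.Away f) :=
    (IsLocalization.Away.lift r hunit).toAlgebra
  haveI : IsScalarTower R (Localization.Away r) (Localization.Away f) :=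
    IsScalarTower.of_algebraMap_eq (fun x => (IsLocalization.Away.lift_eq r hunit x).symm)
  exact Module.Free.of_equiv (TensorProduct.AlgebraTensorModule.cancelBaseChange R
    (Localization.Away r) (Localization.Away f) (Localization.Away f) X)

theorem exists_freeAbove (p : Ideal R) [p.IsPrime] (X : Type u) [AddCommGroup X] [Module R X]
    [Module.Finite R X] [Module.Projective R X] : ∃ r, r ∉ p ∧ FreeAbove r X := by
  haveI : Module.FinitePresentation R X := Module.finitePresentation_of_projective R X
  haveI : Module.Free (Localization.AtPrime p) (LocalizedModule p.primeCompl X) :=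
    Module.free_of_flat_of_isLocalRing
  obtain ⟨r, hr, hfr, -⟩ := Module.FinitePresentation.exists_free_localizedModule_powers
    p.primeCompl (LocalizedModule.mkLinearMap p.primeCompl X) (Localization.AtPrime p)
  exact ⟨r, hr, fun f hf => free_tensor_of_free_away X r f hf hfr⟩

theorem exists_freeAbove_family (p : Ideal R) [hp : p.IsPrime] (X : ℤ → Type u)
    [∀ i, AddCommGroup (X i)] [∀ i, Module R (X i)] (hfin : ∀ i, Module.Finite R (X i))
    (hproj : ∀ i, Module.Projective R (X i)) (a b : ℤ)
    (hz : ∀ i, i < a ∨ b < i → Subsingleton (X i)) :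
    ∃ r, r ∉ p ∧ ∀ i, FreeAbove r (X i) := by
  choose r hr hfree using fun i =>
    (haveI := hfin i; haveI := hproj i; exists_freeAbove p (X i))
  refine ⟨∏ i ∈ Finset.Icc a b, r i, ?_, fun i f hf => ?_⟩
  · rw [hp.prod_mem_iff]
    rintro ⟨i, _, hi⟩
    exact hr i hi
  · by_cases hi : i ∈ Finset.Icc a b
    · exact hfree i f ((Finset.dvd_prod_of_mem r hi).trans hf)
    · haveI : Subsingleton (X i) := hz i (by rw [Finset.mem_Icc] at hi; omega)
      haveI := subsingleton_tensor (R := R) (Localization.Away f) (X i)
      exact Module.Free.of_subsingleton _ _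

/-- boundaries of a contractible complex are retracts of the terms -/
lemma range_d_projective (K : CochainComplex (ModuleCat.{u} R) ℤ) (s : Homotopy (𝟙 K) 0) (i : ℤ)
    [Module.Projective R (K.X (i+1))] :
    Module.Projective R (LinearMap.range (K.d i (i+1)).hom) := by
  let ρ : K.X (i+1) →ₗ[R] LinearMap.range (K.d i (i+1)).hom :=
    ((K.d i (i+1)).hom.rangeRestrict).comp (s.hom (i+1) i).hom
  refine Module.Projective.of_split (LinearMap.range (K.d i (i+1)).hom).subtype ρ ?_
  apply LinearMap.ext
  rintro ⟨_, y, rfl⟩
  apply Subtype.ext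
  show (K.d i (i+1)).hom ((s.hom (i+1) i).hom ((K.d i (i+1)).hom y)) = (K.d i (i+1)).hom y
  have h := s.comm (i+1)
  rw [dNext_eq _ (show (ComplexShape.up ℤ).Rel (i+1) (i+1+1) from rfl),
    prevD_eq _ (show (ComplexShape.up ℤ).Rel i (i+1) from rfl)] at h
  have h' := congr_arg (fun f => f.hom ((K.d i (i+1)).hom y)) h
  have hdd : (K.d (i+1) (i+1+1)).hom ((K.d i (i+1)).hom y) = 0 :=
    congr_arg (fun f => f.hom y) (K.d_comp_d i (i+1) (i+1+1))
  simp only [HomologicalComplex.id_f, HomologicalComplex.zero_f, add_zero, ModuleCat.hom_id,
    LinearMap.id_coe, id_eq, ModuleCat.hom_add, ModuleCat.hom_comp, LinearMap.add_apply,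
    LinearMap.comp_apply, hdd, map_zero, zero_add] at h'
  exact h'.symm

section Range

variable {S : Type u} [CommRing S] [Algebra R S] [Module.Flat R S]

lemma free_range_extSc {X Y : ModuleCat.{u} R} (d : X ⟶ Y)
    (hfree : Module.Free S (S ⊗[R] LinearMap.range d.hom)) :
    Module.Free S (LinearMap.range ((extSc R S).map d).hom) := by
  let B : ModuleCat.{u} R := ModuleCat.of R (LinearMap.range d.hom)
  let π : X ⟶ B := ModuleCat.ofHom d.hom.rangeRestrict
  let ι : B ⟶ Y := ModuleCat.ofHom (LinearMap.range d.hom).subtype
  have hd : d = π ≫ ι := by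
    apply ModuleCat.hom_ext
    rfl
  haveI : Epi π := (ModuleCat.epi_iff_surjective π).2 (LinearMap.surjective_rangeRestrict _)
  haveI : Mono ι := (ModuleCat.mono_iff_injective ι).2 (Submodule.injective_subtype _)
  have hπ : Function.Surjective ((extSc R S).map π).hom :=
    (ModuleCat.epi_iff_surjective ((extSc R S).map π)).1 inferInstance
  have hι : Function.Injective ((extSc R S).map ι).hom :=
    (ModuleCat.mono_iff_injective ((extSc R S).map ι)).1 inferInstance
  have hr : LinearMap.range ((extSc R S).map d).hom = LinearMap.range ((extSc R S).map ι).hom := by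
    rw [hd, Functor.map_comp, ModuleCat.hom_comp,
      LinearMap.range_comp_of_range_eq_top _ (LinearMap.range_eq_top.2 hπ)]
  rw [hr]
  haveI : Module.Free S ((extSc R S).obj B) :=
    Module.Free.of_equiv (extScObjEquiv (A := R) (B := S) (LinearMap.range d.hom)).symm
  exact Module.Free.of_equiv (LinearEquiv.ofInjective _ hι)

end Range

end Groth.Agent.Lib.Helper32.LocFreeFam
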