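import Mathlib
import Groth.Agent.Lib.Helper32.ConeSplit
import Groth.Agent.Lib.Helper32.LocFreeFam

/-!
Bounded complexes of finite projectives isomorphic in `D(R)` differ, after inverting an element
outside a given prime, by trivial complexes.
-/

set_option autoImplicit false
universe u
open CategoryTheory CategoryTheory.Limits TensorProduct

namespace Groth.Agent.Lib.Helper32.ConeTrivial

open Groth.Agent.Lib.Helper12 Groth.Agent.Lib.Helper32.ConeSplit Groth.Agent.Lib.Helper32.LocFreeFam

attribute [local instance] HasDerivedCategory.standard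

variable {R : Type u} [CommRing R]

section PartA

open DerivedCategory

/-- an isomorphism in `D(R)` between bounded above complexes of projectives comes from a
homotopy equivalence -/
theorem exists_homotopyEquiv_of_iso (M N : DRing.Cx R) (b : ℤ)
    (hMb : ∀ i : ℤ, b < i → IsZero (M.X i)) (hNb : ∀ i : ℤ, b < i → IsZero (N.X i))
    (hMp : ∀ i, Module.Projective R (M.X i)) (hNp : ∀ i, Module.Projective R (N.X i))
    (e : DRing.toD M ≅ DRing.toD N) :
    ∃ (φ : M ⟶ N) (ψ : N ⟶ M), Nonempty (Homotopy (φ ≫ ψ) (𝟙 M)) ∧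
      IsIso ((HomotopyCategory.quotient (ModuleCat.{u} R) (ComplexShape.up ℤ)).map φ) := by
  haveI : M.IsStrictlyLE b := by
    rw [CochainComplex.isStrictlyLE_iff]
    exact fun i hi => hMb i hi
  haveI : N.IsStrictlyLE b := by
    rw [CochainComplex.isStrictlyLE_iff]
    exact fun i hi => hNb i hi
  haveI : ∀ n, Projective (M.X n) := fun n => by
    haveI := hMp n
    infer_instance
  haveI : ∀ n, Projective (N.X n) := fun n => by
    haveI := hNp n
    infer_instance
  haveI : M.IsKProjective := CochainComplex.isKProjective_of_projective M b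
  haveI : N.IsKProjective := CochainComplex.isKProjective_of_projective N b
  set Fq := HomotopyCategory.quotient (ModuleCat.{u} R) (ComplexShape.up ℤ) with hFq
  let e' : Qh.obj (Fq.obj M) ≅ Qh.obj (Fq.obj N) :=
    (quotientCompQhIso (ModuleCat.{u} R)).app M ≪≫ e ≪≫ ((quotientCompQhIso (ModuleCat.{u} R)).app N).symm
  obtain ⟨φ', hφ'⟩ := (CochainComplex.IsKProjective.Qh_map_bijective M (Fq.obj N)).surjective e'.hom
  obtain ⟨ψ', hψ'⟩ := (CochainComplex.IsKProjective.Qh_map_bijective N (Fq.obj M)).surjective e'.inv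
  have h1 : φ' ≫ ψ' = 𝟙 _ :=
    (CochainComplex.IsKProjective.Qh_map_bijective M (Fq.obj M)).injective
      (by rw [CategoryTheory.Functor.map_comp, hφ', hψ', e'.hom_inv_id, CategoryTheory.Functor.map_id])
  have h2 : ψ' ≫ φ' = 𝟙 _ :=
    (CochainComplex.IsKProjective.Qh_map_bijective N (Fq.obj N)).injective
      (by rw [CategoryTheory.Functor.map_comp, hφ', hψ', e'.inv_hom_id, CategoryTheory.Functor.map_id])
  obtain ⟨φ, rfl⟩ := Fq.map_surjective φ'
  obtain ⟨ψ, rfl⟩ := Fq.map_surjective ψ'
  refine ⟨φ, ψ, ⟨HomotopyCategory.homotopyOfEq _ _ ?_⟩, ⟨⟨Fq.map ψ, h1, h2⟩⟩⟩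
  rw [CategoryTheory.Functor.map_comp, CategoryTheory.Functor.map_id]
  exact h1

end PartA

section Complexes

variable (K : DRing.Cx R)

/-- common denominator for a bounded contractible complex of finite projectives -/
theorem exists_freeAbove_complex (p : Ideal R) [hp : p.IsPrime] (a b : ℤ)
    (hK : DRing.VanishesOutside K a b) (hfp : DRing.TermwiseFiniteProjective K)
    (s : Homotopy (𝟙 K) 0) :
    ∃ r, r ∉ p ∧ (∀ i, FreeAbove r (K.X i)) ∧
      ∀ i, FreeAbove r (LinearMap.range (K.d i (i+1)).hom) := by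
  obtain ⟨r₁, hr₁, h₁⟩ := exists_freeAbove_family p (X := fun i => K.X i) (fun i => (hfp i).1)
    (fun i => (hfp i).2) a b (fun i hi => ModuleCat.subsingleton_of_isZero (hK i hi))
  obtain ⟨r₂, hr₂, h₂⟩ := exists_freeAbove_family p
    (X := fun i => LinearMap.range (K.d i (i+1)).hom)
    (fun i => by
      haveI := (hfp i).1
      infer_instance)
    (fun i => by
      haveI := (hfp (i+1)).2
      exact range_d_projective K s i) (a - 1) b
    (fun i hi => by
      haveI : Subsingleton (K.X (i+1)) :=
        ModuleCat.subsingleton_of_isZero (hK (i+1) (by omega))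
      infer_instance)
  exact ⟨r₁ * r₂, fun h => (hp.mem_or_mem h).elim hr₁ hr₂,
    fun i => (h₁ i).of_dvd (dvd_mul_right _ _), fun i => (h₂ i).of_dvd (dvd_mul_left _ _)⟩

variable {S : Type u} [CommRing S] [Algebra R S] [Module.Flat R S]

/-- a bounded contractible complex becomes trivial after a flat base change making terms and
boundaries free -/
theorem trivial_extSc (a b : ℤ) (hK : DRing.VanishesOutside K a b)
    (hfin : ∀ i, Module.Finite R (K.X i)) (s : Homotopy (𝟙 K) 0)
    (hX : ∀ i, Module.Free S (S ⊗[R] K.X i))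
    (hB : ∀ i, Module.Free S (S ⊗[R] LinearMap.range (K.d i (i+1)).hom)) :
    (∃ a' b' : ℤ, DRing.VanishesOutside
        (((extSc R S).mapHomologicalComplex (ComplexShape.up ℤ)).obj K) a' b') ∧
      DRing.TermwiseFiniteFree (((extSc R S).mapHomologicalComplex (ComplexShape.up ℤ)).obj K) ∧
      (∀ i : ℤ, Module.Free S (LinearMap.range
        ((((extSc R S).mapHomologicalComplex (ComplexShape.up ℤ)).obj K).d i (i+1)).hom)) ∧
      Nonempty (Homotopy (𝟙 (((extSc R S).mapHomologicalComplex (ComplexShape.up ℤ)).obj K)) 0) := by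
  refine ⟨⟨a, b, fun i hi => (extSc R S).map_isZero (hK i hi)⟩, fun i => ⟨?_, ?_⟩,
    fun i => free_range_extSc (K.d i (i+1)) (hB i), ⟨?_⟩⟩
  · haveI := hfin i
    exact Module.Finite.equiv (extScObjEquiv (A := R) (B := S) (K.X i)).symm
  · haveI := hX i
    exact Module.Free.of_equiv (extScObjEquiv (A := R) (B := S) (K.X i)).symm
  · exact (Homotopy.ofEq (by simp)).trans
      (((extSc R S).mapHomotopy s).trans (Homotopy.ofEq (by simp)))

end Complexes

section ConeProps

variable {M N : DRing.Cx R} (φ : M ⟶ N)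

lemma Cn_vanishes (a b : ℤ) (hM : DRing.VanishesOutside M a b) (hN : DRing.VanishesOutside N a b) :
    DRing.VanishesOutside (Cn φ) (a - 1) b := by
  intro i hi
  haveI : Subsingleton (M.X (i+1)) := ModuleCat.subsingleton_of_isZero (hM (i+1) (by omega))
  haveI : Subsingleton (N.X i) := ModuleCat.subsingleton_of_isZero (hN i (by omega))
  exact ModuleCat.isZero_of_subsingleton (ModuleCat.of R (M.X (i+1) × N.X i))

lemma Cn_fp (hM : DRing.TermwiseFiniteProjective M) (hN : DRing.TermwiseFiniteProjective N) :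
    DRing.TermwiseFiniteProjective (Cn φ) := fun i => by
  haveI := (hM (i+1)).1
  haveI := (hM (i+1)).2
  haveI := (hN i).1
  haveI := (hN i).2
  exact ⟨inferInstanceAs (Module.Finite R (M.X (i+1) × N.X i)),
    inferInstanceAs (Module.Projective R (M.X (i+1) × N.X i))⟩

end ConeProps

end Groth.Agent.Lib.Helper32.ConeTrivial
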