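import Mathlib

set_option autoImplicit false
open CategoryTheory CategoryTheory.Limits
universe v u

namespace Groth.Agent.Lib.Helper32.ConnLim

variable {C : Type u} [Category.{v} C]

/-- Joint equalizer of a finite list of parallel pairs out of `P`. -/
lemma exists_joint_equalizer_list [HasEqualizers C] (P : C)
    (l : List (Σ Y : C, (P ⟶ Y) × (P ⟶ Y))) :
    ∃ (E : C) (e : E ⟶ P), Mono e ∧ (∀ x ∈ l, e ≫ x.2.1 = e ≫ x.2.2) ∧
      ∀ {T : C} (t : T ⟶ P), (∀ x ∈ l, t ≫ x.2.1 = t ≫ x.2.2) → ∃ s : T ⟶ E, s ≫ e = t := by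
  induction l with
  | nil => exact ⟨P, 𝟙 P, inferInstance, by simp, fun t _ => ⟨t, by simp⟩⟩
  | cons x l ih =>
    obtain ⟨E₀, e₀, hmono, heq, hlift⟩ := ih
    refine ⟨equalizer (e₀ ≫ x.2.1) (e₀ ≫ x.2.2), equalizer.ι _ _ ≫ e₀, mono_comp _ _, ?_, ?_⟩
    · intro y hy
      rcases List.mem_cons.1 hy with rfl | hy
      · simpa using equalizer.condition (e₀ ≫ y.2.1) (e₀ ≫ y.2.2)
      · simp [heq y hy]
    · intro T t ht
      obtain ⟨s₀, hs₀⟩ := hlift t (fun y hy => ht y (List.mem_cons_of_mem _ hy))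
      have hx : s₀ ≫ e₀ ≫ x.2.1 = s₀ ≫ e₀ ≫ x.2.2 := by
        rw [reassoc_of% hs₀, reassoc_of% hs₀]
        exact ht x (List.mem_cons_self ..)
      exact ⟨equalizer.lift s₀ hx, by rw [equalizer.lift_ι_assoc, hs₀]⟩

lemma exists_joint_equalizer [HasEqualizers C] (P : C) {K : Type*} [Finite K]
    (Y : K → C) (f g : ∀ k, P ⟶ Y k) :
    ∃ (E : C) (e : E ⟶ P), Mono e ∧ (∀ k, e ≫ f k = e ≫ g k) ∧
      ∀ {T : C} (t : T ⟶ P), (∀ k, t ≫ f k = t ≫ g k) → ∃ s : T ⟶ E, s ≫ e = t := by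
  classical
  have := Fintype.ofFinite K
  obtain ⟨E, e, hmono, heq, hlift⟩ := exists_joint_equalizer_list P
    ((Finset.univ : Finset K).toList.map (fun k => ⟨Y k, f k, g k⟩))
  refine ⟨E, e, hmono, fun k => ?_, fun t ht => hlift t ?_⟩
  · exact heq ⟨Y k, f k, g k⟩ (List.mem_map.2 ⟨k, by simp, rfl⟩)
  · intro x hx
    obtain ⟨k, -, rfl⟩ := List.mem_map.1 hx
    exact ht k


variable {J : Type} [SmallCategory J] [FinCategory J] (D : J ⥤ C)

/-- compatible families indexed by `S`. -/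
def Compat {T : C} (S : Finset J) (q : ∀ j, j ∈ S → (T ⟶ D.obj j)) : Prop :=
  ∀ (j j' : J) (hj : j ∈ S) (hj' : j' ∈ S) (a : j ⟶ j'), q j hj ≫ D.map a = q j' hj'

def HasPre (S : Finset J) : Prop :=
  ∃ (P : C) (π : ∀ j, j ∈ S → (P ⟶ D.obj j)),
    (∀ {T : C} (f g : T ⟶ P), (∀ j hj, f ≫ π j hj = g ≫ π j hj) → f = g) ∧
    (∀ {T : C} (q : ∀ j, j ∈ S → (T ⟶ D.obj j)), Compat D S q →
      ∃ t : T ⟶ P, ∀ j hj, t ≫ π j hj = q j hj)

def HasPartial (S : Finset J) : Prop :=
  ∃ (P : C) (π : ∀ j, j ∈ S → (P ⟶ D.obj j)), Compat D S π ∧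
    (∀ {T : C} (f g : T ⟶ P), (∀ j hj, f ≫ π j hj = g ≫ π j hj) → f = g) ∧
    (∀ {T : C} (q : ∀ j, j ∈ S → (T ⟶ D.obj j)), Compat D S q →
      ∃ t : T ⟶ P, ∀ j hj, t ≫ π j hj = q j hj)

lemma hasPartial_of_hasPre [HasEqualizers C] (S : Finset J) (h : HasPre D S) :
    HasPartial D S := by
  obtain ⟨P, π, hext, hlift⟩ := h
  let K := Σ (i : {x // x ∈ S}) (i' : {x // x ∈ S}), (i.1 ⟶ i'.1)
  obtain ⟨E, e, hmono, heq, hE⟩ := exists_joint_equalizer P (K := K) (fun k => D.obj k.2.1.1)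
    (fun k => π k.1.1 k.1.2 ≫ D.map k.2.2) (fun k => π k.2.1.1 k.2.1.2)
  refine ⟨E, fun j hj => e ≫ π j hj, ?_, ?_, ?_⟩
  · intro j j' hj hj' a
    simpa using heq ⟨⟨j, hj⟩, ⟨j', hj'⟩, a⟩
  · intro T f g h
    rw [← cancel_mono e]
    exact hext _ _ (fun j hj => by simpa using h j hj)
  · intro T q hq
    obtain ⟨t, ht⟩ := hlift q hq
    obtain ⟨s, hs⟩ := hE t (fun k => by
      rw [reassoc_of% (ht k.1.1 k.1.2), ht]; exact hq _ _ _ _ _)
    exact ⟨s, fun j hj => by rw [reassoc_of% hs, ht]⟩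

lemma hasPre_singleton (j₀ : J) : HasPre D {j₀} := by
  refine ⟨D.obj j₀, fun j hj => eqToHom (by rw [Finset.mem_singleton.1 hj]), ?_, ?_⟩
  · intro T f g h
    simpa using h j₀ (Finset.mem_singleton_self _)
  · intro T q hq
    refine ⟨q j₀ (Finset.mem_singleton_self _), fun j hj => ?_⟩
    obtain rfl := Finset.mem_singleton.1 hj
    simp

lemma hasPre_insert_of_hom_from [DecidableEq J] (S : Finset J) (h : HasPartial D S) {j j' : J}
    (hj : j ∈ S) (hj' : j' ∉ S) (a : j ⟶ j') : HasPre D (insert j' S) := by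
  obtain ⟨P, π, hπ, hext, hlift⟩ := h
  refine ⟨P, fun i hi => if h : i = j' then π j hj ≫ D.map a ≫ eqToHom (by rw [h])
    else π i ((Finset.mem_insert.1 hi).resolve_left h), ?_, ?_⟩
  · intro T f g hfg
    refine hext f g (fun i hi => ?_)
    have hne : i ≠ j' := fun h => hj' (h ▸ hi)
    simpa [hne] using hfg i (Finset.mem_insert_of_mem hi)
  · intro T q hq
    obtain ⟨t, ht⟩ := hlift (fun i hi => q i (Finset.mem_insert_of_mem hi))
      (fun _ _ _ _ a => hq _ _ _ _ a)
    refine ⟨t, fun i hi => ?_⟩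
    by_cases h : i = j'
    · subst h
      simp only [dif_pos]
      rw [reassoc_of% (ht j hj)]
      simpa using hq _ _ _ _ a
    · simp only [dif_neg h]
      exact ht i _

lemma hasPre_insert_of_hom_to [HasPullbacks C] [DecidableEq J] (S : Finset J)
    (h : HasPartial D S) {j j' : J}
    (hj : j ∈ S) (hj' : j' ∉ S) (a : j' ⟶ j) : HasPre D (insert j' S) := by
  obtain ⟨P, π, hπ, hext, hlift⟩ := h
  refine ⟨pullback (π j hj) (D.map a),
    fun i hi => if h : i = j' then pullback.snd _ _ ≫ eqToHom (by rw [h])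
      else pullback.fst _ _ ≫ π i ((Finset.mem_insert.1 hi).resolve_left h), ?_, ?_⟩
  · intro T f g hfg
    apply pullback.hom_ext
    · refine hext _ _ (fun i hi => ?_)
      have hne : i ≠ j' := fun h => hj' (h ▸ hi)
      simpa [hne] using hfg i (Finset.mem_insert_of_mem hi)
    · simpa using hfg j' (Finset.mem_insert_self _ _)
  · intro T q hq
    obtain ⟨t, ht⟩ := hlift (fun i hi => q i (Finset.mem_insert_of_mem hi))
      (fun _ _ _ _ a => hq _ _ _ _ a)
    refine ⟨pullback.lift t (q j' (Finset.mem_insert_self _ _))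
      (by rw [ht j hj]; exact (hq _ _ _ _ a).symm), fun i hi => ?_⟩
    by_cases h : i = j'
    · subst h
      simp only [dif_pos, eqToHom_refl, Category.comp_id]
      exact pullback.lift_snd _ _ _
    · simp only [dif_neg h]
      rw [pullback.lift_fst_assoc]
      exact ht i _

lemma hasLimit_of_hasPartial_univ (h : HasPartial D Finset.univ) : HasLimit D := by
  obtain ⟨P, π, hπ, hext, hlift⟩ := h
  refine ⟨⟨⟨{ pt := P, π := { app := fun j => π j (Finset.mem_univ j), naturality := ?_ } }, ?_⟩⟩⟩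
  · intro j j' a
    simpa using (hπ _ _ _ _ a).symm
  · exact
      { lift := fun s => (hlift (fun j _ => s.π.app j) (fun _ _ _ _ a => s.w a)).choose
        fac := fun s j =>
          (hlift (fun j _ => s.π.app j) (fun _ _ _ _ a => s.w a)).choose_spec j _
        uniq := fun s m hm => hext _ _ (fun j hj => by
          rw [(hlift (fun j _ => s.π.app j) (fun _ _ _ _ a => s.w a)).choose_spec j _]
          exact hm j) }

lemma exists_hom_of_ne_univ [IsConnected J] (S : Finset J) (hS : S.Nonempty)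
    (hne : S ≠ Finset.univ) :
    ∃ (j j' : J), j ∈ S ∧ j' ∉ S ∧ (Nonempty (j ⟶ j') ∨ Nonempty (j' ⟶ j)) := by
  by_contra hcon
  push Not at hcon
  obtain ⟨j₀, hj₀⟩ := hS
  apply hne
  ext j
  simp only [Finset.mem_univ, iff_true]
  refine induct_on_objects (fun j => j ∈ S) hj₀ (fun {j₁ j₂} a => ?_) j
  constructor
  · intro h1
    by_contra h2
    exact (hcon j₁ j₂ h1 h2).1.false a
  · intro h2
    by_contra h1
    exact (hcon j₂ j₁ h2 h1).2.false a

theorem hasPartial_univ [HasEqualizers C] [HasPullbacks C] [IsConnected J] :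
    HasPartial D Finset.univ := by
  classical
  suffices ∀ (n : ℕ) (S : Finset J), S.Nonempty → HasPartial D S → Sᶜ.card = n →
      HasPartial D Finset.univ by
    obtain ⟨j₀⟩ : Nonempty J := inferInstance
    exact this _ {j₀} (Finset.singleton_nonempty _)
      (hasPartial_of_hasPre D _ (hasPre_singleton D j₀)) rfl
  intro n
  induction n with
  | zero =>
    intro S _ hS hc
    have : S = Finset.univ := by
      simpa [Finset.card_eq_zero, Finset.compl_eq_empty_iff] using hc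
    exact this ▸ hS
  | succ n ih =>
    intro S hne hS hc
    have hSne : S ≠ Finset.univ := by
      rintro rfl
      simp at hc
    obtain ⟨j, j', hj, hj', ha⟩ := exists_hom_of_ne_univ S hne hSne
    have hpre : HasPre D (insert j' S) := by
      rcases ha with ⟨⟨a⟩⟩ | ⟨⟨a⟩⟩
      · exact hasPre_insert_of_hom_from D S hS hj hj' a
      · exact hasPre_insert_of_hom_to D S hS hj hj' a
    refine ih (insert j' S) (Finset.insert_nonempty _ _) (hasPartial_of_hasPre D _ hpre) ?_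
    rw [Finset.compl_insert, Finset.card_erase_of_mem (Finset.mem_compl.2 hj'), hc]
    rfl

theorem main [HasEqualizers C] [HasPullbacks C]
    (J : Type) [SmallCategory J] [FinCategory J] [IsConnected J] : HasLimitsOfShape J C :=
  ⟨fun D => hasLimit_of_hasPartial_univ D (hasPartial_univ D)⟩

end Groth.Agent.Lib.Helper32.ConnLim
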