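import Mathlib

set_option autoImplicit false
open CategoryTheory Limits Opposite

universe u

namespace Groth.Agent.Lib.Helper32.ConstSec

variable {C : Type u} [SmallCategory C] (J : GrothendieckTopology C) (Λ : Type u) [CommRing Λ]

/-- Sections over `U` of the constant sheaf, as a functor of the module. -/
noncomputable def Phi (U : C) : ModuleCat.{u} Λ ⥤ ModuleCat.{u} Λ :=
  constantSheaf J (ModuleCat.{u} Λ) ⋙ sheafToPresheaf J (ModuleCat.{u} Λ) ⋙
    (evaluation Cᵒᵖ (ModuleCat.{u} Λ)).obj (op U)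

lemma Phi_obj (U : C) (M : ModuleCat.{u} Λ) :
    (Phi J Λ U).obj M = ((constantSheaf J (ModuleCat.{u} Λ)).obj M).obj.obj (op U) := rfl

lemma Phi_map (U : C) {M N : ModuleCat.{u} Λ} (f : M ⟶ N) :
    (Phi J Λ U).map f = ((constantSheaf J (ModuleCat.{u} Λ)).map f).hom.app (op U) := rfl

instance : PreservesFiniteLimits (constantSheaf J (ModuleCat.{u} Λ)) := by
  unfold constantSheaf
  infer_instance

instance (U : C) : PreservesFiniteLimits (Phi J Λ U) := by
  unfold Phi
  infer_instance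

instance (U : C) : (Phi J Λ U).Additive := by
  unfold Phi
  infer_instance

/-- the comparison of the underlying sheaf of sets of a constant sheaf of modules with the
constant sheaf of sets -/
noncomputable abbrev cc :=
  constantCommuteCompose J (forget (ModuleCat.{u} Λ))

/-- the morphism of sheaves of sets induced by a map of sets between modules -/
noncomputable def setMap {M N : ModuleCat.{u} Λ} (σ : M → N) :
    (sheafCompose J (forget (ModuleCat.{u} Λ))).obj ((constantSheaf J (ModuleCat.{u} Λ)).obj M) ⟶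
      (sheafCompose J (forget (ModuleCat.{u} Λ))).obj ((constantSheaf J (ModuleCat.{u} Λ)).obj N) :=
  (cc J Λ).hom.app M ≫ (constantSheaf J (Type u)).map (TypeCat.ofHom σ) ≫ (cc J Λ).inv.app N

lemma setMap_comp_hom {M N N' : ModuleCat.{u} Λ} (σ : M → N) (g : N ⟶ N') :
    setMap J Λ σ ≫ (sheafCompose J (forget (ModuleCat.{u} Λ))).map
      ((constantSheaf J (ModuleCat.{u} Λ)).map g) = setMap J Λ (fun m => g (σ m)) := by
  have h := (cc J Λ).inv.naturality g
  dsimp only [Functor.comp_map] at h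
  rw [setMap, setMap, Category.assoc, Category.assoc, ← h, ← Category.assoc
    ((constantSheaf J (Type u)).map _), ← Functor.map_comp]
  rfl

lemma setMap_id (M : ModuleCat.{u} Λ) : setMap J Λ (fun m : M => m) = 𝟙 _ := by
  rw [setMap]
  have : (TypeCat.ofHom (fun m : M => m)) = 𝟙 ((forget (ModuleCat.{u} Λ)).obj M) := rfl
  rw [this, CategoryTheory.Functor.map_id]
  erw [Category.id_comp]
  exact Iso.hom_inv_id_app _ _

/-- Sections of constant sheaves lift along surjections. -/
lemma Phi_map_surjective (U : C) {N N' : ModuleCat.{u} Λ} (g : N ⟶ N')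
    (hg : Function.Surjective g) : Function.Surjective ((Phi J Λ U).map g) := by
  intro c
  refine ⟨(setMap J Λ (Function.surjInv hg)).hom.app (op U) c, ?_⟩
  have h := setMap_comp_hom J Λ (Function.surjInv hg) g
  rw [show (fun m => g (Function.surjInv hg m)) = fun m => m from
    funext (Function.surjInv_eq hg), setMap_id] at h
  exact congrArg (fun φ => φ.hom.app (op U) c) h

/-- `Phi` is `Λ`-linear on identities. -/
lemma Phi_map_smul_id (U : C) (M : ModuleCat.{u} Λ) (a : Λ) :
    (Phi J Λ U).map (a • 𝟙 M) = a • 𝟙 _ := by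
  let P : Cᵒᵖ ⥤ ModuleCat.{u} Λ := (Functor.const Cᵒᵖ).obj M
  let τ : sheafify J P ⟶ sheafify J P :=
    { app := fun V => a • 𝟙 _
      naturality := by
        intro V W i
        rw [Linear.smul_comp, Linear.comp_smul, Category.id_comp, Category.comp_id] }
  have key : sheafifyMap J ((Functor.const Cᵒᵖ).map (a • 𝟙 M)) = τ := by
    apply sheafify_hom_ext _ _ _ ((presheafToSheaf J (ModuleCat.{u} Λ)).obj P).property
    rw [← toSheafify_naturality]
    ext V : 2
    rw [NatTrans.comp_app, NatTrans.comp_app]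
    show (a • 𝟙 M) ≫ (toSheafify J P).app V = (toSheafify J P).app V ≫ (a • 𝟙 _)
    rw [Linear.smul_comp, Linear.comp_smul, Category.id_comp, Category.comp_id]
  have := congrArg (fun φ => φ.app (op U)) key
  exact this

lemma Phi_map_smul (U : C) {M N : ModuleCat.{u} Λ} (f : M ⟶ N) (a : Λ) :
    (Phi J Λ U).map (a • f) = a • (Phi J Λ U).map f := by
  have : a • f = (a • 𝟙 M) ≫ f := by rw [Linear.smul_comp, Category.id_comp]
  rw [this, Functor.map_comp, Phi_map_smul_id, Linear.smul_comp, Category.id_comp]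

/-- Right exactness of `Phi`, elementwise. -/
lemma Phi_exact (U : C) {A B D : ModuleCat.{u} Λ} (f : A ⟶ B) (g : B ⟶ D)
    (hfg : Function.Exact f g) (hg : Function.Surjective g) :
    Function.Exact ((Phi J Λ U).map f) ((Phi J Λ U).map g) := by
  have hz : f ≫ g = 0 := by
    ext x
    exact hfg.apply_apply_eq_zero x
  let S : ShortComplex (ModuleCat.{u} Λ) := ShortComplex.mk f g hz
  have hS : S.Exact := by
    rw [ShortComplex.moduleCat_exact_iff]
    intro x hx
    exact (hfg x).1 hx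
  haveI : Epi S.g := (ModuleCat.epi_iff_surjective g).2 hg
  have h1 : ∀ (T : ShortComplex (ModuleCat.{u} Λ)), T.ShortExact →
      (T.map (Phi J Λ U)).Exact ∧ Epi ((Phi J Λ U).map T.g) := by
    intro T hT
    refine ⟨(((Phi J Λ U).preservesFiniteLimits_iff_forall_exact_map_and_mono).1
      inferInstance T hT).1, ?_⟩
    haveI := hT.epi_g
    exact (ModuleCat.epi_iff_surjective _).2
      (Phi_map_surjective J Λ U T.g ((ModuleCat.epi_iff_surjective _).1 inferInstance))
  have h12 : (∀ (T : ShortComplex (ModuleCat.{u} Λ)), T.ShortExact →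
      (T.map (Phi J Λ U)).Exact ∧ Epi ((Phi J Λ U).map T.g)) ↔
      (∀ (T : ShortComplex (ModuleCat.{u} Λ)), T.Exact ∧ Epi T.g →
      (T.map (Phi J Λ U)).Exact ∧ Epi ((Phi J Λ U).map T.g)) :=
    (Functor.preservesFiniteColimits_tfae (Phi J Λ U)).out 0 1
  have h2 := h12.1 h1 S ⟨hS, inferInstance⟩
  have h3 := h2.1
  rw [ShortComplex.moduleCat_exact_iff] at h3
  intro y
  constructor
  · intro hy
    obtain ⟨x, hx⟩ := h3 y hy
    exact ⟨x, hx⟩
  · rintro ⟨x, rfl⟩
    have : (Phi J Λ U).map f ≫ (Phi J Λ U).map g = 0 := by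
      rw [← Functor.map_comp, hz, Functor.map_zero]
    exact ConcreteCategory.congr_hom this x

open TensorProduct

section Cmp

variable (U : C) (M : Type u) [AddCommGroup M] [Module Λ M]

/-- `m ↦ m ⊗ q`. -/
noncomputable def inc (Q : Type u) [AddCommGroup Q] [Module Λ Q] (q : Q) :
    ModuleCat.of Λ M ⟶ ModuleCat.of Λ (M ⊗[Λ] Q) :=
  ModuleCat.ofHom ((TensorProduct.mk Λ M Q).flip q)

lemma inc_add (Q : Type u) [AddCommGroup Q] [Module Λ Q] (q q' : Q) :
    inc Λ M Q (q + q') = inc Λ M Q q + inc Λ M Q q' := by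
  ext m
  simp [inc]

lemma inc_smul (Q : Type u) [AddCommGroup Q] [Module Λ Q] (a : Λ) (q : Q) :
    inc Λ M Q (a • q) = a • inc Λ M Q q := by
  ext m
  simp [inc]

/-- The comparison map `M̲(U) ⊗ Q → (M ⊗ Q)̲(U)`. -/
noncomputable def cmp (Q : Type u) [AddCommGroup Q] [Module Λ Q] :
    ((Phi J Λ U).obj (ModuleCat.of Λ M)) ⊗[Λ] Q →ₗ[Λ]
      (Phi J Λ U).obj (ModuleCat.of Λ (M ⊗[Λ] Q)) :=
  TensorProduct.lift (LinearMap.mk₂ Λ
    (fun s q => ((Phi J Λ U).map (inc Λ M Q q)).hom s)
    (fun s s' q => map_add _ s s')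
    (fun a s q => map_smul _ a s)
    (fun s q q' => by rw [inc_add, Functor.map_add]; rfl)
    (fun a s q => by rw [inc_smul, Phi_map_smul]; rfl))

lemma cmp_tmul (Q : Type u) [AddCommGroup Q] [Module Λ Q]
    (s : (Phi J Λ U).obj (ModuleCat.of Λ M)) (q : Q) :
    cmp J Λ U M Q (s ⊗ₜ[Λ] q) = ((Phi J Λ U).map (inc Λ M Q q)).hom s := rfl

lemma cmp_naturality {Q Q' : Type u} [AddCommGroup Q] [Module Λ Q] [AddCommGroup Q'] [Module Λ Q']
    (h : Q →ₗ[Λ] Q') (x : ((Phi J Λ U).obj (ModuleCat.of Λ M)) ⊗[Λ] Q) :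
    cmp J Λ U M Q' (LinearMap.lTensor _ h x) =
      ((Phi J Λ U).map (ModuleCat.ofHom (LinearMap.lTensor M h))).hom (cmp J Λ U M Q x) := by
  induction x using TensorProduct.induction_on with
  | zero => simp
  | tmul s q =>
    rw [LinearMap.lTensor_tmul, cmp_tmul, cmp_tmul, ← ModuleCat.comp_apply, ← Functor.map_comp]
    congr 3
  | add x y hx hy => rw [map_add, map_add, hx, hy, map_add, map_add]

/-- `m ⊗ q ↦ ρ q • m`. -/
noncomputable def ret (Q : Type u) [AddCommGroup Q] [Module Λ Q] (ρ : Q →ₗ[Λ] Λ) :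
    ModuleCat.of Λ (M ⊗[Λ] Q) ⟶ ModuleCat.of Λ M :=
  ModuleCat.ofHom ((TensorProduct.rid Λ M).toLinearMap ∘ₗ LinearMap.lTensor M ρ)

lemma inc_ret (Q : Type u) [AddCommGroup Q] [Module Λ Q] (q : Q) (ρ : Q →ₗ[Λ] Λ) :
    inc Λ M Q q ≫ ret Λ M Q ρ = ρ q • 𝟙 _ := by
  ext m
  simp [inc, ret]

lemma sum_ret_inc (Q : Type u) [AddCommGroup Q] [Module Λ Q] {ι : Type} [Fintype ι]
    (e : ι → Q) (ρ : ι → Q →ₗ[Λ] Λ) (h : ∀ q, ∑ i, ρ i q • e i = q) :
    ∑ i, ret Λ M Q (ρ i) ≫ inc Λ M Q (e i) = 𝟙 _ := by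
  apply ModuleCat.hom_ext
  apply TensorProduct.ext'
  intro m q
  rw [ModuleCat.hom_sum, LinearMap.sum_apply]
  simp only [ModuleCat.hom_comp, LinearMap.comp_apply, ModuleCat.hom_id, LinearMap.id_apply]
  have : ∀ i, (inc Λ M Q (e i)).hom ((ret Λ M Q (ρ i)).hom (m ⊗ₜ[Λ] q)) = m ⊗ₜ[Λ] (ρ i q • e i) := by
    intro i
    simp [inc, ret]
  rw [Finset.sum_congr rfl (fun i _ => this i), ← tmul_sum, h]

theorem cmp_bijective_of_dualBasis (Q : Type u) [AddCommGroup Q] [Module Λ Q] {ι : Type}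
    [Fintype ι] (e : ι → Q) (ρ : ι → Q →ₗ[Λ] Λ) (h : ∀ q, ∑ i, ρ i q • e i = q) :
    Function.Bijective (cmp J Λ U M Q) := by
  let d : (Phi J Λ U).obj (ModuleCat.of Λ (M ⊗[Λ] Q)) →ₗ[Λ]
      ((Phi J Λ U).obj (ModuleCat.of Λ M)) ⊗[Λ] Q :=
    ∑ i, ((TensorProduct.mk Λ ((Phi J Λ U).obj (ModuleCat.of Λ M)) Q).flip (e i)) ∘ₗ
      ((Phi J Λ U).map (ret Λ M Q (ρ i))).hom
  have hd : ∀ y, d y = ∑ i, (((Phi J Λ U).map (ret Λ M Q (ρ i))).hom y) ⊗ₜ[Λ] e i := by
    intro y
    simp only [d, LinearMap.sum_apply, LinearMap.comp_apply, LinearMap.flip_apply, mk_apply]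
  have hcd : ∀ y, cmp J Λ U M Q (d y) = y := by
    intro y
    rw [hd, map_sum]
    have : ∀ i, cmp J Λ U M Q ((((Phi J Λ U).map (ret Λ M Q (ρ i))).hom y) ⊗ₜ[Λ] e i) =
        ((Phi J Λ U).map (ret Λ M Q (ρ i) ≫ inc Λ M Q (e i))).hom y := by
      intro i
      rw [cmp_tmul, Functor.map_comp]
      rfl
    rw [Finset.sum_congr rfl (fun i _ => this i), ← LinearMap.sum_apply, ← ModuleCat.hom_sum,
      ← Functor.map_sum, sum_ret_inc Λ M Q e ρ h, CategoryTheory.Functor.map_id]
    rfl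
  have hdc : ∀ x, d (cmp J Λ U M Q x) = x := by
    intro x
    induction x using TensorProduct.induction_on with
    | zero => simp
    | tmul s q =>
      rw [hd, cmp_tmul]
      have : ∀ i, ((Phi J Λ U).map (ret Λ M Q (ρ i))).hom
          (((Phi J Λ U).map (inc Λ M Q q)).hom s) = ρ i q • s := by
        intro i
        rw [← LinearMap.comp_apply, ← ModuleCat.hom_comp, ← Functor.map_comp, inc_ret,
          Phi_map_smul, CategoryTheory.Functor.map_id]
        rfl
      rw [Finset.sum_congr rfl (fun i _ => by rw [this i])]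
      simp_rw [smul_tmul]
      rw [← tmul_sum, h]
    | add x y hx hy => rw [map_add, map_add, hx, hy]
  exact ⟨Function.LeftInverse.injective hdc, Function.RightInverse.surjective hcd⟩

theorem cmp_bijective_free (n : ℕ) : Function.Bijective (cmp J Λ U M (Fin n → Λ)) := by
  refine cmp_bijective_of_dualBasis J Λ U M (Fin n → Λ) (fun i => Pi.single i (1 : Λ))
    (fun i => LinearMap.proj i) ?_
  intro q
  funext j
  simp [Finset.sum_apply, Pi.single_apply]

theorem cmp_bijective (Q : Type u) [AddCommGroup Q] [Module Λ Q] [Module.FinitePresentation Λ Q] :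
    Function.Bijective (cmp J Λ U M Q) := by
  obtain ⟨n, m, f, g, hf, hfg⟩ := Module.FinitePresentation.exists_fin' Λ Q
  have hn := cmp_bijective_free J Λ U M n
  have hm := cmp_bijective_free J Λ U M m
  have hsurj : Function.Surjective (ModuleCat.ofHom (LinearMap.lTensor M f)) :=
    LinearMap.lTensor_surjective M hf
  have hex := Phi_exact J Λ U (ModuleCat.ofHom (LinearMap.lTensor M g))
    (ModuleCat.ofHom (LinearMap.lTensor M f)) (lTensor_exact M hfg hf) hsurj
  constructor
  · rw [injective_iff_map_eq_zero]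
    intro x hx
    obtain ⟨x', rfl⟩ := LinearMap.lTensor_surjective ((Phi J Λ U).obj (ModuleCat.of Λ M)) hf x
    rw [cmp_naturality] at hx
    obtain ⟨z, hz⟩ := (hex _).1 hx
    obtain ⟨x'', rfl⟩ := hm.2 z
    have hz' : cmp J Λ U M (Fin n → Λ) (LinearMap.lTensor _ g x'') = cmp J Λ U M (Fin n → Λ) x' := by
      rw [cmp_naturality]
      exact hz
    rw [← hn.1 hz', ← LinearMap.comp_apply, ← LinearMap.lTensor_comp]
    have : f ∘ₗ g = 0 := LinearMap.ext fun v => hfg.apply_apply_eq_zero v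
    rw [this, LinearMap.lTensor_zero, LinearMap.zero_apply]
  · intro y
    obtain ⟨y', hy'⟩ := Phi_map_surjective J Λ U (ModuleCat.ofHom (LinearMap.lTensor M f)) hsurj y
    obtain ⟨x', hx'⟩ := hn.2 y'
    refine ⟨LinearMap.lTensor _ f x', ?_⟩
    rw [cmp_naturality, hx']
    exact hy'

/-- Over a coherent ring, sections of the constant sheaf on a flat module are flat. -/
theorem flat_sections (hΛ : ∀ I : Ideal Λ, I.FG → Module.FinitePresentation Λ I)
    [Module.Flat Λ M] : Module.Flat Λ ((Phi J Λ U).obj (ModuleCat.of Λ M)) := by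
  rw [Module.Flat.iff_lTensor_injective]
  intro I hI
  haveI := hΛ I hI
  rw [injective_iff_map_eq_zero]
  intro x hx
  have h1 := cmp_naturality J Λ U M I.subtype x
  rw [hx, map_zero] at h1
  have hmono : Mono (ModuleCat.ofHom (LinearMap.lTensor M I.subtype)) := by
    rw [ModuleCat.mono_iff_injective]
    exact Module.Flat.lTensor_preserves_injective_linearMap _ Subtype.val_injective
  have hmono' : Mono ((Phi J Λ U).map (ModuleCat.ofHom (LinearMap.lTensor M I.subtype))) :=
    inferInstance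
  rw [ModuleCat.mono_iff_injective] at hmono'
  have h2 : cmp J Λ U M I x = 0 := hmono' (by rw [← h1, map_zero])
  exact (cmp_bijective J Λ U M I).1 (by rw [h2, map_zero])

end Cmp

end Groth.Agent.Lib.Helper32.ConstSec
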