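import Mathlib

set_option autoImplicit false
open CategoryTheory CategoryTheory.Limits Opposite Simplicial SimplexCategory
universe v u

namespace Groth.Agent.Lib.Helper32.TruncFin

instance finite_orderHom (a b : ℕ) : Finite (Fin a →o Fin b) :=
  Finite.of_injective (fun f : Fin a →o Fin b => (f : Fin a → Fin b)) DFunLike.coe_injective

instance finite_hom (a b : SimplexCategory) : Finite (a ⟶ b) :=
  Finite.of_equiv _ SimplexCategory.homEquivOrderHom.symm

variable (n : ℕ)

instance finite_structuredArrow (Y : SimplexCategoryᵒᵖ) :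
    Finite (StructuredArrow Y (Truncated.inclusion n).op) := by
  let F : (Σ a : Fin (n + 1), (⦋a.val⦌ ⟶ Y.unop)) → StructuredArrow Y (Truncated.inclusion n).op :=
    fun p => StructuredArrow.mk
      (Y := op (⟨⦋p.1.val⦌, Nat.le_of_lt_succ p.1.isLt⟩ : SimplexCategory.Truncated n)) p.2.op
  apply Finite.of_surjective F
  intro f
  obtain ⟨⟨⟨⟩⟩, ⟨⟨k, hk⟩⟩, hom⟩ := f
  induction k using SimplexCategory.rec with | _ k => ?_
  exact ⟨⟨⟨k, Nat.lt_succ_of_le hk⟩, hom.unop⟩, rfl⟩

instance finite_structuredArrow_hom (Y : SimplexCategoryᵒᵖ)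
    (f g : StructuredArrow Y (Truncated.inclusion n).op) : Finite (f ⟶ g) := by
  apply Finite.of_injective (fun φ : f ⟶ g => φ.right.unop.hom)
  intro φ ψ h
  ext
  apply Quiver.Hom.unop_inj
  exact ObjectProperty.hom_ext _ h

noncomputable instance finCategory_structuredArrow (Y : SimplexCategoryᵒᵖ) :
    FinCategory (StructuredArrow Y (Truncated.inclusion n).op) where
  fintypeObj := Fintype.ofFinite _
  fintypeHom _ _ := Fintype.ofFinite _

instance hasPointwise {C : Type u} [Category.{v} C] [HasFiniteLimits C]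
    (F : (SimplexCategory.Truncated n)ᵒᵖ ⥤ C) :
    (Truncated.inclusion n).op.HasPointwiseRightKanExtension F := fun _ => by
  dsimp only [Functor.HasPointwiseRightKanExtensionAt]
  infer_instance

end Groth.Agent.Lib.Helper32.TruncFin
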