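import Mathlib
import Groth.Agent.Lib.Helper32.TruncFin

set_option autoImplicit false
open CategoryTheory CategoryTheory.Limits Opposite Simplicial SimplexCategory
universe v u

namespace Groth.Agent.Lib.Helper32.CoskHtpy

open Functor Groth.Agent.Lib.Helper32.TruncFin

variable {E : Type u} [Category.{v} E] {n : ℕ}
  {F F' : (SimplexCategory.Truncated n)ᵒᵖ ⥤ E}

/-- two truncated maps agreeing below degree `n` agree after a non-surjective operator. -/
lemma key (φ γ : F ⟶ F')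
    (hφγ : ∀ a : (SimplexCategory.Truncated n)ᵒᵖ, a.unop.obj.len < n → φ.app a = γ.app a)
    {a b : (SimplexCategory.Truncated n)ᵒᵖ} (u : a ⟶ b)
    (hu : ¬ Function.Surjective u.unop.hom.toOrderHom) :
    F.map u ≫ φ.app b = F.map u ≫ γ.app b := by
  obtain ⟨⟨a, ha⟩⟩ := a
  obtain ⟨⟨b, hb⟩⟩ := b
  induction a using SimplexCategory.rec with | _ l₁ => ?_
  cases l₁ with
  | zero =>
    exfalso
    apply hu
    intro x
    exact ⟨0, @Subsingleton.elim (Fin 1) _ _ _⟩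
  | succ m =>
    obtain ⟨i, θ', hθ⟩ := eq_comp_δ_of_not_surjective u.unop.hom hu
    have hm : m < n := by simpa using ha
    let c : SimplexCategory.Truncated n := ⟨⦋m⦌, by simpa using hm.le⟩
    let d : (op (⟨⦋m + 1⦌, ha⟩ : SimplexCategory.Truncated n)) ⟶ op c :=
      (ObjectProperty.homMk (SimplexCategory.δ i) : c ⟶ ⟨⦋m + 1⦌, ha⟩).op
    let e : op c ⟶ op (⟨b, hb⟩ : SimplexCategory.Truncated n) :=
      (ObjectProperty.homMk θ' : (⟨b, hb⟩ : SimplexCategory.Truncated n) ⟶ c).op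
    have hu' : u = d ≫ e := by
      apply Quiver.Hom.unop_inj
      exact ObjectProperty.hom_ext _ hθ
    have hc : φ.app (op c) = γ.app (op c) := hφγ (op c) (by simpa using hm)
    rw [hu', F.map_comp, Category.assoc, Category.assoc, φ.naturality, γ.naturality, hc]

section H

variable {A A' : SimplicialObject E}
  (ε : (Truncated.inclusion n).op ⋙ A ⟶ F) (ε' : (Truncated.inclusion n).op ⋙ A' ⟶ F')
  (hA' : (RightExtension.mk A' ε').IsPointwiseRightKanExtension)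
  (φ γ : F ⟶ F')
  (hφγ : ∀ a : (SimplexCategory.Truncated n)ᵒᵖ, a.unop.obj.len < n → φ.app a = γ.app a)

/-- leg of the canonical cone. -/
def leg (Y : SimplexCategoryᵒᵖ) (j : StructuredArrow Y (Truncated.inclusion n).op) :
    A.obj Y ⟶ F.obj j.right := A.map j.hom ≫ ε.app j.right

lemma leg_map (Y : SimplexCategoryᵒᵖ) {j₁ j₂ : StructuredArrow Y (Truncated.inclusion n).op}
    (u : j₁ ⟶ j₂) : leg ε Y j₁ ≫ F.map u.right = leg ε Y j₂ := by
  have h1 := ε.naturality u.right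
  have h2 := StructuredArrow.w u
  dsimp at h1 h2
  dsimp only [leg]
  rw [Category.assoc, ← h1, ← Category.assoc, ← A.map_comp, h2]

lemma leg_map' (Y Y' : SimplexCategoryᵒᵖ) (f : Y ⟶ Y')
    (j : StructuredArrow Y' (Truncated.inclusion n).op) :
    A.map f ≫ leg ε Y' j = leg ε Y (StructuredArrow.mk (Y := j.right) (f ≫ j.hom)) := by
  dsimp only [leg]
  rw [← Category.assoc, ← A.map_comp]
  rfl

/-- all vertices of `j` satisfy `P`. -/
def allP {q : ℕ} (P : Fin (q + 1) → Prop)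
    (j : StructuredArrow (op ⦋q⦌) (Truncated.inclusion n).op) : Prop :=
  ∀ t, P (j.hom.unop.toOrderHom t)

lemma allP_of_hom {q : ℕ} (P : Fin (q + 1) → Prop)
    {j₁ j₂ : StructuredArrow (op ⦋q⦌) (Truncated.inclusion n).op} (u : j₁ ⟶ j₂)
    (h : allP P j₁) : allP P j₂ := by
  intro t
  have := congrArg (fun h => h.unop.toOrderHom t) (StructuredArrow.w u)
  dsimp at this
  rw [← this]
  exact h _

lemma not_surj_of_allP {q : ℕ} (P : Fin (q + 1) → Prop)
    {j₁ j₂ : StructuredArrow (op ⦋q⦌) (Truncated.inclusion n).op} (u : j₁ ⟶ j₂)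
    (h1 : ¬ allP P j₁) (h2 : allP P j₂) :
    ¬ Function.Surjective u.right.unop.hom.toOrderHom := by
  intro hs
  apply h1
  intro t
  obtain ⟨t', rfl⟩ := hs t
  have := congrArg (fun h => h.unop.toOrderHom t') (StructuredArrow.w u)
  dsimp at this
  have h3 := h2 t'
  rw [← this] at h3
  exact h3

open Classical in
/-- the component of the homotopy cone. -/
noncomputable def cmp {p q : ℕ} (s : ⦋q⦌ ⟶ ⦋p⦌) (P : Fin (q + 1) → Prop)
    (j : StructuredArrow (op ⦋q⦌) (Truncated.inclusion n).op) :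
    A.obj (op ⦋p⦌) ⟶ F'.obj j.right :=
  leg ε (op ⦋p⦌) (StructuredArrow.mk (Y := j.right) (s.op ≫ j.hom)) ≫
    (if allP P j then φ.app j.right else γ.app j.right)

include hφγ in
lemma cmp_nat {p q : ℕ} (s : ⦋q⦌ ⟶ ⦋p⦌) (P : Fin (q + 1) → Prop)
    {j₁ j₂ : StructuredArrow (op ⦋q⦌) (Truncated.inclusion n).op} (u : j₁ ⟶ j₂) :
    cmp ε φ γ s P j₁ ≫ F'.map u.right = cmp ε φ γ s P j₂ := by
  let ũ : (StructuredArrow.mk (Y := j₁.right) (s.op ≫ j₁.hom) :
      StructuredArrow (op ⦋p⦌) (Truncated.inclusion n).op) ⟶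
      StructuredArrow.mk (Y := j₂.right) (s.op ≫ j₂.hom) :=
    StructuredArrow.homMk u.right (by
      have := StructuredArrow.w u
      dsimp at this ⊢
      rw [Category.assoc, this])
  have hl := leg_map ε (op ⦋p⦌) ũ
  have hl' : leg ε (op ⦋p⦌) (StructuredArrow.mk (Y := j₁.right) (s.op ≫ j₁.hom)) ≫ F.map u.right =
      leg ε (op ⦋p⦌) (StructuredArrow.mk (Y := j₂.right) (s.op ≫ j₂.hom)) := hl
  dsimp only [cmp]
  by_cases h1 : allP P j₁
  · have h2 := allP_of_hom P u h1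
    rw [if_pos h1, if_pos h2, Category.assoc, ← φ.naturality, ← Category.assoc, hl']
  · by_cases h2 : allP P j₂
    · rw [if_neg h1, if_pos h2, Category.assoc, ← γ.naturality, ← hl', Category.assoc,
        key φ γ hφγ u.right (not_surj_of_allP P u h1 h2)]
    · rw [if_neg h1, if_neg h2, Category.assoc, ← γ.naturality, ← Category.assoc, hl']

/-- the cone defining `H`. -/
noncomputable def Hcone {p q : ℕ} (s : ⦋q⦌ ⟶ ⦋p⦌) (P : Fin (q + 1) → Prop) :
    Cone (StructuredArrow.proj (op ⦋q⦌) (Truncated.inclusion n).op ⋙ F') where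
  pt := A.obj (op ⦋p⦌)
  π :=
    { app := fun j => cmp ε φ γ s P j
      naturality := fun j₁ j₂ u => by
        have := cmp_nat ε φ γ hφγ s P u
        dsimp
        rw [Category.id_comp]
        exact this.symm }

/-- the prism operator. -/
noncomputable def H {p q : ℕ} (s : ⦋q⦌ ⟶ ⦋p⦌) (P : Fin (q + 1) → Prop) :
    A.obj (op ⦋p⦌) ⟶ A'.obj (op ⦋q⦌) :=
  (hA' (op ⦋q⦌)).lift (Hcone ε φ γ hφγ s P)

lemma H_fac {p q : ℕ} (s : ⦋q⦌ ⟶ ⦋p⦌) (P : Fin (q + 1) → Prop)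
    (j : StructuredArrow (op ⦋q⦌) (Truncated.inclusion n).op) :
    H ε ε' hA' φ γ hφγ s P ≫ leg ε' (op ⦋q⦌) j = cmp ε φ γ s P j :=
  (hA' (op ⦋q⦌)).fac (Hcone ε φ γ hφγ s P) j

include hA' in
lemma H_ext {T : E} {q : ℕ} (x y : T ⟶ A'.obj (op ⦋q⦌))
    (h : ∀ j : StructuredArrow (op ⦋q⦌) (Truncated.inclusion n).op,
      x ≫ leg ε' (op ⦋q⦌) j = y ≫ leg ε' (op ⦋q⦌) j) : x = y :=
  (hA' (op ⦋q⦌)).hom_ext h

lemma H_comp_map {p q q' : ℕ} (s : ⦋q⦌ ⟶ ⦋p⦌) (P : Fin (q + 1) → Prop) (θ : ⦋q'⦌ ⟶ ⦋q⦌) :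
    H ε ε' hA' φ γ hφγ s P ≫ A'.map θ.op =
      H ε ε' hA' φ γ hφγ (θ ≫ s) (fun t => P (θ.toOrderHom t)) := by
  apply H_ext ε' hA'
  intro j
  rw [Category.assoc, leg_map', H_fac, H_fac]
  have e : (θ ≫ s).op ≫ j.hom = s.op ≫ (θ.op ≫ j.hom) := by rw [op_comp, Category.assoc]
  dsimp only [cmp]
  rw [e]
  rfl

lemma map_comp_H {p p' q : ℕ} (s : ⦋q⦌ ⟶ ⦋p⦌) (P : Fin (q + 1) → Prop) (ρ : ⦋p⦌ ⟶ ⦋p'⦌) :
    A.map ρ.op ≫ H ε ε' hA' φ γ hφγ s P = H ε ε' hA' φ γ hφγ (s ≫ ρ) P := by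
  apply H_ext ε' hA'
  intro j
  rw [Category.assoc, H_fac, H_fac]
  have e : (s ≫ ρ).op ≫ j.hom = ρ.op ≫ (s.op ≫ j.hom) := by rw [op_comp, Category.assoc]
  dsimp only [cmp]
  rw [e, ← Category.assoc, leg_map']
  rfl

omit hφγ in
lemma aux4 {X0 X1 X2 X3 Y1 Y2 Y3 : E} (as : X0 ⟶ X1) (aj : X1 ⟶ X2) (asj : X0 ⟶ X2)
    (h : asj = as ≫ aj) (e : X2 ⟶ X3) (ph : X3 ⟶ Y3) (Φq : X1 ⟶ Y1) (a'j : Y1 ⟶ Y2)
    (e' : Y2 ⟶ Y3) (Φa : X2 ⟶ Y2) (nat : aj ≫ Φa = Φq ≫ a'j) (h1 : Φa ≫ e' = e ≫ ph) :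
    (asj ≫ e) ≫ ph = (as ≫ Φq) ≫ a'j ≫ e' := by
  rw [h]
  simp only [Category.assoc]
  rw [← h1, ← reassoc_of% nat]

lemma H_true {p q : ℕ} (s : ⦋q⦌ ⟶ ⦋p⦌) (Φ : A ⟶ A')
    (hΦ : whiskerLeft (Truncated.inclusion n).op Φ ≫ ε' = ε ≫ φ) :
    H ε ε' hA' φ γ hφγ s (fun _ => True) = A.map s.op ≫ Φ.app (op ⦋q⦌) := by
  apply H_ext ε' hA'
  intro j
  rw [H_fac]
  have h1 := congrArg (fun t => t.app j.right) hΦ
  dsimp at h1
  dsimp only [cmp, leg]
  have hp : allP (fun _ => True) j := fun _ => trivial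
  rw [if_pos hp]
  exact aux4 _ _ _ (A.map_comp _ _) _ _ _ _ _ _ (Φ.naturality j.hom) h1

lemma H_false {p q : ℕ} (s : ⦋q⦌ ⟶ ⦋p⦌) (Γ : A ⟶ A')
    (hΓ : whiskerLeft (Truncated.inclusion n).op Γ ≫ ε' = ε ≫ γ) :
    H ε ε' hA' φ γ hφγ s (fun _ => False) = A.map s.op ≫ Γ.app (op ⦋q⦌) := by
  apply H_ext ε' hA'
  intro j
  rw [H_fac]
  have h1 := congrArg (fun t => t.app j.right) hΓ
  dsimp at h1
  dsimp only [cmp, leg]
  have hp : ¬ allP (fun _ => False) j := fun h => h 0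
  rw [if_neg hp]
  exact aux4 _ _ _ (A.map_comp _ _) _ _ _ _ _ _ (Γ.naturality j.hom) h1

lemma H_congr {p q : ℕ} {s s' : ⦋q⦌ ⟶ ⦋p⦌} (hs : s = s') {P P' : Fin (q + 1) → Prop}
    (hP : ∀ t, P t ↔ P' t) :
    H ε ε' hA' φ γ hφγ s P = H ε ε' hA' φ γ hφγ s' P' := by
  subst hs
  have : P = P' := funext fun t => propext (hP t)
  subst this
  rfl

end H

lemma δ_val {m : ℕ} (i : Fin (m + 2)) (t : Fin (m + 1)) :
    ((SimplexCategory.δ i).toOrderHom t).val = if t.val < i.val then t.val else t.val + 1 := by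
  show (i.succAbove t).val = _
  by_cases h : t.castSucc < i
  · rw [Fin.succAbove_of_castSucc_lt _ _ h]
    have : t.val < i.val := h
    simp [this]
  · rw [Fin.succAbove_of_le_castSucc _ _ (not_lt.1 h)]
    have : ¬ t.val < i.val := fun h' => h h'
    simp [this]

lemma σ_val {m : ℕ} (i : Fin (m + 1)) (t : Fin (m + 2)) :
    ((SimplexCategory.σ i).toOrderHom t).val = if i.val < t.val then t.val - 1 else t.val := by
  show (i.predAbove t).val = _
  by_cases h : i.castSucc < t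
  · rw [Fin.predAbove_of_castSucc_lt _ _ h]
    have : i.val < t.val := h
    simp [this]
  · rw [Fin.predAbove_of_le_castSucc _ _ (not_lt.1 h)]
    have : ¬ i.val < t.val := fun h' => h h'
    simp [this]

section H2

variable {A A' : SimplicialObject E}
  (ε : (Truncated.inclusion n).op ⋙ A ⟶ F) (ε' : (Truncated.inclusion n).op ⋙ A' ⟶ F')
  (hA' : (RightExtension.mk A' ε').IsPointwiseRightKanExtension)
  (φ γ : F ⟶ F')
  (hφγ : ∀ a : (SimplexCategory.Truncated n)ᵒᵖ, a.unop.obj.len < n → φ.app a = γ.app a)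

/-- the homotopy operators. -/
noncomputable def hh {m : ℕ} (i : Fin (m + 1)) : A _⦋m⦌ ⟶ A' _⦋m + 1⦌ :=
  H ε ε' hA' φ γ hφγ (SimplexCategory.σ i) (fun t => t.val ≤ i.val)

variable (Φ Γ : A ⟶ A')
  (hΦ : whiskerLeft (Truncated.inclusion n).op Φ ≫ ε' = ε ≫ φ)
  (hΓ : whiskerLeft (Truncated.inclusion n).op Γ ≫ ε' = ε ≫ γ)

/-- the simplicial homotopy. -/
noncomputable def homotopy : SimplicialObject.Homotopy Φ Γ where
  h i := hh ε ε' hA' φ γ hφγ i
  h_zero_comp_δ_zero m := by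
    show H ε ε' hA' φ γ hφγ _ _ ≫ A'.map (SimplexCategory.δ 0).op = _
    rw [H_comp_map]
    have e : SimplexCategory.δ (0 : Fin (m + 2)) ≫ SimplexCategory.σ (0 : Fin (m + 1)) = 𝟙 _ :=
      SimplexCategory.δ_comp_σ_self (i := (0 : Fin (m + 1)))
    rw [H_congr ε ε' hA' φ γ hφγ e (P' := fun _ => False), H_false ε ε' hA' φ γ hφγ _ Γ hΓ]
    · simp
    · intro t
      simp only [δ_val]
      simp
  h_last_comp_δ_last m := by
    show H ε ε' hA' φ γ hφγ _ _ ≫ A'.map (SimplexCategory.δ (Fin.last (m + 1))).op = _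
    rw [H_comp_map]
    have e : SimplexCategory.δ (Fin.last (m + 1)) ≫ SimplexCategory.σ (Fin.last m) = 𝟙 _ :=
      SimplexCategory.δ_comp_σ_succ (i := Fin.last m)
    rw [H_congr ε ε' hA' φ γ hφγ e (P' := fun _ => True), H_true ε ε' hA' φ γ hφγ _ Φ hΦ]
    · simp
    · intro t
      simp only [δ_val]
      have := t.isLt
      simp
      split_ifs <;> omega
  h_succ_comp_δ_castSucc_of_lt {m} i j hij := by
    show H ε ε' hA' φ γ hφγ _ _ ≫ A'.map (SimplexCategory.δ i.castSucc).op =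
      A.map (SimplexCategory.δ i).op ≫ H ε ε' hA' φ γ hφγ _ _
    rw [H_comp_map, map_comp_H]
    apply H_congr ε ε' hA' φ γ hφγ (SimplexCategory.δ_comp_σ_of_le hij)
    intro t
    have : i.val ≤ j.val := hij
    simp only [δ_val, Fin.val_succ, Fin.val_castSucc]
    split_ifs <;> omega
  h_succ_comp_δ_castSucc_succ {m} j := by
    show H ε ε' hA' φ γ hφγ _ _ ≫ A'.map (SimplexCategory.δ j.castSucc.succ).op =
      H ε ε' hA' φ γ hφγ _ _ ≫ A'.map (SimplexCategory.δ j.castSucc.succ).op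
    rw [H_comp_map, H_comp_map]
    have e : SimplexCategory.δ j.castSucc.succ ≫ SimplexCategory.σ j.succ =
        SimplexCategory.δ j.castSucc.succ ≫ SimplexCategory.σ j.castSucc :=
      (SimplexCategory.δ_comp_σ_self' (Fin.succ_castSucc j)).trans
        SimplexCategory.δ_comp_σ_succ.symm
    apply H_congr ε ε' hA' φ γ hφγ e
    intro t
    simp only [δ_val, Fin.val_succ, Fin.val_castSucc]
    split_ifs <;> omega
  h_castSucc_comp_δ_succ_of_lt {m} i j hji := by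
    show H ε ε' hA' φ γ hφγ _ _ ≫ A'.map (SimplexCategory.δ i.succ).op =
      A.map (SimplexCategory.δ i).op ≫ H ε ε' hA' φ γ hφγ _ _
    rw [H_comp_map, map_comp_H]
    apply H_congr ε ε' hA' φ γ hφγ (SimplexCategory.δ_comp_σ_of_gt hji)
    intro t
    have : j.val < i.val := hji
    simp only [δ_val, Fin.val_succ, Fin.val_castSucc]
    split_ifs <;> omega
  h_comp_σ_castSucc_of_le {m} i j hij := by
    show H ε ε' hA' φ γ hφγ _ _ ≫ A'.map (SimplexCategory.σ i.castSucc).op =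
      A.map (SimplexCategory.σ i).op ≫ H ε ε' hA' φ γ hφγ _ _
    rw [H_comp_map, map_comp_H]
    apply H_congr ε ε' hA' φ γ hφγ (SimplexCategory.σ_comp_σ hij)
    intro t
    have : i.val ≤ j.val := hij
    simp only [σ_val, Fin.val_succ, Fin.val_castSucc]
    split_ifs <;> omega
  h_comp_σ_succ_of_lt {m} i j hji := by
    show H ε ε' hA' φ γ hφγ _ _ ≫ A'.map (SimplexCategory.σ i.succ).op =
      A.map (SimplexCategory.σ i).op ≫ H ε ε' hA' φ γ hφγ _ _
    rw [H_comp_map, map_comp_H]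
    apply H_congr ε ε' hA' φ γ hφγ (SimplexCategory.σ_comp_σ hji).symm
    intro t
    have : j.val ≤ i.val := hji
    simp only [σ_val, Fin.val_succ, Fin.val_castSucc]
    split_ifs <;> omega

end H2


theorem main [HasFiniteLimits E] (n : ℕ)
    [∀ (F : (SimplexCategory.Truncated n)ᵒᵖ ⥤ E),
      (SimplexCategory.Truncated.inclusion n).op.HasRightKanExtension F]
    {X X' : SimplicialObject E} (f g : X ⟶ X')
    (hfg : ∀ p : ℕ, p < n → f.app (op (SimplexCategory.mk p)) = g.app (op (SimplexCategory.mk p))) :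
    Nonempty (SimplicialObject.Homotopy ((SimplicialObject.cosk n).map f)
      ((SimplicialObject.cosk n).map g)) := by
  let L := (SimplexCategory.Truncated.inclusion n).op
  have hφγ : ∀ a : (SimplexCategory.Truncated n)ᵒᵖ, a.unop.obj.len < n →
      (whiskerLeft L f).app a = (whiskerLeft L g).app a := by
    intro a ha
    exact hfg a.unop.obj.len ha
  exact ⟨homotopy (L.ranCounit.app (L ⋙ X)) (L.ranCounit.app (L ⋙ X'))
    (isPointwiseRightKanExtensionRanCounit L (L ⋙ X')) (whiskerLeft L f) (whiskerLeft L g) hφγ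
    ((SimplicialObject.cosk n).map f) ((SimplicialObject.cosk n).map g)
    (L.ranCounit.naturality (whiskerLeft L f)) (L.ranCounit.naturality (whiskerLeft L g))⟩

end Groth.Agent.Lib.Helper32.CoskHtpy
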