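import Mathlib
import Groth.Agent.Lib.Helper32.TruncFin

set_option autoImplicit false
open CategoryTheory CategoryTheory.Limits Opposite Simplicial SimplexCategory
universe v u

namespace Groth.Agent.Lib.Helper32.CoskLe

open Functor Groth.Agent.Lib.Helper32.TruncFin

variable {C : Type u} [Category.{v} C]

/-- the comparison on structured arrows. -/
def Φ {n m : ℕ} (h : n ≤ m) (Y : SimplexCategoryᵒᵖ)
    (g : StructuredArrow Y (Truncated.inclusion n).op) :
    StructuredArrow Y (Truncated.inclusion m).op :=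
  StructuredArrow.mk (Y := (Truncated.incl n m h).op.obj g.right) g.hom

/-- restriction of cones. -/
def restrCone (U : SimplicialObject C) {n m : ℕ} (h : n ≤ m) (Y : SimplexCategoryᵒᵖ)
    (s : Cone (StructuredArrow.proj Y (Truncated.inclusion m).op ⋙
      (Truncated.inclusion m).op ⋙ U)) :
    Cone (StructuredArrow.proj Y (Truncated.inclusion n).op ⋙
      (Truncated.inclusion n).op ⋙ U) where
  pt := s.pt
  π :=
    { app := fun g => s.π.app (Φ h Y g)
      naturality := fun g₁ g₂ φ => by
        have := s.π.naturality (X := Φ h Y g₁) (Y := Φ h Y g₂)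
          (StructuredArrow.homMk ((Truncated.incl n m h).op.map φ.right) (StructuredArrow.w φ))
        exact this }

lemma aux {T A B D : C} (l : T ⟶ A) (a : A ⟶ B) (b : B ⟶ D) (ab : A ⟶ D) (hab : a ≫ b = ab)
    (t : T ⟶ D) (sj : T ⟶ B) (h1 : l ≫ ab = t) (h3 : t = sj ≫ b) : (l ≫ a) ≫ b = sj ≫ b := by
  rw [Category.assoc, hab, h1, h3]

theorem main [HasFiniteLimits C] (U : SimplicialObject C) {n m : ℕ} (h : n ≤ m)
    [U.IsCoskeletal n] : U.IsCoskeletal m := by
  have hn : (RightExtension.mk U (𝟙 ((Truncated.inclusion n).op ⋙ U))).IsPointwiseRightKanExtension :=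
    isPointwiseRightKanExtensionOfIsRightKanExtension U (𝟙 _)
  suffices hm : (RightExtension.mk U
      (𝟙 ((Truncated.inclusion m).op ⋙ U))).IsPointwiseRightKanExtension from
    ⟨⟨⟨hm.isUniversal⟩⟩⟩
  intro Y
  have e1 : ∀ (k : ℕ) (Y' : SimplexCategoryᵒᵖ) (g : StructuredArrow Y' (Truncated.inclusion k).op),
      ((RightExtension.mk U (𝟙 ((Truncated.inclusion k).op ⋙ U))).coneAt Y').π.app g =
        U.map g.hom := fun k Y' g => Category.comp_id _
  refine
    { lift := fun s => (hn Y).lift (restrCone U h Y s)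
      fac := fun s j => ?_
      uniq := fun s m' hm' => ?_ }
  · apply (hn ((Truncated.inclusion m).op.obj j.right)).hom_ext
    intro g'
    have h1 := (hn Y).fac (restrCone U h Y s) (StructuredArrow.mk (Y := g'.right) (j.hom ≫ g'.hom))
    have h2 := s.π.naturality (X := j) (Y := Φ h Y (StructuredArrow.mk (Y := g'.right) (j.hom ≫ g'.hom)))
      (StructuredArrow.homMk (ObjectProperty.homMk g'.hom.unop).op rfl)
    rw [e1] at h1 ⊢
    rw [e1]
    have h3 : s.π.app (Φ h Y (StructuredArrow.mk (Y := g'.right) (j.hom ≫ g'.hom))) =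
        s.π.app j ≫ U.map g'.hom := (Category.id_comp _).symm.trans h2
    exact aux _ _ _ _ (U.map_comp _ _).symm _ _ h1 h3
  · apply (hn Y).uniq (restrCone U h Y s) m'
    intro g
    have := hm' (Φ h Y g)
    rw [e1] at this ⊢
    exact this

end Groth.Agent.Lib.Helper32.CoskLe
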