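import Mathlib
import Groth.Agent.Lib.Helper32.TruncFin

set_option autoImplicit false
open CategoryTheory CategoryTheory.Limits Opposite Simplicial SimplexCategory
universe v u

namespace Groth.Agent.Lib.Helper32.CoskOver

open Functor Groth.Agent.Lib.Helper32.TruncFin

variable (k : ℕ) (hk : 1 ≤ k) (Y : SimplexCategoryᵒᵖ)

/-- vertex objects of the structured arrow category. -/
def vtxObj (x : Fin (Y.unop.len + 1)) : StructuredArrow Y (Truncated.inclusion k).op :=
  StructuredArrow.mk (Y := op (⟨⦋0⦌, by simp⟩ : SimplexCategory.Truncated k))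
    (SimplexCategory.const ⦋0⦌ Y.unop x).op

include hk in
lemma isConnected_structuredArrow : IsConnected (StructuredArrow Y (Truncated.inclusion k).op) := by
  apply IsConnected.of_induct (j₀ := vtxObj k Y 0)
  intro P h0 hP
  have hv : ∀ x, vtxObj k Y x ∈ P := by
    intro x
    obtain ⟨Y⟩ := Y
    induction Y using SimplexCategory.rec with | _ q => ?_
    let e : StructuredArrow (op ⦋q⦌) (Truncated.inclusion k).op :=
      StructuredArrow.mk (Y := op (⟨⦋1⦌, by simpa using hk⟩ : SimplexCategory.Truncated k))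
        (SimplexCategory.mkOfLe (0 : Fin (q + 1)) x (Fin.zero_le _)).op
    let u0 : e ⟶ vtxObj k (op ⦋q⦌) 0 :=
      StructuredArrow.homMk (ObjectProperty.homMk (SimplexCategory.const ⦋0⦌ ⦋1⦌ 0)).op (by
        apply Quiver.Hom.unop_inj
        ext t : 3
        rfl)
    let u1 : e ⟶ vtxObj k (op ⦋q⦌) x :=
      StructuredArrow.homMk (ObjectProperty.homMk (SimplexCategory.const ⦋0⦌ ⦋1⦌ 1)).op (by
        apply Quiver.Hom.unop_inj
        ext t : 3
        rfl)
    exact (hP u1).1 ((hP u0).2 h0)
  intro j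
  let u : j ⟶ vtxObj k Y (j.hom.unop.toOrderHom 0) :=
    StructuredArrow.homMk
      (ObjectProperty.homMk (SimplexCategory.const ⦋0⦌ j.right.unop.obj 0)).op (by
        apply Quiver.Hom.unop_inj
        ext t : 3
        rfl)
  exact (hP u).2 (hv _)

theorem main {C : Type u} [Category.{v} C] [HasFiniteLimits C] (X : C) (k : ℕ) (hk : 1 ≤ k)
    (V : SimplicialObject (Over X)) [V.IsCoskeletal k] :
    SimplicialObject.IsCoskeletal (V ⋙ Over.forget X) k := by
  have hV : (RightExtension.mk V
      (𝟙 ((Truncated.inclusion k).op ⋙ V))).IsPointwiseRightKanExtension :=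
    isPointwiseRightKanExtensionOfIsRightKanExtension V (𝟙 _)
  suffices hm : (RightExtension.mk (V ⋙ Over.forget X)
      (𝟙 ((Truncated.inclusion k).op ⋙ V ⋙ Over.forget X))).IsPointwiseRightKanExtension from
    ⟨⟨⟨hm.isUniversal⟩⟩⟩
  intro Y
  haveI := isConnected_structuredArrow k hk Y
  have h1 := isLimitOfPreserves (Over.forget X) (hV Y)
  refine IsLimit.ofIsoLimit h1 (Cone.ext (Iso.refl _) (fun j => ?_))
  refine Eq.trans ?_ (Category.id_comp _).symm
  show (V.map j.hom ≫ 𝟙 _).left = (V.map j.hom).left ≫ 𝟙 _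
  rw [Category.comp_id, Category.comp_id]

end Groth.Agent.Lib.Helper32.CoskOver
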