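import Mathlib

set_option autoImplicit false
open CategoryTheory Opposite Simplicial
universe u

namespace Groth.Agent.Lib.Helper32.CoskTriv

open SSet

/-- two maps out of a simplicial set of dimension `< m` agree if they agree after composing with
a map injective on simplices of dimension `< m`. -/
lemma hom_ext_of_hasDimensionLT {Z V U : SSet.{u}} (m : ℕ) [Z.HasDimensionLT m] (f : V ⟶ U)
    (hf : ∀ i : ℕ, i < m → Function.Injective (f.app (op ⦋i⦌)))
    (g g' : Z ⟶ V) (h : g ≫ f = g' ≫ f) : g = g' := by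
  ext ⟨k⟩ z
  induction k using SimplexCategory.rec with | _ k => ?_
  obtain ⟨j, σ, _, y, rfl⟩ := Z.exists_nonDegenerate z
  have hj : j < m := Z.dim_lt_of_nonDegenerate y m
  have h1 : g.app (op ⦋j⦌) y.1 = g'.app (op ⦋j⦌) y.1 := by
    apply hf j hj
    have := congrArg (fun t => t.app (op ⦋j⦌) y.1) h
    simpa using this
  have n1 := NatTrans.naturality_apply g σ.op y.1
  have n2 := NatTrans.naturality_apply g' σ.op y.1
  exact n1.trans ((congrArg _ h1).trans n2.symm)

end Groth.Agent.Lib.Helper32.CoskTriv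

namespace Groth.Agent.Lib.Helper32.CoskTriv

open SSet

lemma hasLift_low {V U : SSet.{u}} (f : V ⟶ U) (m : ℕ)
    (hinj : ∀ i : ℕ, i < m → Function.Injective (f.app (op ⦋i⦌)))
    (hsurj : Function.Surjective (f.app (op ⦋m⦌))) :
    HasLiftingProperty (∂Δ[m].ι : (∂Δ[m] : SSet.{u}) ⟶ Δ[m]) f := by
  constructor
  intro a b sq
  obtain ⟨v, hv⟩ := hsurj (yonedaEquiv b)
  refine ⟨⟨{ l := yonedaEquiv.symm v, fac_left := ?_, fac_right := ?_ }⟩⟩
  · apply hom_ext_of_hasDimensionLT m f hinj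
    rw [Category.assoc, yonedaEquiv_symm_comp, hv, Equiv.symm_apply_apply, sq.w]
  · rw [yonedaEquiv_symm_comp, hv, Equiv.symm_apply_apply]

open Functor in
lemma hasLift_high {V U : SSet.{u}} (f : V ⟶ U) (n m : ℕ) (hnm : n < m)
    [SimplicialObject.IsCoskeletal U n] [SimplicialObject.IsCoskeletal V n] :
    HasLiftingProperty (∂Δ[m].ι : (∂Δ[m] : SSet.{u}) ⟶ Δ[m]) f := by
  constructor
  intro a b sq
  let L := (SimplexCategory.Truncated.inclusion n).op
  have hiso : IsIso (whiskerLeft L (∂Δ[m].ι : (∂Δ[m] : SSet.{u}) ⟶ Δ[m])) := by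
    have : ∀ k, IsIso ((whiskerLeft L (∂Δ[m].ι : (∂Δ[m] : SSet.{u}) ⟶ Δ[m])).app k) := by
      intro k
      obtain ⟨⟨k, hk⟩⟩ := k
      induction k using SimplexCategory.rec with | _ k => ?_
      rw [isIso_iff_bijective]
      have hu := boundary_obj_eq_univ.{u} k m (lt_of_le_of_lt hk hnm)
      constructor
      · intro x y h
        exact Subtype.ext h
      · intro x
        have hx : x ∈ (∂Δ[m] : (Δ[m] : SSet.{u}).Subcomplex).obj (op ⦋k⦌) := by
          rw [hu]; trivial
        exact ⟨⟨x, hx⟩, rfl⟩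
    exact NatIso.isIso_of_isIso_app _
  let τ : L ⋙ (Δ[m] : SSet.{u}) ⟶ L ⋙ V := inv (whiskerLeft L (∂Δ[m].ι)) ≫ whiskerLeft L a
  let l : (Δ[m] : SSet.{u}) ⟶ V := V.liftOfIsRightKanExtension (𝟙 (L ⋙ V)) _ τ
  have hl : whiskerLeft L l = τ := by
    have := V.liftOfIsRightKanExtension_fac (𝟙 (L ⋙ V)) _ τ
    rwa [Category.comp_id] at this
  refine ⟨⟨{ l := l, fac_left := ?_, fac_right := ?_ }⟩⟩
  · apply V.hom_ext_of_isRightKanExtension (𝟙 (L ⋙ V))
    rw [Category.comp_id, Category.comp_id, whiskerLeft_comp, hl]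
    simp [τ]
  · apply U.hom_ext_of_isRightKanExtension (𝟙 (L ⋙ U))
    rw [Category.comp_id, Category.comp_id, whiskerLeft_comp, hl]
    have : whiskerLeft L a ≫ whiskerLeft L f = whiskerLeft L (∂Δ[m].ι) ≫ whiskerLeft L b := by
      rw [← whiskerLeft_comp, ← whiskerLeft_comp, sq.w]
    simp [τ, this]

theorem main {U V : SSet.{u}} (f : V ⟶ U) (n : ℕ)
    (h1 : ∀ i : ℕ, i < n → Function.Bijective (f.app (op (SimplexCategory.mk i))))
    (h2 : Function.Surjective (f.app (op (SimplexCategory.mk n))))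
    [SimplicialObject.IsCoskeletal U n] [SimplicialObject.IsCoskeletal V n] :
    SSet.modelCategoryQuillen.I.rlp f := by
  intro A B i hi
  obtain ⟨m⟩ := hi
  by_cases hm : m ≤ n
  · apply hasLift_low f m (fun i hi => (h1 i (lt_of_lt_of_le hi hm)).injective)
    rcases hm.lt_or_eq with h | rfl
    · exact (h1 m h).surjective
    · exact h2
  · exact hasLift_high f n m (not_le.1 hm)

end Groth.Agent.Lib.Helper32.CoskTriv
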