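import Groth.Agent.Lib.Cohomology.helper5_SiteCechEv
import Mathlib.CategoryTheory.Sites.Sheaf
import Mathlib.CategoryTheory.Sites.Limits
import Mathlib.CategoryTheory.Sites.LocallySurjective
import Mathlib.CategoryTheory.Sites.Abelian
import Mathlib.Algebra.Homology.HomologySequence

/-!
# Čech cohomology on a general site (helper32): universe-general port of helper5's
`SiteCechH0` / `SiteCechSurj`, plus the 2-out-of-3 vanishing for the quotient.

`C : Type u₁` with `Category.{v₁} C`, sheaves valued in `AddCommGrpCat.{max v₁ u₁}`, families indexed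
by `ι : Type (max v₁ u₁)`; finite products of `Over U` are an instance hypothesis (as in the
statements about the small étale site).
-/

set_option autoImplicit false
universe v₁ u₁
open CategoryTheory Opposite CategoryTheory.Limits

namespace Groth.Agent.Lib.Helper32.CechSurj

open Groth.Agent.Lib.Cohomology.SiteCech

variable {C : Type u₁} [Category.{v₁} C] {J : GrothendieckTopology C} {U : C}
  [HasFiniteProducts (Over U)] {ι : Type (max v₁ u₁)} (Y : ι → Over U)

/-- restriction of a presheaf to the over category -/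
abbrev overRestr (P : Cᵒᵖ ⥤ AddCommGrpCat.{max v₁ u₁}) (U : C) :
    (Over U)ᵒᵖ ⥤ AddCommGrpCat.{max v₁ u₁} := (Over.forget U).op ⋙ P


variable (G : Sheaf J AddCommGrpCat.{max v₁ u₁})

/-- The restriction map from sections over `U` to `0`-cochains. -/
noncomputable def toC0 : G.obj.obj (op U) ⟶ (cx (overRestr G.obj U) Y).X 0 :=
  Pi.lift (fun i : Fin 1 → ι => G.obj.map ((inter Y i).hom).op)

lemma toC0_proj (i : Fin 1 → ι) :
    toC0 Y G ≫ proj (overRestr G.obj U) Y 0 i = G.obj.map ((inter Y i).hom).op :=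
  Pi.lift_π _ _

lemma toC0_proj_apply (i : Fin 1 → ι) (s : G.obj.obj (op U)) :
    proj (overRestr G.obj U) Y 0 i (toC0 Y G s) = G.obj.map ((inter Y i).hom).op s := by
  rw [← ConcreteCategory.comp_apply, toC0_proj]
  rfl

lemma ev_toC0 (W : Over U) (σ : Fin 1 → Tup Y W) (s : G.obj.obj (op U)) :
    ev (overRestr G.obj U) Y 0 W σ (toC0 Y G s) = G.obj.map W.hom.op s := by
  rw [ev_apply, toC0_proj_apply]
  change G.obj.map (tupLift Y σ).left.op (G.obj.map _ s) = _
  rw [← ConcreteCategory.comp_apply, ← G.obj.map_comp, ← op_comp, Over.w]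

lemma toC0_d : toC0 Y G ≫ (cx (overRestr G.obj U) Y).d 0 1 = 0 := by
  ext s
  change (cx (overRestr G.obj U) Y).d 0 1 (toC0 Y G s) = 0
  apply cx_ext_ev
  intro W σ
  rw [map_zero, ev_d, Fin.sum_univ_succ, Fin.sum_univ_succ, Fin.sum_univ_zero,
    ev_toC0, ev_toC0]
  simp only [Fin.val_zero, pow_zero, one_smul, Fin.val_succ, zero_add, pow_one, neg_smul, add_zero]
  exact add_neg_cancel _

/-- sections over `U` map to `0`-cocycles -/
noncomputable def toZ0 : G.obj.obj (op U) ⟶ (cx (overRestr G.obj U) Y).cycles 0 :=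
  (cx (overRestr G.obj U) Y).liftCycles (toC0 Y G) 1 (by simp) (toC0_d Y G)

lemma toZ0_i : toZ0 Y G ≫ (cx (overRestr G.obj U) Y).iCycles 0 = toC0 Y G :=
  (cx (overRestr G.obj U) Y).liftCycles_i _ _ _ _

variable (hY : Sieve.ofArrows (fun i => (Y i).left) (fun i => (Y i).hom) ∈ J U)

include hY in
lemma isSheafFor_arrows :
    (Presieve.ofArrows (fun i => (Y i).left) (fun i => (Y i).hom)).IsSheafFor
      (G.obj ⋙ forget AddCommGrpCat.{max v₁ u₁}) := by
  have h1 : Presieve.IsSheaf J (G.obj ⋙ forget AddCommGrpCat.{max v₁ u₁}) :=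
    (isSheaf_iff_isSheaf_of_type J _).1
      ((Presheaf.isSheaf_iff_isSheaf_forget J G.obj (forget AddCommGrpCat.{max v₁ u₁})).1 G.property)
  exact (Presieve.isSheafFor_iff_generate _).2 (h1 _ hY)

/-- the constant 1-tuple -/
abbrev tup1 {W : Over U} (t : Tup Y W) : Fin 1 → Tup Y W := fun _ => t

lemma eq_tup1 {W : Over U} (σ : Fin 1 → Tup Y W) : σ = tup1 Y (σ 0) := by
  funext a
  rw [Subsingleton.elim a 0]

/-- the restriction of `s` to `Y i` in terms of the cochain `toC0 s` -/
lemma map_hom_eq_ev (i : ι) (s : G.obj.obj (op U)) :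
    G.obj.map (Y i).hom.op s =
      ev (overRestr G.obj U) Y 0 (Y i) (tup1 Y ⟨i, 𝟙 _⟩) (toC0 Y G s) :=
  (ev_toC0 Y G (Y i) _ s).symm

include hY in
lemma toC0_injective : Function.Injective (toC0 Y G) := by
  intro s t hst
  have key : ∀ i : ι, G.obj.map (Y i).hom.op s = G.obj.map (Y i).hom.op t := by
    intro i
    rw [map_hom_eq_ev, map_hom_eq_ev, hst]
  refine (isSheafFor_arrows Y G hY).isSeparatedFor.ext ?_
  intro Z f hf
  obtain ⟨i⟩ := hf
  exact key i

lemma iCycles_injective :
    Function.Injective ((cx (overRestr G.obj U) Y).iCycles 0) :=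
  (AddCommGrpCat.mono_iff_injective _).1 inferInstance

/-- a `0`-cocycle has a well defined restriction to any object mapping to a member of the family -/
lemma ev_cocycle_indep {Q : (Over U)ᵒᵖ ⥤ AddCommGrpCat.{max v₁ u₁}} (x : (cx Q Y).X 0)
    (hx : (cx Q Y).d 0 1 x = 0) (W : Over U) (t₀ t₁ : Tup Y W) :
    ev Q Y 0 W (tup1 Y t₀) x = ev Q Y 0 W (tup1 Y t₁) x := by
  have h := ev_d Q Y 0 W (Fin.cons t₀ (tup1 Y t₁)) x
  rw [hx, map_zero, Fin.sum_univ_succ, Fin.sum_univ_succ, Fin.sum_univ_zero] at h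
  have e0 : (Fin.cons t₀ (tup1 Y t₁) : Fin 2 → Tup Y W) ∘ (0 : Fin 2).succAbove = tup1 Y t₁ := by
    funext a
    have : a = 0 := Subsingleton.elim _ _
    subst this
    rfl
  have e1 : (Fin.cons t₀ (tup1 Y t₁) : Fin 2 → Tup Y W) ∘ (Fin.succ 0 : Fin 2).succAbove =
      tup1 Y t₀ := by
    funext a
    have : a = 0 := Subsingleton.elim _ _
    subst this
    rfl
  rw [e0, e1] at h
  simp only [Fin.val_zero, pow_zero, one_smul, Fin.val_succ, zero_add, pow_one, neg_smul,
    add_zero] at h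
  have h2 := eq_neg_of_add_eq_zero_left h.symm
  rw [neg_neg] at h2
  exact h2.symm

include hY in
/-- every `0`-cocycle comes from a section over `U` -/
lemma exists_toC0_eq (x : (cx (overRestr G.obj U) Y).X 0)
    (hdx : (cx (overRestr G.obj U) Y).d 0 1 x = 0) : ∃ s : G.obj.obj (op U), toC0 Y G s = x := by
  let xx : ∀ i : ι, (G.obj ⋙ forget AddCommGrpCat.{max v₁ u₁}).obj (op (Y i).left) :=
    fun i => ev (overRestr G.obj U) Y 0 (Y i) (tup1 Y ⟨i, 𝟙 _⟩) x
  have hcompat : Presieve.Arrows.Compatible (G.obj ⋙ forget AddCommGrpCat.{max v₁ u₁})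
      (fun i => (Y i).hom) xx := by
    intro i j Z gi gj h
    let Z' : Over U := Over.mk (gi ≫ (Y i).hom)
    let gi' : Z' ⟶ Y i := Over.homMk gi rfl
    let gj' : Z' ⟶ Y j := Over.homMk gj h.symm
    have h1 : (overRestr G.obj U).map gi'.op (xx i) =
        ev (overRestr G.obj U) Y 0 Z' (tup1 Y ⟨i, gi' ≫ 𝟙 _⟩) x := ev_map _ Y 0 gi' _ x
    have h2 : (overRestr G.obj U).map gj'.op (xx j) =
        ev (overRestr G.obj U) Y 0 Z' (tup1 Y ⟨j, gj' ≫ 𝟙 _⟩) x := ev_map _ Y 0 gj' _ x
    change (overRestr G.obj U).map gi'.op (xx i) = (overRestr G.obj U).map gj'.op (xx j)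
    rw [h1, h2]
    exact ev_cocycle_indep Y x hdx Z' _ _
  obtain ⟨s, hs, -⟩ := (Presieve.isSheafFor_arrows_iff _ _).1 (isSheafFor_arrows Y G hY) xx hcompat
  refine ⟨s, ?_⟩
  apply cx_ext_ev
  intro W σ
  rw [ev_toC0, eq_tup1 Y σ]
  obtain ⟨j, g⟩ := σ 0
  have h1 : (overRestr G.obj U).map g.op (xx j) =
      ev (overRestr G.obj U) Y 0 W (tup1 Y ⟨j, g ≫ 𝟙 _⟩) x := ev_map _ Y 0 g _ x
  rw [Category.comp_id] at h1
  rw [← h1]
  have h2 : xx j = G.obj.map (Y j).hom.op s := (hs j).symm
  rw [h2]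
  change _ = G.obj.map g.left.op (G.obj.map (Y j).hom.op s)
  rw [← ConcreteCategory.comp_apply, ← G.obj.map_comp, ← op_comp, Over.w]


section Surj

variable [Balanced (Sheaf J AddCommGrpCat.{max v₁ u₁})]

/-- the short complex of presheaves on `Over U` attached to a short complex of sheaves -/
noncomputable def overSC (U : C) (S : ShortComplex (Sheaf J AddCommGrpCat.{max v₁ u₁})) :
    ShortComplex ((Over U)ᵒᵖ ⥤ AddCommGrpCat.{max v₁ u₁}) :=
  ShortComplex.mk (Functor.whiskerLeft (Over.forget U).op S.f.hom)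
    (Functor.whiskerLeft (Over.forget U).op S.g.hom) (by
      rw [← Functor.whiskerLeft_comp]
      have : S.f.hom ≫ S.g.hom = 0 := congrArg (fun φ => φ.hom) S.zero
      rw [this]
      rfl)

/-- The short complex of Čech complexes attached to a short complex of abelian sheaves. -/
noncomputable def cechSC (S : ShortComplex (Sheaf J AddCommGrpCat.{max v₁ u₁})) :
    ShortComplex (CochainComplex AddCommGrpCat.{max v₁ u₁} ℕ) :=
  (overSC U S).map (cechComplexFunctor Y)

omit [HasFiniteProducts (Over U)] in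
lemma sections_injective {S : ShortComplex (Sheaf J AddCommGrpCat.{max v₁ u₁})}
    (hS : S.ShortExact) (V : C) :
    Function.Injective (S.f.hom.app (op V)) := by
  have := hS.mono_f
  have h1 : Mono S.f.hom := (sheafToPresheaf J _).map_mono S.f
  have h2 : Mono (S.f.hom.app (op V)) := inferInstance
  exact (AddCommGrpCat.mono_iff_injective _).1 h2

omit [HasFiniteProducts (Over U)] in
lemma sections_exact {S : ShortComplex (Sheaf J AddCommGrpCat.{max v₁ u₁})}
    (hS : S.ShortExact) (V : C)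
    (x : S.X₂.obj.obj (op V)) (hx : S.g.hom.app (op V) x = 0) :
    ∃ t : S.X₁.obj.obj (op V), S.f.hom.app (op V) t = x := by
  have := hS.mono_f
  let F : Sheaf J AddCommGrpCat.{max v₁ u₁} ⥤ AddCommGrpCat.{max v₁ u₁} :=
    sheafToPresheaf J _ ⋙ (evaluation Cᵒᵖ _).obj (op V)
  have hF : (S.map F).Exact :=
    hS.exact.map_of_mono_of_preservesKernel F hS.mono_f inferInstance
  exact (ShortComplex.ab_exact_iff _).1 hF x hx

/-- Short exactness of the Čech complexes. -/
theorem cechSC_shortExact_of_surjective {S : ShortComplex (Sheaf J AddCommGrpCat.{max v₁ u₁})}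
    (hS : S.ShortExact)
    (hsurj : ∀ (n : ℕ) (i : Fin (n + 1) → ι),
      Function.Surjective (S.g.hom.app (op (inter Y i).left))) :
    (cechSC Y S).ShortExact :=
  cechSC_shortExact Y (overSC U S)
    (fun _ i => sections_injective hS (inter Y i).left)
    (fun _ i x hx => sections_exact hS (inter Y i).left x hx)
    hsurj

/-- 2-out-of-3: vanishing of Čech cohomology of the quotient. -/
theorem isZero_cechH_quot {S : ShortComplex (Sheaf J AddCommGrpCat.{max v₁ u₁})}
    (hS : S.ShortExact)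
    (hsurj : ∀ (n : ℕ) (i : Fin (n + 1) → ι),
      Function.Surjective (S.g.hom.app (op (inter Y i).left)))
    (p : ℕ)
    (h1 : IsZero ((cx (overRestr S.X₁.obj U) Y).homology (p + 2)))
    (h2 : IsZero ((cx (overRestr S.X₂.obj U) Y).homology (p + 1))) :
    IsZero ((cx (overRestr S.X₃.obj U) Y).homology (p + 1)) := by
  have hC := cechSC_shortExact_of_surjective Y hS hsurj
  have ex := hC.homology_exact₃ (p + 1) (p + 2) (by simp)
  exact ex.isZero_of_both_zeros (h2.eq_of_src _ _) (h1.eq_of_tgt _ _)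

/-- the map of Čech complexes induced by a morphism of sheaves -/
noncomputable abbrev cechMap {F G : Sheaf J AddCommGrpCat.{max v₁ u₁}} (φ : F ⟶ G) :
    cx (overRestr F.obj U) Y ⟶ cx (overRestr G.obj U) Y :=
  (cechComplexFunctor Y).map (Functor.whiskerLeft (Over.forget U).op φ.hom)

variable {S : ShortComplex (Sheaf J AddCommGrpCat.{max v₁ u₁})} (hS : S.ShortExact)

include hS in
lemma cechMap_f_injective (n : ℕ) : Function.Injective ((cechMap Y S.f).f n) := by
  intro c c' hcc
  apply cx_ext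
  intro i
  apply sections_injective hS (inter Y i).left
  have := congrArg (proj (overRestr S.X₂.obj U) Y n i) hcc
  exact (map_proj_apply Y (Functor.whiskerLeft (Over.forget U).op S.f.hom) n i c).symm.trans
    (this.trans (map_proj_apply Y (Functor.whiskerLeft (Over.forget U).op S.f.hom) n i c'))

include hS in
lemma cechMap_exact (n : ℕ) (c : (cx (overRestr S.X₂.obj U) Y).X n)
    (hc : (cechMap Y S.g).f n c = 0) : ∃ a, (cechMap Y S.f).f n a = c := by
  have h1 : ∀ i : Fin (n + 1) → ι, ∃ t : S.X₁.obj.obj (op (inter Y i).left),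
      S.f.hom.app (op (inter Y i).left) t = proj (overRestr S.X₂.obj U) Y n i c := by
    intro i
    apply sections_exact hS (inter Y i).left
    have h0 : proj (overRestr S.X₃.obj U) Y n i ((cechMap Y S.g).f n c) = 0 := by
      have := congrArg (proj (overRestr S.X₃.obj U) Y n i) hc
      exact this.trans (map_zero _)
    refine Eq.trans ?_ h0
    exact (map_proj_apply Y (Functor.whiskerLeft (Over.forget U).op S.g.hom) n i c).symm
  choose t ht using h1
  refine ⟨(cochEquiv (overRestr S.X₁.obj U) Y n).symm t, ?_⟩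
  apply cx_ext
  intro i
  refine (map_proj_apply Y (Functor.whiskerLeft (Over.forget U).op S.f.hom) n i _).trans ?_
  rw [proj_cochEquiv_symm]
  exact ht i

lemma cechMap_comp_zero (n : ℕ) (a : (cx (overRestr S.X₁.obj U) Y).X n) :
    (cechMap Y S.g).f n ((cechMap Y S.f).f n a) = 0 := by
  have h := (cechSC Y S).zero
  have h2 := congrArg (fun φ : (cechSC Y S).X₁ ⟶ (cechSC Y S).X₃ => HomologicalComplex.Hom.f φ n) h
  exact ConcreteCategory.congr_hom h2 a

lemma cechMap_toC0 {F G : Sheaf J AddCommGrpCat.{max v₁ u₁}} (φ : F ⟶ G) (s : F.obj.obj (op U)) :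
    (cechMap Y φ).f 0 (toC0 Y F s) = toC0 Y G (φ.hom.app (op U) s) := by
  apply cx_ext
  intro i
  rw [map_proj_apply, toC0_proj_apply, toC0_proj_apply]
  exact ConcreteCategory.congr_hom (φ.hom.naturality ((inter Y i).hom).op) s

variable (hY : Sieve.ofArrows (fun i => (Y i).left) (fun i => (Y i).hom) ∈ J U)

include hS hY in
/-- If every member of the family lies in the image sieve of `t` and `Ȟ^1(Y, X₁) = 0`, then `t`
lifts to a section of `X₂` over `U`. -/
lemma exists_lift_of_cechH1 (t : S.X₃.obj.obj (op U))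
    (hT : ∀ i, (Presheaf.imageSieve S.g.hom t).arrows (Y i).hom)
    (hZ : IsZero ((cx (overRestr S.X₁.obj U) Y).homology 1)) :
    ∃ s : S.X₂.obj.obj (op U), S.g.hom.app (op U) s = t := by
  -- local lifts on all `inter Y i`
  have hx : ∀ i : Fin 1 → ι, ∃ x : S.X₂.obj.obj (op (inter Y i).left),
      S.g.hom.app (op (inter Y i).left) x = S.X₃.obj.map ((inter Y i).hom).op t := by
    intro i
    have hw : (Pi.π (Y ∘ i) 0 : inter Y i ⟶ Y (i 0)).left ≫ (Y (i 0)).hom = (inter Y i).hom :=
      Over.w _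
    have := (Presheaf.imageSieve S.g.hom t).downward_closed (hT (i 0))
      (Pi.π (Y ∘ i) 0 : inter Y i ⟶ Y (i 0)).left
    rw [hw] at this
    exact this
  choose x hx using hx
  let s₀ : (cx (overRestr S.X₂.obj U) Y).X 0 := (cochEquiv (overRestr S.X₂.obj U) Y 0).symm x
  have hs₀ : (cechMap Y S.g).f 0 s₀ = toC0 Y S.X₃ t := by
    apply cx_ext
    intro i
    rw [map_proj_apply, proj_cochEquiv_symm, toC0_proj_apply]
    exact hx i
  -- the 1-cochain of differences
  have hds₀ : (cechMap Y S.g).f 1 ((cx (overRestr S.X₂.obj U) Y).d 0 1 s₀) = 0 := by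
    have h1 := ConcreteCategory.congr_hom ((cechMap Y S.g).comm 0 1) s₀
    rw [ConcreteCategory.comp_apply, ConcreteCategory.comp_apply] at h1
    rw [← h1, hs₀]
    exact ConcreteCategory.congr_hom (toC0_d Y S.X₃) t
  obtain ⟨a, ha⟩ := cechMap_exact Y hS 1 _ hds₀
  have hda : (cx (overRestr S.X₁.obj U) Y).d 1 2 a = 0 := by
    apply cechMap_f_injective Y hS 2
    rw [map_zero]
    have h1 := ConcreteCategory.congr_hom ((cechMap Y S.f).comm 1 2) a
    rw [ConcreteCategory.comp_apply, ConcreteCategory.comp_apply] at h1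
    rw [← h1, ha, ← ConcreteCategory.comp_apply, HomologicalComplex.d_comp_d]
    rfl
  obtain ⟨b, hb⟩ := (isZero_homology_succ_iff (overRestr S.X₁.obj U) Y 0).1 hZ a hda
  -- corrected cochain
  let s₁ := s₀ - (cechMap Y S.f).f 0 b
  have hds₁ : (cx (overRestr S.X₂.obj U) Y).d 0 1 s₁ = 0 := by
    have h1 := ConcreteCategory.congr_hom ((cechMap Y S.f).comm 0 1) b
    rw [ConcreteCategory.comp_apply, ConcreteCategory.comp_apply] at h1
    have hb' : (cx (overRestr S.X₁.obj U) Y).d 0 1 b = a := hb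
    simp only [s₁, map_sub]
    rw [h1, hb', ha, sub_self]
  -- glue
  obtain ⟨s, hs⟩ := exists_toC0_eq Y S.X₂ hY s₁ hds₁
  refine ⟨s, ?_⟩
  apply toC0_injective Y S.X₃ hY
  rw [← cechMap_toC0, hs]
  simp only [s₁, map_sub]
  rw [cechMap_comp_zero, sub_zero, hs₀]

end Surj

end Groth.Agent.Lib.Helper32.CechSurj
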