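import Mathlib

set_option autoImplicit false
universe w v u
open CategoryTheory CategoryTheory.Limits CategoryTheory.Abelian

namespace Groth.Agent.Lib.Helper32.ExtLift

variable {C : Type u} [Category.{v} C] [Abelian C] [HasExt.{w} C]

/-- extension of morphisms along the mono of a SES when `Ext¹(X₃, Y) = 0`. -/
lemma exists_extension {S : ShortComplex C} (hS : S.ShortExact) (Y : C)
    (h : Subsingleton (Ext S.X₃ Y 1)) (u : S.X₁ ⟶ Y) : ∃ v : S.X₂ ⟶ Y, S.f ≫ v = u := by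
  obtain ⟨x₂, hx₂⟩ := Ext.contravariant_sequence_exact₁ hS Y (Ext.mk₀ u) (rfl : 1 + 0 = 1)
    (Subsingleton.elim _ _)
  obtain ⟨v, rfl⟩ := (Ext.mk₀_bijective _ _).2 x₂
  rw [Ext.mk₀_comp_mk₀] at hx₂
  exact ⟨v, (Ext.mk₀_bijective _ _).1 hx₂⟩

/-- lifting of morphisms along the epi of a SES when `Ext¹(X, X₁) = 0`. -/
lemma exists_lift {S : ShortComplex C} (hS : S.ShortExact) (X : C)
    (h : Subsingleton (Ext X S.X₁ 1)) (u : X ⟶ S.X₃) : ∃ v : X ⟶ S.X₂, v ≫ S.g = u := by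
  obtain ⟨x₂, hx₂⟩ := Ext.covariant_sequence_exact₃ X hS (Ext.mk₀ u) (rfl : 0 + 1 = 1)
    (Subsingleton.elim _ _)
  obtain ⟨v, rfl⟩ := (Ext.mk₀_bijective _ _).2 x₂
  rw [Ext.mk₀_comp_mk₀] at hx₂
  exact ⟨v, (Ext.mk₀_bijective _ _).1 hx₂⟩

/-- `Ext¹(X₁, Y) = 0` when `Ext¹(X₂, Y) = 0` and `Ext²(X₃, Y) = 0`. -/
lemma subsingleton_ext_one_X₁ {S : ShortComplex C} (hS : S.ShortExact) (Y : C)
    (h₂ : Subsingleton (Ext S.X₂ Y 1)) (h₃ : Subsingleton (Ext S.X₃ Y 2)) :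
    Subsingleton (Ext S.X₁ Y 1) := by
  refine ⟨fun x y => ?_⟩
  have key : ∀ z : Ext S.X₁ Y 1, z = 0 := by
    intro z
    obtain ⟨x₂, hx₂⟩ := Ext.contravariant_sequence_exact₁ hS Y z (rfl : 1 + 1 = 2)
      (Subsingleton.elim _ _)
    rw [← hx₂, Subsingleton.elim x₂ 0, Ext.comp_zero]
  rw [key x, key y]

theorem monad_bijective
    (M M' : ShortComplex C) [Mono M.f] [Epi M.g] [Mono M'.f] [Epi M'.g]
    (hBA : ∀ f : M.X₂ ⟶ M'.X₁, f = 0) (hCB : ∀ f : M.X₃ ⟶ M'.X₂, f = 0)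
    (hCA₁ : Subsingleton (Abelian.Ext M.X₃ M'.X₁ 1)) (hBA₁ : Subsingleton (Abelian.Ext M.X₂ M'.X₁ 1))
    (hCB₁ : Subsingleton (Abelian.Ext M.X₃ M'.X₂ 1)) (hCA₂ : Subsingleton (Abelian.Ext M.X₃ M'.X₁ 2)) :
    Function.Bijective (fun φ : M ⟶ M' => ShortComplex.homologyMap φ) := by
  -- the two short exact sequences
  have hI : (ShortComplex.mk M.iCycles M.g M.iCycles_g).ShortExact :=
    ShortComplex.ShortExact.mk' (ShortComplex.exact_of_f_is_kernel _ M.cyclesIsKernel)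
      inferInstance inferInstance
  have hmono' : Mono M'.toCycles := by
    have : Mono (M'.toCycles ≫ M'.iCycles) := by rw [M'.toCycles_i]; infer_instance
    exact mono_of_mono M'.toCycles M'.iCycles
  have hII' : (ShortComplex.mk M'.toCycles M'.homologyπ M'.toCycles_comp_homologyπ).ShortExact :=
    ShortComplex.ShortExact.mk' (ShortComplex.exact_of_g_is_cokernel _ M'.homologyIsCokernel)
      hmono' inferInstance
  -- Hom(K, A') = 0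
  have hKA : ∀ u : M.cycles ⟶ M'.X₁, u = 0 := by
    intro u
    obtain ⟨v, hv⟩ := exists_extension hI M'.X₁ hCA₁ u
    rw [← hv, hBA v, comp_zero]
  have hKA₁ : Subsingleton (Ext M.cycles M'.X₁ 1) := subsingleton_ext_one_X₁ hI M'.X₁ hBA₁ hCA₂
  -- (iii)
  have uniqK : ∀ ψ₁ ψ₂ : M.cycles ⟶ M'.cycles, ψ₁ ≫ M'.homologyπ = ψ₂ ≫ M'.homologyπ →
      ψ₁ = ψ₂ := by
    intro ψ₁ ψ₂ h
    have h0 : (ψ₁ - ψ₂) ≫ M'.homologyπ = 0 := by rw [Preadditive.sub_comp, h, sub_self]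
    have := hII'.exact.lift_f (ψ₁ - ψ₂) h0
    dsimp at this
    rw [hKA (hII'.exact.lift (ψ₁ - ψ₂) h0), zero_comp] at this
    exact sub_eq_zero.1 this.symm
  -- (iv)
  have uniqB : ∀ β₁ β₂ : M.X₂ ⟶ M'.X₂, M.iCycles ≫ β₁ = M.iCycles ≫ β₂ → β₁ = β₂ := by
    intro β₁ β₂ h
    have h0 : M.iCycles ≫ (β₁ - β₂) = 0 := by rw [Preadditive.comp_sub, h, sub_self]
    have := hI.exact.g_desc (β₁ - β₂) h0
    dsimp at this
    rw [hCB (hI.exact.desc (β₁ - β₂) h0), comp_zero] at this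
    exact sub_eq_zero.1 this.symm
  constructor
  · intro φ₁ φ₂ h
    dsimp at h
    have hc : ShortComplex.cyclesMap φ₁ = ShortComplex.cyclesMap φ₂ := by
      apply uniqK
      rw [← ShortComplex.homologyπ_naturality, ← ShortComplex.homologyπ_naturality, h]
    have h2 : φ₁.τ₂ = φ₂.τ₂ := by
      apply uniqB
      rw [← ShortComplex.cyclesMap_i, ← ShortComplex.cyclesMap_i, hc]
    have h1 : φ₁.τ₁ = φ₂.τ₁ := by
      rw [← cancel_mono M'.f, φ₁.comm₁₂, φ₂.comm₁₂, h2]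
    have h3 : φ₁.τ₃ = φ₂.τ₃ := by
      rw [← cancel_epi M.g, ← φ₁.comm₂₃, ← φ₂.comm₂₃, h2]
    exact ShortComplex.hom_ext _ _ h1 h2 h3
  · intro φ₀
    obtain ⟨ψ, hψ⟩ := exists_lift hII' M.cycles hKA₁ (M.homologyπ ≫ φ₀)
    dsimp at ψ hψ
    obtain ⟨β, hβ⟩ := exists_extension hI M'.X₂ hCB₁ (ψ ≫ M'.iCycles)
    dsimp at β hβ
    have hα0 : (M.toCycles ≫ ψ) ≫ M'.homologyπ = 0 := by
      rw [Category.assoc, hψ, M.toCycles_comp_homologyπ_assoc, zero_comp]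
    obtain ⟨α, hα⟩ : ∃ α : M.X₁ ⟶ M'.X₁, α ≫ M'.toCycles = M.toCycles ≫ ψ :=
      ⟨hII'.exact.lift _ hα0, hII'.exact.lift_f _ hα0⟩
    have hγ0 : M.iCycles ≫ (β ≫ M'.g) = 0 := by
      rw [reassoc_of% hβ, M'.iCycles_g, comp_zero]
    obtain ⟨γ, hγ⟩ : ∃ γ : M.X₃ ⟶ M'.X₃, M.g ≫ γ = β ≫ M'.g :=
      ⟨hI.exact.desc _ hγ0, hI.exact.g_desc _ hγ0⟩
    let φ : M ⟶ M' :=
      { τ₁ := α, τ₂ := β, τ₃ := γ
        comm₁₂ := by
          rw [← M'.toCycles_i, reassoc_of% hα, ← hβ, M.toCycles_i_assoc]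
        comm₂₃ := hγ.symm }
    refine ⟨φ, ?_⟩
    dsimp
    have hc : ShortComplex.cyclesMap φ = ψ := by
      rw [← cancel_mono M'.iCycles, ShortComplex.cyclesMap_i]
      exact hβ
    rw [← cancel_epi M.homologyπ, ShortComplex.homologyπ_naturality, hc, hψ]

end Groth.Agent.Lib.Helper32.ExtLift
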