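import Groth.Statements.S12230

set_option autoImplicit false
universe v u
open CategoryTheory FibCat CategoryTheory.Functor

namespace Groth.Agent.Lib.Helper32.FactFib

section General

variable {𝒮 : Type*} [Category 𝒮] {𝒵 : Type*} [Category 𝒵] (p : 𝒵 ⥤ 𝒮)

lemma isHomLift_of_comp_lift_id_right {R S : 𝒮} {a b c : 𝒵} (f : R ⟶ S) (φ : a ⟶ b) (ψ : b ⟶ c)
    [p.IsHomLift (𝟙 S) ψ] [p.IsHomLift f (φ ≫ ψ)] : p.IsHomLift f φ := by
  have h1 := IsHomLift.fac' p f (φ ≫ ψ)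
  have h2 := IsHomLift.fac' p (𝟙 S) ψ
  have ha := IsHomLift.domain_eq p f (φ ≫ ψ)
  have hb := IsHomLift.domain_eq p (𝟙 S) ψ
  subst ha
  subst hb
  apply IsHomLift.of_fac' p f φ rfl rfl
  rw [Functor.map_comp, h2] at h1
  simp only [eqToHom_refl, Category.id_comp, Category.comp_id] at h1 ⊢
  rw [← cancel_mono (eqToHom (IsHomLift.codomain_eq p (𝟙 (p.obj b)) ψ).symm), h1]

lemma isHomLift_id_of_eq {R S : 𝒮} (h : R = S) {a b : 𝒵} (φ : a ⟶ b) [p.IsHomLift (𝟙 R) φ] :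
    p.IsHomLift (𝟙 S) φ := by
  subst h; infer_instance

lemma exists_isStronglyCartesian [p.IsFibered] {R S : 𝒮} (f : R ⟶ S) (a : 𝒵) (ha : p.obj a = S) :
    ∃ (b : 𝒵) (φ : b ⟶ a), p.IsStronglyCartesian f φ := by
  subst ha
  obtain ⟨b, φ, hφ⟩ := IsPreFibered.exists_isCartesian p rfl f
  exact ⟨b, φ, inferInstance⟩

end General

variable {C : Type u} [Category.{v} C] {𝒳 𝒴 : BasedCategory.{v, max u v} C} (F : 𝒳 ⥤ᵇ 𝒴)

structure Obj where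
  x : 𝒳.obj
  y : 𝒴.obj
  f : y ⟶ F.obj x
  hf : 𝒴.p.IsHomLift (𝟙 (𝒳.p.obj x)) f

variable {F}

@[ext]
structure Hom (X Y : Obj F) where
  a : X.x ⟶ Y.x
  b : X.y ⟶ Y.y
  w : X.f ≫ F.map a = b ≫ Y.f

attribute [reassoc] Hom.w

instance : Category.{v} (Obj F) where
  Hom X Y := Hom X Y
  id X := ⟨𝟙 _, 𝟙 _, by simp⟩
  comp φ ψ := ⟨φ.a ≫ ψ.a, φ.b ≫ ψ.b, by
    rw [Functor.map_comp, φ.w_assoc, ψ.w, Category.assoc]⟩
  id_comp φ := by apply Hom.ext <;> simp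
  comp_id φ := by apply Hom.ext <;> simp
  assoc φ ψ χ := by apply Hom.ext <;> simp

@[simp] lemma id_a (X : Obj F) : (𝟙 X : X ⟶ X).a = 𝟙 _ := rfl
@[simp] lemma id_b (X : Obj F) : (𝟙 X : X ⟶ X).b = 𝟙 _ := rfl
@[simp] lemma comp_a {X Y Z : Obj F} (φ : X ⟶ Y) (ψ : Y ⟶ Z) : (φ ≫ ψ).a = φ.a ≫ ψ.a := rfl
@[simp] lemma comp_b {X Y Z : Obj F} (φ : X ⟶ Y) (ψ : Y ⟶ Z) : (φ ≫ ψ).b = φ.b ≫ ψ.b := rfl

@[ext] lemma hom_ext {X Y : Obj F} (φ ψ : X ⟶ Y) (ha : φ.a = ψ.a) (hb : φ.b = ψ.b) : φ = ψ :=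
  Hom.ext ha hb

variable (F)

/-- projection to 𝒳 -/
def wF : Obj F ⥤ 𝒳.obj where
  obj X := X.x
  map φ := φ.a

/-- projection to 𝒴 -/
def vF : Obj F ⥤ 𝒴.obj where
  obj X := X.y
  map φ := φ.b

/-- inclusion -/
def uF : 𝒳.obj ⥤ Obj F where
  obj x := ⟨x, F.obj x, 𝟙 _, inferInstance⟩
  map a := ⟨a, F.map a, by simp⟩

/-- The based category -/
def X' : BasedCategory.{v, max u v} C where
  obj := Obj F
  p := wF F ⋙ 𝒳.p

variable {F}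

lemma Obj.eq (X : Obj F) : 𝒴.p.obj X.y = 𝒳.p.obj X.x :=
  have := X.hf
  IsHomLift.domain_eq 𝒴.p (𝟙 _) X.f

lemma Obj.hf' (X : Obj F) {S : C} (hS : 𝒳.p.obj X.x = S) : 𝒴.p.IsHomLift (𝟙 S) X.f := by
  subst hS; exact X.hf

/-- L1 -/
lemma lift_b {X Y : Obj F} (ψ : X ⟶ Y) {R S : C} (h : R ⟶ S) [𝒳.p.IsHomLift h ψ.a] :
    𝒴.p.IsHomLift h ψ.b := by
  have := X.hf' (IsHomLift.domain_eq 𝒳.p h ψ.a)
  have := Y.hf' (IsHomLift.codomain_eq 𝒳.p h ψ.a)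
  have : 𝒴.p.IsHomLift h (ψ.b ≫ Y.f) := by
    rw [← ψ.w]; infer_instance
  exact isHomLift_of_comp_lift_id_right 𝒴.p h ψ.b Y.f

/-- L2 -/
lemma lift_a {X Y : Obj F} (ψ : X ⟶ Y) {R S : C} (h : R ⟶ S) [𝒴.p.IsHomLift h ψ.b] :
    𝒳.p.IsHomLift h ψ.a := by
  have := lift_b ψ (𝒳.p.map ψ.a)
  have h1 := IsHomLift.fac 𝒴.p (𝒳.p.map ψ.a) ψ.b
  have h2 := IsHomLift.fac' 𝒴.p h ψ.b
  apply IsHomLift.of_fac' 𝒳.p h ψ.a (X.eq.symm.trans (IsHomLift.domain_eq 𝒴.p h ψ.b))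
    (Y.eq.symm.trans (IsHomLift.codomain_eq 𝒴.p h ψ.b))
  rw [h1, h2]
  simp

lemma lift_iff {X Y : Obj F} (ψ : X ⟶ Y) {R S : C} (h : R ⟶ S) :
    (X' F).p.IsHomLift h ψ ↔ 𝒳.p.IsHomLift h ψ.a := by
  constructor
  · intro _
    have h1 := IsHomLift.domain_eq (X' F).p h ψ
    have h2 := IsHomLift.codomain_eq (X' F).p h ψ
    have h3 := IsHomLift.fac' (X' F).p h ψ
    exact IsHomLift.of_fac' 𝒳.p h ψ.a h1 h2 h3
  · intro _
    have h1 := IsHomLift.domain_eq 𝒳.p h ψ.a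
    have h2 := IsHomLift.codomain_eq 𝒳.p h ψ.a
    have h3 := IsHomLift.fac' 𝒳.p h ψ.a
    exact IsHomLift.of_fac' (X' F).p h ψ h1 h2 h3

/-- Key lemma 1 -/
lemma cart (hF : PreservesStronglyCartesian F) {X Y : Obj F} (φ : X ⟶ Y) {R S : C} (g : R ⟶ S)
    [𝒳.p.IsStronglyCartesian g φ.a] [𝒴.p.IsStronglyCartesian g φ.b] :
    (X' F).p.IsStronglyCartesian g φ := by
  have : (X' F).p.IsHomLift g φ := (lift_iff φ g).2 inferInstance
  have : 𝒴.p.IsStronglyCartesian g (F.map φ.a) := hF g φ.a inferInstance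
  refine ⟨?_⟩
  intro X'' k φ' hφ'
  have : 𝒳.p.IsHomLift (k ≫ g) φ'.a := (lift_iff φ' _).1 hφ'
  have : 𝒴.p.IsHomLift (k ≫ g) φ'.b := lift_b φ' _
  let c := IsStronglyCartesian.map 𝒳.p g φ.a (rfl : k ≫ g = k ≫ g) φ'.a
  let d := IsStronglyCartesian.map 𝒴.p g φ.b (rfl : k ≫ g = k ≫ g) φ'.b
  have := X''.hf' (IsHomLift.domain_eq 𝒳.p k c)
  have := X.hf' (IsHomLift.domain_eq 𝒳.p g φ.a)
  have hc : c ≫ φ.a = φ'.a := IsStronglyCartesian.fac _ _ _ _ _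
  have hd : d ≫ φ.b = φ'.b := IsStronglyCartesian.fac _ _ _ _ _
  have compat : X''.f ≫ F.map c = d ≫ X.f := by
    apply IsStronglyCartesian.ext 𝒴.p g (F.map φ.a) k
    rw [Category.assoc, ← F.map_comp, hc, φ'.w, Category.assoc, φ.w, ← Category.assoc, hd]
  refine ⟨⟨c, d, compat⟩, ⟨(lift_iff _ _).2 (inferInstanceAs (𝒳.p.IsHomLift k c)), ?_⟩, ?_⟩
  · exact hom_ext _ _ hc hd
  · rintro χ ⟨hχ, rfl⟩
    have : 𝒳.p.IsHomLift k χ.a := (lift_iff χ _).1 hχ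
    have : 𝒴.p.IsHomLift k χ.b := lift_b χ _
    apply hom_ext
    · exact IsStronglyCartesian.map_uniq 𝒳.p g φ.a rfl _ χ.a rfl
    · exact IsStronglyCartesian.map_uniq 𝒴.p g φ.b rfl _ χ.b rfl

/-- Key lemma 2 -/
lemma cartV (hF : PreservesStronglyCartesian F) {X Y : Obj F} (φ : X ⟶ Y) {R S : C} (h : R ⟶ S)
    [𝒳.p.IsStronglyCartesian h φ.a] :
    (vF F).IsStronglyCartesian φ.b φ := by
  have : (vF F).IsHomLift φ.b φ := IsHomLift.map (vF F) φ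
  have : 𝒴.p.IsStronglyCartesian h (F.map φ.a) := hF h φ.a inferInstance
  have : 𝒴.p.IsHomLift h φ.b := lift_b φ h
  refine ⟨?_⟩
  intro X'' k' φ' hφ'
  obtain ⟨k, hk⟩ : ∃ k : X''.y ⟶ X.y, k = k' := ⟨k', rfl⟩
  subst hk
  have hb : φ'.b = k ≫ φ.b := (@IsHomLift.eq_of_isHomLift _ _ _ _ (vF F) _ _ (k ≫ φ.b) φ' hφ').symm
  let kk : 𝒳.p.obj X''.x ⟶ R :=
    eqToHom X''.eq.symm ≫ 𝒴.p.map k ≫ eqToHom (IsHomLift.domain_eq 𝒴.p h φ.b)
  have : 𝒴.p.IsHomLift kk k :=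
    IsHomLift.of_fac 𝒴.p kk k X''.eq (IsHomLift.domain_eq 𝒴.p h φ.b) rfl
  have : 𝒴.p.IsHomLift (kk ≫ h) φ'.b := by rw [hb]; infer_instance
  have : 𝒳.p.IsHomLift (kk ≫ h) φ'.a := lift_a φ' _
  let c := IsStronglyCartesian.map 𝒳.p h φ.a (rfl : kk ≫ h = kk ≫ h) φ'.a
  have hc : c ≫ φ.a = φ'.a := IsStronglyCartesian.fac _ _ _ _ _
  have := X''.hf
  have := X.hf' (IsHomLift.domain_eq 𝒳.p h φ.a)
  have compat : X''.f ≫ F.map c = k ≫ X.f := by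
    apply IsStronglyCartesian.ext 𝒴.p h (F.map φ.a) kk
    rw [Category.assoc, ← F.map_comp, hc, φ'.w, hb, Category.assoc, Category.assoc, φ.w]
  refine ⟨⟨c, k, compat⟩, ⟨?_, ?_⟩, ?_⟩
  · exact IsHomLift.map (vF F) (⟨c, k, compat⟩ : X'' ⟶ X)
  · exact hom_ext _ _ hc hb.symm
  · rintro χ ⟨hχ, rfl⟩
    have hχb : χ.b = k := (@IsHomLift.eq_of_isHomLift _ _ _ _ (vF F) _ _ k χ hχ).symm
    have : 𝒴.p.IsHomLift kk χ.b := by rw [hχb]; infer_instance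
    have : 𝒳.p.IsHomLift kk χ.a := lift_a χ _
    apply hom_ext
    · exact IsStronglyCartesian.map_uniq 𝒳.p h φ.a rfl _ χ.a rfl
    · exact hχb

lemma liftAux (hF : PreservesStronglyCartesian F) (Y : Obj F) {y' : 𝒴.obj} (gy : y' ⟶ Y.y)
    {R S : C} (h : R ⟶ S) [𝒴.p.IsHomLift h gy] {x' : 𝒳.obj} (a : x' ⟶ Y.x)
    [𝒳.p.IsStronglyCartesian h a] :
    ∃ f' : y' ⟶ F.obj x', 𝒴.p.IsHomLift (𝟙 (𝒳.p.obj x')) f' ∧ f' ≫ F.map a = gy ≫ Y.f := by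
  have : 𝒴.p.IsStronglyCartesian h (F.map a) := hF h a inferInstance
  have := Y.hf' (IsHomLift.codomain_eq 𝒳.p h a)
  have hR := IsHomLift.domain_eq 𝒳.p h a
  refine ⟨IsStronglyCartesian.map 𝒴.p h (F.map a) (Category.id_comp h).symm (gy ≫ Y.f), ?_,
    IsStronglyCartesian.fac _ _ _ _ _⟩
  exact isHomLift_id_of_eq 𝒴.p hR.symm _

lemma exists_lift [𝒳.p.IsFibered] [𝒴.p.IsFibered] (hF : PreservesStronglyCartesian F)
    (Y : Obj F) {R S : C} (g : R ⟶ S) (hS : 𝒳.p.obj Y.x = S) :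
    ∃ (X : Obj F) (φ : X ⟶ Y), 𝒳.p.IsStronglyCartesian g φ.a ∧ 𝒴.p.IsStronglyCartesian g φ.b := by
  obtain ⟨x', a, ha⟩ := exists_isStronglyCartesian 𝒳.p g Y.x hS
  obtain ⟨y', gy, hgy⟩ := exists_isStronglyCartesian 𝒴.p g Y.y (Y.eq.trans hS)
  obtain ⟨f', hf', w⟩ := liftAux hF Y gy g a
  exact ⟨⟨x', y', f', hf'⟩, ⟨a, gy, w⟩, ha, hgy⟩

lemma exists_liftV [𝒳.p.IsFibered] (hF : PreservesStronglyCartesian F)
    (Y : Obj F) {y' : 𝒴.obj} (gy : y' ⟶ Y.y) :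
    ∃ (X : Obj F) (φ : X ⟶ Y), (vF F).IsStronglyCartesian gy φ := by
  let h : 𝒴.p.obj y' ⟶ 𝒳.p.obj Y.x := 𝒴.p.map gy ≫ eqToHom Y.eq
  have : 𝒴.p.IsHomLift h gy := IsHomLift.of_fac 𝒴.p h gy rfl Y.eq (by simp [h])
  obtain ⟨x', a, ha⟩ := exists_isStronglyCartesian 𝒳.p h Y.x rfl
  obtain ⟨f', hf', w⟩ := liftAux hF Y gy h a
  let φ : (⟨x', y', f', hf'⟩ : Obj F) ⟶ Y := ⟨a, gy, w⟩
  have : 𝒳.p.IsStronglyCartesian h φ.a := ha
  exact ⟨_, φ, cartV hF φ h⟩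

lemma vw : vF F ⋙ 𝒴.p = wF F ⋙ 𝒳.p := by
  refine Functor.ext (fun X => X.eq) (fun X Y ψ => ?_)
  have := lift_b ψ (𝒳.p.map ψ.a)
  exact IsHomLift.fac' 𝒴.p (𝒳.p.map ψ.a) ψ.b

/-- both components of a strongly cartesian morphism of `X' F` are strongly cartesian -/
lemma cart_components [𝒳.p.IsFibered] [𝒴.p.IsFibered] (hF : PreservesStronglyCartesian F)
    {X Y : Obj F} (φ : X ⟶ Y) {R S : C} (g : R ⟶ S) [(X' F).p.IsStronglyCartesian g φ] :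
    𝒳.p.IsStronglyCartesian g φ.a ∧ 𝒴.p.IsStronglyCartesian g φ.b := by
  have hS : 𝒳.p.obj Y.x = S := IsHomLift.codomain_eq (X' F).p g φ
  obtain ⟨X₀, φ₀, h1, h2⟩ := exists_lift hF Y g hS
  have := cart hF φ₀ g
  let e : X ≅ X₀ := IsCartesian.domainUniqueUpToIso (X' F).p g φ₀ φ
  have he : e.hom ≫ φ₀ = φ := IsCartesian.fac (X' F).p g φ₀ φ
  have h3 : (X' F).p.IsHomLift (𝟙 R) e.hom := inferInstance
  have : 𝒳.p.IsHomLift (𝟙 R) e.hom.a := (lift_iff _ _).1 h3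
  have : 𝒴.p.IsHomLift (𝟙 R) e.hom.b := lift_b _ _
  have : IsIso e.hom.a := inferInstanceAs (IsIso ((wF F).map e.hom))
  have : IsIso e.hom.b := inferInstanceAs (IsIso ((vF F).map e.hom))
  have hg : 𝟙 R ≫ g = g := Category.id_comp g
  constructor
  · have : 𝒳.p.IsStronglyCartesian (𝟙 R ≫ g) (e.hom.a ≫ φ₀.a) := inferInstance
    rw [hg] at this
    rw [← he]
    exact this
  · have : 𝒴.p.IsStronglyCartesian (𝟙 R ≫ g) (e.hom.b ≫ φ₀.b) := inferInstance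
    rw [hg] at this
    rw [← he]
    exact this

theorem main [𝒳.p.IsFibered] [𝒴.p.IsFibered] (F : 𝒳 ⥤ᵇ 𝒴) (hF : PreservesStronglyCartesian F) :
    ∃ (𝒳' : BasedCategory.{v, max u v} C) (u : 𝒳 ⥤ᵇ 𝒳') (v : 𝒳' ⥤ᵇ 𝒴) (w : 𝒳' ⥤ᵇ 𝒳),
      𝒳'.p.IsFibered ∧ FibCat.PreservesStronglyCartesian u ∧ FibCat.PreservesStronglyCartesian v ∧
        FibCat.PreservesStronglyCartesian w ∧ BasedFunctor.comp u v = F ∧
        u.toFunctor.Full ∧ u.toFunctor.Faithful ∧ Nonempty (w.toFunctor ⊣ u.toFunctor) ∧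
        v.toFunctor.IsFibered := by
  refine ⟨X' F, ⟨uF F, rfl⟩, ⟨vF F, vw⟩, ⟨wF F, rfl⟩, ?_, ?_, ?_, ?_, rfl, ?_, ?_, ?_, ?_⟩
  · apply IsFibered.of_exists_isStronglyCartesian
    intro Y R g
    obtain ⟨X, φ, h1, h2⟩ := exists_lift hF Y g rfl
    exact ⟨X, φ, cart hF φ g⟩
  · intro R S g a b φ hφ
    have h1 : 𝒳.p.IsStronglyCartesian g ((uF F).map φ).a := hφ
    have h2 : 𝒴.p.IsStronglyCartesian g ((uF F).map φ).b := hF g φ hφ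
    exact cart hF ((uF F).map φ) g
  · intro R S g X Y φ hφ
    have : (X' F).p.IsStronglyCartesian g φ := hφ
    exact (cart_components hF φ g).2
  · intro R S g X Y φ hφ
    have : (X' F).p.IsStronglyCartesian g φ := hφ
    exact (cart_components hF φ g).1
  · constructor
    intro x x' φ
    refine ⟨φ.a, ?_⟩
    apply hom_ext
    · rfl
    · have := φ.w
      simpa [uF] using this
  · constructor
    intro x x' a a' h
    exact congrArg Hom.a h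
  · refine ⟨Adjunction.mkOfHomEquiv
      { homEquiv := fun X x' =>
          { toFun := fun a => ⟨a, X.f ≫ F.map a, by simp [uF]⟩
            invFun := fun φ => φ.a
            left_inv := fun a => rfl
            right_inv := fun φ => by
              apply hom_ext
              · rfl
              · have := φ.w
                simpa [uF] using this }
        homEquiv_naturality_left_symm := fun _ _ => rfl
        homEquiv_naturality_right := fun _ _ => by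
          apply hom_ext
          · rfl
          · change _ ≫ F.map (_ ≫ _) = (_ ≫ F.map _) ≫ F.map _
            simp }⟩
  · apply IsFibered.of_exists_isStronglyCartesian
    intro Y y' gy
    exact exists_liftV hF Y gy

end Groth.Agent.Lib.Helper32.FactFib
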