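import Mathlib
import Groth.Prelude.Def_SpSeq
import Groth.Agent.Lib.Helper47.Horseshoe

/-!
Filtered injective resolutions of an object with a finite filtration, by induction on the length
of the filtration, using the horseshoe lemma (`Groth.Agent.Lib.Helper47.Horseshoe`).
-/

set_option autoImplicit false
universe v u
open CategoryTheory CategoryTheory.Limits

namespace Groth.Agent.Lib.Helper32.FilInjRes

variable {C : Type u} [Category.{v} C] [Abelian C]

/-- The conclusion. -/
def Concl (K : SpSeq.FilObj C) : Prop :=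
  ∃ (X : InjectiveResolution K.obj) (G : ℤ → Subobject X.cocomplex), Antitone G ∧
      (∀ i : ℤ, K.fil i = ⊤ → G i = ⊤) ∧ (∀ i : ℤ, K.fil i = ⊥ → G i = ⊥) ∧
      ∀ i : ℤ, (∀ j : ℕ, Injective ((G i : CochainComplex C ℕ).X j)) ∧
        ∃ ι : (CochainComplex.single₀ C).obj (K.step i) ⟶ (G i : CochainComplex C ℕ),
          ι ≫ (G i).arrow = (CochainComplex.single₀ C).map (K.fil i).arrow ≫ X.ι ∧ QuasiIso ι

/-- The property of a subobject `G` of the resolution relative to a subobject `P` of the object. -/
def Good {A : C} (X : InjectiveResolution A) (P : Subobject A) (G : Subobject X.cocomplex) : Prop :=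
  (∀ j : ℕ, Injective ((G : CochainComplex C ℕ).X j)) ∧
    ∃ ι : (CochainComplex.single₀ C).obj (P : C) ⟶ (G : CochainComplex C ℕ),
      ι ≫ G.arrow = (CochainComplex.single₀ C).map P.arrow ≫ X.ι ∧ QuasiIso ι

lemma top_eq_bot_of_isZero {D : Type*} [Category D] [HasZeroMorphisms D] [HasZeroObject D]
    {X : D} (h : IsZero X) : (⊤ : Subobject X) = ⊥ := by
  rw [← Subobject.mk_eq_top_of_isIso (𝟙 X)]
  exact Subobject.mk_eq_bot_iff_zero.mpr (h.eq_of_src _ _)

lemma isZero_of_top_eq_bot {D : Type*} [Category D] [HasZeroMorphisms D] [HasZeroObject D]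
    {X : D} (h : (⊤ : Subobject X) = ⊥) : IsZero X := by
  rw [← Subobject.mk_eq_top_of_isIso (𝟙 X)] at h
  have := Subobject.mk_eq_bot_iff_zero.mp h
  exact (IsZero.iff_id_eq_zero X).mpr this

lemma good_top {A : C} (X : InjectiveResolution A) (P : Subobject A) (h : P = ⊤) :
    Good X P ⊤ := by
  subst h
  refine ⟨fun j => ?_, ?_⟩
  · exact Injective.of_iso ((HomologicalComplex.eval C _ j).mapIso
      (asIso (⊤ : Subobject X.cocomplex).arrow)).symm (X.injective j)
  · refine ⟨((CochainComplex.single₀ C).map (⊤ : Subobject A).arrow ≫ X.ι) ≫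
      inv (⊤ : Subobject X.cocomplex).arrow, by simp, ?_⟩
    haveI : QuasiIso X.ι := X.quasiIso
    infer_instance

lemma good_map {A B : C} (X' : InjectiveResolution B) (X : InjectiveResolution A)
    (f : X'.cocomplex ⟶ X.cocomplex) [Mono f] (g : B ⟶ A)
    (hf : X'.ι ≫ f = (CochainComplex.single₀ C).map g ≫ X.ι)
    (P' : Subobject B) (P : Subobject A) (e : (P : C) ≅ (P' : C))
    (he : e.hom ≫ P'.arrow ≫ g = P.arrow)
    (G' : Subobject X'.cocomplex) (hG' : Good X' P' G') :
    Good X P ((Subobject.map f).obj G') := by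
  obtain ⟨hinj, ι', hι', hq⟩ := hG'
  have hmk : (Subobject.map f).obj G' = Subobject.mk (G'.arrow ≫ f) := by
    conv_lhs => rw [← Subobject.mk_arrow G']
    rfl
  let u := Subobject.isoOfEqMk _ (G'.arrow ≫ f) hmk
  have hu : u.hom ≫ G'.arrow ≫ f = ((Subobject.map f).obj G').arrow :=
    Subobject.ofLEMk_comp hmk.le
  refine ⟨fun j => ?_, ?_⟩
  · exact Injective.of_iso ((HomologicalComplex.eval C _ j).mapIso u).symm (hinj j)
  · refine ⟨(CochainComplex.single₀ C).map e.hom ≫ ι' ≫ u.inv, ?_, ?_⟩
    · rw [Category.assoc, Category.assoc, ← hu, u.inv_hom_id_assoc, reassoc_of% hι', hf,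
        ← he, Functor.map_comp, Functor.map_comp]
      simp
    · infer_instance


variable [EnoughInjectives C]

lemma concl_of_isZero (K : SpSeq.FilObj C) (h : IsZero K.obj) : Concl K := by
  haveI : Injective K.obj := h.injective
  let X : InjectiveResolution K.obj := InjectiveResolution.self K.obj
  have hX : IsZero X.cocomplex := (CochainComplex.single₀ C).map_isZero h
  have htop : ∀ P : Subobject K.obj, P = ⊤ := fun P =>
    top_unique (by rw [top_eq_bot_of_isZero h]; exact bot_le)
  exact ⟨X, fun _ => ⊤, fun _ _ _ => le_rfl, fun _ _ => rfl,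
    fun _ _ => top_eq_bot_of_isZero hX, fun i => good_top X _ (htop _)⟩

theorem main_aux (n : ℕ) : ∀ (K : SpSeq.FilObj C) (a : ℤ), K.fil a = ⊤ → K.fil (a + n) = ⊥ →
    Concl K := by
  induction n with
  | zero =>
    intro K a h1 h2
    apply concl_of_isZero
    apply isZero_of_top_eq_bot
    rw [← h1, ← h2]
    simp
  | succ n ih =>
    intro K a h1 h2
    by_cases hz : IsZero K.obj
    · exact concl_of_isZero K hz
    by_cases h3 : K.fil (a+1) = ⊤
    · exact ih K (a+1) h3 (by rw [← h2]; congr 1; push_cast; ring)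
    -- main case
    set m := K.fil (a+1) with hm
    let F' : ℤ → Subobject (m : C) := fun i => (Subobject.pullback m.arrow).obj (K.fil i)
    have anti' : Antitone F' := fun i j hij => (Subobject.pullback m.arrow).monotone (K.anti hij)
    let K' : SpSeq.FilObj C := ⟨(m : C), F', anti'⟩
    have hF' : ∀ i (h : K.fil i ≤ m), F' i = Subobject.mk (Subobject.ofLE _ _ h) := by
      intro i h
      have : K.fil i = (Subobject.map m.arrow).obj (Subobject.mk (Subobject.ofLE _ _ h)) := by
        rw [Subobject.map_mk]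
        exact Subobject.eq_mk_of_comm _ (Iso.refl _) (by simp)
      show (Subobject.pullback m.arrow).obj (K.fil i) = _
      conv_lhs => rw [this]
      exact Subobject.pullback_map_self _ _
    have hle : ∀ i, ¬ i ≤ a → K.fil i ≤ m := fun i hi => K.anti (by omega)
    have h1' : K'.fil (a+1) = ⊤ := by
      show F' (a+1) = ⊤
      rw [hF' (a+1) le_rfl]
      show Subobject.mk (Subobject.ofLE m m le_rfl) = ⊤
      haveI : IsIso (Subobject.ofLE m m le_rfl) := by rw [Subobject.ofLE_refl]; infer_instance
      exact Subobject.mk_eq_top_of_isIso _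
    have hbot' : ∀ i, ¬ i ≤ a → K.fil i = ⊥ → F' i = ⊥ := by
      intro i hi h
      rw [hF' i (hle i hi), Subobject.mk_eq_bot_iff_zero, ← cancel_mono m.arrow,
        Subobject.ofLE_arrow, zero_comp, h, Subobject.bot_arrow]
    have h2' : K'.fil (a + 1 + n) = ⊥ := by
      apply hbot' _ (by omega)
      rw [← h2]; congr 1; push_cast; ring
    let S : ShortComplex C := ShortComplex.mk m.arrow (cokernel.π m.arrow) (cokernel.condition _)
    have hS : S.ShortExact := ShortComplex.ShortExact.mk' (ShortComplex.exact_cokernel m.arrow)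
      (inferInstanceAs (Mono m.arrow)) (inferInstanceAs (Epi (cokernel.π m.arrow)))
    obtain ⟨X', G', hanti, htop, hbot, hgood⟩ := ih K' (a+1) h1' h2'
    let T := Groth.Agent.Lib.Helper47.Horseshoe.sesRes hS X' (injectiveResolution S.X₃)
    let X : InjectiveResolution K.obj := T.I₂
    let f : X'.cocomplex ⟶ X.cocomplex := T.f
    haveI : Mono f := T.shortExact.mono_f
    have hf : X'.ι ≫ f = (CochainComplex.single₀ C).map m.arrow ≫ X.ι := T.ι_f
    let G : ℤ → Subobject X.cocomplex := fun i => if i ≤ a then ⊤ else (Subobject.map f).obj (G' i)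
    have hG1 : ∀ i, i ≤ a → G i = ⊤ := fun i hi => if_pos hi
    have hG2 : ∀ i, ¬ i ≤ a → G i = (Subobject.map f).obj (G' i) := fun i hi => if_neg hi
    refine ⟨X, G, ?_, ?_, ?_, ?_⟩
    · intro i j hij
      by_cases hi : i ≤ a
      · rw [hG1 i hi]; exact le_top
      · have hj : ¬ j ≤ a := by omega
        rw [hG2 i hi, hG2 j hj]
        exact (Subobject.map f).monotone (hanti hij)
    · intro i hi
      by_cases hia : i ≤ a
      · exact hG1 i hia
      · exfalso
        apply h3
        exact top_unique (hi ▸ hle i hia)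
    · intro i hi
      by_cases hia : i ≤ a
      · exfalso
        apply hz
        apply isZero_of_top_eq_bot
        rw [← hi]
        exact (top_unique (h1 ▸ K.anti hia)).symm
      · rw [hG2 i hia, hbot i (hbot' i hia hi)]
        exact Subobject.map_bot f
    · intro i
      show Good X (K.fil i) (G i)
      by_cases hia : i ≤ a
      · rw [hG1 i hia]
        exact good_top X _ (top_unique (h1 ▸ K.anti hia))
      · rw [hG2 i hia]
        let e : (K.fil i : C) ≅ (F' i : C) :=
          (Subobject.isoOfEqMk (F' i) (Subobject.ofLE _ _ (hle i hia)) (hF' i (hle i hia))).symm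
        refine good_map X' X f m.arrow hf (F' i) (K.fil i) e ?_ (G' i) (hgood i)
        show Subobject.ofMkLE _ (F' i) _ ≫ (F' i).arrow ≫ m.arrow = (K.fil i).arrow
        rw [← Category.assoc, Subobject.ofMkLE_arrow, Subobject.ofLE_arrow]

theorem main (K : SpSeq.FilObj C) (hK : K.IsFinite) : Concl K := by
  obtain ⟨⟨a, ha⟩, ⟨b, hb⟩⟩ := hK
  by_cases hab : a ≤ b
  · obtain ⟨n, rfl⟩ := Int.le.dest hab
    exact main_aux n K a ha hb
  · have : K.fil a = ⊥ := le_bot_iff.mp (hb ▸ K.anti (le_of_lt (not_le.mp hab)))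
    exact main_aux 0 K a ha (by simpa using this)

end Groth.Agent.Lib.Helper32.FilInjRes
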