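import Mathlib
import Groth.Prelude.Def_SpSeq

set_option autoImplicit false
open CategoryTheory CategoryTheory.Limits
universe v u

namespace Groth.Agent.Lib.Helper32.SpSeqConv

open SpSeq SpSeq.FilCx

variable {A : Type u} [Category.{v} A] [Abelian A]

/-- membership is local for the "epi topology" -/
theorem factors_of_epi_comp {T' T X : A} (π : T' ⟶ T) [Epi π] (x : T ⟶ X) (Q : Subobject X)
    (h : Q.Factors (π ≫ x)) : Q.Factors x := by
  have : StrongEpi π := strongEpi_of_epi π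
  have sq : CommSq (Q.factorThru _ h) π Q.arrow x := ⟨Q.factorThru_arrow _ h⟩
  exact (Subobject.factors_iff _ _).mpr ⟨sq.lift, sq.fac_right⟩

theorem le_of_forall_factors {X : A} (S S' : Subobject X)
    (h : ∀ ⦃T : A⦄ (x : T ⟶ X), S.Factors x → S'.Factors x) : S ≤ S' :=
  Subobject.le_of_factors (h S.arrow S.factors_self)

theorem exists_of_image_factors {X Y T : A} (f : X ⟶ Y) (x : T ⟶ Y)
    (h : (imageSubobject f).Factors x) :
    ∃ (T' : A) (π : T' ⟶ T) (_ : Epi π) (w : T' ⟶ X), π ≫ x = w ≫ f := by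
  obtain ⟨T', π, hπ, w, hw⟩ := surjective_up_to_refinements_of_epi (factorThruImageSubobject f)
    ((imageSubobject f).factorThru x h)
  refine ⟨T', π, hπ, w, ?_⟩
  have := congrArg (fun t => t ≫ (imageSubobject f).arrow) hw
  simpa using this

theorem imageSubobject_eq_top_of_epi' {X Y : A} (f : X ⟶ Y) [Epi f] : imageSubobject f = ⊤ := by
  apply top_le_iff.mp
  apply le_of_forall_factors
  intro T x _
  obtain ⟨T', π, hπ, w, hw⟩ := surjective_up_to_refinements_of_epi f x
  apply factors_of_epi_comp π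
  rw [hw]
  exact imageSubobject_factors_comp_self f w

theorem isZero_subquot_of_eq {X : A} (Z B : Subobject X) (h : B ≤ Z) (hBZ : B = Z) :
    IsZero (SpSeq.subquot Z B h) := by
  subst hBZ
  unfold SpSeq.subquot
  have : IsIso (B.ofLE B h) := by
    have : B.ofLE B h = 𝟙 _ := by
      apply (cancel_mono B.arrow).mp
      simp
    rw [this]
    infer_instance
  exact isZero_cokernel_of_epi _

theorem isGLB_range_of_eventually {α : Type*} [PartialOrder α] (f : ℕ → α) (S : α)
    (hle : ∀ r, S ≤ f r) (r₀ : ℕ) (h : f r₀ = S) : IsGLB (Set.range f) S := by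
  constructor
  · rintro _ ⟨r, rfl⟩
    exact hle r
  · intro T hT
    rw [← h]
    exact hT ⟨r₀, rfl⟩

theorem isLUB_range_of_eventually {α : Type*} [PartialOrder α] (f : ℕ → α) (S : α)
    (hle : ∀ r, f r ≤ S) (r₀ : ℕ) (h : f r₀ = S) : IsLUB (Set.range f) S := by
  constructor
  · rintro _ ⟨r, rfl⟩
    exact hle r
  · intro T hT
    rw [← h]
    exact hT ⟨r₀, rfl⟩

section

variable (K : SpSeq.FilCx A)

theorem filX_factors_iff (p n : ℤ) {T : A} (x : T ⟶ K.obj.X n) :
    (K.filX p n).Factors x ↔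
      ∃ y : T ⟶ (K.fil p : CochainComplex A ℤ).X n, y ≫ (K.fil p).arrow.f n = x := by
  unfold SpSeq.FilCx.filX
  rw [Subobject.mk_factors_iff]
  rfl

theorem stepLE_f_arrow {p q : ℤ} (h : p ≤ q) (n : ℤ) :
    (K.stepLE h).f n ≫ (K.fil p).arrow.f n = (K.fil q).arrow.f n := by
  rw [← HomologicalComplex.comp_f, Subobject.ofLE_arrow]

/-- an element of `F^q K^{n+1}` whose image in `K` is a coboundary-image `x ≫ d` is a cocycle -/
theorem cocycle_of_eq_comp_d (q n : ℤ) {T : A} (x : T ⟶ K.obj.X n)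
    (y' : T ⟶ (K.fil q : CochainComplex A ℤ).X (n + 1))
    (hy' : y' ≫ (K.fil q).arrow.f (n + 1) = x ≫ K.obj.d n (n + 1)) :
    y' ≫ (K.fil q : CochainComplex A ℤ).d (n + 1) (n + 2) = 0 := by
  apply (cancel_mono ((K.fil q).arrow.f (n + 2))).mp
  rw [Category.assoc, ← (K.fil q).arrow.comm, ← Category.assoc, hy', Category.assoc,
    K.obj.d_comp_d, comp_zero, zero_comp]

/-- elements of `im (F^q K^{n-1} → K^n)` -/
theorem image_filX_factors (q n : ℤ) {T : A}
    (y₁ : T ⟶ (K.fil q : CochainComplex A ℤ).X (n - 1)) :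
    (imageSubobject ((K.filX q (n - 1)).arrow ≫ K.obj.d (n - 1) n)).Factors
      ((y₁ ≫ (K.fil q).arrow.f (n - 1)) ≫ K.obj.d (n - 1) n) := by
  have hf : (K.filX q (n - 1)).Factors (y₁ ≫ (K.fil q).arrow.f (n - 1)) :=
    (filX_factors_iff K q (n - 1) _).mpr ⟨y₁, rfl⟩
  have := imageSubobject_factors_comp_self ((K.filX q (n - 1)).arrow ≫ K.obj.d (n - 1) n)
    ((K.filX q (n - 1)).factorThru _ hf)
  rwa [← Category.assoc, Subobject.factorThru_arrow] at this

/-- L2 -/
theorem L2 (p s n : ℤ) (hs : p + 1 ≤ s)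
    (hex : (K.fil s : CochainComplex A ℤ).ExactAt (n + 1)) {T : A} (x : T ⟶ K.obj.X n)
    (h1 : (K.filX p n).Factors x)
    (h2 : (K.filX s (n + 1)).Factors (x ≫ K.obj.d n (n + 1))) :
    ((K.filX p n ⊓ kernelSubobject (K.obj.d n (n + 1))) ⊔ K.filX (p + 1) n).Factors x := by
  obtain ⟨y, hy⟩ := (filX_factors_iff K p n x).mp h1
  obtain ⟨y', hy'⟩ := (filX_factors_iff K s (n + 1) _).mp h2
  have hcoc := cocycle_of_eq_comp_d K s n x y' hy'
  obtain ⟨T', π, hπ, x₁, hx₁⟩ :=
    ((K.fil s : CochainComplex A ℤ).exactAt_iff_exact_up_to_refinements n (n + 1) (n + 2)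
      (by simp) (by simp; ring)).mp hex y' hcoc
  apply factors_of_epi_comp π
  have hps : p ≤ s := by omega
  have ha : (π ≫ y - x₁ ≫ (K.stepLE hps).f n) ≫ (K.fil p).arrow.f n =
      π ≫ x - x₁ ≫ (K.fil s).arrow.f n := by
    rw [Preadditive.sub_comp, Category.assoc, Category.assoc, stepLE_f_arrow, hy]
  have hxd : π ≫ x ≫ K.obj.d n (n + 1) = x₁ ≫ (K.fil s).arrow.f n ≫ K.obj.d n (n + 1) := by
    rw [← hy', ← Category.assoc, hx₁, Category.assoc, ← (K.fil s).arrow.comm]
  have e : π ≫ x = (π ≫ y - x₁ ≫ (K.stepLE hps).f n) ≫ (K.fil p).arrow.f n +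
      x₁ ≫ (K.fil s).arrow.f n := by
    rw [ha]
    abel
  rw [e]
  apply Subobject.factors_add
  · apply Subobject.sup_factors_of_factors_left
    rw [Subobject.inf_factors]
    constructor
    · exact (filX_factors_iff K p n _).mpr ⟨_, rfl⟩
    · apply kernelSubobject_factors
      rw [ha, Preadditive.sub_comp, Category.assoc, Category.assoc, hxd, sub_self]
  · apply Subobject.sup_factors_of_factors_right
    exact Subobject.factors_of_le _ (K.filX_anti n hs) ((filX_factors_iff K s n _).mpr ⟨x₁, rfl⟩)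

/-- L3 -/
theorem L3 (p q n : ℤ) (hqp : q ≤ p)
    (hm : Mono (HomologicalComplex.homologyMap (K.fil q).arrow n)) {T : A} (x : T ⟶ K.obj.X n)
    (h1 : (K.filX p n).Factors x)
    (h2 : (imageSubobject (K.obj.d (n - 1) n)).Factors x) :
    (imageSubobject ((K.filX q (n - 1)).arrow ≫ K.obj.d (n - 1) n)).Factors x := by
  obtain ⟨y, hy⟩ := (filX_factors_iff K p n x).mp h1
  obtain ⟨T₀, π₀, hπ₀, w, hw⟩ := exists_of_image_factors _ _ h2
  have hyq : (π₀ ≫ y ≫ (K.stepLE hqp).f n) ≫ (K.fil q).arrow.f n = w ≫ K.obj.d (n - 1) n := by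
    rw [Category.assoc, Category.assoc, stepLE_f_arrow, hy, hw]
  have hcoc : (π₀ ≫ y ≫ (K.stepLE hqp).f n) ≫ (K.fil q : CochainComplex A ℤ).d n (n + 1) = 0 := by
    apply (cancel_mono ((K.fil q).arrow.f (n + 1))).mp
    rw [Category.assoc, ← (K.fil q).arrow.comm, ← Category.assoc, hyq, Category.assoc,
      K.obj.d_comp_d, comp_zero, zero_comp]
  obtain ⟨T₁, π₁, hπ₁, x₁, hx₁⟩ :=
    (HomologicalComplex.mono_homologyMap_iff_up_to_refinements (K.fil q).arrow (n - 1) n (n + 1)
      (by simp) (by simp)).mp hm _ hcoc w hyq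
  haveI : Epi (π₁ ≫ π₀) := epi_comp π₁ π₀
  apply factors_of_epi_comp (π₁ ≫ π₀)
  have e : (π₁ ≫ π₀) ≫ x = (x₁ ≫ (K.fil q).arrow.f (n - 1)) ≫ K.obj.d (n - 1) n := by
    rw [Category.assoc, hw, ← hyq, ← Category.assoc π₁, hx₁, Category.assoc, Category.assoc,
      (K.fil q).arrow.comm]
  rw [e]
  exact image_filX_factors K q n x₁

/-- L1 -/
theorem L1 (p q q' n : ℤ) (hq : p ≤ q) (hq' : p = q')
    (hm : Mono (HomologicalComplex.homologyMap (K.stepLE hq) (n + 1)))
    (he : Epi (HomologicalComplex.homologyMap (K.stepLE hq) n)) {T : A} (x : T ⟶ K.obj.X n)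
    (h1 : (K.filX p n).Factors x)
    (h2 : (K.filX q (n + 1)).Factors (x ≫ K.obj.d n (n + 1))) :
    ((K.filX p n ⊓ imageSubobject ((K.filX q' (n - 1)).arrow ≫ K.obj.d (n - 1) n)) ⊔
      K.filX q n).Factors x := by
  subst hq'
  obtain ⟨y, hy⟩ := (filX_factors_iff K p n x).mp h1
  obtain ⟨y', hy'⟩ := (filX_factors_iff K q (n + 1) _).mp h2
  have hcoc := cocycle_of_eq_comp_d K q n x y' hy'
  have hrel : y' ≫ (K.stepLE hq).f (n + 1) =
      y ≫ (K.fil p : CochainComplex A ℤ).d n (n + 1) := by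
    apply (cancel_mono ((K.fil p).arrow.f (n + 1))).mp
    rw [Category.assoc, stepLE_f_arrow, hy', Category.assoc, ← (K.fil p).arrow.comm,
      ← Category.assoc, hy]
  obtain ⟨T₁, π₁, hπ₁, x₁, hx₁⟩ :=
    (HomologicalComplex.mono_homologyMap_iff_up_to_refinements (K.stepLE hq) n (n + 1) (n + 2)
      (by simp) (by simp; ring)).mp hm y' hcoc y hrel
  have hc : (π₁ ≫ y - x₁ ≫ (K.stepLE hq).f n) ≫ (K.fil p : CochainComplex A ℤ).d n (n + 1) = 0 := by
    rw [Preadditive.sub_comp, Category.assoc, Category.assoc, ← hrel, (K.stepLE hq).comm,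
      ← Category.assoc x₁, ← hx₁, Category.assoc, sub_self]
  obtain ⟨T₂, π₂, hπ₂, x₂, hx₂, y₁, hy₁⟩ :=
    (HomologicalComplex.epi_homologyMap_iff_up_to_refinements (K.stepLE hq) (n - 1) n (n + 1)
      (by simp) (by simp)).mp he _ hc
  haveI : Epi (π₂ ≫ π₁) := epi_comp π₂ π₁
  apply factors_of_epi_comp (π₂ ≫ π₁)
  have e1 : π₂ ≫ π₁ ≫ y = x₂ ≫ (K.stepLE hq).f n +
      y₁ ≫ (K.fil p : CochainComplex A ℤ).d (n - 1) n + π₂ ≫ x₁ ≫ (K.stepLE hq).f n := by
    rw [Preadditive.comp_sub] at hy₁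
    rw [← hy₁]
    abel
  have e0 : (π₂ ≫ π₁) ≫ x = (π₂ ≫ π₁ ≫ y) ≫ (K.fil p).arrow.f n := by
    rw [← hy]
    simp only [Category.assoc]
  have e : (π₂ ≫ π₁) ≫ x = (y₁ ≫ (K.fil p).arrow.f (n - 1)) ≫ K.obj.d (n - 1) n +
      (π₂ ≫ x₁ + x₂) ≫ (K.fil q).arrow.f n := by
    rw [e0, e1]
    simp only [Preadditive.add_comp, Category.assoc, stepLE_f_arrow, HomologicalComplex.Hom.comm]
    abel
  rw [e]
  apply Subobject.factors_add
  · apply Subobject.sup_factors_of_factors_left
    rw [Subobject.inf_factors]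
    constructor
    · refine (filX_factors_iff K p n _).mpr
        ⟨y₁ ≫ (K.fil p : CochainComplex A ℤ).d (n - 1) n, ?_⟩
      rw [Category.assoc, Category.assoc, (K.fil p).arrow.comm]
    · exact image_filX_factors K p n y₁
  · apply Subobject.sup_factors_of_factors_right
    exact (filX_factors_iff K q n _).mpr ⟨_, rfl⟩

end

theorem imageSubobject_eq_bot_of_isZero_src {X Y : A} (f : X ⟶ Y) (h : IsZero X) :
    imageSubobject f = ⊥ := by
  have : f = 0 := h.eq_of_src _ _
  subst this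
  exact imageSubobject_zero

theorem epi_of_isZero_tgt {X Y : A} (f : X ⟶ Y) (h : IsZero Y) : Epi f :=
  ⟨fun g g' _ => h.eq_of_src g g'⟩

theorem mono_of_isZero_src {X Y : A} (f : X ⟶ Y) (h : IsZero X) : Mono f :=
  ⟨fun g g' _ => h.eq_of_tgt g g'⟩

theorem isIso_homologyMap_stepLE (K : SpSeq.FilCx A) {p q : ℤ} (h : p ≤ q) (n : ℤ)
    (hp : IsIso (HomologicalComplex.homologyMap (K.fil p).arrow n))
    (hq : IsIso (HomologicalComplex.homologyMap (K.fil q).arrow n)) :
    IsIso (HomologicalComplex.homologyMap (K.stepLE h) n) := by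
  have e : HomologicalComplex.homologyMap (K.stepLE h) n ≫
      HomologicalComplex.homologyMap (K.fil p).arrow n =
      HomologicalComplex.homologyMap (K.fil q).arrow n := by
    rw [← HomologicalComplex.homologyMap_comp, Subobject.ofLE_arrow]
  haveI := hp
  haveI : IsIso (HomologicalComplex.homologyMap (K.stepLE h) n ≫
      HomologicalComplex.homologyMap (K.fil p).arrow n) := by
    rw [e]
    exact hq
  exact IsIso.of_isIso_comp_right _ (HomologicalComplex.homologyMap (K.fil p).arrow n)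

theorem main (K : SpSeq.FilCx A)
    (h0 : ∀ n : ℤ, ∃ p₀ : ℤ, ∀ p : ℤ, p₀ ≤ p →
      IsZero ((K.fil p : CochainComplex A ℤ).homology n))
    (h1 : ∀ n : ℤ, ∃ p₁ : ℤ, ∀ p : ℤ, p ≤ p₁ →
      IsIso (HomologicalComplex.homologyMap (K.fil p).arrow n)) :
    K.IsBounded 1 ∧ (∀ n : ℤ, (K.HFil n).IsFinite) ∧ K.Converges := by
  choose p₀ hp₀ using h0
  choose p₁ hp₁ using h1
  have hHtop : ∀ n : ℤ, K.filH (p₁ n) n = ⊤ := by
    intro n
    haveI := hp₁ n (p₁ n) le_rfl
    unfold SpSeq.FilCx.filH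
    exact imageSubobject_eq_top_of_epi' _
  have hHbot : ∀ n : ℤ, K.filH (p₀ n) n = ⊥ := by
    intro n
    unfold SpSeq.FilCx.filH
    exact imageSubobject_eq_bot_of_isZero_src _ (hp₀ n (p₀ n) le_rfl)
  have hZ : ∀ (p n : ℤ) (r : ℕ), 1 + (p₀ (n + 1) - p).toNat ≤ r →
      K.ZSub r p n = K.ZTop p n := by
    intro p n r hr
    apply le_antisymm
    · unfold SpSeq.FilCx.ZSub SpSeq.FilCx.ZTop
      apply sup_le _ le_sup_right
      apply le_of_forall_factors
      intro T x hx
      rw [Subobject.inf_factors, pullback_factors_iff] at hx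
      exact L2 K p (p + r) n (by omega)
        ((HomologicalComplex.exactAt_iff_isZero_homology _ _).mpr
          (hp₀ (n + 1) (p + r) (by omega))) x hx.1 hx.2
    · exact sup_le_sup_right
        (inf_le_inf_left _ (SpSeq.FilCx.kernelSubobject_le_pullback _ _)) _
  have hB : ∀ (p n : ℤ) (r : ℕ), 1 + (p - p₁ n).toNat ≤ r →
      K.BSub r p n = K.BBot p n := by
    intro p n r hr
    apply le_antisymm
    · exact sup_le_sup_right (inf_le_inf_left _ (imageSubobject_comp_le _ _)) _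
    · unfold SpSeq.FilCx.BSub SpSeq.FilCx.BBot
      apply sup_le _ le_sup_right
      apply le_trans _ le_sup_left
      apply le_of_forall_factors
      intro T x hx
      rw [Subobject.inf_factors] at hx ⊢
      haveI := hp₁ n (p - r + 1) (by omega)
      exact ⟨hx.1, L3 K p (p - r + 1) n (by omega) inferInstance x hx.1 hx.2⟩
  refine ⟨?_, fun n => ⟨⟨_, hHtop n⟩, ⟨_, hHbot n⟩⟩, ?_, ⟨?_, ?_⟩, ?_⟩
  · -- bounded
    intro n
    apply Set.Finite.subset
      (Set.finite_Ico (min (p₁ n) (p₁ (n + 1))) (max (p₀ n) (p₀ (n + 1))))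
    intro p hp
    change ¬ IsZero (K.E 1 p n) at hp
    by_contra hcon
    apply hp
    rw [Set.mem_Ico, not_and_or, not_le, not_lt] at hcon
    unfold SpSeq.FilCx.E
    apply isZero_subquot_of_eq
    apply le_antisymm (K.BSub_le_ZSub 1 p n)
    have hq : p ≤ p + 1 := by omega
    have key : ∀ (_ : Mono (HomologicalComplex.homologyMap (K.stepLE hq) (n + 1)))
        (_ : Epi (HomologicalComplex.homologyMap (K.stepLE hq) n)),
        K.ZSub 1 p n ≤ K.BSub 1 p n := by
      intro hm he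
      unfold SpSeq.FilCx.ZSub SpSeq.FilCx.BSub
      rw [show p + ((1 : ℕ) : ℤ) = p + 1 from by norm_num]
      apply sup_le _ le_sup_right
      apply le_of_forall_factors
      intro T x hx
      rw [Subobject.inf_factors, pullback_factors_iff] at hx
      exact L1 K p (p + 1) (p - ((1 : ℕ) : ℤ) + 1) n hq (by norm_num) hm he x hx.1 hx.2
    rcases hcon with hlt | hge
    · haveI := isIso_homologyMap_stepLE K hq (n + 1) (hp₁ (n + 1) p (by omega))
        (hp₁ (n + 1) (p + 1) (by omega))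
      haveI := isIso_homologyMap_stepLE K hq n (hp₁ n p (by omega))
        (hp₁ n (p + 1) (by omega))
      exact key inferInstance inferInstance
    · exact key (mono_of_isZero_src _ (hp₀ (n + 1) (p + 1) (by omega)))
        (epi_of_isZero_tgt _ (hp₀ n p (by omega)))
  · -- regular
    intro p n
    refine ⟨1 + (p₀ (n + 1) - p).toNat, fun r hr => ?_⟩
    rw [hZ p n r hr, hZ p n _ le_rfl]
  · -- weakly converges
    intro p n
    constructor
    · refine isGLB_range_of_eventually (fun r => K.ZSub r p n) (K.ZTop p n) ?_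
        (1 + (p₀ (n + 1) - p).toNat) (hZ p n _ le_rfl)
      intro r
      exact sup_le_sup_right
        (inf_le_inf_left _ (SpSeq.FilCx.kernelSubobject_le_pullback _ _)) _
    · refine isLUB_range_of_eventually (fun r => K.BSub r p n) (K.BBot p n) ?_
        (1 + (p - p₁ n).toNat) (hB p n _ le_rfl)
      intro r
      exact sup_le_sup_right (inf_le_inf_left _ (imageSubobject_comp_le _ _)) _
  · -- separated and exhaustive
    intro n
    constructor
    · exact ⟨fun _ _ => bot_le, fun T hT => hT ⟨p₀ n, hHbot n⟩⟩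
    · exact ⟨fun _ _ => le_top, fun T hT => hT ⟨_, hHtop n⟩⟩
  · -- complete
    intro n T f hf
    have h0 : ∀ p : ℤ, p₀ n ≤ p → ((K.HFil n).fil p).arrow = 0 := by
      intro p hp
      have h1 : (K.HFil n).fil p = ⊥ := le_bot_iff.mp ((hHbot n) ▸ (K.HFil n).anti hp)
      exact Subobject.mk_eq_bot_iff_zero.mp (by rw [Subobject.mk_arrow]; exact h1)
    let s : (K.HFil n).quot (p₀ n) ⟶ (K.HFil n).obj :=
      cokernel.desc _ (𝟙 _) (by rw [h0 (p₀ n) le_rfl, zero_comp])
    have hs : cokernel.π ((K.HFil n).fil (p₀ n)).arrow ≫ s = 𝟙 _ := cokernel.π_desc _ _ _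
    refine ⟨f (p₀ n) ≫ s, fun p => ?_⟩
    rcases le_total p (p₀ n) with hp | hp
    · rw [← hf p (p₀ n) hp, Category.assoc]
      congr 1
      apply (cancel_epi (cokernel.π ((K.HFil n).fil (p₀ n)).arrow)).mp
      rw [← Category.assoc, hs, Category.id_comp]
      unfold SpSeq.FilObj.quotMap
      rw [cokernel.π_desc]
    · have h1 := hf (p₀ n) p hp
      rw [← h1, Category.assoc, Category.assoc]
      have h2 : (K.HFil n).quotMap hp ≫ s ≫ cokernel.π ((K.HFil n).fil p).arrow = 𝟙 _ := by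
        apply (cancel_epi (cokernel.π ((K.HFil n).fil p).arrow)).mp
        unfold SpSeq.FilObj.quotMap
        rw [← Category.assoc, cokernel.π_desc, ← Category.assoc, hs, Category.id_comp,
          Category.comp_id]
      rw [h2, Category.comp_id]

end Groth.Agent.Lib.Helper32.SpSeqConv
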