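import Mathlib
import Groth.Prelude.Def_SpSeq
import Groth.Agent.Lib.Helper32.SpSeqConv

set_option autoImplicit false
open CategoryTheory CategoryTheory.Limits
universe v u

namespace Groth.Agent.Lib.Helper32.FilObjPB

open SpSeq SpSeq.FilObj Groth.Agent.Lib.Helper32.SpSeqConv

variable {A : Type u} [Category.{v} A] [Abelian A]

theorem le_pullback_iff {X Y : A} (h : X ⟶ Y) (S : Subobject X) (S' : Subobject Y) :
    S ≤ (Subobject.pullback h).obj S' ↔
      ∀ ⦃T : A⦄ (x : T ⟶ X), S.Factors x → S'.Factors (x ≫ h) := by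
  constructor
  · intro hle T x hx
    exact (pullback_factors_iff h S' x).mp (Subobject.factors_of_le _ hle hx)
  · intro hh
    apply le_of_forall_factors
    intro T x hx
    exact (pullback_factors_iff h S' x).mpr (hh x hx)

/-- test object: `T` with filtration `⊤` up to `p` and `⊥` after. -/
noncomputable def testObj (T : A) (p : ℤ) : FilObj A where
  obj := T
  fil q := if q ≤ p then ⊤ else ⊥
  anti := by
    intro q q' h
    dsimp only
    by_cases h' : q' ≤ p
    · rw [if_pos h', if_pos (h.trans h')]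
    · rw [if_neg h']
      exact bot_le

noncomputable def testHom (T : A) (p : ℤ) (L : FilObj A) (a : T ⟶ L.obj)
    (ha : (L.fil p).Factors a) : testObj T p ⟶ L :=
  ⟨a, fun q => by
    show (if q ≤ p then ⊤ else ⊥) ≤ _
    by_cases hq : q ≤ p
    · rw [if_pos hq, le_pullback_iff]
      intro T' x _
      exact Subobject.factors_of_factors_right x (Subobject.factors_of_le _ (L.anti hq) ha)
    · rw [if_neg hq]
      exact bot_le⟩

theorem factors_of_testHom {T : A} {p : ℤ} {L : FilObj A} (u : testObj T p ⟶ L) :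
    (L.fil p).Factors u.hom := by
  have h := u.compat p
  have h' : (testObj T p).fil p = ⊤ := if_pos le_rfl
  rw [h'] at h
  have := (le_pullback_iff _ _ _).mp h (𝟙 (testObj T p).obj) (Subobject.top_factors _)
  rwa [Category.id_comp] at this

section

variable {K L M : FilObj A} (f : L ⟶ K) (g : M ⟶ K)

noncomputable def pbObj : FilObj A where
  obj := pullback f.hom g.hom
  fil p := (Subobject.pullback (pullback.fst f.hom g.hom)).obj (L.fil p) ⊓
    (Subobject.pullback (pullback.snd f.hom g.hom)).obj (M.fil p)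
  anti := fun p q h => inf_le_inf ((Subobject.pullback _).monotone (L.anti h))
    ((Subobject.pullback _).monotone (M.anti h))

theorem pbObj_fil_factors (p : ℤ) {T : A} (x : T ⟶ pullback f.hom g.hom) :
    ((pbObj f g).fil p).Factors x ↔
      (L.fil p).Factors (x ≫ pullback.fst f.hom g.hom) ∧
        (M.fil p).Factors (x ≫ pullback.snd f.hom g.hom) := by
  change ((Subobject.pullback _).obj _ ⊓ (Subobject.pullback _).obj _).Factors x ↔ _
  rw [Subobject.inf_factors, pullback_factors_iff, pullback_factors_iff]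

noncomputable def pbFst : pbObj f g ⟶ L := ⟨pullback.fst f.hom g.hom, fun _ => inf_le_left⟩

noncomputable def pbSnd : pbObj f g ⟶ M := ⟨pullback.snd f.hom g.hom, fun _ => inf_le_right⟩

theorem pb_condition : pbFst f g ≫ f = pbSnd f g ≫ g :=
  FilObj.Hom.ext pullback.condition

noncomputable def pbLift (s : PullbackCone f g) : s.pt ⟶ pbObj f g :=
  ⟨pullback.lift s.fst.hom s.snd.hom (congrArg FilObj.Hom.hom s.condition), fun p => by
    have key : ∀ ⦃T : A⦄ (x : T ⟶ s.pt.obj), (s.pt.fil p).Factors x →
        ((pbObj f g).fil p).Factors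
          (x ≫ pullback.lift s.fst.hom s.snd.hom (congrArg FilObj.Hom.hom s.condition)) := by
      intro T x hx
      have h1 : (L.fil p).Factors ((x ≫ pullback.lift s.fst.hom s.snd.hom
          (congrArg FilObj.Hom.hom s.condition)) ≫ pullback.fst f.hom g.hom) := by
        rw [Category.assoc, pullback.lift_fst]
        exact (le_pullback_iff _ _ _).mp (s.fst.compat p) x hx
      have h2 : (M.fil p).Factors ((x ≫ pullback.lift s.fst.hom s.snd.hom
          (congrArg FilObj.Hom.hom s.condition)) ≫ pullback.snd f.hom g.hom) := by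
        rw [Category.assoc, pullback.lift_snd]
        exact (le_pullback_iff _ _ _).mp (s.snd.compat p) x hx
      exact (pbObj_fil_factors f g p _).mpr ⟨h1, h2⟩
    exact (le_pullback_iff _ _ _).mpr key⟩

noncomputable def pbIsLimit :
    IsLimit (PullbackCone.mk (pbFst f g) (pbSnd f g) (pb_condition f g)) :=
  PullbackCone.IsLimit.mk _ (fun s => pbLift f g s)
    (fun s => FilObj.Hom.ext (pullback.lift_fst _ _ _))
    (fun s => FilObj.Hom.ext (pullback.lift_snd _ _ _))
    (fun s m h₁ h₂ => FilObj.Hom.ext (pullback.hom_ext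
      ((congrArg FilObj.Hom.hom h₁).trans (pullback.lift_fst _ _ _).symm)
      ((congrArg FilObj.Hom.hom h₂).trans (pullback.lift_snd _ _ _).symm)))

theorem hasPullback : HasPullback f g := HasLimit.mk ⟨_, pbIsLimit f g⟩

theorem strict_of_isPullback {P' : FilObj A} (g' : P' ⟶ L) (f' : P' ⟶ M)
    (hPB : IsPullback g' f' f g) (hf : IsStrict f) : IsStrict f' := by
  intro p
  apply le_antisymm
  · apply le_inf
    · exact imageSubobject_comp_le _ _
    · apply le_of_forall_factors
      intro T x hx
      obtain ⟨T', π, hπ, w, hw⟩ := exists_of_image_factors _ _ hx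
      apply factors_of_epi_comp π
      rw [hw]
      have := (le_pullback_iff _ _ _).mp (f'.compat p) (w ≫ (P'.fil p).arrow)
        (Subobject.factors_comp_arrow w)
      simpa using this
  · apply le_of_forall_factors
    intro T m hm
    rw [Subobject.inf_factors] at hm
    obtain ⟨hm1, hm2⟩ := hm
    obtain ⟨T₀, π₀, hπ₀, x, hx⟩ := exists_of_image_factors _ _ hm1
    have hw : g'.hom ≫ f.hom = f'.hom ≫ g.hom := congrArg FilObj.Hom.hom hPB.w
    have e2 : (x ≫ g'.hom) ≫ f.hom = (π₀ ≫ m) ≫ g.hom := by
      rw [Category.assoc, hw, ← Category.assoc, ← hx]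
    have hK : (K.fil p).Factors ((x ≫ g'.hom) ≫ f.hom) := by
      rw [e2]
      exact (le_pullback_iff _ _ _).mp (g.compat p) (π₀ ≫ m)
        (Subobject.factors_of_factors_right _ hm2)
    have hI : (imageSubobject f.hom).Factors ((x ≫ g'.hom) ≫ f.hom) :=
      imageSubobject_factors_comp_self _ _
    have hS : (imageSubobject ((L.fil p).arrow ≫ f.hom)).Factors ((x ≫ g'.hom) ≫ f.hom) := by
      rw [hf p, Subobject.inf_factors]
      exact ⟨hI, hK⟩
    obtain ⟨T₁, π₁, hπ₁, l', hl'⟩ := exists_of_image_factors _ _ hS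
    have ha : (L.fil p).Factors (l' ≫ (L.fil p).arrow) := Subobject.factors_comp_arrow l'
    have hb : (M.fil p).Factors ((π₁ ≫ π₀) ≫ m) := Subobject.factors_of_factors_right _ hm2
    have hab : testHom T₁ p L _ ha ≫ f = testHom T₁ p M _ hb ≫ g := by
      apply FilObj.Hom.ext
      show (l' ≫ (L.fil p).arrow) ≫ f.hom = ((π₁ ≫ π₀) ≫ m) ≫ g.hom
      rw [Category.assoc, ← hl', e2]
      simp only [Category.assoc]
    have hu2 : (hPB.lift _ _ hab).hom ≫ f'.hom = (π₁ ≫ π₀) ≫ m :=
      congrArg FilObj.Hom.hom (hPB.lift_snd _ _ hab)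
    have hu : (P'.fil p).Factors (hPB.lift _ _ hab).hom := factors_of_testHom _
    haveI : Epi (π₁ ≫ π₀) := epi_comp _ _
    apply factors_of_epi_comp (π₁ ≫ π₀)
    rw [← hu2]
    have := imageSubobject_factors_comp_self ((P'.fil p).arrow ≫ f'.hom)
      ((P'.fil p).factorThru _ hu)
    rwa [← Category.assoc, Subobject.factorThru_arrow] at this

theorem main : HasPullback f g ∧ ∀ (P : FilObj A) (g' : P ⟶ L) (f' : P ⟶ M),
    IsPullback g' f' f g → IsStrict f → IsStrict f' :=
  ⟨hasPullback f g, fun _ g' f' h hf => strict_of_isPullback f g g' f' h hf⟩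

end

end Groth.Agent.Lib.Helper32.FilObjPB
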