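import Mathlib
import Groth.Prelude.Def_SpSeq
import Groth.Agent.Lib.Helper32.SpSeqConv
import Groth.Agent.Lib.Helper32.FilObjPB

set_option autoImplicit false
open CategoryTheory CategoryTheory.Limits
universe v u

namespace Groth.Agent.Lib.Helper32.FilObjPO

open SpSeq SpSeq.FilObj Groth.Agent.Lib.Helper32.SpSeqConv Groth.Agent.Lib.Helper32.FilObjPB

variable {A : Type u} [Category.{v} A] [Abelian A]

/-- `X` with the constant filtration `⊤`. -/
abbrev topObj (X : A) : FilObj A := ⟨X, fun _ => ⊤, fun _ _ _ => le_rfl⟩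

def toTop (L : FilObj A) {X : A} (a : L.obj ⟶ X) : L ⟶ topObj X :=
  ⟨a, fun _ => (le_pullback_iff _ _ _).mpr (fun _ _ _ => Subobject.top_factors _)⟩

section

variable {L M : FilObj A} {X : A} (a : L.obj ⟶ X) (b : M.obj ⟶ X)

/-- the filtration on `X` generated by the images of the filtrations of `L` and `M`. -/
noncomputable def imFil (p : ℤ) : Subobject X :=
  imageSubobject (biprod.desc ((L.fil p).arrow ≫ a) ((M.fil p).arrow ≫ b))

theorem imFil_anti : Antitone (imFil a b) := by
  intro p q h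
  refine SpSeq.FilCx.imageSubobject_le_of_fac
    (biprod.map ((L.fil q).ofLE (L.fil p) (L.anti h)) ((M.fil q).ofLE (M.fil p) (M.anti h))) ?_
  apply biprod.hom_ext'
  · simp
  · simp

/-- elements of `imFil` -/
theorem exists_of_imFil_factors (p : ℤ) {T : A} (y : T ⟶ X) (hy : (imFil a b p).Factors y) :
    ∃ (T' : A) (π : T' ⟶ T) (_ : Epi π) (l : T' ⟶ L.obj) (m : T' ⟶ M.obj),
      (L.fil p).Factors l ∧ (M.fil p).Factors m ∧ π ≫ y = l ≫ a + m ≫ b := by
  obtain ⟨T', π, hπ, w, hw⟩ := exists_of_image_factors _ _ hy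
  refine ⟨T', π, hπ, (w ≫ biprod.fst) ≫ (L.fil p).arrow, (w ≫ biprod.snd) ≫ (M.fil p).arrow,
    Subobject.factors_comp_arrow _, Subobject.factors_comp_arrow _, ?_⟩
  rw [hw]
  have : w = (w ≫ biprod.fst) ≫ biprod.inl + (w ≫ biprod.snd) ≫ biprod.inr := by
    apply biprod.hom_ext <;> simp
  conv_lhs => rw [this]
  simp only [Preadditive.add_comp, Category.assoc, biprod.inl_desc, biprod.inr_desc]

theorem imFil_factors_left (p : ℤ) {T : A} (l : T ⟶ L.obj) (hl : (L.fil p).Factors l) :
    (imFil a b p).Factors (l ≫ a) := by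
  have := imageSubobject_factors_comp_self
    (biprod.desc ((L.fil p).arrow ≫ a) ((M.fil p).arrow ≫ b))
    ((L.fil p).factorThru l hl ≫ biprod.inl)
  have e : ((L.fil p).factorThru l hl ≫ biprod.inl) ≫
      biprod.desc ((L.fil p).arrow ≫ a) ((M.fil p).arrow ≫ b) = l ≫ a := by
    rw [Category.assoc, biprod.inl_desc, ← Category.assoc, Subobject.factorThru_arrow]
  rw [e] at this
  exact this

theorem imFil_factors_right (p : ℤ) {T : A} (m : T ⟶ M.obj) (hm : (M.fil p).Factors m) :
    (imFil a b p).Factors (m ≫ b) := by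
  have := imageSubobject_factors_comp_self
    (biprod.desc ((L.fil p).arrow ≫ a) ((M.fil p).arrow ≫ b))
    ((M.fil p).factorThru m hm ≫ biprod.inr)
  have e : ((M.fil p).factorThru m hm ≫ biprod.inr) ≫
      biprod.desc ((L.fil p).arrow ≫ a) ((M.fil p).arrow ≫ b) = m ≫ b := by
    rw [Category.assoc, biprod.inr_desc, ← Category.assoc, Subobject.factorThru_arrow]
  rw [e] at this
  exact this

theorem imFil_le_pullback (p : ℤ) {Y : A} (h : X ⟶ Y) (S : Subobject Y)
    (hL : L.fil p ≤ (Subobject.pullback (a ≫ h)).obj S)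
    (hM : M.fil p ≤ (Subobject.pullback (b ≫ h)).obj S) :
    imFil a b p ≤ (Subobject.pullback h).obj S := by
  rw [le_pullback_iff]
  intro T y hy
  obtain ⟨T', π, hπ, l, m, hl, hm, e⟩ := exists_of_imFil_factors a b p y hy
  apply factors_of_epi_comp π
  rw [← Category.assoc, e, Preadditive.add_comp, Category.assoc, Category.assoc]
  exact Subobject.factors_add _ _ ((le_pullback_iff _ _ _).mp hL l hl)
    ((le_pullback_iff _ _ _).mp hM m hm)

/-- `X` with the generated filtration. -/
noncomputable abbrev imObj : FilObj A := ⟨X, imFil a b, imFil_anti a b⟩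

noncomputable def imInl : L ⟶ imObj a b :=
  ⟨a, fun p => (le_pullback_iff _ _ _).mpr (fun _ l hl => imFil_factors_left a b p l hl)⟩

noncomputable def imInr : M ⟶ imObj a b :=
  ⟨b, fun p => (le_pullback_iff _ _ _).mpr (fun _ m hm => imFil_factors_right a b p m hm)⟩

end

section

variable {K L M : FilObj A} (f : K ⟶ L) (g : K ⟶ M)

theorem po_condition : f ≫ imInl (pushout.inl f.hom g.hom) (pushout.inr f.hom g.hom) =
    g ≫ imInr (pushout.inl f.hom g.hom) (pushout.inr f.hom g.hom) :=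
  FilObj.Hom.ext pushout.condition

noncomputable def poDesc (s : PushoutCocone f g) :
    imObj (pushout.inl f.hom g.hom) (pushout.inr f.hom g.hom) ⟶ s.pt :=
  ⟨pushout.desc s.inl.hom s.inr.hom (congrArg FilObj.Hom.hom s.condition), fun p => by
    apply imFil_le_pullback
    · rw [pushout.inl_desc]
      exact s.inl.compat p
    · rw [pushout.inr_desc]
      exact s.inr.compat p⟩

noncomputable def poIsColimit : IsColimit (PushoutCocone.mk _ _ (po_condition f g)) :=
  PushoutCocone.IsColimit.mk _ (fun s => poDesc f g s)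
    (fun s => FilObj.Hom.ext (pushout.inl_desc _ _ _))
    (fun s => FilObj.Hom.ext (pushout.inr_desc _ _ _))
    (fun s m h₁ h₂ => FilObj.Hom.ext (pushout.hom_ext
      ((congrArg FilObj.Hom.hom h₁).trans (pushout.inl_desc _ _ _).symm)
      ((congrArg FilObj.Hom.hom h₂).trans (pushout.inr_desc _ _ _).symm)))

theorem hasPushout : HasPushout f g := HasColimit.mk ⟨_, poIsColimit f g⟩

variable {f g}

theorem isPushout_hom {P' : FilObj A} {g' : L ⟶ P'} {f' : M ⟶ P'} (hPO : IsPushout f g g' f') :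
    IsPushout f.hom g.hom g'.hom f'.hom := by
  refine ⟨⟨congrArg FilObj.Hom.hom hPO.w⟩, ⟨PushoutCocone.IsColimit.mk _
    (fun s => (hPO.desc (toTop L s.inl) (toTop M s.inr) (FilObj.Hom.ext s.condition)).hom)
    (fun s => congrArg FilObj.Hom.hom
      (hPO.inl_desc (toTop L s.inl) (toTop M s.inr) (FilObj.Hom.ext s.condition)))
    (fun s => congrArg FilObj.Hom.hom
      (hPO.inr_desc (toTop L s.inl) (toTop M s.inr) (FilObj.Hom.ext s.condition)))
    (fun s m h₁ h₂ => ?_)⟩⟩
  have : toTop P' m = hPO.desc (toTop L s.inl) (toTop M s.inr) (FilObj.Hom.ext s.condition) := by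
    apply hPO.hom_ext
    · rw [hPO.inl_desc]
      exact FilObj.Hom.ext h₁
    · rw [hPO.inr_desc]
      exact FilObj.Hom.ext h₂
  exact congrArg FilObj.Hom.hom this

theorem fil_le_imFil {P' : FilObj A} {g' : L ⟶ P'} {f' : M ⟶ P'} (hPO : IsPushout f g g' f')
    (p : ℤ) : P'.fil p ≤ imFil g'.hom f'.hom p := by
  have w'' : f ≫ imInl g'.hom f'.hom = g ≫ imInr g'.hom f'.hom :=
    FilObj.Hom.ext (show f.hom ≫ g'.hom = g.hom ≫ f'.hom from congrArg FilObj.Hom.hom hPO.w)
  let v : imObj g'.hom f'.hom ⟶ P' := ⟨𝟙 P'.obj, fun q => by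
    apply imFil_le_pullback
    · rw [Category.comp_id]
      exact g'.compat q
    · rw [Category.comp_id]
      exact f'.compat q⟩
  have huv : hPO.desc _ _ w'' ≫ v = 𝟙 P' := by
    apply hPO.hom_ext
    · rw [← Category.assoc, hPO.inl_desc, Category.comp_id]
      exact FilObj.Hom.ext (Category.comp_id _)
    · rw [← Category.assoc, hPO.inr_desc, Category.comp_id]
      exact FilObj.Hom.ext (Category.comp_id _)
  have hu : (hPO.desc _ _ w'').hom = 𝟙 P'.obj := by
    have := congrArg FilObj.Hom.hom huv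
    exact (Category.comp_id _).symm.trans this
  have hc := (hPO.desc _ _ w'').compat p
  rw [le_pullback_iff] at hc
  apply le_of_forall_factors
  intro T x hx
  have := hc x hx
  rwa [hu, Category.comp_id] at this

theorem strict_of_isPushout {P' : FilObj A} (g' : L ⟶ P') (f' : M ⟶ P')
    (hPO : IsPushout f g g' f') (hf : IsStrict f) : IsStrict f' := by
  intro p
  apply le_antisymm
  · apply le_inf
    · exact imageSubobject_comp_le _ _
    · apply le_of_forall_factors
      intro T x hx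
      obtain ⟨T', π, hπ, w, hw⟩ := exists_of_image_factors _ _ hx
      apply factors_of_epi_comp π
      rw [hw]
      have := (le_pullback_iff _ _ _).mp (f'.compat p) (w ≫ (M.fil p).arrow)
        (Subobject.factors_comp_arrow w)
      simpa using this
  · apply le_of_forall_factors
    intro T y hy
    rw [Subobject.inf_factors] at hy
    obtain ⟨hy1, hy2⟩ := hy
    have hy3 : (imFil g'.hom f'.hom p).Factors y :=
      Subobject.factors_of_le _ (fil_le_imFil hPO p) hy2
    obtain ⟨T₁, π₁, hπ₁, l, m', hl, hm', e₁⟩ := exists_of_imFil_factors _ _ p y hy3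
    obtain ⟨T₂, π₂, hπ₂, m, e₂⟩ := exists_of_image_factors _ _
      (Subobject.factors_of_factors_right π₁ hy1)
    -- pushout exactness
    have hPOA := isPushout_hom hPO
    have hz : biprod.lift (π₂ ≫ l) (π₂ ≫ m' - m) ≫ biprod.desc g'.hom f'.hom = 0 := by
      rw [biprod.lift_desc, Preadditive.sub_comp, Category.assoc, Category.assoc, ← e₂]
      rw [← Category.assoc π₂, e₁, Preadditive.comp_add]
      simp only [Category.assoc]
      abel
    obtain ⟨T₃, π₃, hπ₃, k, hk⟩ := hPOA.exact_shortComplex.exact_up_to_refinements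
      (biprod.lift (π₂ ≫ l) (π₂ ≫ m' - m)) hz
    have hk1 : π₃ ≫ π₂ ≫ l = k ≫ f.hom := by
      have h := congrArg (fun t => t ≫ (biprod.fst : L.obj ⊞ M.obj ⟶ L.obj)) hk
      change (π₃ ≫ biprod.lift (π₂ ≫ l) (π₂ ≫ m' - m)) ≫ biprod.fst =
        (k ≫ biprod.lift f.hom (-g.hom)) ≫ biprod.fst at h
      rw [Category.assoc, Category.assoc, biprod.lift_fst, biprod.lift_fst] at h
      exact h
    -- strictness of f
    have hS : (imageSubobject ((K.fil p).arrow ≫ f.hom)).Factors (k ≫ f.hom) := by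
      rw [hf p, Subobject.inf_factors]
      refine ⟨imageSubobject_factors_comp_self _ _, ?_⟩
      rw [← hk1]
      exact Subobject.factors_of_factors_right _ (Subobject.factors_of_factors_right _ hl)
    obtain ⟨T₄, π₄, hπ₄, k', hk'⟩ := exists_of_image_factors _ _ hS
    have hw : f.hom ≫ g'.hom = g.hom ≫ f'.hom := congrArg FilObj.Hom.hom hPO.w
    haveI : Epi (π₄ ≫ π₃ ≫ π₂ ≫ π₁) := by
      haveI := epi_comp π₂ π₁
      haveI := epi_comp π₃ (π₂ ≫ π₁)
      exact epi_comp π₄ (π₃ ≫ π₂ ≫ π₁)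
    apply factors_of_epi_comp (π₄ ≫ π₃ ≫ π₂ ≫ π₁)
    have hfin : (π₄ ≫ π₃ ≫ π₂ ≫ π₁) ≫ y =
        (((k' ≫ (K.fil p).arrow) ≫ g.hom + (π₄ ≫ π₃ ≫ π₂) ≫ m')) ≫ f'.hom := by
      have h1 : (π₄ ≫ π₃ ≫ π₂ ≫ π₁) ≫ y = (π₄ ≫ π₃ ≫ π₂) ≫ (π₁ ≫ y) := by
        simp only [Category.assoc]
      rw [h1, e₁, Preadditive.comp_add, Preadditive.add_comp]
      congr 1
      · have h2 : (π₄ ≫ π₃ ≫ π₂) ≫ l ≫ g'.hom = (π₄ ≫ (π₃ ≫ π₂ ≫ l)) ≫ g'.hom := by
          simp only [Category.assoc]
        rw [h2, hk1, hk']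
        simp only [Category.assoc]
        rw [hw]
      · simp only [Category.assoc]
    rw [hfin]
    have hmem : (M.fil p).Factors ((k' ≫ (K.fil p).arrow) ≫ g.hom + (π₄ ≫ π₃ ≫ π₂) ≫ m') :=
      Subobject.factors_add _ _
        ((le_pullback_iff _ _ _).mp (g.compat p) _ (Subobject.factors_comp_arrow k'))
        (Subobject.factors_of_factors_right _ hm')
    have := imageSubobject_factors_comp_self ((M.fil p).arrow ≫ f'.hom)
      ((M.fil p).factorThru _ hmem)
    rwa [← Category.assoc, Subobject.factorThru_arrow] at this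

theorem main (f : K ⟶ L) (g : K ⟶ M) : HasPushout f g ∧ ∀ (P : FilObj A) (g' : L ⟶ P) (f' : M ⟶ P),
    IsPushout f g g' f' → IsStrict f → IsStrict f' :=
  ⟨hasPushout f g, fun _ g' f' h hf => strict_of_isPushout g' f' h hf⟩

end

end Groth.Agent.Lib.Helper32.FilObjPO
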