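import Mathlib

set_option autoImplicit false
universe u v

namespace Groth.Agent.Lib.Helper32.Horseshoe

open CategoryTheory CategoryTheory.Limits

variable {V : Type u} [Category.{v} V] [Abelian V]

/-- One-step extension: given `d : X ⟶ Y`, mono `i : B ⟶ Y`, and maps `φ : X ⟶ J`, `ψ : B ⟶ J` into
an injective `J`, which are compatible on "the kernel of `(d,i)`", there is `f : Y ⟶ J` with
`d ≫ f = φ` and `i ≫ f = ψ`. -/
lemma step {X Y B J : V} [Injective J] (d : X ⟶ Y) (i : B ⟶ Y) (φ : X ⟶ J) (ψ : B ⟶ J)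
    (H : ∀ ⦃A : V⦄ (y : A ⟶ X) (x : A ⟶ B), y ≫ d + x ≫ i = 0 → y ≫ φ + x ≫ ψ = 0) :
    ∃ f : Y ⟶ J, d ≫ f = φ ∧ i ≫ f = ψ := by
  let s : X ⊞ B ⟶ Y := biprod.desc d i
  let t : X ⊞ B ⟶ J := biprod.desc φ ψ
  have hk : kernel.ι s ≫ t = 0 := by
    have h1 : kernel.ι s ≫ s = 0 := kernel.condition s
    have := H (kernel.ι s ≫ biprod.fst) (kernel.ι s ≫ biprod.snd) (by
      have : kernel.ι s ≫ biprod.fst ≫ d + kernel.ι s ≫ biprod.snd ≫ i = kernel.ι s ≫ s := by
        rw [← Preadditive.comp_add]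
        congr 1
        ext <;> simp [s]
      simpa using this.trans h1)
    have h2 : kernel.ι s ≫ biprod.fst ≫ φ + kernel.ι s ≫ biprod.snd ≫ ψ = kernel.ι s ≫ t := by
      rw [← Preadditive.comp_add]
      congr 1
      ext <;> simp [t]
    rw [← h2]
    simpa using this
  -- factor t through the coimage of s
  let t' : Abelian.coimage s ⟶ J := cokernel.desc (kernel.ι s) t hk
  have ht' : Abelian.coimage.π s ≫ t' = t := cokernel.π_desc _ _ _
  refine ⟨Injective.factorThru t' (Abelian.factorThruCoimage s), ?_, ?_⟩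
  · have : d = biprod.inl ≫ Abelian.coimage.π s ≫ Abelian.factorThruCoimage s := by simp [s]
    rw [this, Category.assoc, Category.assoc, Injective.comp_factorThru, ht']
    simp [t]
  · have : i = biprod.inr ≫ Abelian.coimage.π s ≫ Abelian.factorThruCoimage s := by simp [s]
    rw [this, Category.assoc, Category.assoc, Injective.comp_factorThru, ht']
    simp [t]


section LemmaA

open HomologicalComplex

variable {B C J : CochainComplex V ℕ} (i : B ⟶ C) (hi : ∀ n, Mono (i.f n))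
  (hB : ∀ n, 0 < n → B.ExactAt n) (hC : ∀ n, 0 < n → C.ExactAt n)
  (hJ : ∀ n, Injective (J.X n))
  (fB : B ⟶ J) (g : C.homology 0 ⟶ J.homology 0)
  (hg : homologyMap i 0 ≫ g = homologyMap fB 0)

/-- Stage of the inductive construction. -/
structure Stage (n : ℕ) where
  f : C.X n ⟶ J.X n
  comm_i : i.f n ≫ f = fB.f n
  ker : ∀ ⦃A : V⦄ (z : A ⟶ C.X n), z ≫ C.d n (n+1) = 0 → z ≫ f ≫ J.d n (n+1) = 0

include hi hJ hg in
lemma stage_zero : ∃ s : Stage i fB 0,
    C.iCycles 0 ≫ s.f = C.isoHomologyπ₀.hom ≫ g ≫ J.isoHomologyπ₀.inv ≫ J.iCycles 0 := by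
  have := hJ 0
  have := hi 1
  obtain ⟨f, hf1, hf2⟩ := step (C.iCycles 0) (i.f 0)
    (C.isoHomologyπ₀.hom ≫ g ≫ J.isoHomologyπ₀.inv ≫ J.iCycles 0) (fB.f 0) (by
      intro A y x hyx
      have hx : x ≫ B.d 0 1 = 0 := by
        rw [← cancel_mono (i.f 1), Category.assoc, ← i.comm 0 1, zero_comp]
        have h1 : x ≫ i.f 0 = -(y ≫ C.iCycles 0) := by
          rw [eq_neg_iff_add_eq_zero]; exact (add_comm _ _).trans hyx
        rw [reassoc_of% h1]
        simp
      have hx0 : B.liftCycles x 1 (by simp) hx ≫ B.iCycles 0 = x := B.liftCycles_i _ _ _ _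
      have hy : y = -(B.liftCycles x 1 (by simp) hx ≫ cyclesMap i 0) := by
        rw [← cancel_mono (C.iCycles 0)]
        rw [Preadditive.neg_comp, Category.assoc, cyclesMap_i, reassoc_of% hx0,
          eq_neg_iff_add_eq_zero]
        exact hyx
      have key : cyclesMap i 0 ≫ C.isoHomologyπ₀.hom ≫ g ≫ J.isoHomologyπ₀.inv ≫ J.iCycles 0
          = B.iCycles 0 ≫ fB.f 0 := by
        have h1 : cyclesMap i 0 ≫ C.isoHomologyπ₀.hom = B.isoHomologyπ₀.hom ≫ homologyMap i 0 := by
          simp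
        rw [reassoc_of% h1, reassoc_of% hg, CochainComplex.isoHomologyπ₀_inv_naturality_assoc]
        simp
      rw [hy, Preadditive.neg_comp, Category.assoc, key, reassoc_of% hx0]
      simp)
  refine ⟨⟨f, hf2, ?_⟩, hf1⟩
  intro A z hz
  have : z = C.liftCycles z 1 (by simp) hz ≫ C.iCycles 0 := (C.liftCycles_i _ _ _ _).symm
  rw [this, Category.assoc, reassoc_of% hf1]
  simp

include hi hJ hB hC in
lemma stage_succ {n : ℕ} (s : Stage i fB n) : ∃ s' : Stage i fB (n+1),
    C.d n (n+1) ≫ s'.f = s.f ≫ J.d n (n+1) := by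
  have := hJ (n+1)
  have := hi (n+2)
  have exB := (exactAt_iff' B n (n+1) (n+2) (by simp) (by simp)).1 (hB (n+1) (by omega))
  have exC := (exactAt_iff' C n (n+1) (n+2) (by simp) (by simp)).1 (hC (n+1) (by omega))
  obtain ⟨f, hf1, hf2⟩ := step (C.d n (n+1)) (i.f (n+1)) (s.f ≫ J.d n (n+1)) (fB.f (n+1)) (by
      intro A y x hyx
      have hx : x ≫ B.d (n+1) (n+2) = 0 := by
        rw [← cancel_mono (i.f (n+2)), Category.assoc, ← i.comm (n+1) (n+2), zero_comp]
        have h1 : x ≫ i.f (n+1) = -(y ≫ C.d n (n+1)) := by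
          rw [eq_neg_iff_add_eq_zero]; exact (add_comm _ _).trans hyx
        rw [reassoc_of% h1]
        simp
      obtain ⟨A', π, hπ, y', hy'⟩ : ∃ (A' : V) (π : A' ⟶ A) (_ : Epi π) (y' : A' ⟶ B.X n),
          π ≫ x = y' ≫ B.d n (n+1) := exB.exact_up_to_refinements x hx
      have h0 : (π ≫ y + y' ≫ i.f n) ≫ C.d n (n+1) = 0 := by
        rw [Preadditive.add_comp, Category.assoc, Category.assoc, i.comm n (n+1),
          ← reassoc_of% hy', ← Preadditive.comp_add, hyx, comp_zero]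
      have h1 := s.ker _ h0
      rw [← cancel_epi π, comp_zero, Preadditive.comp_add, reassoc_of% hy', ← fB.comm n (n+1),
        ← s.comm_i]
      simpa using h1)
  refine ⟨⟨f, hf2, ?_⟩, hf1⟩
  intro A z hz
  obtain ⟨A', π, hπ, w, hw⟩ : ∃ (A' : V) (π : A' ⟶ A) (_ : Epi π) (w : A' ⟶ C.X n),
      π ≫ z = w ≫ C.d n (n+1) := exC.exact_up_to_refinements z hz
  rw [← cancel_epi π, comp_zero, reassoc_of% hw, reassoc_of% hf1]
  simp

include hi hJ hB hC hg in
/-- Extension lemma. -/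
theorem lemmaA : ∃ f : C ⟶ J, i ≫ f = fB ∧ homologyMap f 0 = g := by
  obtain ⟨s0, hs0⟩ := stage_zero i hi hJ fB g hg
  let seq : ∀ n, Stage i fB n := fun n =>
    Nat.rec s0 (fun n s => (stage_succ i hi hB hC hJ fB s).choose) n
  have hseq : ∀ n, C.d n (n+1) ≫ (seq (n+1)).f = (seq n).f ≫ J.d n (n+1) := fun n =>
    (stage_succ i hi hB hC hJ fB (seq n)).choose_spec
  let f : C ⟶ J :=
    { f := fun n => (seq n).f
      comm' := by
        rintro n _ rfl
        exact (hseq n).symm }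
  refine ⟨f, ?_, ?_⟩
  · ext n
    exact (seq n).comm_i
  · have h1 : cyclesMap f 0 = C.isoHomologyπ₀.hom ≫ g ≫ J.isoHomologyπ₀.inv := by
      rw [← cancel_mono (J.iCycles 0), cyclesMap_i]
      have : f.f 0 = s0.f := rfl
      rw [this]
      simpa using hs0
    have h2 := CochainComplex.isoHomologyπ₀_inv_naturality f
    rw [h1] at h2
    have h3 : homologyMap f 0 ≫ J.isoHomologyπ₀.inv = g ≫ J.isoHomologyπ₀.inv := by
      rw [h2]; simp
    exact (cancel_mono _).1 h3

end LemmaA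


section Main

open HomologicalComplex
open scoped ZeroObject

theorem main (C' C C'' I' I I'' : CochainComplex V ℕ)
    (jC : C' ⟶ C) (πC : C ⟶ C'') (jI : I' ⟶ I) (πI : I ⟶ I'')
    (mC : ∀ n, Mono (jC.f n)) (wC : ∀ n, jC.f n ≫ πC.f n = 0)
    (exC : ∀ n, (ShortComplex.mk (jC.f n) (πC.f n) (wC n)).Exact)
    (wI : ∀ n, jI.f n ≫ πI.f n = 0)
    (hC' : ∀ n, 0 < n → C'.ExactAt n) (hC : ∀ n, 0 < n → C.ExactAt n)
    (hC'' : ∀ n, 0 < n → C''.ExactAt n)
    (injI' : ∀ n, Injective (I'.X n)) (injI : ∀ n, Injective (I.X n))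
    (injI'' : ∀ n, Injective (I''.X n))
    (g' : C'.homology 0 ⟶ I'.homology 0) (g : C.homology 0 ⟶ I.homology 0)
    (g'' : C''.homology 0 ⟶ I''.homology 0)
    (hg1 : HomologicalComplex.homologyMap jC 0 ≫ g = g' ≫ HomologicalComplex.homologyMap jI 0)
    (hg2 : HomologicalComplex.homologyMap πC 0 ≫ g'' = g ≫ HomologicalComplex.homologyMap πI 0) :
    ∃ (f' : C' ⟶ I') (f : C ⟶ I) (f'' : C'' ⟶ I''),
      jC ≫ f = f' ≫ jI ∧ πC ≫ f'' = f ≫ πI ∧
      HomologicalComplex.homologyMap f' 0 = g' ∧ HomologicalComplex.homologyMap f 0 = g ∧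
      HomologicalComplex.homologyMap f'' 0 = g'' := by
  -- step 1 : f'
  have hZ : ∀ n, IsZero ((0 : CochainComplex V ℕ).X n) := fun n =>
    (HomologicalComplex.eval V _ n).map_isZero (isZero_zero _)
  obtain ⟨f', -, hf'⟩ := lemmaA (0 : (0 : CochainComplex V ℕ) ⟶ C')
    (fun n => (hZ n).mono _)
    (fun n _ => by
      rw [exactAt_iff]
      exact ShortComplex.exact_of_isZero_X₂ _ (hZ n))
    hC' injI' 0 g' (((HomologicalComplex.homologyFunctor V (ComplexShape.up ℕ) 0).map_isZero (isZero_zero _)).eq_of_src _ _)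
  -- step 2 : f
  obtain ⟨f, hf1, hf2⟩ := lemmaA jC mC hC' hC injI (f' ≫ jI) g (by
    rw [hg1, homologyMap_comp, hf'])
  -- step 3 : f''
  have wCc : jC ≫ πC = 0 := by ext n; exact wC n
  have wIc : jI ≫ πI = 0 := by ext n; exact wI n
  have : Mono jC := mono_of_mono_f _ mC
  let S : ShortComplex (CochainComplex V ℕ) := ShortComplex.mk jC (cokernel.π jC) (cokernel.condition jC)
  have hS : S.ShortExact :=
    { exact := ShortComplex.exact_cokernel jC
      mono_f := this
      epi_g := inferInstanceAs (Epi (cokernel.π jC)) }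
  let i : cokernel jC ⟶ C'' := cokernel.desc jC πC wCc
  have hi : Mono i := by
    have ex : (ShortComplex.mk jC πC wCc).Exact := by
      apply exact_of_degreewise_exact
      intro n
      exact exC n
    exact (ShortComplex.exact_iff_mono_cokernel_desc _).1 ex
  have hin : ∀ n, Mono (i.f n) := fun n => inferInstance
  have hBz : ∀ n, 0 < n → IsZero ((cokernel jC).homology n) := by
    intro n hn
    have h1 : IsZero (C.homology n) := (exactAt_iff_isZero_homology _ _).1 (hC n hn)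
    have h2 : IsZero (C'.homology (n+1)) := (exactAt_iff_isZero_homology _ _).1 (hC' (n+1) (by omega))
    have ex := hS.homology_exact₃ n (n+1) rfl
    have : Epi (homologyMap S.g n) := ex.epi_f (h2.eq_of_tgt _ _)
    rw [IsZero.iff_id_eq_zero, ← cancel_epi (homologyMap S.g n)]
    exact h1.eq_of_src _ _
  have hB : ∀ n, 0 < n → (cokernel jC).ExactAt n := fun n hn =>
    (exactAt_iff_isZero_homology _ _).2 (hBz n hn)
  have hp : Epi (homologyMap (cokernel.π jC) 0) := by
    have h2 : IsZero (C'.homology 1) := (exactAt_iff_isZero_homology _ _).1 (hC' 1 (by omega))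
    have ex := hS.homology_exact₃ 0 1 rfl
    exact ex.epi_f (h2.eq_of_tgt _ _)
  let fB : cokernel jC ⟶ I'' := cokernel.desc jC (f ≫ πI) (by
    rw [reassoc_of% hf1, wIc, comp_zero])
  obtain ⟨f'', hf''1, hf''2⟩ := lemmaA i hin hB hC'' injI'' fB g'' (by
    rw [← cancel_epi (homologyMap (cokernel.π jC) 0), ← homologyMap_comp_assoc,
      ← homologyMap_comp]
    have h1 : cokernel.π jC ≫ i = πC := cokernel.π_desc _ _ _
    have h2 : cokernel.π jC ≫ fB = f ≫ πI := cokernel.π_desc _ _ _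
    rw [h1, h2, hg2, homologyMap_comp, hf2])
  refine ⟨f', f, f'', hf1, ?_, hf', hf2, hf''2⟩
  have h1 : cokernel.π jC ≫ i = πC := cokernel.π_desc _ _ _
  have h2 : cokernel.π jC ≫ fB = f ≫ πI := cokernel.π_desc _ _ _
  rw [← h1, Category.assoc, hf''1, h2]

end Main

end Groth.Agent.Lib.Helper32.Horseshoe
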