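import Groth.Agent.Lib.Helper43.SRCov
import Mathlib.CategoryTheory.Limits.Shapes.Pullback.Pasting
import Mathlib.CategoryTheory.MorphismProperty.Limits
import Mathlib.CategoryTheory.Limits.FunctorCategory.Basic
import Mathlib.AlgebraicTopology.SimplicialObject.Coskeletal
import Mathlib.CategoryTheory.Sites.Over

set_option autoImplicit false
universe u v
open CategoryTheory CategoryTheory.Limits Opposite

namespace Groth.Agent.Lib.Helper32.HyperPB

section Abstract

variable {𝒟 : Type u} [Category.{v} 𝒟] [HasPullbacks 𝒟] (W : MorphismProperty 𝒟)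
  [W.IsStableUnderBaseChange] [W.IsStableUnderComposition]

/-- Stacks 01GF, the diagram chase: the comparison map of a fibre product is a composite of a base
change of `γ` and a base change of `uK`. -/
lemma key {K' L' M' P' cK cL cM cP : 𝒟}
    {a' : K' ⟶ L'} {b' : M' ⟶ L'} {p1' : P' ⟶ K'} {p2' : P' ⟶ M'} (hP : IsPullback p1' p2' a' b')
    {ca : cK ⟶ cL} {cb : cM ⟶ cL} {cp1 : cP ⟶ cK} {cp2 : cP ⟶ cM}
    (hcP : IsPullback cp1 cp2 ca cb)
    {uK : K' ⟶ cK} {uL : L' ⟶ cL} {uM : M' ⟶ cM} {uP : P' ⟶ cP}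
    (nK : uK ≫ ca = a' ≫ uL) (nM : uM ≫ cb = b' ≫ uL)
    (n1 : uP ≫ cp1 = p1' ≫ uK) (n2 : uP ≫ cp2 = p2' ≫ uM)
    (hK : W uK)
    (hγ : W (pullback.lift b' uM nM.symm : M' ⟶ pullback uL cb)) : W uP := by
  set γ : M' ⟶ pullback uL cb := pullback.lift b' uM nM.symm with hγdef
  have γ1 : γ ≫ pullback.fst uL cb = b' := pullback.lift_fst _ _ _
  have γ2 : γ ≫ pullback.snd uL cb = uM := pullback.lift_snd _ _ _
  -- R = K' ×_{L'} Q
  let r1 : pullback a' (pullback.fst uL cb) ⟶ K' := pullback.fst _ _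
  let r2 : pullback a' (pullback.fst uL cb) ⟶ pullback uL cb := pullback.snd _ _
  have hR : IsPullback r1 r2 a' (pullback.fst uL cb) := IsPullback.of_hasPullback _ _
  let ρ : P' ⟶ pullback a' (pullback.fst uL cb) :=
    pullback.lift p1' (p2' ≫ γ) (by rw [Category.assoc, γ1]; exact hP.w)
  have ρ1 : ρ ≫ r1 = p1' := pullback.lift_fst _ _ _
  have ρ2 : ρ ≫ r2 = p2' ≫ γ := pullback.lift_snd _ _ _
  have hρ : IsPullback ρ p2' r2 γ := by
    refine IsPullback.of_right ?_ ρ2 hR
    rw [ρ1, γ1]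
    exact hP
  have Wρ : W ρ := W.of_isPullback hρ.flip hγ
  -- σ : R → cP
  have hσc : (r1 ≫ uK) ≫ ca = (r2 ≫ pullback.snd uL cb) ≫ cb := by
    rw [Category.assoc, nK, ← Category.assoc, hR.w, Category.assoc, Category.assoc,
      pullback.condition]
  let σ : pullback a' (pullback.fst uL cb) ⟶ cP := hcP.lift (r1 ≫ uK) (r2 ≫ pullback.snd uL cb) hσc
  have σ1 : σ ≫ cp1 = r1 ≫ uK := hcP.lift_fst _ _ _
  have σ2 : σ ≫ cp2 = r2 ≫ pullback.snd uL cb := hcP.lift_snd _ _ _
  have hQ : IsPullback (pullback.snd uL cb) (pullback.fst uL cb) cb uL :=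
    (IsPullback.of_hasPullback uL cb).flip
  have hbig : IsPullback (r2 ≫ pullback.snd uL cb) r1 cb (a' ≫ uL) := hR.flip.paste_horiz hQ
  have hσ : IsPullback σ r1 cp1 uK := by
    refine IsPullback.of_right ?_ σ1 hcP.flip
    rw [σ2, nK]
    exact hbig
  have Wσ : W σ := W.of_isPullback hσ.flip hK
  have huP : uP = ρ ≫ σ := by
    apply hcP.hom_ext
    · rw [n1, Category.assoc, σ1, ← Category.assoc, ρ1]
    · rw [n2, Category.assoc, σ2, ← Category.assoc, ρ2, Category.assoc, γ2]
  rw [huP]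
  exact W.comp_mem _ _ Wρ Wσ

end Abstract


section SR

open Groth.Agent.Lib.Helper43

variable {C : Type u} [SmallCategory C] (J : GrothendieckTopology C)

/-- the class of covering morphisms of semi-representable objects -/
def srCov : MorphismProperty (FormalCoproduct.{u} C) := fun _ _ f => Hyper.IsSRCovering J f

instance : (srCov J).IsStableUnderComposition where
  comp_mem f g hf hg := SRCov.comp J f g hf hg

variable [HasPullbacks C]

lemma srCov_of_isPullback {P K L L' : FormalCoproduct.{u} C} {fst : P ⟶ L'} {snd : P ⟶ K}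
    {g : L' ⟶ L} {f : K ⟶ L} (h : IsPullback fst snd g f) (hf : Hyper.IsSRCovering J f) :
    Hyper.IsSRCovering J fst := by
  have e : fst = h.isoPullback.hom ≫ pullback.fst g f := h.isoPullback_hom_fst.symm
  rw [e]
  exact SRCov.comp J _ _ (SRCov.of_iso J _) (SRCov.pullback_fst J f g hf)

instance : (srCov J).IsStableUnderBaseChange where
  of_isPullback h hg := srCov_of_isPullback J h.flip hg


/-- if `K₀` covers `X` and `P₀ ⟶ K₀` is a covering of semi-representable objects over `X`, then `P₀`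
covers `X`. -/
lemma cover_of_srCovering {X : C} {P0 K0 : FormalCoproduct.{u} (Over X)} (f : P0 ⟶ K0)
    (hf : Hyper.IsSRCovering (J.over X) f)
    (hK : Sieve.ofArrows (fun i => (K0.obj i).left) (fun i => (K0.obj i).hom) ∈ J X) :
    Sieve.ofArrows (fun i => (P0.obj i).left) (fun i => (P0.obj i).hom) ∈ J X := by
  refine J.transitive hK _ ?_
  intro Y h hh
  rw [Sieve.mem_ofArrows_iff] at hh
  obtain ⟨j, c, rfl⟩ := hh
  rw [Sieve.pullback_comp]
  refine J.pullback_stable c ?_
  have hj := hf j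
  rw [GrothendieckTopology.mem_over_iff] at hj
  refine J.superset_covering ?_ hj
  intro Z g hg
  rw [Sieve.overEquiv_iff, SRCov.mem_iff] at hg
  obtain ⟨i, e, a, ha⟩ := hg
  rw [Sieve.pullback_apply, Sieve.mem_ofArrows_iff]
  refine ⟨i, a.left, ?_⟩
  have := Over.w a
  simp at this ⊢

end SR

end Groth.Agent.Lib.Helper32.HyperPB
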