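import Mathlib

/-!
# Idempotent completeness of a triangulated category with a bounded t-structure

`Splits e`, `splits_of_sq_zero` (idempotents differing by a square-zero element split together),
`splits_of_amplitude_zero`, `splits_step` (dévissage along the truncation triangle),
`splits_of_amplitude`, `isIdempotentComplete_of_bounded`.
-/

set_option autoImplicit false
set_option linter.unusedSectionVars false
universe v u
open CategoryTheory CategoryTheory.Limits CategoryTheory.Pretriangulated CategoryTheory.Triangulated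

namespace Groth.Agent.Lib.Helper32.IdemTStructure

lemma ring_aux {R : Type*} [Ring R] (e e' : R) (he : e * e = e) (he' : e' * e' = e')
    (hN : (e - e') * (e - e') = 0) : e * e' * e = e ∧ e' * e * e' = e' := by
  have H : e * e' + e' * e = e + e' := by
    have h1 : (e - e') * (e - e') = e * e - e * e' - e' * e + e' * e' := by noncomm_ring
    rw [h1, he, he'] at hN
    have : e * e' + e' * e = e + e' - (e - e * e' - e' * e + e') := by abel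
    rw [this, hN, sub_zero]
  constructor
  · have h2 : e * (e * e' + e' * e) * e = (e * e) * e' * e + e * e' * (e * e) := by noncomm_ring
    have h3 : e * (e + e') * e = (e * e) * e + e * e' * e := by noncomm_ring
    rw [H, h3, he, he] at h2
    have h4 : e + e * e' * e = e * e' * e + e * e' * e := h2
    have h5 : e = e * e' * e := by
      have := congrArg (fun x => x - e * e' * e) h4
      simpa using this
    exact h5.symm
  · have h2 : e' * (e * e' + e' * e) * e' = e' * e * (e' * e') + (e' * e') * e * e' := by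
      noncomm_ring
    have h3 : e' * (e + e') * e' = e' * e * e' + (e' * e') * e' := by noncomm_ring
    rw [H, h3, he', he'] at h2
    have h5 : e' = e' * e * e' := by
      have := congrArg (fun x => x - e' * e * e') h2
      simpa using this
    exact h5.symm

section

variable {C : Type u} [Category.{v} C] [Preadditive C] [HasZeroObject C] [HasShift C ℤ]
  [∀ n : ℤ, (shiftFunctor C n).Additive] [Pretriangulated C]

/-- the idempotent `e` splits -/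
def Splits {Y : C} (e : Y ⟶ Y) : Prop :=
  ∃ (Y₁ : C) (i : Y₁ ⟶ Y) (π : Y ⟶ Y₁), i ≫ π = 𝟙 Y₁ ∧ π ≫ i = e

lemma splits_of_sq_zero {Y : C} (e e' : Y ⟶ Y) (he : e ≫ e = e) (he' : e' ≫ e' = e')
    (hN : (e - e') ≫ (e - e') = 0) (h' : Splits e') : Splits e := by
  obtain ⟨Y₁, i, π, h1, h2⟩ := h'
  obtain ⟨r1, r2⟩ := ring_aux (R := End Y) e e' he he' hN
  have r1' : e ≫ e' ≫ e = e := r1
  have r2' : e' ≫ e ≫ e' = e' := r2
  have hi : i ≫ e' = i := by rw [← h2, ← Category.assoc, h1, Category.id_comp]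
  have hπ : e' ≫ π = π := by rw [← h2, Category.assoc, h1, Category.comp_id]
  refine ⟨Y₁, i ≫ e, e ≫ π, ?_, ?_⟩
  · calc (i ≫ e) ≫ e ≫ π = i ≫ (e ≫ e) ≫ π := by simp only [Category.assoc]
      _ = (i ≫ e') ≫ e ≫ (e' ≫ π) := by rw [he, hi, hπ]
      _ = i ≫ (e' ≫ e ≫ e') ≫ π := by simp only [Category.assoc]
      _ = 𝟙 Y₁ := by rw [r2', ← Category.assoc, hi, h1]
  · calc (e ≫ π) ≫ i ≫ e = e ≫ (π ≫ i) ≫ e := by simp only [Category.assoc]
      _ = e := by rw [h2, r1']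

variable (t : TStructure C)

lemma splits_of_amplitude_zero {Y : C} (a : ℤ) [t.IsGE Y a] [t.IsLE Y a] (e : Y ⟶ Y)
    (he : e ≫ e = e) : Splits e := by
  obtain ⟨C', c, δ, hT⟩ := distinguished_cocone_triangle (𝟙 Y - e)
  have hT' := t.triangleLTGE_distinguished a C'
  let Q := (t.truncGE a).obj C'
  let p : C' ⟶ Q := (t.truncGEπ a).app C'
  have hfe : (𝟙 Y - e) ≫ e = 0 := by rw [Preadditive.sub_comp, Category.id_comp, he, sub_self]
  obtain ⟨e₁, he₁⟩ : ∃ e₁ : C' ⟶ Y, e = c ≫ e₁ := Triangle.yoneda_exact₂ _ hT e hfe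
  have h0 : (t.truncLTι a).app C' ≫ e₁ = 0 := t.zero _ (a - 1) a
  obtain ⟨i, hi⟩ : ∃ i : Q ⟶ Y, e₁ = p ≫ i := Triangle.yoneda_exact₂ _ hT' e₁ h0
  have hfc : (𝟙 Y - e) ≫ c = 0 := comp_distTriang_mor_zero₁₂ _ hT
  have hec : e ≫ c = c := by
    rw [Preadditive.sub_comp, Category.id_comp, sub_eq_zero] at hfc
    exact hfc.symm
  refine ⟨Q, i, c ≫ p, ?_, ?_⟩
  · have hg : (c ≫ p) ≫ (i ≫ c ≫ p - 𝟙 Q) = 0 := by
      rw [Preadditive.comp_sub, Category.comp_id, sub_eq_zero]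
      calc (c ≫ p) ≫ i ≫ c ≫ p = (c ≫ p ≫ i) ≫ c ≫ p := by simp only [Category.assoc]
        _ = c ≫ p := by rw [← hi, ← he₁, reassoc_of% hec]
    have hg' : c ≫ (p ≫ (i ≫ c ≫ p - 𝟙 Q)) = 0 := by rw [← Category.assoc]; exact hg
    obtain ⟨g', hg'⟩ : ∃ g' : Y⟦(1 : ℤ)⟧ ⟶ Q, p ≫ (i ≫ c ≫ p - 𝟙 Q) = δ ≫ g' :=
      Triangle.yoneda_exact₃ _ hT _ hg'
    have : t.IsLE (Y⟦(1 : ℤ)⟧) (a - 1) := t.isLE_shift Y a 1 (a - 1)
    have hz : g' = 0 := t.zero g' (a - 1) a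
    rw [hz, comp_zero] at hg'
    obtain ⟨g'', hg''⟩ : ∃ g'' : ((t.truncLT a).obj C')⟦(1 : ℤ)⟧ ⟶ Q,
        i ≫ c ≫ p - 𝟙 Q = (t.truncGEδLT a).app C' ≫ g'' :=
      Triangle.yoneda_exact₃ _ hT' _ hg'
    have : t.IsLE (((t.truncLT a).obj C')⟦(1 : ℤ)⟧) (a - 2) :=
      t.isLE_shift _ (a - 1) 1 (a - 2)
    have hz' : g'' = 0 := t.zero g'' (a - 2) a
    rw [hz', comp_zero, sub_eq_zero] at hg''
    exact hg''
  · rw [Category.assoc, ← hi, ← he₁]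

lemma splits_step {Y : C} (b : ℤ) (e : Y ⟶ Y) (he : e ≫ e = e)
    (hX : Splits ((t.truncLT b).map e)) (hZ : Splits ((t.truncGE b).map e)) : Splits e := by
  obtain ⟨X₁, iX, πX, hX1, hX2⟩ := hX
  obtain ⟨Z₁, iZ, πZ, hZ1, hZ2⟩ := hZ
  have hT := t.triangleLTGE_distinguished b Y
  -- notation
  obtain ⟨α, hα⟩ : ∃ α : (t.truncLT b).obj Y ⟶ Y, α = (t.truncLTι b).app Y := ⟨_, rfl⟩
  obtain ⟨β, hβ⟩ : ∃ β : Y ⟶ (t.truncGE b).obj Y, β = (t.truncGEπ b).app Y := ⟨_, rfl⟩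
  obtain ⟨h, hh⟩ : ∃ h : (t.truncGE b).obj Y ⟶ ((t.truncLT b).obj Y)⟦(1 : ℤ)⟧,
      h = (t.truncGEδLT b).app Y := ⟨_, rfl⟩
  have hT : Triangle.mk α β h ∈ distTriang C := by rw [hα, hβ, hh]; exact hT
  obtain ⟨eX, heX⟩ : ∃ eX : (t.truncLT b).obj Y ⟶ (t.truncLT b).obj Y,
      eX = (t.truncLT b).map e := ⟨_, rfl⟩
  obtain ⟨eZ, heZ⟩ : ∃ eZ : (t.truncGE b).obj Y ⟶ (t.truncGE b).obj Y,
      eZ = (t.truncGE b).map e := ⟨_, rfl⟩
  rw [← heX] at hX2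
  rw [← heZ] at hZ2
  have nα : eX ≫ α = α ≫ e := by rw [heX, hα]; exact (t.truncLTι b).naturality e
  have nβ : e ≫ β = β ≫ eZ := by rw [heZ, hβ]; exact (t.truncGEπ b).naturality e
  have nh : eZ ≫ h = h ≫ eX⟦(1 : ℤ)⟧' := by
    rw [heZ, hh, heX]; exact (t.truncGEδLT b).naturality e
  -- the triangle of the summand
  obtain ⟨Y₁, α₁, β₁, hT₁⟩ := distinguished_cocone_triangle₂ (iZ ≫ h ≫ πX⟦(1 : ℤ)⟧')
  have hiX : iX ≫ eX = iX := by rw [← hX2, ← Category.assoc, hX1, Category.id_comp]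
  have hπX : eX ≫ πX = πX := by rw [← hX2, Category.assoc, hX1, Category.comp_id]
  have hiZ : iZ ≫ eZ = iZ := by rw [← hZ2, ← Category.assoc, hZ1, Category.id_comp]
  have hπZ : eZ ≫ πZ = πZ := by rw [← hZ2, Category.assoc, hZ1, Category.comp_id]
  have comm_i : (iZ ≫ h ≫ πX⟦(1 : ℤ)⟧') ≫ iX⟦(1 : ℤ)⟧' = iZ ≫ h := by
    rw [Category.assoc, Category.assoc, ← CategoryTheory.Functor.map_comp, hX2, ← nh,
      reassoc_of% hiZ]
  have comm_π : h ≫ πX⟦(1 : ℤ)⟧' = πZ ≫ (iZ ≫ h ≫ πX⟦(1 : ℤ)⟧') := by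
    rw [← Category.assoc πZ, hZ2, reassoc_of% nh, ← CategoryTheory.Functor.map_comp, hπX]
  obtain ⟨iY, hiY1, hiY2⟩ : ∃ iY : Y₁ ⟶ Y, α₁ ≫ iY = iX ≫ α ∧ β₁ ≫ iZ = iY ≫ β :=
    complete_distinguished_triangle_morphism₂ _ _ hT₁ hT iX iZ comm_i
  obtain ⟨πY, hπY1, hπY2⟩ : ∃ πY : Y ⟶ Y₁, α ≫ πY = πX ≫ α₁ ∧ β ≫ πZ = πY ≫ β₁ :=
    complete_distinguished_triangle_morphism₂ _ _ hT hT₁ πX πZ comm_π
  -- `u = iY ≫ πY` is an automorphism of `Y₁`
  have hu1 : α₁ ≫ (iY ≫ πY) = α₁ := by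
    rw [reassoc_of% hiY1, hπY1, reassoc_of% hX1]
  have hu2 : (iY ≫ πY) ≫ β₁ = β₁ := by
    rw [Category.assoc, ← hπY2, ← reassoc_of% hiY2, hZ1, Category.comp_id]
  let Φ : Triangle.mk α₁ β₁ (iZ ≫ h ≫ πX⟦(1 : ℤ)⟧') ⟶ Triangle.mk α₁ β₁ (iZ ≫ h ≫ πX⟦(1 : ℤ)⟧') :=
    { hom₁ := 𝟙 X₁, hom₂ := iY ≫ πY, hom₃ := 𝟙 Z₁
      comm₁ := (by show α₁ ≫ (iY ≫ πY) = 𝟙 X₁ ≫ α₁; rw [hu1, Category.id_comp])
      comm₂ := (by show β₁ ≫ 𝟙 Z₁ = (iY ≫ πY) ≫ β₁; rw [hu2, Category.comp_id])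
      comm₃ := (by
        show (iZ ≫ h ≫ πX⟦(1 : ℤ)⟧') ≫ (𝟙 X₁)⟦(1 : ℤ)⟧' = 𝟙 Z₁ ≫ (iZ ≫ h ≫ πX⟦(1 : ℤ)⟧')
        rw [CategoryTheory.Functor.map_id, Category.comp_id, Category.id_comp]) }
  have hu : IsIso (iY ≫ πY) :=
    isIso₂_of_isIso₁₃ Φ hT₁ hT₁ (IsIso.id X₁) (IsIso.id Z₁)
  have hu1' : α₁ ≫ inv (iY ≫ πY) = α₁ := by
    rw [← cancel_mono (iY ≫ πY), Category.assoc, IsIso.inv_hom_id, Category.comp_id, hu1]
  have hu2' : inv (iY ≫ πY) ≫ β₁ = β₁ := by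
    rw [← cancel_epi (iY ≫ πY), IsIso.hom_inv_id_assoc, hu2]
  -- the split idempotent `e'`
  obtain ⟨π', hπ'⟩ : ∃ π' : Y ⟶ Y₁, π' = πY ≫ inv (iY ≫ πY) := ⟨_, rfl⟩
  have hsplit : iY ≫ π' = 𝟙 Y₁ := by
    rw [hπ', ← Category.assoc, IsIso.hom_inv_id]
  have he' : (π' ≫ iY) ≫ (π' ≫ iY) = π' ≫ iY := by
    rw [Category.assoc, reassoc_of% hsplit]
  have hαe' : α ≫ (π' ≫ iY) = α ≫ e := by
    rw [hπ', Category.assoc, reassoc_of% hπY1, reassoc_of% hu1', hiY1, reassoc_of% hX2, nα]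
  have he'β : (π' ≫ iY) ≫ β = e ≫ β := by
    rw [hπ', Category.assoc, Category.assoc, ← hiY2, reassoc_of% hu2', ← reassoc_of% hπY2, hZ2, nβ]
  -- `N = e - e'` squares to zero
  have hN1 : α ≫ (e - π' ≫ iY) = 0 := by rw [Preadditive.comp_sub, hαe', sub_self]
  have hN2 : (e - π' ≫ iY) ≫ β = 0 := by rw [Preadditive.sub_comp, he'β, sub_self]
  obtain ⟨s, hs⟩ : ∃ s : (t.truncGE b).obj Y ⟶ Y, e - π' ≫ iY = β ≫ s :=
    Triangle.yoneda_exact₂ _ hT _ hN1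
  have hsβ : β ≫ (s ≫ β) = 0 := by rw [← Category.assoc, ← hs, hN2]
  obtain ⟨r, hr⟩ : ∃ r : ((t.truncLT b).obj Y)⟦(1 : ℤ)⟧ ⟶ (t.truncGE b).obj Y, s ≫ β = h ≫ r :=
    Triangle.yoneda_exact₃ _ hT _ hsβ
  have : t.IsLE (((t.truncLT b).obj Y)⟦(1 : ℤ)⟧) (b - 2) := t.isLE_shift _ (b - 1) 1 (b - 2)
  have hr0 : r = 0 := t.zero r (b - 2) b
  rw [hr0, comp_zero] at hr
  have hNN : (e - π' ≫ iY) ≫ (e - π' ≫ iY) = 0 := by
    rw [hs, Category.assoc, reassoc_of% hr, zero_comp, comp_zero]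
  exact splits_of_sq_zero e (π' ≫ iY) he he' hNN ⟨Y₁, iY, π', hsplit, rfl⟩


lemma splits_of_amplitude [IsTriangulated C] : ∀ (n : ℕ) (Y : C) (a b : ℤ), t.IsGE Y a → t.IsLE Y b →
    b - a ≤ n → ∀ (e : Y ⟶ Y), e ≫ e = e → Splits e := by
  intro n
  induction n with
  | zero =>
    intro Y a b hGE hLE hab e he
    have : t.IsLE Y a := t.isLE_of_le Y b a (by simpa using hab)
    exact splits_of_amplitude_zero t a e he
  | succ n ih =>
    intro Y a b hGE hLE hab e he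
    by_cases hn : b - a ≤ n
    · exact ih Y a b hGE hLE hn e he
    · have hab' : b - a = n + 1 := by push_cast at hab; omega
      apply splits_step t b e he
      · have h1 : t.IsLE ((t.truncLT b).obj Y) (b - 1) := inferInstance
        have h2 : t.IsGE ((t.truncLT b).obj Y) a := inferInstance
        refine ih _ a (b - 1) h2 h1 (by omega) _ ?_
        rw [← CategoryTheory.Functor.map_comp, he]
      · have h1 : t.IsGE ((t.truncGE b).obj Y) b := inferInstance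
        have h2 : t.IsLE ((t.truncGE b).obj Y) b := inferInstance
        have : t.IsLE ((t.truncGE b).obj Y) b := h2
        apply splits_of_amplitude_zero t b
        rw [← CategoryTheory.Functor.map_comp, he]

theorem isIdempotentComplete_of_bounded [IsTriangulated C] (hb : ∀ X : C, t.bounded X) :
    IsIdempotentComplete C := by
  refine ⟨fun X p hp => ?_⟩
  obtain ⟨⟨a, ha⟩, ⟨b, hb'⟩⟩ := hb X
  obtain ⟨Y₁, i, π, h1, h2⟩ := splits_of_amplitude t (b - a).toNat X a b ha hb'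
    (by exact Int.self_le_toNat _) p hp
  exact ⟨Y₁, i, π, h1, h2⟩

end

end Groth.Agent.Lib.Helper32.IdemTStructure
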