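import Mathlib
import Groth.Prelude.Def_KZero
import Groth.Prelude.Def_DRing2
import Groth.Prelude.Def_Koszul
import Groth.Agent.Lib.Helper32.K0Der
import Groth.Agent.Lib.Helper32.DevissageDer
import Groth.Agent.Lib.Helper12.DRingClosure
import Groth.Agent.S15821
import Groth.Agent.S16234

set_option autoImplicit false
universe u
open CategoryTheory CategoryTheory.Limits CategoryTheory.Pretriangulated DerivedCategory
open scoped ZeroObject
open Groth.Agent.Lib.Helper12 Groth.Agent.Lib.Helper32

namespace Groth.Agent.Lib.Helper32.K0Koszul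

attribute [local instance] HasDerivedCategory.standard

variable (R : Type u) [CommRing R]

/-- finite length modules -/
def FL : ObjectProperty (ModuleCat.{u} R) := fun M => IsFiniteLength R M

instance : (FL R).IsClosedUnderIsomorphisms :=
  ⟨fun e h => (e.toLinearEquiv).isFiniteLength h⟩

instance : (FL R).ContainsZero :=
  ⟨⟨0, isZero_zero _, by
    haveI : Subsingleton ((0 : ModuleCat.{u} R) : Type u) :=
      ModuleCat.subsingleton_of_isZero (isZero_zero _)
    exact IsFiniteLength.of_subsingleton⟩⟩

instance : (FL R).IsClosedUnderSubobjects where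
  prop_of_mono {X Y} f _ hY := by
    have hinj : Function.Injective f.hom := (ModuleCat.mono_iff_injective f).1 inferInstance
    have hY' : IsFiniteLength R Y := hY
    rw [isFiniteLength_iff_isNoetherian_isArtinian] at hY'
    obtain ⟨h1, h2⟩ := hY'
    show IsFiniteLength R X
    rw [isFiniteLength_iff_isNoetherian_isArtinian]
    exact ⟨isNoetherian_of_injective f.hom hinj, isArtinian_of_injective f.hom hinj⟩

/-- perfect objects as an object property -/
def Perf : ObjectProperty (Dual.D R) := fun K => DRing.IsPerfect R K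

instance : (Perf R).IsClosedUnderIsomorphisms :=
  ⟨fun e h => RepBounded.of_iso (finiteProjective R) e h⟩

lemma perf_zero : Perf R (0 : Dual.D R) := by
  refine ⟨0, 0, 0, fun i _ => ?_, fun i => ?_, ⟨?_⟩⟩
  · exact (HomologicalComplex.eval _ _ i).map_isZero (isZero_zero _)
  · haveI : Subsingleton (((0 : DRing.Cx R).X i : ModuleCat.{u} R) : Type u) :=
      ModuleCat.subsingleton_of_isZero ((HomologicalComplex.eval _ _ i).map_isZero (isZero_zero _))
    exact ⟨inferInstance, inferInstance⟩
  · exact (Q.map_isZero (isZero_zero _)).isoZero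

instance : (Perf R).IsTriangulated where
  exists_zero := ⟨0, isZero_zero _, perf_zero R⟩
  isStableUnderShiftBy n := ⟨fun K h => RepBounded.shift (finiteProjective R) h n⟩
  ext₂' T hT h₁ h₃ := by
    refine ObjectProperty.le_isoClosure _ _ ?_
    exact (RepBounded.two_out_of_three (finiteProjective R) (finiteProjective_projective) T hT).2.1 h₁ h₃

/-! ### the Koszul complex is perfect -/

lemma vanishesOutside_mono {E : DRing.Cx R} {a b a' b' : ℤ} (h : DRing.VanishesOutside E a b)
    (ha : a' ≤ a) (hb : b ≤ b') : DRing.VanishesOutside E a' b' :=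
  fun i hi => h i (by omega)

lemma koszul_bounded (l : List R) :
    DRing.VanishesOutside (Koszul.koszul R l) (-(l.length : ℤ)) 0 ∧
      Termwise (finiteProjective R) (Koszul.koszul R l) := by
  induction l with
  | nil =>
    constructor
    · intro i hi
      exact HomologicalComplex.isZero_single_obj_X _ _ _ _ (by simp at hi; omega)
    · intro i
      by_cases hi : i = 0
      · subst hi
        refine (finiteProjective R).iso
          (HomologicalComplex.singleObjXSelf (ComplexShape.up ℤ) 0 (ModuleCat.of R R)).symm ?_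
        exact ⟨inferInstanceAs (Module.Finite R R), inferInstanceAs (Module.Projective R R)⟩
      · have hz : IsZero ((Koszul.koszul R []).X i) :=
          HomologicalComplex.isZero_single_obj_X _ _ _ _ hi
        haveI : Subsingleton ((Koszul.koszul R []).X i) := ModuleCat.subsingleton_of_isZero hz
        exact ⟨inferInstance, inferInstance⟩
  | cons f l ih =>
    obtain ⟨h1, h2⟩ := ih
    constructor
    · have := vanishesOutside_cone' (f • 𝟙 (Koszul.koszul R l))
        (a := -((f :: l).length : ℤ)) (b := 0)
        (vanishesOutside_mono R h1 (by simp) (by omega))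
        (vanishesOutside_mono R h1 (by simp) (by omega))
      exact this
    · exact termwise_cone (finiteProjective R) (f • 𝟙 (Koszul.koszul R l)) h2 h2

lemma perf_koszul (l : List R) : Perf R (DRing.toD (Koszul.koszul R l)) :=
  ⟨_, _, _, (koszul_bounded R l).1, (koszul_bounded R l).2, ⟨Iso.refl _⟩⟩

/-- a complex with cohomology concentrated in degree `0` is a module in degree `0` -/
lemma iso_single_of_homology (E : DRing.Cx R) (hE : ∀ i : ℤ, i ≠ 0 → IsZero (E.homology i))
    (M : ModuleCat.{u} R) (e : E.homology 0 ≅ M) :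
    Nonempty (DRing.toD E ≅ (singleFunctor (ModuleCat.{u} R) 0).obj M) := by
  have hz : ∀ i : ℤ, i ≠ 0 → IsZero ((homologyFunctor (ModuleCat.{u} R) i).obj (Q.obj E)) :=
    fun i hi => (hE i hi).of_iso ((homologyFunctorFactors (ModuleCat.{u} R) i).app E)
  haveI : (Q.obj E).IsGE 0 := (isGE_iff _ _).2 (fun i hi => hz i (by omega))
  haveI : (Q.obj E).IsLE 0 := (isLE_iff _ _).2 (fun i hi => hz i (by omega))
  obtain ⟨Y, ⟨eY⟩⟩ := exists_iso_singleFunctor_obj_of_isGE_of_isLE (Q.obj E) 0
  have e1 : Y ≅ M :=
    ((singleFunctorCompHomologyFunctorIso (ModuleCat.{u} R) 0).app Y).symm ≪≫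
      (homologyFunctor (ModuleCat.{u} R) 0).mapIso eY.symm ≪≫
      (homologyFunctorFactors (ModuleCat.{u} R) 0).app E ≪≫ e
  exact ⟨eY ≪≫ (singleFunctor (ModuleCat.{u} R) 0).mapIso e1⟩

section Local
variable [IsLocalRing R] (fs : List R) (hreg : RingTheory.Sequence.IsRegular R fs)
  (hgen : Ideal.ofList fs = IsLocalRing.maximalIdeal R)

include hreg hgen in
lemma koszul_iso_residue : Nonempty (DRing.toD (Koszul.koszul R fs) ≅
    Dual.inD R (R ⧸ IsLocalRing.maximalIdeal R)) := by
  obtain ⟨hk, ⟨e⟩⟩ := Groth.Agent.S15821.result R fs hreg.toIsWeaklyRegular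
  refine iso_single_of_homology R _ hk _ (e ≪≫ ?_)
  exact (Submodule.quotEquivOfEq _ _ hgen).toModuleIso

include hreg hgen in
lemma perf_residue : Perf R (Dual.inD R (R ⧸ IsLocalRing.maximalIdeal R)) := by
  obtain ⟨e⟩ := koszul_iso_residue R fs hreg hgen
  exact (Perf R).prop_of_iso e (perf_koszul R fs)

include hreg hgen in
lemma perf_of_finiteLength : ∀ (M : Type u) [AddCommGroup M] [Module R M],
    IsFiniteLength R M → Perf R (Dual.inD R M) := by
  intro M _ _ h
  induction h with
  | @of_subsingleton M _ _ _ =>
    have hz : IsZero (ModuleCat.of R M) := ModuleCat.isZero_of_subsingleton _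
    exact (Perf R).prop_of_isZero ((singleFunctor (ModuleCat.{u} R) 0).map_isZero hz)
  | @of_simple_quotient M _ _ N hsimple hN ih =>
    let S : ShortComplex (ModuleCat.{u} R) :=
      ShortComplex.mk (ModuleCat.ofHom N.subtype) (ModuleCat.ofHom N.mkQ) (by
        ext x
        simp)
    have hS : S.ShortExact := by
      refine ModuleCat.shortComplex_shortExact S ?_ N.injective_subtype N.mkQ_surjective
      show Function.Exact N.subtype N.mkQ
      rw [LinearMap.exact_iff, Submodule.ker_mkQ, Submodule.range_subtype]
    have hT := hS.singleTriangle_distinguished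
    obtain ⟨I, hI, ⟨e⟩⟩ := isSimpleModule_iff_quot_maximal.mp hsimple
    have hIm : I = IsLocalRing.maximalIdeal R := IsLocalRing.eq_maximalIdeal hI
    subst hIm
    have h3 : Perf R (Dual.inD R (M ⧸ N)) :=
      (Perf R).prop_of_iso ((singleFunctor (ModuleCat.{u} R) 0).mapIso e.symm.toModuleIso)
        (perf_residue R fs hreg hgen)
    exact (Perf R).ext_of_isTriangulatedClosed₂ _ hT ih h3

end Local

section Main
variable [IsNoetherianRing R] [IsLocalRing R] (fs : List R)
  (hreg : RingTheory.Sequence.IsRegular R fs)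
  (hgen : Ideal.ofList fs = IsLocalRing.maximalIdeal R)

/-- the subcategory of the statement -/
def Qp : ObjectProperty (Dual.D R) := fun K => DRing.IsPerfect R K ∧
  ∀ i : ℤ, Module.support R (Dual.HD R K i) ⊆ {IsLocalRing.closedPoint R}

lemma finite_homology (E : DRing.Cx R) (j : ℤ) (h : Module.Finite R (E.X j)) :
    Module.Finite R (E.homology j) := by
  have h1 : Function.Injective (E.iCycles j).hom :=
    (ModuleCat.mono_iff_injective _).1 inferInstance
  have h2 : Function.Surjective (E.homologyπ j).hom :=
    (ModuleCat.epi_iff_surjective _).1 inferInstance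
  haveI : Module.Finite R (E.cycles j) := Module.Finite.of_injective (E.iCycles j).hom h1
  exact Module.Finite.of_surjective (E.homologyπ j).hom h2

lemma fl_of_support (M : Type u) [AddCommGroup M] [Module R M] [Module.Finite R M]
    (h : Module.support R M ⊆ {IsLocalRing.closedPoint R}) : IsFiniteLength R M := by
  refine Groth.Agent.S16234.finiteLength_of_maximal R M inferInstance (fun p hp => ?_)
  have := h hp
  rw [Set.mem_singleton_iff] at this
  rw [this]
  exact IsLocalRing.maximalIdeal.isMaximal R

lemma support_of_fl (M : Type u) [AddCommGroup M] [Module R M] (h : IsFiniteLength R M) :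
    Module.support R M ⊆ {IsLocalRing.closedPoint R} := by
  intro p hp
  have hmax := Groth.Agent.S16234.maximal_of_finiteLength h p hp
  rw [Set.mem_singleton_iff]
  apply PrimeSpectrum.ext
  exact IsLocalRing.eq_maximalIdeal hmax

include hreg hgen in
lemma hQ (K : Dual.D R) : Qp R K ↔ K0Der.PD (FL R) K := by
  constructor
  · rintro ⟨⟨E, a, b, hv, ht, ⟨i⟩⟩, hsupp⟩
    have hz : ∀ j : ℤ, j < a ∨ b < j →
        IsZero ((homologyFunctor (ModuleCat.{u} R) j).obj (Q.obj E)) := fun j hj =>
      (ShortComplex.isZero_homology_of_isZero_X₂ (E.sc j) (hv j hj)).of_iso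
        ((homologyFunctorFactors (ModuleCat.{u} R) j).app E)
    haveI : (Q.obj E).IsGE a := (isGE_iff _ _).2 (fun j hj => hz j (Or.inl hj))
    haveI : (Q.obj E).IsLE b := (isLE_iff _ _).2 (fun j hj => hz j (Or.inr hj))
    refine ⟨fun j => ?_, a, b, TStructure.t.isGE_of_iso i a, TStructure.t.isLE_of_iso i b⟩
    have e : (homologyFunctor (ModuleCat.{u} R) j).obj K ≅ E.homology j :=
      (homologyFunctor (ModuleCat.{u} R) j).mapIso i.symm ≪≫
        (homologyFunctorFactors (ModuleCat.{u} R) j).app E
    haveI : Module.Finite R (E.homology j) := finite_homology R E j (ht j).1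
    haveI : Module.Finite R ((homologyFunctor (ModuleCat.{u} R) j).obj K) :=
      Module.Finite.equiv e.symm.toLinearEquiv
    exact fl_of_support R _ (hsupp j)
  · rintro ⟨hP, a, b, ha, hb⟩
    refine ⟨?_, fun j => support_of_fl R _ (hP j)⟩
    have hgenS := Devissage.gen (FL R) (Perf R)
      (fun M hM => perf_of_finiteLength R fs hreg hgen M hM)
    exact hgenS K ⟨hP, ⟨a, ha⟩, ⟨b, hb⟩⟩

include hreg hgen in
theorem main : AddSubgroup.closure
    {KZero.clTr (Qp R) (DRing.toD (Koszul.koszul R fs))} = ⊤ := by
  set H := AddSubgroup.closure {KZero.clTr (Qp R) (DRing.toD (Koszul.koszul R fs))} with hH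
  have hd : K0Der.IsAddFunTr (FL R) (KZero.clTr (Qp R)) :=
    K0Der.clTr_isAddFunTr (Qp R) (hQ R fs hreg hgen)
  have hc := hd.isAddFun
  -- the class of the residue field is the class of the Koszul complex
  obtain ⟨eK⟩ := koszul_iso_residue R fs hreg hgen
  have hk_fl : FL R (ModuleCat.of R (R ⧸ IsLocalRing.maximalIdeal R)) := by
    show IsFiniteLength R (R ⧸ IsLocalRing.maximalIdeal R)
    haveI : IsSimpleModule R (R ⧸ IsLocalRing.maximalIdeal R) := by
      rw [isSimpleModule_iff_quot_maximal]
      exact ⟨_, IsLocalRing.maximalIdeal.isMaximal R, ⟨LinearEquiv.refl _ _⟩⟩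
    rw [isFiniteLength_iff_isNoetherian_isArtinian]
    exact ⟨inferInstance, inferInstance⟩
  have hk : KZero.clTr (Qp R) (Dual.inD R (R ⧸ IsLocalRing.maximalIdeal R)) ∈ H := by
    rw [← hd.iso eK (K0Der.PD_of_iso eK.symm (K0Der.PD_single 0 hk_fl))]
    exact AddSubgroup.subset_closure rfl
  -- classes of finite length modules
  have hfl : ∀ (M : Type u) [AddCommGroup M] [Module R M], IsFiniteLength R M →
      KZero.clTr (Qp R) (Dual.inD R M) ∈ H := by
    intro M _ _ h
    induction h with
    | @of_subsingleton M _ _ _ =>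
      have hz : IsZero (ModuleCat.of R M) := ModuleCat.isZero_of_subsingleton _
      rw [hd.zero ((singleFunctor (ModuleCat.{u} R) 0).map_isZero hz)]
      exact H.zero_mem
    | @of_simple_quotient M _ _ N hsimple hN ih =>
      let S : ShortComplex (ModuleCat.{u} R) :=
        ShortComplex.mk (ModuleCat.ofHom N.subtype) (ModuleCat.ofHom N.mkQ) (by
          ext x
          simp)
      have hS : S.ShortExact := by
        refine ModuleCat.shortComplex_shortExact S ?_ N.injective_subtype N.mkQ_surjective
        show Function.Exact N.subtype N.mkQ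
        rw [LinearMap.exact_iff, Submodule.ker_mkQ, Submodule.range_subtype]
      obtain ⟨I, hI, ⟨e⟩⟩ := isSimpleModule_iff_quot_maximal.mp hsimple
      have hIm : I = IsLocalRing.maximalIdeal R := IsLocalRing.eq_maximalIdeal hI
      subst hIm
      have h3 : FL R (ModuleCat.of R (M ⧸ N)) :=
        (FL R).prop_of_iso e.symm.toModuleIso hk_fl
      have h1 : FL R (ModuleCat.of R N) := hN
      have h2 : FL R (ModuleCat.of R M) := by
        show IsFiniteLength R M
        exact IsFiniteLength.of_simple_quotient hN
      have hadd := hc S hS h1 h2 h3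
      have hiso : KZero.clTr (Qp R) (Dual.inD R (M ⧸ N)) =
          KZero.clTr (Qp R) (Dual.inD R (R ⧸ IsLocalRing.maximalIdeal R)) :=
        hd.iso ((singleFunctor (ModuleCat.{u} R) 0).mapIso e.toModuleIso) (K0Der.PD_single 0 h3)
      have hadd' : KZero.clTr (Qp R) ((singleFunctor (ModuleCat.{u} R) 0).obj S.X₂) =
          KZero.clTr (Qp R) ((singleFunctor (ModuleCat.{u} R) 0).obj S.X₁) +
          KZero.clTr (Qp R) ((singleFunctor (ModuleCat.{u} R) 0).obj S.X₃) := hadd
      show KZero.clTr (Qp R) ((singleFunctor (ModuleCat.{u} R) 0).obj S.X₂) ∈ H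
      rw [hadd']
      exact H.add_mem ih (hiso ▸ hk)
  -- all classes
  have hall : ∀ K : Dual.D R, Qp R K → KZero.clTr (Qp R) K ∈ H := by
    intro K hK
    have hPD := (hQ R fs hreg hgen K).1 hK
    rw [hd.eq_chi hPD]
    unfold K0Der.chi
    refine finsum_induction _ H.zero_mem (fun x y hx hy => H.add_mem hx hy) (fun i => ?_)
    exact H.zsmul_mem (hfl _ (hPD.1 i)) _
  rw [eq_top_iff]
  suffices hx : ∀ x : KZero.K0tr (Qp R), x ∈ H from fun x _ => hx x
  intro x
  induction x using QuotientAddGroup.induction_on with
  | H z =>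
    induction z using FreeAbelianGroup.induction_on with
    | zero => exact H.zero_mem
    | of K =>
      have := hall K.1 K.2
      rwa [K0Der.clTr_eq K.2] at this
    | neg K ih => exact H.neg_mem ih
    | add a b ha hb => exact H.add_mem ha hb

end Main

end Groth.Agent.Lib.Helper32.K0Koszul
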