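import Mathlib
import Groth.Prelude.Def_KZero
import Groth.Prelude.Def_DRing2
import Groth.Agent.Lib.Helper32.K0Koszul

/-!
# `K₀(R) ≅ K₀(D_perf(R))` (S7142)
-/

set_option autoImplicit false
set_option linter.unusedSectionVars false
universe v u
open CategoryTheory CategoryTheory.Limits CategoryTheory.Pretriangulated DerivedCategory
open scoped ZeroObject
open Groth.Agent.Lib.Helper12 Groth.Agent.Lib.Helper32

namespace Groth.Agent.Lib.Helper32.K0Perf


/-! ### generalities on `K0tr` -/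
section Tr
variable {D : Type u} [Category.{v} D] [Preadditive D] [HasZeroObject D] [HasShift D ℤ]
  [∀ n : ℤ, (shiftFunctor D n).Additive] [Pretriangulated D] (Q : ObjectProperty D)

lemma clTr_eq {K : D} (hK : Q K) :
    KZero.clTr Q K = QuotientAddGroup.mk (FreeAbelianGroup.of ⟨K, hK⟩) := dif_pos hK

lemma clTr_triangle (T : Triangle D) (hT : T ∈ distTriang D) (h₁ : Q T.obj₁) (h₂ : Q T.obj₂)
    (h₃ : Q T.obj₃) : KZero.clTr Q T.obj₂ = KZero.clTr Q T.obj₁ + KZero.clTr Q T.obj₃ := by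
  have mem : FreeAbelianGroup.of (⟨T.obj₂, h₂⟩ : Subtype Q) - FreeAbelianGroup.of ⟨T.obj₁, h₁⟩ -
      FreeAbelianGroup.of ⟨T.obj₃, h₃⟩ ∈ KZero.relTr Q :=
    AddSubgroup.subset_closure ⟨T, h₁, h₂, h₃, hT, rfl⟩
  have := (QuotientAddGroup.eq_zero_iff _).2 mem
  rw [QuotientAddGroup.mk_sub, QuotientAddGroup.mk_sub, sub_sub, sub_eq_zero] at this
  rw [clTr_eq Q h₁, clTr_eq Q h₂, clTr_eq Q h₃]
  exact this

variable [Q.IsClosedUnderIsomorphisms] [Q.IsTriangulated]

lemma clTr_zero_obj : KZero.clTr Q (0 : D) = 0 := by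
  have h0 : Q (0 : D) := Q.prop_zero
  have := clTr_triangle Q _ (contractible_distinguished (0 : D)) h0 h0 h0
  simpa using this

lemma clTr_iso {X Y : D} (e : X ≅ Y) (hX : Q X) : KZero.clTr Q X = KZero.clTr Q Y := by
  have hT : Triangle.mk e.hom (0 : Y ⟶ 0) 0 ∈ distTriang D := by
    refine isomorphic_distinguished _ (contractible_distinguished X) _ ?_
    refine Triangle.isoMk _ _ (Iso.refl _) e.symm (Iso.refl _) ?_ ?_ ?_
    · show e.hom ≫ e.inv = 𝟙 X ≫ 𝟙 X
      simp
    · exact (isZero_zero D).eq_of_tgt _ _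
    · show (0 : (0:D) ⟶ X⟦(1:ℤ)⟧) ≫ _ = _
      rw [zero_comp]
      exact (comp_zero).symm
  have := clTr_triangle Q _ hT hX (Q.prop_of_iso e hX) Q.prop_zero
  simp only [Triangle.mk_obj₁, Triangle.mk_obj₂, Triangle.mk_obj₃, clTr_zero_obj, add_zero] at this
  exact this.symm

lemma clTr_isZero {X : D} (hX : IsZero X) : KZero.clTr Q X = 0 := by
  rw [clTr_iso Q hX.isoZero (Q.prop_of_isZero hX), clTr_zero_obj]

lemma clTr_shift_one {X : D} (hX : Q X) : KZero.clTr Q (X⟦(1 : ℤ)⟧) = - KZero.clTr Q X := by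
  have hT := rot_of_distTriang _ (contractible_distinguished X)
  have := clTr_triangle Q _ hT hX Q.prop_zero (Q.le_shift 1 _ hX)
  have h2 : KZero.clTr Q (0 : D) = KZero.clTr Q X + KZero.clTr Q (X⟦(1 : ℤ)⟧) := this
  rw [clTr_zero_obj] at h2
  exact (neg_eq_of_add_eq_zero_right h2.symm).symm

lemma eps_mul_self (n : ℤ) : K0Der.eps n * K0Der.eps n = 1 := by
  simp [K0Der.eps, ← Units.val_mul]

lemma eps_neg (n : ℤ) : K0Der.eps (-n) = K0Der.eps n := by
  simp [K0Der.eps, Int.negOnePow_neg]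

lemma clTr_shift_nat (m : ℕ) : ∀ {X : D}, Q X →
    KZero.clTr Q (X⟦(m : ℤ)⟧) = K0Der.eps m • KZero.clTr Q X := by
  induction m with
  | zero =>
    intro X hX
    show KZero.clTr Q (X⟦(0 : ℤ)⟧) = K0Der.eps 0 • KZero.clTr Q X
    rw [clTr_iso Q ((shiftFunctorZero D ℤ).app X) (Q.le_shift 0 _ hX)]
    simp [K0Der.eps]
  | succ m ih =>
    intro X hX
    have e : X⟦((m + 1 : ℕ) : ℤ)⟧ ≅ (X⟦(m : ℤ)⟧)⟦(1 : ℤ)⟧ :=
      (shiftFunctorAdd' D (m : ℤ) 1 ((m + 1 : ℕ) : ℤ) (by push_cast; rfl)).app X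
    rw [clTr_iso Q e (Q.le_shift _ _ hX), clTr_shift_one Q (Q.le_shift _ _ hX), ih hX]
    push_cast
    rw [K0Der.eps_succ, neg_smul]

lemma clTr_shift (n : ℤ) {X : D} (hX : Q X) :
    KZero.clTr Q (X⟦n⟧) = K0Der.eps n • KZero.clTr Q X := by
  obtain ⟨m, rfl | rfl⟩ := Int.eq_nat_or_neg n
  · exact clTr_shift_nat Q m hX
  · have e : (X⟦(-(m : ℤ))⟧)⟦(m : ℤ)⟧ ≅ X :=
      (shiftFunctorCompIsoId D (-(m : ℤ)) (m : ℤ) (by omega)).app X
    have h1 := clTr_shift_nat Q m (Q.le_shift (-(m : ℤ)) _ hX)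
    rw [clTr_iso Q e (Q.le_shift _ _ (Q.le_shift (-(m : ℤ)) _ hX))] at h1
    rw [eps_neg, h1, smul_smul, eps_mul_self, one_smul]

end Tr

section Ring
variable (R : Type u) [CommRing R]
attribute [local instance] HasDerivedCategory.standard

/-- finite projective modules -/
def FP : ObjectProperty (ModuleCat.{u} R) := fun M => Module.Finite R M ∧ Module.Projective R M

/-- class in `K₀` of finite projective modules -/
noncomputable def c (M : ModuleCat.{u} R) : KZero.K0sub (FP R) := KZero.clSub (FP R) M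

variable {R}

lemma c_add (S : ShortComplex (ModuleCat.{u} R)) (hS : S.ShortExact) (h₁ : FP R S.X₁)
    (h₂ : FP R S.X₂) (h₃ : FP R S.X₃) : c R S.X₂ = c R S.X₁ + c R S.X₃ := by
  have mem : FreeAbelianGroup.of (⟨S.X₂, h₂⟩ : Subtype (FP R)) - FreeAbelianGroup.of ⟨S.X₁, h₁⟩ -
      FreeAbelianGroup.of ⟨S.X₃, h₃⟩ ∈ KZero.relSub (FP R) :=
    AddSubgroup.subset_closure ⟨S, h₁, h₂, h₃, hS, rfl⟩
  have := (QuotientAddGroup.eq_zero_iff _).2 mem
  rw [QuotientAddGroup.mk_sub, QuotientAddGroup.mk_sub, sub_sub, sub_eq_zero] at this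
  simp only [c, KZero.clSub, dif_pos h₁, dif_pos h₂, dif_pos h₃]
  exact this

lemma fp_of_isZero {M : ModuleCat.{u} R} (h : IsZero M) : FP R M := by
  haveI : Subsingleton (M : Type u) := ModuleCat.subsingleton_of_isZero h
  exact ⟨inferInstance, inferInstance⟩

lemma fp_of_iso {M N : ModuleCat.{u} R} (e : M ≅ N) (h : FP R M) : FP R N := by
  obtain ⟨h1, h2⟩ := h
  exact ⟨Module.Finite.equiv e.toLinearEquiv, Module.Projective.of_equiv e.toLinearEquiv⟩

lemma c_isZero {Z : ModuleCat.{u} R} (hZ : IsZero Z) : c R Z = 0 := by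
  have hS : (ShortComplex.mk (0 : Z ⟶ Z) (0 : Z ⟶ Z) zero_comp).ShortExact :=
    { exact := ShortComplex.exact_of_isZero_X₂ _ hZ
      mono_f := ⟨fun _ _ _ => hZ.eq_of_tgt _ _⟩
      epi_g := ⟨fun _ _ _ => hZ.eq_of_src _ _⟩ }
  have := c_add _ hS (fp_of_isZero hZ) (fp_of_isZero hZ) (fp_of_isZero hZ)
  simpa using this

lemma c_iso {X Y : ModuleCat.{u} R} (e : X ≅ Y) (hX : FP R X) : c R X = c R Y := by
  have hS : (ShortComplex.mk e.hom (0 : Y ⟶ (0 : ModuleCat.{u} R)) comp_zero).ShortExact :=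
    { exact := (ShortComplex.exact_iff_epi _ (by simp)).2 (by dsimp; infer_instance)
      mono_f := by dsimp; infer_instance
      epi_g := ⟨fun _ _ _ => (isZero_zero _).eq_of_src _ _⟩ }
  have := c_add _ hS hX (fp_of_iso e hX) (fp_of_isZero (isZero_zero _))
  rw [c_isZero (isZero_zero _), add_zero] at this
  exact this.symm

lemma c_biprod {X Y : ModuleCat.{u} R} (hX : FP R X) (hY : FP R Y) :
    FP R (X ⊞ Y) ∧ c R (X ⊞ Y) = c R X + c R Y := by
  have h : FP R (X ⊞ Y) := (finiteProjective R).biprod hX hY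
  refine ⟨h, ?_⟩
  have hS : (ShortComplex.mk (biprod.inl : X ⟶ X ⊞ Y) biprod.snd (by simp)).ShortExact :=
    (ShortComplex.Splitting.ofHasBinaryBiproduct X Y).shortExact
  exact c_add _ hS hX h hY

/-- chain-level Euler characteristic -/
noncomputable def chiC (E : DRing.Cx R) : KZero.K0sub (FP R) :=
  ∑ᶠ i : ℤ, K0Der.eps i • c R (E.X i)

lemma finite_support_of_bdd (z : ℤ → KZero.K0sub (FP R)) (a b : ℤ)
    (hz : ∀ i, i < a ∨ b < i → z i = 0) :
    Function.HasFiniteSupport (fun i : ℤ => K0Der.eps i • z i) := by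
  apply (Set.finite_Icc a b).subset
  intro i hi
  by_contra h
  simp only [Set.mem_Icc, not_and_or, not_le] at h
  apply hi
  show _ • z i = 0
  rw [hz i h, smul_zero]

lemma chiC_eq_sum (E : DRing.Cx R) (a b : ℤ) (h : DRing.VanishesOutside E a b) :
    chiC E = (Finset.Icc a b).sum (fun i => K0Der.eps i • c R (E.X i)) := by
  unfold chiC
  apply finsum_eq_sum_of_support_subset
  intro i hi
  by_contra h'
  simp only [Finset.coe_Icc, Set.mem_Icc, not_and_or, not_le] at h'
  apply hi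
  show _ • c R (E.X i) = 0
  rw [c_isZero (h i h'), smul_zero]

/-! ### acyclic bounded complexes of finite projectives have Euler characteristic zero -/
section Acyclic
variable (E : DRing.Cx R)

/-- cycles -/
def Zc (i : ℤ) : Submodule R (E.X i) := LinearMap.ker (E.d i (i + 1)).hom

lemma d_mem_Zc (i : ℤ) (x : E.X i) : (E.d i (i + 1)).hom x ∈ Zc E (i + 1) := by
  show (E.d (i + 1) (i + 1 + 1)).hom ((E.d i (i + 1)).hom x) = 0
  have := E.d_comp_d i (i + 1) (i + 1 + 1)
  exact congrArg (fun f => f.hom x) this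

/-- the differential as a map to cycles -/
def toZc (i : ℤ) : E.X i →ₗ[R] Zc E (i + 1) :=
  (E.d i (i + 1)).hom.codRestrict (Zc E (i + 1)) (d_mem_Zc E i)

lemma toZc_surjective (hE : ∀ i : ℤ, E.ExactAt i) (i : ℤ) : Function.Surjective (toZc E i) := by
  rintro ⟨y, hy⟩
  have h1 := (HomologicalComplex.exactAt_iff' E i (i + 1) (i + 1 + 1) (by simp) (by simp)).1
    (hE (i + 1))
  rw [ShortComplex.moduleCat_exact_iff] at h1
  obtain ⟨x, hx⟩ := h1 y hy
  exact ⟨x, Subtype.ext hx⟩

/-- the short exact sequence `0 → Z^i → E^i → Z^{i+1} → 0` -/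
noncomputable def sesZ (i : ℤ) : ShortComplex (ModuleCat.{u} R) :=
  ShortComplex.mk (ModuleCat.ofHom (Zc E i).subtype) (ModuleCat.ofHom (toZc E i)) (by
    ext ⟨x, hx⟩
    exact hx)

lemma sesZ_shortExact (hE : ∀ i : ℤ, E.ExactAt i) (i : ℤ) : (sesZ E i).ShortExact := by
  refine ModuleCat.shortComplex_shortExact _ ?_ ?_ (toZc_surjective E hE i)
  · intro y
    constructor
    · intro hy
      have : (E.d i (i + 1)).hom y = 0 := congrArg Subtype.val hy
      exact ⟨⟨y, this⟩, rfl⟩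
    · rintro ⟨⟨x, hx⟩, rfl⟩
      exact Subtype.ext hx
  · exact (Zc E i).injective_subtype

lemma fp_Zc_step (hE : ∀ i : ℤ, E.ExactAt i) (i : ℤ) (hX : FP R (E.X i))
    (h : FP R (ModuleCat.of R (Zc E (i + 1)))) : FP R (ModuleCat.of R (Zc E i)) := by
  obtain ⟨hf, hp⟩ := h
  obtain ⟨hXf, hXp⟩ := hX
  haveI : Module.Projective R (Zc E (i + 1)) := hp
  obtain ⟨s, hs⟩ := Module.projective_lifting_property (toZc E i) LinearMap.id
    (toZc_surjective E hE i)
  let q : E.X i →ₗ[R] E.X i := LinearMap.id - s.comp (toZc E i)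
  have hq : ∀ x, q x ∈ Zc E i := by
    intro x
    show (E.d i (i + 1)).hom (x - s (toZc E i x)) = 0
    rw [map_sub, sub_eq_zero]
    have := congrArg (fun f => ((f (toZc E i x) : Zc E (i + 1)) : E.X (i + 1))) hs
    exact this.symm
  let p : E.X i →ₗ[R] Zc E i := q.codRestrict (Zc E i) hq
  have hp' : p.comp (Zc E i).subtype = LinearMap.id := by
    ext ⟨z, hz⟩
    show z - s (toZc E i z) = z
    have : toZc E i z = 0 := Subtype.ext hz
    rw [this, map_zero, sub_zero]
  have hsurj : Function.Surjective p := fun z => ⟨(Zc E i).subtype z, congrArg (fun f => f z) hp'⟩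
  exact ⟨Module.Finite.of_surjective p hsurj, Module.Projective.of_split _ p hp'⟩

lemma fp_Zc (hE : ∀ i : ℤ, E.ExactAt i) (b : ℤ) (hb : DRing.VanishesAbove E b)
    (hX : ∀ i, FP R (E.X i)) : ∀ (n : ℕ) (i : ℤ), b + 1 ≤ i + n → FP R (ModuleCat.of R (Zc E i)) := by
  intro n
  induction n with
  | zero =>
    intro i hi
    haveI : Subsingleton (E.X i) := ModuleCat.subsingleton_of_isZero (hb i (by omega))
    exact ⟨inferInstance, inferInstance⟩
  | succ n ih =>
    intro i hi
    exact fp_Zc_step E hE i (hX i) (ih (i + 1) (by push_cast at hi; omega))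

theorem chiC_acyclic (hE : ∀ i : ℤ, E.ExactAt i) (a b : ℤ) (hab : DRing.VanishesOutside E a b)
    (hX : ∀ i, FP R (E.X i)) : chiC E = 0 := by
  have hZ : ∀ i, FP R (ModuleCat.of R (Zc E i)) := fun i =>
    fp_Zc E hE b (fun j hj => hab j (Or.inr hj)) hX (b + 1 - i).toNat i (by omega)
  let z : ℤ → KZero.K0sub (FP R) := fun i => c R (ModuleCat.of R (Zc E i))
  have hz : ∀ i, i < a ∨ b < i → z i = 0 := by
    intro i hi
    haveI : Subsingleton (E.X i) := ModuleCat.subsingleton_of_isZero (hab i hi)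
    exact c_isZero (ModuleCat.isZero_of_subsingleton _)
  have key : ∀ i, c R (E.X i) = z i + z (i + 1) := fun i =>
    c_add _ (sesZ_shortExact E hE i) (hZ i) (hX i) (hZ (i + 1))
  have f1 := finite_support_of_bdd z a b hz
  have f2 : Function.HasFiniteSupport (fun i : ℤ => K0Der.eps i • z (i + 1)) := by
    have := finite_support_of_bdd (fun i => z (i + 1)) (a - 1) (b - 1) (by
      intro i hi
      exact hz (i + 1) (by omega))
    exact this
  unfold chiC
  simp_rw [key, smul_add]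
  rw [finsum_add_distrib f1 f2]
  have : (fun i : ℤ => K0Der.eps i • z (i + 1)) =
      fun i : ℤ => - (fun j : ℤ => K0Der.eps j • z j) ((Equiv.addRight (1 : ℤ)) i) := by
    funext i
    show _ = - (K0Der.eps (i + 1) • z (i + 1))
    rw [K0Der.eps_succ, neg_smul, neg_neg]
  rw [this, finsum_neg_distrib, finsum_comp_equiv (Equiv.addRight (1 : ℤ))
    (f := fun j : ℤ => K0Der.eps j • z j), add_neg_cancel]

end Acyclic

/-! ### Euler characteristic of a mapping cone -/
section Cone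

lemma chiC_finite_support (E : DRing.Cx R) (a b : ℤ) (h : DRing.VanishesOutside E a b) :
    Function.HasFiniteSupport (fun i : ℤ => K0Der.eps i • c R (E.X i)) :=
  finite_support_of_bdd (fun i => c R (E.X i)) a b (fun i hi => c_isZero (h i hi))

theorem chiC_cone {E₁ E₂ : DRing.Cx R} (f : E₁ ⟶ E₂) (a₁ b₁ a₂ b₂ : ℤ)
    (h₁ : DRing.VanishesOutside E₁ a₁ b₁) (h₂ : DRing.VanishesOutside E₂ a₂ b₂)
    (hX₁ : ∀ i, FP R (E₁.X i)) (hX₂ : ∀ i, FP R (E₂.X i)) :
    chiC (CochainComplex.mappingCone f) = chiC E₂ - chiC E₁ := by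
  have key : ∀ i : ℤ, c R ((CochainComplex.mappingCone f).X i) =
      c R (E₁.X (i + 1)) + c R (E₂.X i) := by
    intro i
    have e := HomologicalComplex.homotopyCofiber.XIsoBiprod f i (i + 1) rfl
    have hb := c_biprod (hX₁ (i + 1)) (hX₂ i)
    have h1 : c R ((CochainComplex.mappingCone f).X i) = c R (E₁.X (i + 1) ⊞ E₂.X i) :=
      (c_iso e.symm hb.1).symm
    rw [h1, hb.2]
  have f1 : Function.HasFiniteSupport (fun i : ℤ => K0Der.eps i • c R (E₁.X (i + 1))) :=
    finite_support_of_bdd (fun i => c R (E₁.X (i + 1))) (a₁ - 1) (b₁ - 1) (fun i hi =>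
      c_isZero (h₁ (i + 1) (by omega)))
  have f2 := chiC_finite_support E₂ a₂ b₂ h₂
  unfold chiC
  simp_rw [key, smul_add]
  rw [finsum_add_distrib f1 f2]
  have : (fun i : ℤ => K0Der.eps i • c R (E₁.X (i + 1))) =
      fun i : ℤ => - (fun j : ℤ => K0Der.eps j • c R (E₁.X j)) ((Equiv.addRight (1 : ℤ)) i) := by
    funext i
    show _ = - (K0Der.eps (i + 1) • c R (E₁.X (i + 1)))
    rw [K0Der.eps_succ, neg_smul, neg_neg]
  rw [this, finsum_neg_distrib, finsum_comp_equiv (Equiv.addRight (1 : ℤ))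
    (f := fun j : ℤ => K0Der.eps j • c R (E₁.X j))]
  abel

end Cone

/-! ### the Euler characteristic on perfect objects -/
section Perfect

lemma exactAt_of_isZero_Q (E : DRing.Cx R) (h : IsZero (DRing.toD E)) (i : ℤ) : E.ExactAt i := by
  rw [HomologicalComplex.exactAt_iff_isZero_homology]
  have h1 : IsZero ((homologyFunctor (ModuleCat.{u} R) i).obj (Q.obj E)) :=
    (homologyFunctor (ModuleCat.{u} R) i).map_isZero h
  exact h1.of_iso ((homologyFunctorFactors (ModuleCat.{u} R) i).app E).symm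

theorem chiC_eq_of_iso {E E' : DRing.Cx R} (a b a' b' : ℤ) (h : DRing.VanishesOutside E a b)
    (h' : DRing.VanishesOutside E' a' b') (hX : ∀ i, FP R (E.X i)) (hX' : ∀ i, FP R (E'.X i))
    (e : DRing.toD E ≅ DRing.toD E') : chiC E = chiC E' := by
  haveI : E.IsKProjective := isKProjective_of_vanishesAbove E b
    (vanishesAbove_of_vanishesOutside h) (fun i => (hX i).2)
  obtain ⟨f, hf⟩ := exists_map_of_isKProjective E E' e.hom
  have hT' := DerivedCategory.mappingCone_triangle_distinguished f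
  haveI : IsIso (Q.map f) := by rw [hf]; infer_instance
  have hz : IsZero (DRing.toD (CochainComplex.mappingCone f)) :=
    (Triangle.isZero₃_iff_isIso₁ _ hT').2 (by show IsIso (Q.map f); infer_instance)
  have h0 := chiC_acyclic (CochainComplex.mappingCone f) (exactAt_of_isZero_Q _ hz) _ _
    (vanishesOutside_cone f h h') (termwise_cone (finiteProjective R) f hX hX')
  rw [chiC_cone f a b a' b' h h' hX hX'] at h0
  exact (sub_eq_zero.1 h0).symm

open Classical in
/-- Euler characteristic of a perfect object -/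
noncomputable def chiD (K : Dual.D R) : KZero.K0sub (FP R) :=
  if h : DRing.IsPerfect R K then chiC h.choose else 0

lemma chiD_eq {K : Dual.D R} (E : DRing.Cx R) (a b : ℤ) (h : DRing.VanishesOutside E a b)
    (hX : ∀ i, FP R (E.X i)) (e : DRing.toD E ≅ K) : chiD K = chiC E := by
  have hK : DRing.IsPerfect R K := ⟨E, a, b, h, hX, ⟨e⟩⟩
  unfold chiD
  rw [dif_pos hK]
  obtain ⟨a', b', h', hX', ⟨e'⟩⟩ := hK.choose_spec
  exact chiC_eq_of_iso a' b' a b h' h hX' hX (e' ≪≫ e.symm)

theorem chiD_triangle (T : Triangle (Dual.D R)) (hT : T ∈ distTriang (Dual.D R))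
    (h₁ : DRing.IsPerfect R T.obj₁) (h₂ : DRing.IsPerfect R T.obj₂) :
    chiD T.obj₂ = chiD T.obj₁ + chiD T.obj₃ := by
  obtain ⟨E₁, a₁, b₁, v₁, hX₁, ⟨e₁⟩⟩ := h₁
  obtain ⟨E₂, a₂, b₂, v₂, hX₂, ⟨e₂⟩⟩ := h₂
  haveI : E₁.IsKProjective := isKProjective_of_vanishesAbove E₁ b₁
    (vanishesAbove_of_vanishesOutside v₁) (fun i => (hX₁ i).2)
  obtain ⟨f, hf⟩ := exists_map_of_isKProjective E₁ E₂ (e₁.hom ≫ T.mor₁ ≫ e₂.inv)
  obtain ⟨e₃⟩ := cone_iso T hT e₁.symm e₂.symm f (by rw [hf]; simp)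
  rw [chiD_eq E₁ a₁ b₁ v₁ hX₁ e₁, chiD_eq E₂ a₂ b₂ v₂ hX₂ e₂,
    chiD_eq (CochainComplex.mappingCone f) _ _ (vanishesOutside_cone f v₁ v₂)
      (termwise_cone (finiteProjective R) f hX₁ hX₂) e₃.symm,
    chiC_cone f a₁ b₁ a₂ b₂ v₁ v₂ hX₁ hX₂]
  abel

end Perfect

/-! ### peeling off the top term -/
section Top
variable (E : DRing.Cx R) (b : ℤ) (hb : DRing.VanishesAbove E b)

/-- top-term inclusion -/
noncomputable def topι :
    (HomologicalComplex.single (ModuleCat.{u} R) (ComplexShape.up ℤ) b).obj (E.X b) ⟶ E :=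
  HomologicalComplex.mkHomFromSingle (𝟙 (E.X b)) (by
    intro k hk
    exact (hb k (by have : b + 1 = k := hk; omega)).eq_of_tgt _ _)

instance : Mono (topι E b hb) := by
  apply HomologicalComplex.mono_of_mono_f
  intro i
  by_cases hi : i = b
  · subst hi
    rw [topι, HomologicalComplex.mkHomFromSingle_f]
    infer_instance
  · exact ⟨fun _ _ _ => (HomologicalComplex.isZero_single_obj_X _ _ _ i hi).eq_of_tgt _ _⟩

/-- the quotient by the top term -/
noncomputable def topQ : DRing.Cx R := cokernel (topι E b hb)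

/-- the short exact sequence `0 → E^b[-b] → E → E/E^b → 0` -/
noncomputable def topSES : ShortComplex (DRing.Cx R) :=
  ShortComplex.mk (topι E b hb) (cokernel.π (topι E b hb)) (cokernel.condition _)

lemma topSES_shortExact : (topSES E b hb).ShortExact :=
  { exact := ShortComplex.exact_cokernel _
    mono_f := by dsimp [topSES]; infer_instance
    epi_g := by dsimp [topSES]; infer_instance }

lemma topSES_eval (i : ℤ) :
    ((topSES E b hb).map (HomologicalComplex.eval _ _ i)).ShortExact :=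
  (topSES_shortExact E b hb).map_of_exact _

lemma topQ_isZero : IsZero ((topQ E b hb).X b) := by
  have h := topSES_eval E b hb b
  refine (h.isIso_f_iff).1 ?_
  show IsIso ((topι E b hb).f b)
  rw [topι, HomologicalComplex.mkHomFromSingle_f]
  infer_instance

lemma topQ_iso (i : ℤ) (hi : i ≠ b) : Nonempty (E.X i ≅ (topQ E b hb).X i) := by
  have h := topSES_eval E b hb i
  have h1 := (h.isIso_g_iff).2
    (HomologicalComplex.isZero_single_obj_X (ComplexShape.up ℤ) b (E.X b) i hi)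
  exact ⟨@asIso _ _ _ _ ((cokernel.π (topι E b hb)).f i) h1⟩

end Top

/-! ### generation by modules in degree `0` -/
section Gen

/-- class of a module placed in degree `0` -/
noncomputable def t (M : ModuleCat.{u} R) : KZero.K0tr (K0Koszul.Perf R) :=
  KZero.clTr (K0Koszul.Perf R) ((singleFunctor (ModuleCat.{u} R) 0).obj M)

lemma vanishes_single (n : ℤ) (M : ModuleCat.{u} R) : DRing.VanishesOutside
    ((HomologicalComplex.single (ModuleCat.{u} R) (ComplexShape.up ℤ) n).obj M) n n := by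
  intro i hi
  exact HomologicalComplex.isZero_single_obj_X _ _ _ i (by omega)

lemma fp_single (n : ℤ) {M : ModuleCat.{u} R} (hM : FP R M) (i : ℤ) :
    FP R (((HomologicalComplex.single (ModuleCat.{u} R) (ComplexShape.up ℤ) n).obj M).X i) := by
  by_cases hi : i = n
  · subst hi
    exact fp_of_iso (HomologicalComplex.singleObjXSelf _ _ _).symm hM
  · exact fp_of_isZero (HomologicalComplex.isZero_single_obj_X _ _ _ i hi)

lemma perf_single (n : ℤ) {M : ModuleCat.{u} R} (hM : FP R M) :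
    K0Koszul.Perf R ((singleFunctor (ModuleCat.{u} R) n).obj M) :=
  ⟨_, n, n, vanishes_single n M, fp_single n hM, ⟨Iso.refl _⟩⟩

lemma perf_toD (E : DRing.Cx R) (a b : ℤ) (h : DRing.VanishesOutside E a b)
    (hX : ∀ i, FP R (E.X i)) : K0Koszul.Perf R (DRing.toD E) := ⟨E, a, b, h, hX, ⟨Iso.refl _⟩⟩

lemma clTr_single (n : ℤ) {M : ModuleCat.{u} R} (hM : FP R M) :
    KZero.clTr (K0Koszul.Perf R) ((singleFunctor (ModuleCat.{u} R) n).obj M) = K0Der.eps n • t M := by
  have e : ((singleFunctor (ModuleCat.{u} R) 0).obj M)⟦-n⟧ ≅ (singleFunctor (ModuleCat.{u} R) n).obj M :=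
    ((DerivedCategory.singleFunctors (ModuleCat.{u} R)).shiftIso (-n) n 0 (by omega)).app M
  rw [← clTr_iso (K0Koszul.Perf R) e ((K0Koszul.Perf R).le_shift _ _ (perf_single 0 hM)),
    clTr_shift (K0Koszul.Perf R) (-n) (perf_single 0 hM), eps_neg]
  rfl

lemma t_iso {M N : ModuleCat.{u} R} (e : M ≅ N) (hM : FP R M) : t M = t N :=
  clTr_iso (K0Koszul.Perf R) ((singleFunctor (ModuleCat.{u} R) 0).mapIso e) (perf_single 0 hM)

lemma t_isZero {M : ModuleCat.{u} R} (h : IsZero M) : t M = 0 :=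
  clTr_isZero (K0Koszul.Perf R) ((singleFunctor (ModuleCat.{u} R) 0).map_isZero h)

/-- `Σ (-1)^i [E^i]` in `K₀` of perfect objects -/
noncomputable def chiT (E : DRing.Cx R) : KZero.K0tr (K0Koszul.Perf R) :=
  ∑ᶠ i : ℤ, K0Der.eps i • t (E.X i)

lemma chiT_finite_support (E : DRing.Cx R) (a b : ℤ) (h : DRing.VanishesOutside E a b) :
    Function.HasFiniteSupport (fun i : ℤ => K0Der.eps i • t (E.X i)) := by
  apply (Set.finite_Icc a b).subset
  intro i hi
  by_contra h'
  simp only [Set.mem_Icc, not_and_or, not_le] at h'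
  apply hi
  show _ • t (E.X i) = 0
  rw [t_isZero (h i h'), smul_zero]

lemma clTr_toD_zero (E : DRing.Cx R) (h : ∀ i, IsZero (E.X i)) :
    KZero.clTr (K0Koszul.Perf R) (DRing.toD E) = chiT E := by
  have hE : IsZero E := by
    rw [IsZero.iff_id_eq_zero]
    ext i : 1
    exact (h i).eq_of_src _ _
  rw [clTr_isZero (K0Koszul.Perf R) (Q.map_isZero hE)]
  unfold chiT
  symm
  convert finsum_zero with i
  rw [t_isZero (h i), smul_zero]

theorem clTr_toD_aux (n : ℕ) : ∀ (E : DRing.Cx R) (a b : ℤ), b - a < n →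
    DRing.VanishesOutside E a b → (∀ i, FP R (E.X i)) →
    KZero.clTr (K0Koszul.Perf R) (DRing.toD E) = chiT E := by
  induction n with
  | zero =>
    intro E a b hab h hX
    exact clTr_toD_zero E (fun i => h i (by push_cast at hab; omega))
  | succ n ih =>
    intro E a b hab h hX
    by_cases hlt : b < a
    · exact clTr_toD_zero E (fun i => h i (by omega))
    have hb : DRing.VanishesAbove E b := fun j hj => h j (Or.inr hj)
    have hB0 := topQ_isZero E b hb
    have hBi := topQ_iso E b hb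
    have vB : DRing.VanishesOutside (topQ E b hb) a (b - 1) := by
      intro i hi
      by_cases hib : i = b
      · subst hib; exact hB0
      · obtain ⟨e⟩ := hBi i hib
        exact (h i (by omega)).of_iso e.symm
    have hXB : ∀ i, FP R ((topQ E b hb).X i) := by
      intro i
      by_cases hib : i = b
      · subst hib; exact fp_of_isZero hB0
      · obtain ⟨e⟩ := hBi i hib
        exact fp_of_iso e (hX i)
    have ihB := ih (topQ E b hb) a (b - 1) (by push_cast at hab; omega) vB hXB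
    have hT := triangleOfSES_distinguished (topSES_shortExact E b hb)
    have h3 := clTr_triangle (K0Koszul.Perf R) _ hT (perf_single b (hX b)) (perf_toD E a b h hX)
      (perf_toD (topQ E b hb) a (b - 1) vB hXB)
    have h4 : KZero.clTr (K0Koszul.Perf R) (DRing.toD E) =
        KZero.clTr (K0Koszul.Perf R) ((singleFunctor (ModuleCat.{u} R) b).obj (E.X b)) +
          KZero.clTr (K0Koszul.Perf R) (DRing.toD (topQ E b hb)) := h3
    rw [h4, clTr_single b (hX b), ihB]
    unfold chiT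
    have hg : (fun i : ℤ => K0Der.eps i • t (E.X i)) =
        fun i => (if i = b then K0Der.eps b • t (E.X b) else 0) +
          K0Der.eps i • t ((topQ E b hb).X i) := by
      funext i
      by_cases hib : i = b
      · subst hib
        rw [if_pos rfl, t_isZero hB0, smul_zero, add_zero]
      · obtain ⟨e⟩ := hBi i hib
        rw [if_neg hib, zero_add, t_iso e (hX i)]
    rw [hg, finsum_add_distrib _ (chiT_finite_support _ a (b - 1) vB)]
    · congr 1
      rw [finsum_eq_single _ b (fun i hi => if_neg hi), if_pos rfl]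
    · apply (Set.finite_singleton b).subset
      intro i hi
      by_contra h'
      exact hi (if_neg h')

theorem clTr_toD (E : DRing.Cx R) (a b : ℤ) (h : DRing.VanishesOutside E a b)
    (hX : ∀ i, FP R (E.X i)) : KZero.clTr (K0Koszul.Perf R) (DRing.toD E) = chiT E :=
  clTr_toD_aux (b - a + 1).toNat E a b (by omega) h hX

end Gen

/-! ### the isomorphism -/
section Main

lemma t_add (S : ShortComplex (ModuleCat.{u} R)) (hS : S.ShortExact) (h₁ : FP R S.X₁)
    (h₂ : FP R S.X₂) (h₃ : FP R S.X₃) : t S.X₂ = t S.X₁ + t S.X₃ :=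
  clTr_triangle (K0Koszul.Perf R) _ hS.singleTriangle_distinguished (perf_single 0 h₁)
    (perf_single 0 h₂) (perf_single 0 h₃)

lemma chiC_single (M : ModuleCat.{u} R) (hM : FP R M) :
    chiC ((HomologicalComplex.single (ModuleCat.{u} R) (ComplexShape.up ℤ) 0).obj M) = c R M := by
  rw [chiC_eq_sum _ 0 0 (vanishes_single 0 M), Finset.Icc_self, Finset.sum_singleton]
  have : K0Der.eps 0 = 1 := by simp [K0Der.eps]
  rw [this, one_smul]
  exact c_iso (HomologicalComplex.singleObjXSelf _ _ _) (fp_single 0 hM 0)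

lemma chiD_single (M : ModuleCat.{u} R) (hM : FP R M) :
    chiD ((singleFunctor (ModuleCat.{u} R) 0).obj M) = c R M := by
  show chiD (DRing.toD ((HomologicalComplex.single (ModuleCat.{u} R) (ComplexShape.up ℤ) 0).obj M)) = _
  rw [chiD_eq _ 0 0 (vanishes_single 0 M) (fp_single 0 hM) (Iso.refl _), chiC_single M hM]

variable (R)

theorem main : ∃ φ : KZero.K0sub (FP R) ≃+ KZero.K0tr (K0Koszul.Perf R),
    (∀ M : ModuleCat.{u} R, FP R M → φ (c R M) = t M) ∧
    ∀ (E : DRing.Cx R) (a b : ℤ), DRing.VanishesOutside E a b → (∀ i, FP R (E.X i)) →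
      φ.symm (KZero.clTr (K0Koszul.Perf R) (DRing.toD E)) = chiC E := by
  let f₁ : FreeAbelianGroup (Subtype (FP R)) →+ KZero.K0tr (K0Koszul.Perf R) :=
    FreeAbelianGroup.lift (fun X => t X.1)
  have hle₁ : KZero.relSub (FP R) ≤ f₁.ker := by
    rw [KZero.relSub, AddSubgroup.closure_le]
    rintro x ⟨S, h₁, h₂, h₃, hS, rfl⟩
    rw [SetLike.mem_coe, AddMonoidHom.mem_ker, map_sub, map_sub, FreeAbelianGroup.lift_apply_of,
      FreeAbelianGroup.lift_apply_of, FreeAbelianGroup.lift_apply_of]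
    have := t_add S hS h₁ h₂ h₃
    dsimp only at this ⊢
    rw [this]
    abel
  let φ₁ : KZero.K0sub (FP R) →+ KZero.K0tr (K0Koszul.Perf R) := QuotientAddGroup.lift _ f₁ hle₁
  let f₂ : FreeAbelianGroup (Subtype (K0Koszul.Perf R)) →+ KZero.K0sub (FP R) :=
    FreeAbelianGroup.lift (fun K => chiD K.1)
  have hle₂ : KZero.relTr (K0Koszul.Perf R) ≤ f₂.ker := by
    rw [KZero.relTr, AddSubgroup.closure_le]
    rintro x ⟨T, h₁, h₂, h₃, hT, rfl⟩
    rw [SetLike.mem_coe, AddMonoidHom.mem_ker, map_sub, map_sub, FreeAbelianGroup.lift_apply_of,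
      FreeAbelianGroup.lift_apply_of, FreeAbelianGroup.lift_apply_of]
    have := chiD_triangle T hT h₁ h₂
    dsimp only at this ⊢
    rw [this]
    abel
  let φ₂ : KZero.K0tr (K0Koszul.Perf R) →+ KZero.K0sub (FP R) := QuotientAddGroup.lift _ f₂ hle₂
  have e₁ : ∀ M, FP R M → φ₁ (c R M) = t M := by
    intro M hM
    have : c R M = QuotientAddGroup.mk (FreeAbelianGroup.of ⟨M, hM⟩) := dif_pos hM
    rw [this]
    show f₁ _ = _
    rw [FreeAbelianGroup.lift_apply_of]
  have e₂ : ∀ K, K0Koszul.Perf R K → φ₂ (KZero.clTr (K0Koszul.Perf R) K) = chiD K := by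
    intro K hK
    rw [clTr_eq _ hK]
    show f₂ _ = _
    rw [FreeAbelianGroup.lift_apply_of]
  have h21 : φ₂.comp φ₁ = AddMonoidHom.id _ := by
    apply QuotientAddGroup.addMonoidHom_ext
    apply FreeAbelianGroup.lift_ext
    rintro ⟨M, hM⟩
    have h1 := e₁ M hM
    have : c R M = QuotientAddGroup.mk (FreeAbelianGroup.of ⟨M, hM⟩) := dif_pos hM
    rw [this] at h1
    show φ₂ (φ₁ (QuotientAddGroup.mk (FreeAbelianGroup.of ⟨M, hM⟩))) =
      QuotientAddGroup.mk (FreeAbelianGroup.of ⟨M, hM⟩)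
    rw [h1]
    show φ₂ (KZero.clTr (K0Koszul.Perf R) _) = _
    rw [e₂ _ (perf_single 0 hM), chiD_single M hM, this]
  have h12 : φ₁.comp φ₂ = AddMonoidHom.id _ := by
    apply QuotientAddGroup.addMonoidHom_ext
    apply FreeAbelianGroup.lift_ext
    rintro ⟨K, hK⟩
    have h2 := e₂ K hK
    rw [clTr_eq _ hK] at h2
    show φ₁ (φ₂ (QuotientAddGroup.mk (FreeAbelianGroup.of ⟨K, hK⟩))) =
      QuotientAddGroup.mk (FreeAbelianGroup.of ⟨K, hK⟩)
    rw [h2, ← clTr_eq _ hK]
    obtain ⟨E, a, b, v, hX, ⟨e⟩⟩ := hK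
    rw [chiD_eq E a b v hX e, ← clTr_iso (K0Koszul.Perf R) e (perf_toD E a b v hX),
      clTr_toD E a b v hX]
    unfold chiC chiT
    rw [AddMonoidHom.map_finsum φ₁ (chiC_finite_support E a b v)]
    apply finsum_congr
    intro i
    rw [map_zsmul, e₁ _ (hX i)]
  refine ⟨AddMonoidHom.toAddEquiv φ₁ φ₂ h21 h12, e₁, ?_⟩
  intro E a b v hX
  show φ₂ _ = _
  rw [e₂ _ (perf_toD E a b v hX), chiD_eq E a b v hX (Iso.refl _)]

theorem final : ∃ φ : KZero.K0sub (fun M : ModuleCat.{u} R => Module.Finite R M ∧ Module.Projective R M) ≃+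
        KZero.K0tr (fun K : Dual.D R => DRing.IsPerfect R K),
      (∀ (M : Type u) [AddCommGroup M] [Module R M], Module.Finite R M → Module.Projective R M →
        φ (KZero.clSub (fun M : ModuleCat.{u} R => Module.Finite R M ∧ Module.Projective R M) (ModuleCat.of R M)) =
          KZero.clTr (fun K : Dual.D R => DRing.IsPerfect R K) (Dual.inD R M)) ∧
      ∀ (E : DRing.Cx R) (a b : ℤ), DRing.VanishesOutside E a b → DRing.TermwiseFiniteProjective E →
        φ.symm (KZero.clTr (fun K : Dual.D R => DRing.IsPerfect R K) (DRing.toD E)) =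
          (Finset.Icc a b).sum (fun i => (i.negOnePow : ℤ) •
            KZero.clSub (fun M : ModuleCat.{u} R => Module.Finite R M ∧ Module.Projective R M) (E.X i)) := by
  obtain ⟨φ, h1, h2⟩ := main R
  refine ⟨φ, ?_, ?_⟩
  · intro M _ _ hf hp
    exact h1 (ModuleCat.of R M) ⟨hf, hp⟩
  · intro E a b v hX
    have h3 := h2 E a b v hX
    rw [chiC_eq_sum E a b v] at h3
    exact h3

end Main

end Ring

end Groth.Agent.Lib.Helper32.K0Perf
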