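import Mathlib
import Groth.Prelude.Def_KZero

/-!
# `K₀` of a Serre quotient (S0993)
-/

set_option autoImplicit false
set_option linter.unusedSectionVars false
set_option linter.unusedSimpArgs false
universe v' u' v u
open CategoryTheory CategoryTheory.Limits
open scoped ZeroObject

namespace Groth.Agent.Lib.Helper32.K0Serre

open KZero

section Basic
variable {A : Type u} [Category.{v} A] [Abelian A]

lemma cl_ses (S : ShortComplex A) (hS : S.ShortExact) : cl S.X₂ = cl S.X₁ + cl S.X₃ := by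
  have mem : FreeAbelianGroup.of S.X₂ - FreeAbelianGroup.of S.X₁ -
      FreeAbelianGroup.of S.X₃ ∈ relAb A :=
    AddSubgroup.subset_closure ⟨S, hS, rfl⟩
  have := (QuotientAddGroup.eq_zero_iff _).2 mem
  rw [QuotientAddGroup.mk_sub, QuotientAddGroup.mk_sub, sub_sub, sub_eq_zero] at this
  exact this

lemma cl_isZero {Z : A} (hZ : IsZero Z) : cl Z = 0 := by
  have hS : (ShortComplex.mk (0 : Z ⟶ Z) (0 : Z ⟶ Z) zero_comp).ShortExact :=
    { exact := ShortComplex.exact_of_isZero_X₂ _ hZ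
      mono_f := ⟨fun _ _ _ => hZ.eq_of_tgt _ _⟩
      epi_g := ⟨fun _ _ _ => hZ.eq_of_src _ _⟩ }
  have := cl_ses _ hS
  simpa using this

lemma cl_iso {X Y : A} (e : X ≅ Y) : cl X = cl Y := by
  have hS : (ShortComplex.mk e.hom (0 : Y ⟶ (0 : A)) comp_zero).ShortExact :=
    { exact := (ShortComplex.exact_iff_epi _ (by simp)).2 (by dsimp; infer_instance)
      mono_f := by dsimp; infer_instance
      epi_g := ⟨fun _ _ _ => (isZero_zero A).eq_of_src _ _⟩ }
  have := cl_ses _ hS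
  rw [cl_isZero (isZero_zero A), add_zero] at this
  exact this.symm

/-- `[X] - [Y] = [ker u] - [coker u]` -/
lemma cl_mor {X Y : A} (u : X ⟶ Y) : cl X - cl Y = cl (kernel u) - cl (cokernel u) := by
  have h0 : kernel.ι u ≫ Abelian.factorThruImage u = 0 := by
    rw [← cancel_mono (Abelian.image.ι u), Category.assoc, Abelian.image.fac, kernel.condition,
      zero_comp]
  have hS1 : (ShortComplex.mk (kernel.ι u) (Abelian.factorThruImage u) h0).ShortExact :=
    { exact := ShortComplex.exact_of_f_is_kernel _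
        (isKernelOfComp (Abelian.image.ι u) u (kernelIsKernel u) h0 (Abelian.image.fac u))
      mono_f := by dsimp; infer_instance
      epi_g := by dsimp; infer_instance }
  have hS2 : (ShortComplex.mk (Abelian.image.ι u) (cokernel.π u) (kernel.condition _)).ShortExact :=
    { exact := ShortComplex.exact_of_f_is_kernel _ (kernelIsKernel _)
      mono_f := by dsimp; infer_instance
      epi_g := by dsimp; infer_instance }
  have e1 := cl_ses _ hS1
  have e2 := cl_ses _ hS2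
  dsimp only at e1 e2
  rw [e1, e2]
  abel

lemma cl_biprod (X Y : A) : cl (X ⊞ Y) = cl X + cl Y :=
  cl_ses _ (ShortComplex.Splitting.ofHasBinaryBiproduct X Y).shortExact

end Basic

section Loc
variable {A : Type u} [Category.{v} A] [Abelian A] (P : ObjectProperty A) [P.IsSerreClass]
  {Q : Type u'} [Category.{v'} Q] [Abelian Q]
  (L : A ⥤ Q) [L.IsLocalization P.isoModSerre] [L.Additive] [PreservesFiniteLimits L]
  [PreservesFiniteColimits L]

lemma clSub_eq {X : A} (hX : P X) :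
    clSub P X = QuotientAddGroup.mk (FreeAbelianGroup.of ⟨X, hX⟩) := dif_pos hX

/-- `ι : K₀(P) → K₀(A)` -/
noncomputable def iota : K0sub P →+ K0 A :=
  QuotientAddGroup.lift _ (FreeAbelianGroup.lift (fun X : Subtype P => cl X.1)) (by
    rw [relSub, AddSubgroup.closure_le]
    rintro x ⟨S, h₁, h₂, h₃, hS, rfl⟩
    rw [SetLike.mem_coe, AddMonoidHom.mem_ker, map_sub, map_sub, FreeAbelianGroup.lift_apply_of,
      FreeAbelianGroup.lift_apply_of, FreeAbelianGroup.lift_apply_of]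
    have := cl_ses S hS
    rw [this]
    abel)

lemma iota_clSub {X : A} (hX : P X) : iota P (clSub P X) = cl X := by
  rw [clSub_eq P hX]
  show FreeAbelianGroup.lift _ _ = _
  rw [FreeAbelianGroup.lift_apply_of]

/-- `λ : K₀(A) → K₀(Q)` -/
noncomputable def lam : K0 A →+ K0 Q :=
  QuotientAddGroup.lift _ (FreeAbelianGroup.lift (fun X : A => cl (L.obj X))) (by
    rw [relAb, AddSubgroup.closure_le]
    rintro x ⟨S, hS, rfl⟩
    rw [SetLike.mem_coe, AddMonoidHom.mem_ker, map_sub, map_sub, FreeAbelianGroup.lift_apply_of,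
      FreeAbelianGroup.lift_apply_of, FreeAbelianGroup.lift_apply_of]
    have : cl (L.obj S.X₂) = cl (L.obj S.X₁) + cl (L.obj S.X₃) := cl_ses _ (hS.map_of_exact L)
    rw [this]
    abel)

lemma lam_cl (X : A) : lam L (cl X) = cl (L.obj X) := by
  show FreeAbelianGroup.lift _ _ = _
  rw [FreeAbelianGroup.lift_apply_of]

include P in
lemma lam_surjective : Function.Surjective (lam L) := by
  haveI : L.EssSurj := Localization.essSurj L P.isoModSerre
  intro y
  obtain ⟨y, rfl⟩ := QuotientAddGroup.mk_surjective y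
  induction y using FreeAbelianGroup.induction_on with
  | zero => exact ⟨0, map_zero _⟩
  | of Y =>
    refine ⟨cl (L.objPreimage Y), ?_⟩
    rw [lam_cl]
    exact cl_iso (L.objObjPreimageIso Y)
  | neg Y ih =>
    obtain ⟨x, hx⟩ := ih
    exact ⟨-x, by rw [map_neg, hx]; rfl⟩
  | add y₁ y₂ h₁ h₂ =>
    obtain ⟨x₁, hx₁⟩ := h₁
    obtain ⟨x₂, hx₂⟩ := h₂
    exact ⟨x₁ + x₂, by rw [map_add, hx₁, hx₂]; rfl⟩

lemma cl_mem_range {X : A} (hX : P X) : cl X ∈ (iota P).range := ⟨clSub P X, iota_clSub P hX⟩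

lemma sub_mem_of_isoModSerre {X Y : A} (s : X ⟶ Y) (hs : P.isoModSerre s) :
    cl X - cl Y ∈ (iota P).range := by
  rw [cl_mor s]
  exact sub_mem (cl_mem_range P hs.1) (cl_mem_range P hs.2)

lemma sub_mem_of_iso {X X' : A} (e : L.obj X ≅ L.obj X') : cl X - cl X' ∈ (iota P).range := by
  obtain ⟨φ, hφ⟩ := Localization.exists_rightFraction L P.isoModSerre e.hom
  have h1 : L.map φ.f = L.map φ.s ≫ e.hom := by
    rw [hφ, MorphismProperty.RightFraction.map_s_comp_map]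
  haveI : IsIso (L.map φ.f) := by rw [h1]; infer_instance
  have hf : P.isoModSerre φ.f :=
    (ObjectProperty.SerreClassLocalization.isIso_map_iff L P φ.f).1 inferInstance
  have := sub_mem (sub_mem_of_isoModSerre P φ.f hf) (sub_mem_of_isoModSerre P φ.s φ.hs)
  convert this using 1
  abel

lemma range_le_ker : (iota P).range ≤ (lam L).ker := by
  rintro _ ⟨x, rfl⟩
  obtain ⟨x, rfl⟩ := QuotientAddGroup.mk_surjective x
  rw [AddMonoidHom.mem_ker]
  induction x using FreeAbelianGroup.induction_on with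
  | zero => simp
  | of X =>
    obtain ⟨X, hX⟩ := X
    rw [← clSub_eq P hX, iota_clSub P hX, lam_cl]
    exact cl_isZero ((ObjectProperty.SerreClassLocalization.isZero_obj_iff L P X).2 hX)
  | neg X ih =>
    rw [QuotientAddGroup.mk_neg, map_neg, map_neg, ih, neg_zero]
  | add y₁ y₂ h₁ h₂ =>
    rw [QuotientAddGroup.mk_add, map_add, map_add, h₁, h₂, add_zero]

include P in
lemma exists_lift_ses (S : ShortComplex Q) (hS : S.ShortExact) :
    ∃ S' : ShortComplex A, S'.ShortExact ∧ Nonempty (L.obj S'.X₁ ≅ S.X₁) ∧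
      Nonempty (L.obj S'.X₂ ≅ S.X₂) ∧ Nonempty (L.obj S'.X₃ ≅ S.X₃) := by
  haveI : L.EssSurj := Localization.essSurj L P.isoModSerre
  let e₂ := L.objObjPreimageIso S.X₂
  let e₃ := L.objObjPreimageIso S.X₃
  haveI := hS.epi_g
  haveI := hS.mono_f
  obtain ⟨φ, hφ⟩ := Localization.exists_rightFraction L P.isoModSerre (e₂.hom ≫ S.g ≫ e₃.inv)
  have h1 : L.map φ.f = L.map φ.s ≫ e₂.hom ≫ S.g ≫ e₃.inv := by
    rw [hφ, MorphismProperty.RightFraction.map_s_comp_map]
  have h0 : kernel.ι φ.f ≫ Abelian.factorThruImage φ.f = 0 := by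
    rw [← cancel_mono (Abelian.image.ι φ.f), Category.assoc, Abelian.image.fac, kernel.condition,
      zero_comp]
  let S' : ShortComplex A := ShortComplex.mk (kernel.ι φ.f) (Abelian.factorThruImage φ.f) h0
  have hS' : S'.ShortExact :=
    { exact := ShortComplex.exact_of_f_is_kernel _
        (isKernelOfComp (Abelian.image.ι φ.f) φ.f (kernelIsKernel φ.f) h0 (Abelian.image.fac φ.f))
      mono_f := by dsimp [S']; infer_instance
      epi_g := by dsimp [S']; infer_instance }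
  haveI : Epi (L.map φ.f) := by rw [h1]; infer_instance
  have hfac : L.map (Abelian.factorThruImage φ.f) ≫ L.map (Abelian.image.ι φ.f) = L.map φ.f := by
    rw [← L.map_comp, Abelian.image.fac]
  haveI : Epi (L.map (Abelian.image.ι φ.f)) := by
    haveI : Epi (L.map (Abelian.factorThruImage φ.f) ≫ L.map (Abelian.image.ι φ.f)) := by
      rw [hfac]; infer_instance
    exact epi_of_epi (L.map (Abelian.factorThruImage φ.f)) _
  haveI : Mono (L.map (Abelian.image.ι φ.f)) := inferInstance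
  haveI : IsIso (L.map (Abelian.image.ι φ.f)) := isIso_of_mono_of_epi _
  let a₂ : L.obj φ.X' ≅ S.X₂ := asIso (L.map φ.s) ≪≫ e₂
  let a₃ : L.obj (Abelian.image φ.f) ≅ S.X₃ := asIso (L.map (Abelian.image.ι φ.f)) ≪≫ e₃
  have hT := hS'.map_of_exact L
  have comm : (S'.map L).g ≫ a₃.hom = a₂.hom ≫ S.g := by
    show L.map (Abelian.factorThruImage φ.f) ≫ L.map (Abelian.image.ι φ.f) ≫ e₃.hom =
      (L.map φ.s ≫ e₂.hom) ≫ S.g
    rw [← Category.assoc, hfac, h1]
    simp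
  haveI := hT.mono_f
  let k₁ : (S'.map L).X₁ ≅ kernel (S'.map L).g :=
    IsLimit.conePointUniqueUpToIso hT.exact.fIsKernel (limit.isLimit _)
  let k₂ : S.X₁ ≅ kernel S.g :=
    IsLimit.conePointUniqueUpToIso hS.exact.fIsKernel (limit.isLimit _)
  exact ⟨S', hS', ⟨k₁ ≪≫ kernel.mapIso _ _ a₂ a₃ comm ≪≫ k₂.symm⟩, ⟨a₂⟩, ⟨a₃⟩⟩

/-- the inverse map on `K₀(Q)` with values in `K₀(A)/im ι` -/
noncomputable def psi0 : FreeAbelianGroup Q →+ K0 A ⧸ (iota P).range :=
  haveI : L.EssSurj := Localization.essSurj L P.isoModSerre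
  FreeAbelianGroup.lift (fun Y => QuotientAddGroup.mk (cl (L.objPreimage Y)))

lemma psi0_of (Y : Q) (X : A) (e : L.obj X ≅ Y) :
    psi0 P L (FreeAbelianGroup.of Y) = QuotientAddGroup.mk (cl X) := by
  haveI : L.EssSurj := Localization.essSurj L P.isoModSerre
  unfold psi0
  rw [FreeAbelianGroup.lift_apply_of, QuotientAddGroup.eq_iff_sub_mem]
  exact sub_mem_of_iso P L (L.objObjPreimageIso Y ≪≫ e.symm)

lemma psi0_rel : relAb Q ≤ (psi0 P L).ker := by
  rw [relAb, AddSubgroup.closure_le]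
  rintro x ⟨S, hS, rfl⟩
  obtain ⟨S', hS', ⟨e₁⟩, ⟨e₂⟩, ⟨e₃⟩⟩ := exists_lift_ses P L S hS
  rw [SetLike.mem_coe, AddMonoidHom.mem_ker, map_sub, map_sub, psi0_of P L _ _ e₁,
    psi0_of P L _ _ e₂, psi0_of P L _ _ e₃, cl_ses S' hS', QuotientAddGroup.mk_add]
  abel

/-- `ψ : K₀(Q) → K₀(A)/im ι` -/
noncomputable def psi : K0 Q →+ K0 A ⧸ (iota P).range :=
  QuotientAddGroup.lift _ (psi0 P L) (psi0_rel P L)

lemma psi_lam (x : K0 A) : psi P L (lam L x) = QuotientAddGroup.mk x := by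
  obtain ⟨x, rfl⟩ := QuotientAddGroup.mk_surjective x
  induction x using FreeAbelianGroup.induction_on with
  | zero => simp
  | of X =>
    show psi P L (lam L (cl X)) = _
    rw [lam_cl]
    show psi0 P L (FreeAbelianGroup.of (L.obj X)) = _
    rw [psi0_of P L _ X (Iso.refl _)]
    rfl
  | neg X ih =>
    rw [QuotientAddGroup.mk_neg, map_neg, map_neg, ih, QuotientAddGroup.mk_neg]
  | add y₁ y₂ h₁ h₂ =>
    rw [QuotientAddGroup.mk_add, map_add, map_add, h₁, h₂, QuotientAddGroup.mk_add]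

theorem ker_lam : (lam L).ker = (iota P).range := by
  apply le_antisymm
  · intro x hx
    have := psi_lam P L x
    rw [AddMonoidHom.mem_ker.1 hx, map_zero] at this
    exact (QuotientAddGroup.eq_zero_iff x).1 this.symm
  · exact range_le_ker P L

end Loc

/-! ### homology computations -/
section Hom
variable {A : Type u} [Category.{v} A] [Abelian A]

lemma cl_homology (S : ShortComplex A) :
    cl S.homology = cl (kernel S.f) - cl S.X₁ + cl S.X₂ - cl S.X₃ + cl (cokernel S.g) := by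
  have e1 := cl_mor S.toCycles
  have e2 := cl_mor S.g
  have i1 : kernel S.toCycles ≅ kernel S.f :=
    (kernelCompMono S.toCycles S.iCycles).symm ≪≫ kernelIsoOfEq S.toCycles_i
  have i2 : cokernel S.toCycles ≅ S.homology :=
    IsColimit.coconePointUniqueUpToIso (colimit.isColimit _) S.homologyIsCokernel
  have i3 : S.cycles ≅ kernel S.g := S.cyclesIsoKernel
  rw [cl_iso i1, cl_iso i2] at e1
  rw [← cl_iso i3] at e2
  have : cl S.homology = cl (kernel S.f) - cl S.X₁ + cl S.cycles := by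
    rw [← sub_eq_zero]
    have := sub_eq_zero.2 e1
    rw [← this]
    abel
  rw [this]
  have : cl S.cycles = cl S.X₂ - cl S.X₃ + cl (cokernel S.g) := by
    rw [e2]; abel
  rw [this]
  abel

lemma cl_homology_periodic {M : A} (φ ψ : M ⟶ M) (h₁ : φ ≫ ψ = 0) (h₂ : ψ ≫ φ = 0) :
    cl (ShortComplex.mk φ ψ h₁).homology = cl (ShortComplex.mk ψ φ h₂).homology := by
  rw [cl_homology, cl_homology]
  have e1 := cl_mor φ
  have e2 := cl_mor ψ
  rw [sub_self] at e1 e2
  have a1 : cl (kernel φ) = cl (cokernel φ) := (sub_eq_zero.1 e1.symm)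
  have a2 : cl (kernel ψ) = cl (cokernel ψ) := (sub_eq_zero.1 e2.symm)
  dsimp only
  rw [a1, a2]
  abel

end Hom

/-! ### direct sums of short complexes -/
section Sum
variable {A : Type u} [Category.{v} A] [Abelian A]

/-- the direct sum of two short complexes -/
noncomputable def sumSC (T₁ T₂ : ShortComplex A) : ShortComplex A :=
  ShortComplex.mk (biprod.map T₁.f T₂.f) (biprod.map T₁.g T₂.g) (by
    apply biprod.hom_ext' <;> simp)

variable (T₁ T₂ : ShortComplex A)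

noncomputable def sumInl : T₁ ⟶ sumSC T₁ T₂ :=
  ShortComplex.homMk biprod.inl biprod.inl biprod.inl (by simp [sumSC]) (by simp [sumSC])

noncomputable def sumInr : T₂ ⟶ sumSC T₁ T₂ :=
  ShortComplex.homMk biprod.inr biprod.inr biprod.inr (by simp [sumSC]) (by simp [sumSC])

noncomputable def sumFst : sumSC T₁ T₂ ⟶ T₁ :=
  ShortComplex.homMk biprod.fst biprod.fst biprod.fst (by simp [sumSC]) (by simp [sumSC])

noncomputable def sumSnd : sumSC T₁ T₂ ⟶ T₂ :=
  ShortComplex.homMk biprod.snd biprod.snd biprod.snd (by simp [sumSC]) (by simp [sumSC])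

lemma sumInl_fst : sumInl T₁ T₂ ≫ sumFst T₁ T₂ = 𝟙 T₁ := by
  ext
  all_goals
    simp only [sumInl, sumFst, ShortComplex.comp_τ₁, ShortComplex.comp_τ₂, ShortComplex.comp_τ₃,
      ShortComplex.homMk_τ₁, ShortComplex.homMk_τ₂, ShortComplex.homMk_τ₃, ShortComplex.id_τ₁,
      ShortComplex.id_τ₂, ShortComplex.id_τ₃]
    exact biprod.inl_fst

lemma sum_total : sumFst T₁ T₂ ≫ sumInl T₁ T₂ + sumSnd T₁ T₂ ≫ sumInr T₁ T₂ = 𝟙 (sumSC T₁ T₂) := by
  ext
  all_goals
    simp only [sumInl, sumFst, sumInr, sumSnd, ShortComplex.comp_τ₁, ShortComplex.comp_τ₂,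
      ShortComplex.comp_τ₃, ShortComplex.add_τ₁, ShortComplex.add_τ₂, ShortComplex.add_τ₃,
      ShortComplex.homMk_τ₁, ShortComplex.homMk_τ₂, ShortComplex.homMk_τ₃, ShortComplex.id_τ₁,
      ShortComplex.id_τ₂, ShortComplex.id_τ₃]
    exact biprod.total

lemma homology_total : ShortComplex.homologyMap (sumFst T₁ T₂) ≫ ShortComplex.homologyMap (sumInl T₁ T₂) +
    ShortComplex.homologyMap (sumSnd T₁ T₂) ≫ ShortComplex.homologyMap (sumInr T₁ T₂) = 𝟙 _ := by
  rw [← ShortComplex.homologyMap_comp, ← ShortComplex.homologyMap_comp,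
    ← ShortComplex.homologyMap_add, sum_total, ShortComplex.homologyMap_id]

lemma sumSC_exact (h₁ : T₁.Exact) (h₂ : T₂.Exact) : (sumSC T₁ T₂).Exact := by
  rw [ShortComplex.exact_iff_isZero_homology] at h₁ h₂ ⊢
  rw [IsZero.iff_id_eq_zero, ← homology_total T₁ T₂,
    h₁.eq_of_tgt (ShortComplex.homologyMap (sumFst T₁ T₂)) 0,
    h₂.eq_of_tgt (ShortComplex.homologyMap (sumSnd T₁ T₂)) 0, zero_comp, zero_comp, add_zero]

lemma sumSC_homology_iso (h₂ : T₂.Exact) : Nonempty ((sumSC T₁ T₂).homology ≅ T₁.homology) := by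
  rw [ShortComplex.exact_iff_isZero_homology] at h₂
  refine ⟨⟨ShortComplex.homologyMap (sumFst T₁ T₂), ShortComplex.homologyMap (sumInl T₁ T₂), ?_, ?_⟩⟩
  · have := homology_total T₁ T₂
    rw [h₂.eq_of_tgt (ShortComplex.homologyMap (sumSnd T₁ T₂)) 0, zero_comp, add_zero] at this
    exact this
  · rw [← ShortComplex.homologyMap_comp, sumInl_fst, ShortComplex.homologyMap_id]

end Sum

/-! ### exact pairs -/
section Pair
variable {A : Type u} [Category.{v} A] [Abelian A]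

/-- a pair of maps `S ⇄ S'` forming an exact `ℤ/2`-graded complex -/
def ExPair (S S' : A) : Prop :=
  ∃ (α : S ⟶ S') (β : S' ⟶ S) (h₁ : α ≫ β = 0) (h₂ : β ≫ α = 0),
    (ShortComplex.mk α β h₁).Exact ∧ (ShortComplex.mk β α h₂).Exact

lemma ExPair.zero : ExPair (0 : A) 0 :=
  ⟨0, 0, zero_comp, zero_comp, ShortComplex.exact_of_isZero_X₂ _ (isZero_zero A),
    ShortComplex.exact_of_isZero_X₂ _ (isZero_zero A)⟩

lemma ExPair.symm {S S' : A} (h : ExPair S S') : ExPair S' S := by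
  obtain ⟨α, β, h₁, h₂, e₁, e₂⟩ := h
  exact ⟨β, α, h₂, h₁, e₂, e₁⟩

lemma ExPair.of_iso {S S' T T' : A} (e : S ≅ T) (e' : S' ≅ T') (h : ExPair S S') :
    ExPair T T' := by
  obtain ⟨α, β, h₁, h₂, e₁, e₂⟩ := h
  refine ⟨e.inv ≫ α ≫ e'.hom, e'.inv ≫ β ≫ e.hom, by simp [reassoc_of% h₁],
    by simp [reassoc_of% h₂], ?_, ?_⟩
  · refine (ShortComplex.exact_iff_of_iso (ShortComplex.isoMk e e' e ?_ ?_)).1 e₁
    · simp
    · simp
  · refine (ShortComplex.exact_iff_of_iso (ShortComplex.isoMk e' e e' ?_ ?_)).1 e₂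
    · simp
    · simp

lemma ExPair.sum {S S' T T' : A} (h : ExPair S S') (h' : ExPair T T') :
    ExPair (S ⊞ T) (S' ⊞ T') := by
  obtain ⟨α, β, h₁, h₂, e₁, e₂⟩ := h
  obtain ⟨α', β', h₁', h₂', e₁', e₂'⟩ := h'
  exact ⟨biprod.map α α', biprod.map β β', (sumSC (ShortComplex.mk α β h₁) (ShortComplex.mk α' β' h₁')).zero,
    (sumSC (ShortComplex.mk β α h₂) (ShortComplex.mk β' α' h₂')).zero,
    sumSC_exact _ _ e₁ e₁', sumSC_exact _ _ e₂ e₂'⟩

lemma ExPair.of_ses (S : ShortComplex A) (hS : S.ShortExact) : ExPair (S.X₁ ⊞ S.X₃) S.X₂ := by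
  haveI := hS.mono_f
  haveI := hS.epi_g
  have h₁ : (biprod.fst ≫ S.f : S.X₁ ⊞ S.X₃ ⟶ S.X₂) ≫
      (S.g ≫ (biprod.inr : S.X₃ ⟶ S.X₁ ⊞ S.X₃)) = 0 := by simp
  have h₂ : (S.g ≫ (biprod.inr : S.X₃ ⟶ S.X₁ ⊞ S.X₃)) ≫
      (biprod.fst ≫ S.f : S.X₁ ⊞ S.X₃ ⟶ S.X₂) = 0 := by simp
  refine ⟨biprod.fst ≫ S.f, S.g ≫ biprod.inr, h₁, h₂, ?_, ?_⟩
  · -- exactness at `X₂`
    have w : S.f ≫ (S.g ≫ (biprod.inr : S.X₃ ⟶ S.X₁ ⊞ S.X₃)) = 0 := by simp
    have s1 : (ShortComplex.mk S.f (S.g ≫ (biprod.inr : S.X₃ ⟶ S.X₁ ⊞ S.X₃)) w).Exact := by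
      let φ : S ⟶ ShortComplex.mk S.f (S.g ≫ (biprod.inr : S.X₃ ⟶ S.X₁ ⊞ S.X₃)) w :=
        ShortComplex.homMk (𝟙 _) (𝟙 _) biprod.inr (by simp) (by simp)
      haveI : Epi φ.τ₁ := by simp only [φ, ShortComplex.homMk_τ₁, ShortComplex.homMk_τ₂, ShortComplex.homMk_τ₃]; infer_instance
      haveI : IsIso φ.τ₂ := by simp only [φ, ShortComplex.homMk_τ₁, ShortComplex.homMk_τ₂, ShortComplex.homMk_τ₃]; infer_instance
      haveI : Mono φ.τ₃ := by simp only [φ, ShortComplex.homMk_τ₁, ShortComplex.homMk_τ₂, ShortComplex.homMk_τ₃]; infer_instance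
      exact (ShortComplex.exact_iff_of_epi_of_isIso_of_mono φ).1 hS.exact
    let ψ : ShortComplex.mk (biprod.fst ≫ S.f : S.X₁ ⊞ S.X₃ ⟶ S.X₂) (S.g ≫ biprod.inr) h₁ ⟶
        ShortComplex.mk S.f (S.g ≫ (biprod.inr : S.X₃ ⟶ S.X₁ ⊞ S.X₃)) w :=
      ShortComplex.homMk biprod.fst (𝟙 _) (𝟙 _) (by simp) (by simp)
    haveI : Epi ψ.τ₁ := by simp only [ψ, ShortComplex.homMk_τ₁, ShortComplex.homMk_τ₂, ShortComplex.homMk_τ₃]; infer_instance
    haveI : IsIso ψ.τ₂ := by simp only [ψ, ShortComplex.homMk_τ₁, ShortComplex.homMk_τ₂, ShortComplex.homMk_τ₃]; infer_instance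
    haveI : Mono ψ.τ₃ := by simp only [ψ, ShortComplex.homMk_τ₁, ShortComplex.homMk_τ₂, ShortComplex.homMk_τ₃]; infer_instance
    exact (ShortComplex.exact_iff_of_epi_of_isIso_of_mono ψ).2 s1
  · -- exactness at `X₁ ⊞ X₃`
    have w0 : (biprod.inr : S.X₃ ⟶ S.X₁ ⊞ S.X₃) ≫ biprod.fst = 0 := biprod.inr_fst
    have s0 : (ShortComplex.mk (biprod.inr : S.X₃ ⟶ S.X₁ ⊞ S.X₃) biprod.fst w0).Exact :=
      ShortComplex.exact_of_f_is_kernel _ (biprod.isKernelFstKernelFork S.X₁ S.X₃)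
    have w : (biprod.inr : S.X₃ ⟶ S.X₁ ⊞ S.X₃) ≫ (biprod.fst ≫ S.f) = 0 := by simp
    have s1 : (ShortComplex.mk (biprod.inr : S.X₃ ⟶ S.X₁ ⊞ S.X₃) (biprod.fst ≫ S.f) w).Exact := by
      let φ : ShortComplex.mk (biprod.inr : S.X₃ ⟶ S.X₁ ⊞ S.X₃) biprod.fst w0 ⟶
          ShortComplex.mk (biprod.inr : S.X₃ ⟶ S.X₁ ⊞ S.X₃) (biprod.fst ≫ S.f) w :=
        ShortComplex.homMk (𝟙 _) (𝟙 _) S.f (by simp) (by simp)
      haveI : Epi φ.τ₁ := by simp only [φ, ShortComplex.homMk_τ₁, ShortComplex.homMk_τ₂, ShortComplex.homMk_τ₃]; infer_instance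
      haveI : IsIso φ.τ₂ := by simp only [φ, ShortComplex.homMk_τ₁, ShortComplex.homMk_τ₂, ShortComplex.homMk_τ₃]; infer_instance
      haveI : Mono φ.τ₃ := by simp only [φ, ShortComplex.homMk_τ₁, ShortComplex.homMk_τ₂, ShortComplex.homMk_τ₃]; infer_instance
      exact (ShortComplex.exact_iff_of_epi_of_isIso_of_mono φ).1 s0
    let ψ : ShortComplex.mk (S.g ≫ (biprod.inr : S.X₃ ⟶ S.X₁ ⊞ S.X₃)) (biprod.fst ≫ S.f) h₂ ⟶
        ShortComplex.mk (biprod.inr : S.X₃ ⟶ S.X₁ ⊞ S.X₃) (biprod.fst ≫ S.f) w :=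
      ShortComplex.homMk S.g (𝟙 _) (𝟙 _) (by simp) (by simp)
    haveI : Epi ψ.τ₁ := by simp only [ψ, ShortComplex.homMk_τ₁, ShortComplex.homMk_τ₂, ShortComplex.homMk_τ₃]; infer_instance
    haveI : IsIso ψ.τ₂ := by simp only [ψ, ShortComplex.homMk_τ₁, ShortComplex.homMk_τ₂, ShortComplex.homMk_τ₃]; infer_instance
    haveI : Mono ψ.τ₃ := by simp only [ψ, ShortComplex.homMk_τ₁, ShortComplex.homMk_τ₂, ShortComplex.homMk_τ₃]; infer_instance
    exact (ShortComplex.exact_iff_of_epi_of_isIso_of_mono ψ).2 s1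

end Pair

/-! ### finite direct sums indexed by lists -/
section Big
variable {A : Type u} [Category.{v} A] [Abelian A]

/-- direct sum of a list of objects -/
noncomputable def bigsum : List A → A
  | [] => 0
  | X :: l => X ⊞ bigsum l

lemma bigsum_append (l m : List A) : Nonempty (bigsum (l ++ m) ≅ bigsum l ⊞ bigsum m) := by
  induction l with
  | nil => exact ⟨isoZeroBiprod (isZero_zero A)⟩
  | cons X l ih =>
    obtain ⟨e⟩ := ih
    exact ⟨biprod.mapIso (Iso.refl X) e ≪≫ (biprod.associator X (bigsum l) (bigsum m)).symm⟩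

lemma bigsum_perm {l l' : List A} (h : l.Perm l') : Nonempty (bigsum l ≅ bigsum l') := by
  induction h with
  | nil => exact ⟨Iso.refl _⟩
  | cons X _ ih =>
    obtain ⟨e⟩ := ih
    exact ⟨biprod.mapIso (Iso.refl X) e⟩
  | swap X Y l =>
    exact ⟨(biprod.associator Y X (bigsum l)).symm ≪≫
      biprod.mapIso (biprod.braiding Y X) (Iso.refl _) ≪≫ biprod.associator X Y (bigsum l)⟩
  | trans _ _ ih₁ ih₂ =>
    obtain ⟨e₁⟩ := ih₁
    obtain ⟨e₂⟩ := ih₂
    exact ⟨e₁ ≪≫ e₂⟩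

/-- formal sum of a list of objects -/
def sumOf (l : List A) : FreeAbelianGroup A := (l.map FreeAbelianGroup.of).sum

lemma sumOf_nil : sumOf ([] : List A) = 0 := rfl

lemma sumOf_cons (X : A) (l : List A) : sumOf (X :: l) = FreeAbelianGroup.of X + sumOf l := by
  simp [sumOf]

lemma sumOf_append (l m : List A) : sumOf (l ++ m) = sumOf l + sumOf m := by
  simp [sumOf]

open Classical in
/-- multiplicity of an object in a formal sum -/
noncomputable def cnt (a : A) : FreeAbelianGroup A →+ ℤ :=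
  FreeAbelianGroup.lift (fun x => if x = a then 1 else 0)

open Classical in
lemma cnt_sumOf (a : A) (l : List A) : cnt a (sumOf l) = (l.count a : ℤ) := by
  induction l with
  | nil => simp [sumOf]
  | cons X l ih =>
    rw [sumOf_cons, map_add, ih, cnt, FreeAbelianGroup.lift_apply_of, List.count_cons]
    by_cases h : X = a
    · subst h; simp; ring
    · simp [h]

lemma perm_of_sumOf_eq {l l' : List A} (h : sumOf l = sumOf l') : l.Perm l' := by
  classical
  rw [List.perm_iff_count]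
  intro a
  have := congrArg (cnt a) h
  rw [cnt_sumOf, cnt_sumOf] at this
  exact_mod_cast this

end Big

/-! ### the kernel of `ι` -/
section Ker
variable {A : Type u} [Category.{v} A] [Abelian A]

/-- elements of the relation subgroup are realised by exact pairs -/
def Good (z : FreeAbelianGroup A) : Prop :=
  ∃ l l' : List A, ExPair (bigsum l) (bigsum l') ∧ z = sumOf l' - sumOf l

lemma good_of_mem (z : FreeAbelianGroup A) (hz : z ∈ relAb A) : Good z := by
  unfold relAb at hz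
  induction hz using AddSubgroup.closure_induction with
  | mem x hx =>
    obtain ⟨S, hS, rfl⟩ := hx
    refine ⟨[S.X₁, S.X₃], [S.X₂], ?_, ?_⟩
    · exact (ExPair.of_ses S hS).of_iso
        (biprod.mapIso (Iso.refl _) (isoBiprodZero (isZero_zero A))) (isoBiprodZero (isZero_zero A))
    · simp only [sumOf_cons, sumOf_nil]
      abel
  | zero => exact ⟨[], [], ExPair.zero, by simp [sumOf]⟩
  | add x y _ _ hx hy =>
    obtain ⟨l₁, l₁', p₁, rfl⟩ := hx
    obtain ⟨l₂, l₂', p₂, rfl⟩ := hy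
    obtain ⟨e⟩ := bigsum_append l₁ l₂
    obtain ⟨e'⟩ := bigsum_append l₁' l₂'
    exact ⟨l₁ ++ l₂, l₁' ++ l₂', (p₁.sum p₂).of_iso e.symm e'.symm, by
      rw [sumOf_append, sumOf_append]; abel⟩
  | neg x _ hx =>
    obtain ⟨l, l', p, rfl⟩ := hx
    exact ⟨l', l, p.symm, by abel⟩

variable (P : ObjectProperty A) [P.IsSerreClass]

lemma clSub_ses (S : ShortComplex A) (hS : S.ShortExact) (h₁ : P S.X₁) (h₂ : P S.X₂) (h₃ : P S.X₃) :
    clSub P S.X₂ = clSub P S.X₁ + clSub P S.X₃ := by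
  have mem : FreeAbelianGroup.of (⟨S.X₂, h₂⟩ : Subtype P) - FreeAbelianGroup.of ⟨S.X₁, h₁⟩ -
      FreeAbelianGroup.of ⟨S.X₃, h₃⟩ ∈ relSub P :=
    AddSubgroup.subset_closure ⟨S, h₁, h₂, h₃, hS, rfl⟩
  have := (QuotientAddGroup.eq_zero_iff _).2 mem
  rw [QuotientAddGroup.mk_sub, QuotientAddGroup.mk_sub, sub_sub, sub_eq_zero] at this
  rw [clSub_eq P h₁, clSub_eq P h₂, clSub_eq P h₃]
  exact this

lemma clSub_isZero {Z : A} (hZ : IsZero Z) : clSub P Z = 0 := by
  have hS : (ShortComplex.mk (0 : Z ⟶ Z) (0 : Z ⟶ Z) zero_comp).ShortExact :=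
    { exact := ShortComplex.exact_of_isZero_X₂ _ hZ
      mono_f := ⟨fun _ _ _ => hZ.eq_of_tgt _ _⟩
      epi_g := ⟨fun _ _ _ => hZ.eq_of_src _ _⟩ }
  have := clSub_ses P _ hS (P.prop_of_isZero hZ) (P.prop_of_isZero hZ) (P.prop_of_isZero hZ)
  simpa using this

lemma clSub_iso {X Y : A} (e : X ≅ Y) (hX : P X) : clSub P X = clSub P Y := by
  have hS : (ShortComplex.mk e.hom (0 : Y ⟶ (0 : A)) comp_zero).ShortExact :=
    { exact := (ShortComplex.exact_iff_epi _ (by simp)).2 (by dsimp; infer_instance)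
      mono_f := by dsimp; infer_instance
      epi_g := ⟨fun _ _ _ => (isZero_zero A).eq_of_src _ _⟩ }
  have := clSub_ses P _ hS hX (P.prop_of_iso e hX) (P.prop_of_isZero (isZero_zero A))
  rw [clSub_isZero P (isZero_zero A), add_zero] at this
  exact this.symm

lemma clSub_biprod {X Y : A} (hX : P X) (hY : P Y) :
    clSub P (X ⊞ Y) = clSub P X + clSub P Y :=
  clSub_ses P _ (ShortComplex.Splitting.ofHasBinaryBiproduct X Y).shortExact hX
    (P.prop_biprod hX hY) hY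

lemma prop_bigsum (l : List A) (hl : ∀ X ∈ l, P X) : P (bigsum l) := by
  induction l with
  | nil => exact P.prop_of_isZero (isZero_zero A)
  | cons X l ih =>
    exact P.prop_biprod (hl X (by simp)) (ih (fun Y hY => hl Y (by simp [hY])))

lemma clSub_bigsum (l : List (Subtype P)) :
    clSub P (bigsum (l.map Subtype.val)) =
      QuotientAddGroup.mk ((l.map FreeAbelianGroup.of).sum) := by
  induction l with
  | nil => simpa [bigsum] using clSub_isZero P (isZero_zero A)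
  | cons X l ih =>
    have h1 : P (bigsum (l.map Subtype.val)) := prop_bigsum P _ (by
      intro Y hY
      obtain ⟨Z, _, rfl⟩ := List.mem_map.1 hY
      exact Z.2)
    show clSub P (X.1 ⊞ bigsum (l.map Subtype.val)) = _
    rw [clSub_biprod P X.2 h1, ih, clSub_eq P X.2]
    simp

lemma iota_sum (l : List (Subtype P)) :
    iota P (QuotientAddGroup.mk ((l.map FreeAbelianGroup.of).sum)) =
      QuotientAddGroup.mk (sumOf (l.map Subtype.val)) := by
  induction l with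
  | nil => simp [sumOf]
  | cons X l ih =>
    rw [List.map_cons, List.sum_cons, QuotientAddGroup.mk_add, map_add, ih, List.map_cons,
      sumOf_cons, QuotientAddGroup.mk_add, ← clSub_eq P X.2, iota_clSub P X.2]
    rfl

lemma exists_lists (y : FreeAbelianGroup (Subtype P)) : ∃ l₁ l₂ : List (Subtype P),
    y = (l₁.map FreeAbelianGroup.of).sum - (l₂.map FreeAbelianGroup.of).sum := by
  induction y using FreeAbelianGroup.induction_on with
  | zero => exact ⟨[], [], by simp⟩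
  | of X => exact ⟨[X], [], by simp⟩
  | neg X _ => exact ⟨[], [X], by simp⟩
  | add y₁ y₂ h₁ h₂ =>
    obtain ⟨a₁, a₂, rfl⟩ := h₁
    obtain ⟨b₁, b₂, rfl⟩ := h₂
    exact ⟨a₁ ++ b₁, a₂ ++ b₂, by simp; abel⟩

/-- homology of a short complex with zero maps -/
noncomputable def homologyZeros (X Y : A) :
    (ShortComplex.mk (0 : X ⟶ Y) (0 : Y ⟶ X) zero_comp).homology ≅ Y :=
  (ShortComplex.HomologyData.ofZeros (ShortComplex.mk (0 : X ⟶ Y) (0 : Y ⟶ X) zero_comp)
    rfl rfl).left.homologyIso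

theorem exists_periodic (x : K0sub P) (hx : iota P x = 0) :
    ∃ (M : A) (φ ψ : M ⟶ M) (h₁ : φ ≫ ψ = 0) (h₂ : ψ ≫ φ = 0),
      P (ShortComplex.mk φ ψ h₁).homology ∧ P (ShortComplex.mk ψ φ h₂).homology ∧
      x = clSub P (ShortComplex.mk φ ψ h₁).homology - clSub P (ShortComplex.mk ψ φ h₂).homology := by
  obtain ⟨y, rfl⟩ := QuotientAddGroup.mk_surjective x
  obtain ⟨l₁, l₂, rfl⟩ := exists_lists P y
  rw [QuotientAddGroup.mk_sub, map_sub, iota_sum, iota_sum, ← QuotientAddGroup.mk_sub,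
    QuotientAddGroup.eq_zero_iff] at hx
  obtain ⟨l, l', pair, heq⟩ := good_of_mem _ hx
  have hperm : (l₁.map Subtype.val ++ l).Perm (l₂.map Subtype.val ++ l') := by
    apply perm_of_sumOf_eq
    rw [sumOf_append, sumOf_append]
    have := sub_eq_zero.2 heq
    rw [← sub_eq_zero, ← this]
    abel
  set B₁ := bigsum (l₁.map Subtype.val) with hB₁
  set B₂ := bigsum (l₂.map Subtype.val) with hB₂
  have pB₁ : P B₁ := prop_bigsum P _ (by
    intro Y hY
    obtain ⟨Z, _, rfl⟩ := List.mem_map.1 hY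
    exact Z.2)
  have pB₂ : P B₂ := prop_bigsum P _ (by
    intro Y hY
    obtain ⟨Z, _, rfl⟩ := List.mem_map.1 hY
    exact Z.2)
  obtain ⟨a₁⟩ := bigsum_append (l₁.map Subtype.val) l
  obtain ⟨a₂⟩ := bigsum_append (l₂.map Subtype.val) l'
  obtain ⟨p⟩ := bigsum_perm hperm
  let θ : B₁ ⊞ bigsum l ≅ B₂ ⊞ bigsum l' := a₁.symm ≪≫ p ≪≫ a₂
  obtain ⟨α₀, β₀, w₁, w₂, ex₁, ex₂⟩ := pair
  let Tab := sumSC (ShortComplex.mk (0 : B₁ ⟶ B₂) (0 : B₂ ⟶ B₁) zero_comp) (ShortComplex.mk α₀ β₀ w₁)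
  let Tba := sumSC (ShortComplex.mk (0 : B₂ ⟶ B₁) (0 : B₁ ⟶ B₂) zero_comp) (ShortComplex.mk β₀ α₀ w₂)
  obtain ⟨iab⟩ := sumSC_homology_iso (ShortComplex.mk (0 : B₁ ⟶ B₂) (0 : B₂ ⟶ B₁) zero_comp)
    (ShortComplex.mk α₀ β₀ w₁) ex₁
  obtain ⟨iba⟩ := sumSC_homology_iso (ShortComplex.mk (0 : B₂ ⟶ B₁) (0 : B₁ ⟶ B₂) zero_comp)
    (ShortComplex.mk β₀ α₀ w₂) ex₂
  let α : B₁ ⊞ bigsum l ⟶ B₂ ⊞ bigsum l' := Tab.f
  let β : B₂ ⊞ bigsum l' ⟶ B₁ ⊞ bigsum l := Tab.g
  have hαβ : α ≫ β = 0 := Tab.zero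
  have hβα : β ≫ α = 0 := Tba.zero
  let φ : B₁ ⊞ bigsum l ⟶ B₁ ⊞ bigsum l := θ.hom ≫ β
  let ψ : B₁ ⊞ bigsum l ⟶ B₁ ⊞ bigsum l := α ≫ θ.inv
  have h₁ : φ ≫ ψ = 0 := by
    simp only [φ, ψ, Category.assoc, reassoc_of% hβα, zero_comp, comp_zero]
  have h₂ : ψ ≫ φ = 0 := by
    simp only [φ, ψ, Category.assoc, Iso.inv_hom_id_assoc, hαβ]
  let e1 : ShortComplex.mk φ ψ h₁ ≅ Tba :=
    ShortComplex.isoMk θ (Iso.refl _) θ
      (by show θ.hom ≫ β = (θ.hom ≫ β) ≫ 𝟙 _; rw [Category.comp_id])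
      (by show 𝟙 _ ≫ α = (α ≫ θ.inv) ≫ θ.hom
          rw [Category.assoc, Iso.inv_hom_id, Category.comp_id, Category.id_comp])
  let e2 : ShortComplex.mk ψ φ h₂ ≅ Tab :=
    ShortComplex.isoMk (Iso.refl _) θ (Iso.refl _)
      (by show 𝟙 _ ≫ α = (α ≫ θ.inv) ≫ θ.hom
          rw [Category.assoc, Iso.inv_hom_id, Category.comp_id, Category.id_comp])
      (by show θ.hom ≫ β = (θ.hom ≫ β) ≫ 𝟙 _; rw [Category.comp_id])
  let j1 : (ShortComplex.mk φ ψ h₁).homology ≅ B₁ :=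
    ShortComplex.homologyMapIso e1 ≪≫ iba ≪≫ homologyZeros B₂ B₁
  let j2 : (ShortComplex.mk ψ φ h₂).homology ≅ B₂ :=
    ShortComplex.homologyMapIso e2 ≪≫ iab ≪≫ homologyZeros B₁ B₂
  refine ⟨B₁ ⊞ bigsum l, φ, ψ, h₁, h₂, P.prop_of_iso j1.symm pB₁, P.prop_of_iso j2.symm pB₂, ?_⟩
  rw [clSub_iso P j1 (P.prop_of_iso j1.symm pB₁), clSub_iso P j2 (P.prop_of_iso j2.symm pB₂),
    hB₁, hB₂, clSub_bigsum, clSub_bigsum, QuotientAddGroup.mk_sub]

end Ker

theorem final {A : Type u} [Category.{v} A] [Abelian A] (P : ObjectProperty A) [P.IsSerreClass]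
    {Q : Type u'} [Category.{v'} Q] [Abelian Q]
    (L : A ⥤ Q) [L.IsLocalization P.isoModSerre] [L.Additive] [PreservesFiniteLimits L]
    [PreservesFiniteColimits L] :
    ∃ (ι : KZero.K0sub P →+ KZero.K0 A) (lam : KZero.K0 A →+ KZero.K0 Q),
      (∀ X : A, P X → ι (KZero.clSub P X) = KZero.cl X) ∧
      (∀ X : A, lam (KZero.cl X) = KZero.cl (L.obj X)) ∧
      Function.Surjective lam ∧ lam.ker = ι.range ∧
      ∀ x : KZero.K0sub P, ι x = 0 ↔
        ∃ (M : A) (φ ψ : M ⟶ M) (h₁ : φ ≫ ψ = 0) (h₂ : ψ ≫ φ = 0),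
          P (ShortComplex.mk φ ψ h₁).homology ∧ P (ShortComplex.mk ψ φ h₂).homology ∧
          x = KZero.clSub P (ShortComplex.mk φ ψ h₁).homology -
            KZero.clSub P (ShortComplex.mk ψ φ h₂).homology := by
  refine ⟨iota P, lam L, fun X hX => iota_clSub P hX, lam_cl L, lam_surjective P L, ker_lam P L,
    fun x => ⟨exists_periodic P x, ?_⟩⟩
  rintro ⟨M, φ, ψ, h₁, h₂, p₁, p₂, rfl⟩
  rw [map_sub, iota_clSub P p₁, iota_clSub P p₂, cl_homology_periodic φ ψ h₁ h₂, sub_self]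

end Groth.Agent.Lib.Helper32.K0Serre
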