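import Mathlib

set_option autoImplicit false
universe v u

namespace Groth.Agent.Lib.Helper32.KBdd

open CategoryTheory CategoryTheory.Limits CategoryTheory.Pretriangulated HomotopyCategory
  CochainComplex
open scoped ZeroObject

variable {V : Type u} [Category.{v} V] [Preadditive V] [HasZeroObject V] [HasBinaryBiproducts V]

lemma isStrictlyLE_mappingCone {K L : CochainComplex V ℤ} (f : K ⟶ L)
    (n₁ n₂ n : ℤ) [K.IsStrictlyLE n₁] [L.IsStrictlyLE n₂] (hn₁ : n₁ - 1 ≤ n) (hn₂ : n₂ ≤ n) :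
    (mappingCone f).IsStrictlyLE n := by
  rw [isStrictlyLE_iff]
  intro i hi
  simp only [mappingCone.isZero_X_iff]
  exact ⟨K.isZero_of_isStrictlyLE n₁ _ (by omega), L.isZero_of_isStrictlyLE n₂ _ (by omega)⟩

lemma isStrictlyGE_mappingCone' {K L : CochainComplex V ℤ} (f : K ⟶ L)
    (n₁ n₂ n : ℤ) [K.IsStrictlyGE n₁] [L.IsStrictlyGE n₂] (hn₁ : n < n₁) (hn₂ : n ≤ n₂) :
    (mappingCone f).IsStrictlyGE n := by
  rw [isStrictlyGE_iff]
  intro i hi
  simp only [mappingCone.isZero_X_iff]
  exact ⟨K.isZero_of_isStrictlyGE n₁ _ (by omega), L.isZero_of_isStrictlyGE n₂ _ (by omega)⟩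

/-- a general criterion -/
theorem isTriangulated_of (B : CochainComplex V ℤ → Prop)
    (h0 : B 0) (hshift : ∀ K (n : ℤ), B K → B (K⟦n⟧))
    (hcone : ∀ {K L : CochainComplex V ℤ} (f : K ⟶ L), B K → B L → B (mappingCone f)) :
    ObjectProperty.IsTriangulated (fun K : HomotopyCategory V (ComplexShape.up ℤ) => B K.as) := by
  have hq : ∀ K : CochainComplex V ℤ,
      (fun K : HomotopyCategory V (ComplexShape.up ℤ) => B K.as) ((quotient _ _).obj K) ↔ B K :=
    fun K => Iff.rfl
  have c0 : ObjectProperty.ContainsZero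
      (fun K : HomotopyCategory V (ComplexShape.up ℤ) => B K.as) :=
    ⟨⟨(HomotopyCategory.quotient _ _).obj 0, Functor.map_isZero _ (isZero_zero _), h0⟩⟩
  have cs : ObjectProperty.IsStableUnderShift
      (fun K : HomotopyCategory V (ComplexShape.up ℤ) => B K.as) ℤ :=
    { isStableUnderShiftBy := fun n =>
        { le_shift := fun K hK => by
            obtain ⟨K : CochainComplex _ _, rfl⟩ := K.quotient_obj_surjective
            rw [ObjectProperty.prop_shift_iff, shift_quotient_obj]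
            exact hshift K n hK } }
  have c3 : ObjectProperty.IsTriangulatedClosed₃
      (fun K : HomotopyCategory V (ComplexShape.up ℤ) => B K.as) :=
    { ext₃' := fun T hT h₁ h₂ => by
        obtain ⟨f : T.obj₁.as ⟶ T.obj₂.as, hf⟩ := (quotient _ _).map_surjective T.mor₁
        refine ⟨_, ?_,
          ⟨Triangle.π₃.mapIso (isoTriangleOfIso₁₂ T _ hT (mappingCone_triangleh_distinguished f)
            (Iso.refl _) (Iso.refl _) ?_)⟩⟩
        · exact hcone f h₁ h₂
        · rw [Iso.refl_hom, Iso.refl_hom, ← hf]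
          exact (Category.comp_id _).trans (Category.id_comp _).symm }
  exact { toIsTriangulatedClosed₂ := .of_isTriangulatedClosed₃ }

theorem main :
    (ObjectProperty.IsTriangulated (fun K : HomotopyCategory V (ComplexShape.up ℤ) =>
      ∃ n : ℤ, CochainComplex.IsStrictlyLE K.as n)) ∧
    (ObjectProperty.IsTriangulated (fun K : HomotopyCategory V (ComplexShape.up ℤ) =>
      ∃ a b : ℤ, CochainComplex.IsStrictlyGE K.as a ∧ CochainComplex.IsStrictlyLE K.as b)) := by
  constructor
  · apply isTriangulated_of (fun K => ∃ n : ℤ, CochainComplex.IsStrictlyLE K n)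
    · exact ⟨0, inferInstance⟩
    · rintro K n ⟨q, hq⟩
      exact ⟨q - n, K.isStrictlyLE_shift q n (q - n) (by omega)⟩
    · rintro K L f ⟨n₁, h1⟩ ⟨n₂, h2⟩
      exact ⟨max (n₁ - 1) n₂, isStrictlyLE_mappingCone f n₁ n₂ _ (le_max_left _ _) (le_max_right _ _)⟩
  · apply isTriangulated_of (fun K => ∃ a b : ℤ, CochainComplex.IsStrictlyGE K a ∧
      CochainComplex.IsStrictlyLE K b)
    · exact ⟨0, 0, inferInstance, inferInstance⟩
    · rintro K n ⟨a, b, ha, hb⟩
      exact ⟨a - n, b - n, K.isStrictlyGE_shift a n (a - n) (by omega),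
        K.isStrictlyLE_shift b n (b - n) (by omega)⟩
    · rintro K L f ⟨a₁, b₁, ha1, hb1⟩ ⟨a₂, b₂, ha2, hb2⟩
      exact ⟨min (a₁ - 1) a₂, max (b₁ - 1) b₂,
        isStrictlyGE_mappingCone' f a₁ a₂ _ (by simp) (by simp),
        isStrictlyLE_mappingCone f b₁ b₂ _ (le_max_left _ _) (le_max_right _ _)⟩

end Groth.Agent.Lib.Helper32.KBdd
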