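import Mathlib

/-!
`H_1(C ⊗ P) ⟶ H_1(C ⊗ G[0])` is an isomorphism when `C_0` is flat and `P ⟶ G[0]` is a
quasi-isomorphism (low-degree chase on the total complex).
-/

set_option autoImplicit false
universe v u
open CategoryTheory CategoryTheory.Limits MonoidalCategory HomologicalComplex

namespace Groth.Agent.Lib.Helper32.TenLowDeg

section ModCx

variable {R : Type u} [Ring R] {ι : Type*} {c : ComplexShape ι}
  (M : HomologicalComplex (ModuleCat.{v} R) c)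

lemma iCycles_injective (b : ι) : Function.Injective (M.iCycles b).hom :=
  (ModuleCat.mono_iff_injective _).1 inferInstance

lemma homologyπ_surjective (b : ι) : Function.Surjective (M.homologyπ b).hom :=
  (ModuleCat.epi_iff_surjective _).1 inferInstance

lemma exists_cycle (b b' : ι) (hb : c.next b = b') (z : M.X b) (hz : (M.d b b').hom z = 0) :
    ∃ x : M.cycles b, (M.iCycles b).hom x = z := by
  have hex : (ShortComplex.mk (M.iCycles b) (M.d b b') (M.iCycles_d b b')).Exact :=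
    ShortComplex.exact_of_f_is_kernel _ (M.cyclesIsKernel b b' hb)
  rw [ShortComplex.moduleCat_exact_iff] at hex
  exact hex z hz

lemma iCycles_toCycles (a b : ι) (y : M.X a) :
    (M.iCycles b).hom ((M.toCycles a b).hom y) = (M.d a b).hom y := by
  have := M.toCycles_i a b
  exact congr_arg (fun f => f.hom y) this

lemma homologyπ_toCycles (a b : ι) (y : M.X a) :
    (M.homologyπ b).hom ((M.toCycles a b).hom y) = 0 := by
  have := M.toCycles_comp_homologyπ a b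
  exact congr_arg (fun f => f.hom y) this

lemma exists_of_homologyπ_eq_zero (a b : ι) (hab : c.prev b = a) (x : M.cycles b)
    (hx : (M.homologyπ b).hom x = 0) : ∃ y : M.X a, (M.toCycles a b).hom y = x := by
  have hex : (ShortComplex.mk (M.toCycles a b) (M.homologyπ b)
      (M.toCycles_comp_homologyπ a b)).Exact :=
    ShortComplex.exact_of_g_is_cokernel _ (M.homologyIsCokernel a b hab)
  rw [ShortComplex.moduleCat_exact_iff] at hex
  exact hex x hx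

variable {M} {M' : HomologicalComplex (ModuleCat.{v} R) c} (f : M ⟶ M')

lemma iCycles_cyclesMap (b : ι) (x : M.cycles b) :
    (M'.iCycles b).hom ((HomologicalComplex.cyclesMap f b).hom x) =
      (f.f b).hom ((M.iCycles b).hom x) := by
  have := HomologicalComplex.cyclesMap_i f b
  exact congr_arg (fun f => f.hom x) this

lemma homologyMap_homologyπ (b : ι) (x : M.cycles b) :
    (HomologicalComplex.homologyMap f b).hom ((M.homologyπ b).hom x) =
      (M'.homologyπ b).hom ((HomologicalComplex.cyclesMap f b).hom x) := by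
  have := HomologicalComplex.homologyπ_naturality f b
  exact congr_arg (fun f => f.hom x) this

/-- Element-level criterion for `homologyMap f j` to be an isomorphism. -/
theorem isIso_homologyMap_of_chase (i j k : ι) (hi : c.prev j = i) (hk : c.next j = k)
    (hsurj : ∀ z' : M'.X j, (M'.d j k).hom z' = 0 → ∃ z : M.X j, (M.d j k).hom z = 0 ∧
      ∃ w' : M'.X i, (f.f j).hom z - z' = (M'.d i j).hom w')
    (hinj : ∀ z : M.X j, (M.d j k).hom z = 0 → (∃ w' : M'.X i, (f.f j).hom z = (M'.d i j).hom w') →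
      ∃ w : M.X i, z = (M.d i j).hom w) :
    IsIso (HomologicalComplex.homologyMap f j) := by
  have hmono : Mono (HomologicalComplex.homologyMap f j) := by
    rw [ModuleCat.mono_iff_injective, injective_iff_map_eq_zero]
    intro h hh
    obtain ⟨x, rfl⟩ := homologyπ_surjective M j h
    rw [homologyMap_homologyπ] at hh
    obtain ⟨w', hw'⟩ := exists_of_homologyπ_eq_zero M' i j hi _ hh
    have h1 := congr_arg (M'.iCycles j).hom hw'
    rw [iCycles_toCycles, iCycles_cyclesMap] at h1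
    have hz : (M.d j k).hom ((M.iCycles j).hom x) = 0 := by
      have := M.iCycles_d j k
      exact congr_arg (fun f => f.hom x) this
    obtain ⟨w, hw⟩ := hinj _ hz ⟨w', h1.symm⟩
    have : x = (M.toCycles i j).hom w := by
      apply iCycles_injective M j
      rw [iCycles_toCycles, hw]
    rw [this, homologyπ_toCycles]
  have hepi : Epi (HomologicalComplex.homologyMap f j) := by
    rw [ModuleCat.epi_iff_surjective]
    intro h'
    obtain ⟨x', rfl⟩ := homologyπ_surjective M' j h'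
    have hz' : (M'.d j k).hom ((M'.iCycles j).hom x') = 0 := by
      have := M'.iCycles_d j k
      exact congr_arg (fun f => f.hom x') this
    obtain ⟨z, hz, w', hw'⟩ := hsurj _ hz'
    obtain ⟨x, rfl⟩ := exists_cycle M j k hk z hz
    refine ⟨(M.homologyπ j).hom x, ?_⟩
    rw [homologyMap_homologyπ]
    have : (HomologicalComplex.cyclesMap f j).hom x - x' = (M'.toCycles i j).hom w' := by
      apply iCycles_injective M' j
      rw [map_sub, iCycles_cyclesMap, iCycles_toCycles, hw']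
    rw [← sub_eq_zero, ← map_sub, this, homologyπ_toCycles]
  exact isIso_of_mono_of_epi _

end ModCx

section Tot

variable {R : Type v} [CommRing R] (K₁ K₂ : ChainComplex (ModuleCat.{v} R) ℕ)

/-- inclusion of a summand -/
noncomputable abbrev inc (i j n : ℕ) (h : i + j = n) : K₁.X i ⊗ K₂.X j ⟶ (K₁ ⊗ K₂).X n :=
  HomologicalComplex.ιTensorObj K₁ K₂ i j n h

/-- projection to a summand -/
noncomputable def proj (i j n : ℕ) : (K₁ ⊗ K₂).X n ⟶ K₁.X i ⊗ K₂.X j :=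
  HomologicalComplex.mapBifunctorDesc (K₁ := K₁) (K₂ := K₂) (F := curriedTensor _)
    (c := ComplexShape.down ℕ) (fun i' j' _ =>
    if h' : i' = i ∧ j' = j then eqToHom (by obtain ⟨rfl, rfl⟩ := h'; rfl) else 0)

lemma inc_proj (i j n : ℕ) (h : i + j = n) : inc K₁ K₂ i j n h ≫ proj K₁ K₂ i j n = 𝟙 _ := by
  unfold inc proj
  erw [HomologicalComplex.ι_mapBifunctorDesc]
  simp

lemma inc_proj_ne (i' j' i j n : ℕ) (h : i' + j' = n) (hne : ¬ (i' = i ∧ j' = j)) :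
    inc K₁ K₂ i' j' n h ≫ proj K₁ K₂ i j n = 0 := by
  unfold inc proj
  erw [HomologicalComplex.ι_mapBifunctorDesc]
  simp [hne]

lemma hom_ext' {n : ℕ} {Y : ModuleCat.{v} R} {f g : (K₁ ⊗ K₂).X n ⟶ Y}
    (h : ∀ (i j : ℕ) (h : i + j = n), inc K₁ K₂ i j n h ≫ f = inc K₁ K₂ i j n h ≫ g) : f = g :=
  HomologicalComplex.mapBifunctor.hom_ext (K₁ := K₁) (K₂ := K₂) (F := curriedTensor _)
    (c := ComplexShape.down ℕ) h

lemma decomp1 : 𝟙 ((K₁ ⊗ K₂).X 1) =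
    proj K₁ K₂ 1 0 1 ≫ inc K₁ K₂ 1 0 1 rfl + proj K₁ K₂ 0 1 1 ≫ inc K₁ K₂ 0 1 1 rfl := by
  apply hom_ext'
  intro i j h
  obtain ⟨rfl, rfl⟩ | ⟨rfl, rfl⟩ : (i = 1 ∧ j = 0) ∨ (i = 0 ∧ j = 1) := by omega
  · rw [Preadditive.comp_add, ← Category.assoc, ← Category.assoc, inc_proj,
      inc_proj_ne _ _ 1 0 0 1 1 rfl (by omega)]
    simp
  · rw [Preadditive.comp_add, ← Category.assoc, ← Category.assoc, inc_proj,
      inc_proj_ne _ _ 0 1 1 0 1 rfl (by omega)]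
    simp

lemma decomp2 : 𝟙 ((K₁ ⊗ K₂).X 2) =
    proj K₁ K₂ 2 0 2 ≫ inc K₁ K₂ 2 0 2 rfl + proj K₁ K₂ 1 1 2 ≫ inc K₁ K₂ 1 1 2 rfl +
      proj K₁ K₂ 0 2 2 ≫ inc K₁ K₂ 0 2 2 rfl := by
  apply hom_ext'
  intro i j h
  obtain ⟨rfl, rfl⟩ | ⟨rfl, rfl⟩ | ⟨rfl, rfl⟩ :
    (i = 2 ∧ j = 0) ∨ (i = 1 ∧ j = 1) ∨ (i = 0 ∧ j = 2) := by omega
  · rw [Preadditive.comp_add, Preadditive.comp_add, ← Category.assoc, ← Category.assoc,
      ← Category.assoc, inc_proj,
      inc_proj_ne _ _ 2 0 1 1 2 rfl (by omega), inc_proj_ne _ _ 2 0 0 2 2 rfl (by omega)]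
    simp
  · rw [Preadditive.comp_add, Preadditive.comp_add, ← Category.assoc, ← Category.assoc,
      ← Category.assoc, inc_proj,
      inc_proj_ne _ _ 1 1 2 0 2 rfl (by omega), inc_proj_ne _ _ 1 1 0 2 2 rfl (by omega)]
    simp
  · rw [Preadditive.comp_add, Preadditive.comp_add, ← Category.assoc, ← Category.assoc,
      ← Category.assoc, inc_proj,
      inc_proj_ne _ _ 0 2 2 0 2 rfl (by omega), inc_proj_ne _ _ 0 2 1 1 2 rfl (by omega)]
    simp

/-- general formula for the differential on a summand -/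
lemma inc_d (i j n n' : ℕ) (h : i + j = n) :
    inc K₁ K₂ i j n h ≫ (K₁ ⊗ K₂).d n n' =
      HomologicalComplex.mapBifunctor.d₁ K₁ K₂ (curriedTensor _) (ComplexShape.down ℕ) i j n' +
      HomologicalComplex.mapBifunctor.d₂ K₁ K₂ (curriedTensor _) (ComplexShape.down ℕ) i j n' := by
  unfold inc
  erw [HomologicalComplex.mapBifunctor.d_eq]
  rw [Preadditive.comp_add]
  erw [HomologicalComplex.mapBifunctor.ι_D₁, HomologicalComplex.mapBifunctor.ι_D₂]

lemma inc_d_succ_zero (i : ℕ) :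
    inc K₁ K₂ (i+1) 0 (i+1) rfl ≫ (K₁ ⊗ K₂).d (i+1) i =
      (K₁.d (i+1) i ▷ K₂.X 0) ≫ inc K₁ K₂ i 0 i rfl := by
  rw [inc_d, HomologicalComplex.mapBifunctor.d₁_eq K₁ K₂ _ _ (show (ComplexShape.down ℕ).Rel (i+1) i from rfl)
    0 i rfl, HomologicalComplex.mapBifunctor.d₂_eq_zero]
  · simp
  · simp

lemma inc_d_zero_succ (j : ℕ) :
    inc K₁ K₂ 0 (j+1) (j+1) (by omega) ≫ (K₁ ⊗ K₂).d (j+1) j =
      (K₁.X 0 ◁ K₂.d (j+1) j) ≫ inc K₁ K₂ 0 j j (by omega) := by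
  rw [inc_d, HomologicalComplex.mapBifunctor.d₂_eq K₁ K₂ _ _ 0 (show (ComplexShape.down ℕ).Rel (j+1) j from rfl)
    j (by simp), HomologicalComplex.mapBifunctor.d₁_eq_zero]
  · simp
  · simp

lemma inc_d_one_one :
    inc K₁ K₂ 1 1 2 rfl ≫ (K₁ ⊗ K₂).d 2 1 =
      (K₁.d 1 0 ▷ K₂.X 1) ≫ inc K₁ K₂ 0 1 1 rfl - (K₁.X 1 ◁ K₂.d 1 0) ≫ inc K₁ K₂ 1 0 1 rfl := by
  rw [inc_d, HomologicalComplex.mapBifunctor.d₁_eq K₁ K₂ _ _ (show (ComplexShape.down ℕ).Rel 1 0 from rfl)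
    1 1 rfl, HomologicalComplex.mapBifunctor.d₂_eq K₁ K₂ _ _ 1 (show (ComplexShape.down ℕ).Rel 1 0 from rfl)
    1 rfl]
  have h1 : ComplexShape.ε₁ (ComplexShape.down ℕ) (ComplexShape.down ℕ) (ComplexShape.down ℕ) ⟨1, 1⟩ = 1 := rfl
  have h2 : ComplexShape.ε₂ (ComplexShape.down ℕ) (ComplexShape.down ℕ) (ComplexShape.down ℕ) ⟨1, 1⟩ = -1 := by decide
  rw [h1, h2]
  simp [sub_eq_add_neg]

variable {K₂} in
lemma inc_map {L₂ : ChainComplex (ModuleCat.{v} R) ℕ} (g : K₂ ⟶ L₂) (i j n : ℕ) (h : i + j = n) :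
    inc K₁ K₂ i j n h ≫ (K₁ ◁ g).f n = (K₁.X i ◁ g.f j) ≫ inc K₁ L₂ i j n h := by
  unfold inc
  erw [HomologicalComplex.ι_mapBifunctorMap]
  simp

end Tot

section Main

variable {R : Type v} [CommRing R]

lemma comm_app {X Y Y' Z : ModuleCat.{v} R} {f : X ⟶ Y} {g : Y ⟶ Z} {f' : X ⟶ Y'} {g' : Y' ⟶ Z}
    (h : f ≫ g = f' ≫ g') (x : X) : g.hom (f.hom x) = g'.hom (f'.hom x) :=
  congr_arg (fun m => m.hom x) h

lemma id_app {X Y : ModuleCat.{v} R} {f : X ⟶ Y} {g : Y ⟶ X}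
    (h : f ≫ g = 𝟙 X) (x : X) : g.hom (f.hom x) = x :=
  congr_arg (fun m => m.hom x) h

lemma inc_injective (K₁ K₂ : ChainComplex (ModuleCat.{v} R) ℕ) (i j n : ℕ) (h : i + j = n) :
    Function.Injective (inc K₁ K₂ i j n h).hom := by
  intro x y hxy
  have := congr_arg (proj K₁ K₂ i j n).hom hxy
  rwa [id_app (inc_proj K₁ K₂ i j n h), id_app (inc_proj K₁ K₂ i j n h)] at this

section Elt

variable (K₁ K₂ : ChainComplex (ModuleCat.{v} R) ℕ)

lemma decomp1_app (t : ↑((K₁ ⊗ K₂).X 1)) :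
    t = (inc K₁ K₂ 1 0 1 rfl).hom ((proj K₁ K₂ 1 0 1).hom t) +
      (inc K₁ K₂ 0 1 1 rfl).hom ((proj K₁ K₂ 0 1 1).hom t) :=
  congr_arg (fun m => m.hom t) (decomp1 K₁ K₂)

lemma decomp2_app (t : ↑((K₁ ⊗ K₂).X 2)) :
    t = (inc K₁ K₂ 2 0 2 rfl).hom ((proj K₁ K₂ 2 0 2).hom t) +
      (inc K₁ K₂ 1 1 2 rfl).hom ((proj K₁ K₂ 1 1 2).hom t) +
      (inc K₁ K₂ 0 2 2 rfl).hom ((proj K₁ K₂ 0 2 2).hom t) :=
  congr_arg (fun m => m.hom t) (decomp2 K₁ K₂)

lemma d_1_0_app (x : ↑(K₁.X 1 ⊗ K₂.X 0)) :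
    ((K₁ ⊗ K₂).d 1 0).hom ((inc K₁ K₂ 1 0 1 rfl).hom x) =
      (inc K₁ K₂ 0 0 0 rfl).hom ((K₁.d 1 0 ▷ K₂.X 0).hom x) :=
  comm_app (inc_d_succ_zero K₁ K₂ 0) x

lemma d_2_0_app (x : ↑(K₁.X 2 ⊗ K₂.X 0)) :
    ((K₁ ⊗ K₂).d 2 1).hom ((inc K₁ K₂ 2 0 2 rfl).hom x) =
      (inc K₁ K₂ 1 0 1 rfl).hom ((K₁.d 2 1 ▷ K₂.X 0).hom x) :=
  comm_app (inc_d_succ_zero K₁ K₂ 1) x

lemma d_0_1_app (y : ↑(K₁.X 0 ⊗ K₂.X 1)) :
    ((K₁ ⊗ K₂).d 1 0).hom ((inc K₁ K₂ 0 1 1 rfl).hom y) =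
      (inc K₁ K₂ 0 0 0 rfl).hom ((K₁.X 0 ◁ K₂.d 1 0).hom y) :=
  comm_app (inc_d_zero_succ K₁ K₂ 0) y

lemma d_0_2_app (y : ↑(K₁.X 0 ⊗ K₂.X 2)) :
    ((K₁ ⊗ K₂).d 2 1).hom ((inc K₁ K₂ 0 2 2 rfl).hom y) =
      (inc K₁ K₂ 0 1 1 rfl).hom ((K₁.X 0 ◁ K₂.d 2 1).hom y) :=
  comm_app (inc_d_zero_succ K₁ K₂ 1) y

lemma d_1_1_app (v : ↑(K₁.X 1 ⊗ K₂.X 1)) :
    ((K₁ ⊗ K₂).d 2 1).hom ((inc K₁ K₂ 1 1 2 rfl).hom v) =
      (inc K₁ K₂ 0 1 1 rfl).hom ((K₁.d 1 0 ▷ K₂.X 1).hom v) -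
        (inc K₁ K₂ 1 0 1 rfl).hom ((K₁.X 1 ◁ K₂.d 1 0).hom v) :=
  congr_arg (fun m => m.hom v) (inc_d_one_one K₁ K₂)

lemma d_d_app (t : ↑((K₁ ⊗ K₂).X 2)) :
    ((K₁ ⊗ K₂).d 1 0).hom (((K₁ ⊗ K₂).d 2 1).hom t) = 0 :=
  congr_arg (fun m => m.hom t) ((K₁ ⊗ K₂).d_comp_d 2 1 0)

variable {K₂} in
lemma map_app {L₂ : ChainComplex (ModuleCat.{v} R) ℕ} (g : K₂ ⟶ L₂) (i j n : ℕ) (h : i + j = n)
    (x : ↑(K₁.X i ⊗ K₂.X j)) :
    ((K₁ ◁ g).f n).hom ((inc K₁ K₂ i j n h).hom x) =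
      (inc K₁ L₂ i j n h).hom ((K₁.X i ◁ g.f j).hom x) :=
  comm_app (inc_map K₁ g i j n h) x

end Elt

variable (C P : ChainComplex (ModuleCat.{v} R) ℕ) (G : ModuleCat.{v} R)
  [Module.Flat R (C.X 0)] [∀ q, Module.Projective R (P.X q)]
  (π : P ⟶ (ChainComplex.single₀ (ModuleCat.{v} R)).obj G) [QuasiIso π]

/-- the projective resolution -/
noncomputable def res : ProjectiveResolution G where
  complex := P
  projective := fun n => inferInstance
  π := π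

lemma isZero_tensor_single (i j : ℕ) :
    IsZero (C.X i ⊗ ((ChainComplex.single₀ (ModuleCat.{v} R)).obj G).X (j+1)) := by
  have : IsZero (((ChainComplex.single₀ (ModuleCat.{v} R)).obj G).X (j+1)) := by
    apply HomologicalComplex.isZero_single_obj_X
    simp
  exact (tensorLeft (C.X i)).map_isZero this


lemma fexact₀ : Function.Exact (P.d 1 0).hom (π.f 0).hom :=
  (ShortComplex.ShortExact.moduleCat_exact_iff_function_exact _).mp (res P G π).exact₀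

include π in
lemma fexact₁ : Function.Exact (P.d 2 1).hom (P.d 1 0).hom :=
  (ShortComplex.ShortExact.moduleCat_exact_iff_function_exact _).mp ((res P G π).exact_succ 0)

lemma surj₀ : Function.Surjective (π.f 0).hom :=
  (ModuleCat.epi_iff_surjective _).mp (inferInstanceAs (Epi ((res P G π).π.f 0)))

lemma surj_π (i : ℕ) : Function.Surjective (C.X i ◁ π.f 0).hom :=
  LinearMap.lTensor_surjective (C.X i) (surj₀ P G π)

lemma exact_π (i : ℕ) (a : ↑(C.X i ⊗ P.X 0)) (ha : (C.X i ◁ π.f 0).hom a = 0) :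
    ∃ b : ↑(C.X i ⊗ P.X 1), (C.X i ◁ P.d 1 0).hom b = a :=
  ((lTensor_exact (C.X i) (fexact₀ P G π) (surj₀ P G π)) a).mp ha

include π in
lemma exact_P1 (a : ↑(C.X 0 ⊗ P.X 1)) (ha : (C.X 0 ◁ P.d 1 0).hom a = 0) :
    ∃ b : ↑(C.X 0 ⊗ P.X 2), (C.X 0 ◁ P.d 2 1).hom b = a :=
  ((Module.Flat.lTensor_exact (C.X 0) (fexact₁ P G π)) a).mp ha


theorem main : IsIso (HomologicalComplex.homologyMap (C ◁ π) 1) := by
  let Q : ChainComplex (ModuleCat.{v} R) ℕ := (ChainComplex.single₀ (ModuleCat.{v} R)).obj G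
  have hz : ∀ (i j n : ℕ) (h : i + (j+1) = n), inc C Q i (j+1) n h = 0 :=
    fun i j n h => (isZero_tensor_single C G i j).eq_of_src _ _
  have hπz : ∀ (i j : ℕ), (C.X i ◁ π.f (j+1)) = 0 :=
    fun i j => (isZero_tensor_single C G i j).eq_of_tgt _ _
  apply isIso_homologyMap_of_chase (C ◁ π) 2 1 0 (by simp) (by simp)
  · -- surjectivity
    intro z' hz'
    set x' := (proj C Q 1 0 1).hom z' with hx'
    have hz'eq : z' = (inc C Q 1 0 1 rfl).hom x' := by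
      have := decomp1_app C Q z'
      rw [hz 0 0 1 rfl] at this
      simpa using this
    have hx'0 : (C.d 1 0 ▷ Q.X 0).hom x' = 0 := by
      apply inc_injective C Q 0 0 0 rfl
      rw [← d_1_0_app, ← hz'eq, hz', map_zero]
    obtain ⟨x, hx⟩ := surj_π C P G π 1 x'
    have ha : (C.X 0 ◁ π.f 0).hom ((C.d 1 0 ▷ P.X 0).hom x) = 0 := by
      rw [← comm_app (whisker_exchange (C.d 1 0) (π.f 0)) x, hx, hx'0]
    obtain ⟨y, hy⟩ := exact_π C P G π 0 _ ha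
    refine ⟨(inc C P 1 0 1 rfl).hom x - (inc C P 0 1 1 rfl).hom y, ?_, 0, ?_⟩
    · rw [map_sub, d_1_0_app, d_0_1_app, hy, sub_self]
    · rw [map_zero, map_sub, map_app, map_app, hz 0 0 1 rfl, hx, ← hz'eq]
      simp
  · -- injectivity
    rintro z hz0 ⟨w', hw'⟩
    set x := (proj C P 1 0 1).hom z with hxdef
    set y := (proj C P 0 1 1).hom z with hydef
    have hzeq : z = (inc C P 1 0 1 rfl).hom x + (inc C P 0 1 1 rfl).hom y := decomp1_app C P z
    set w'' := (proj C Q 2 0 2).hom w' with hw''def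
    have hw'eq : w' = (inc C Q 2 0 2 rfl).hom w'' := by
      have := decomp2_app C Q w'
      rw [hz 1 0 2 rfl, hz 0 1 2 rfl] at this
      simpa using this
    obtain ⟨w, hw⟩ := surj_π C P G π 2 w''
    have h1 : (C.X 1 ◁ π.f 0).hom x = (C.d 2 1 ▷ Q.X 0).hom w'' := by
      apply inc_injective C Q 1 0 1 rfl
      rw [← d_2_0_app, ← hw'eq, ← hw']
      conv_rhs => rw [hzeq]
      rw [map_add, map_app, map_app, hz 0 0 1 rfl]
      simp
      rfl
    have h2 : (C.X 1 ◁ π.f 0).hom (x - (C.d 2 1 ▷ P.X 0).hom w) = 0 := by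
      rw [map_sub, h1, ← hw, comm_app (whisker_exchange (C.d 2 1) (π.f 0)) w, sub_self]
    obtain ⟨v, hv⟩ := exact_π C P G π 1 _ h2
    set y'' := y + (C.d 1 0 ▷ P.X 1).hom v with hy''
    have h3 : z = ((C ⊗ P).d 2 1).hom ((inc C P 2 0 2 rfl).hom w - (inc C P 1 1 2 rfl).hom v) +
        (inc C P 0 1 1 rfl).hom y'' := by
      rw [map_sub, d_2_0_app, d_1_1_app]
      have hx2 : x = (C.d 2 1 ▷ P.X 0).hom w + (C.X 1 ◁ P.d 1 0).hom v := by rw [hv]; abel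
      conv_lhs => rw [hzeq, hx2]
      rw [hy'', map_add, map_add]
      abel
    have h4 : (C.X 0 ◁ P.d 1 0).hom y'' = 0 := by
      apply inc_injective C P 0 0 0 rfl
      rw [← d_0_1_app, map_zero]
      have := congr_arg ((C ⊗ P).d 1 0).hom h3
      rw [hz0, map_add, d_d_app, zero_add] at this
      exact this.symm
    obtain ⟨u, hu⟩ := exact_P1 C P G π _ h4
    refine ⟨(inc C P 2 0 2 rfl).hom w - (inc C P 1 1 2 rfl).hom v + (inc C P 0 2 2 rfl).hom u, ?_⟩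
    rw [map_add, d_0_2_app, hu]
    exact h3

end Main

end Groth.Agent.Lib.Helper32.TenLowDeg
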