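import Mathlib
import Groth.Agent.Lib.Helper32.TenLowDeg

/-!
Element calculus for the tensor product of `ℤ`-indexed cochain complexes of modules
(inclusions/projections of summands, finite decompositions, differential formula).
-/

set_option autoImplicit false
universe u
open CategoryTheory CategoryTheory.Limits MonoidalCategory HomologicalComplex

namespace Groth.Agent.Lib.Helper32.KunTen

section Tot

variable {R : Type u} [CommRing R] (K₁ K₂ : CochainComplex (ModuleCat.{u} R) ℤ)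

/-- inclusion of a summand -/
noncomputable abbrev inc (i j n : ℤ) (h : i + j = n) : K₁.X i ⊗ K₂.X j ⟶ (K₁ ⊗ K₂).X n :=
  HomologicalComplex.ιTensorObj K₁ K₂ i j n h

/-- projection to a summand -/
noncomputable def proj (i j n : ℤ) : (K₁ ⊗ K₂).X n ⟶ K₁.X i ⊗ K₂.X j :=
  HomologicalComplex.mapBifunctorDesc (K₁ := K₁) (K₂ := K₂) (F := curriedTensor _)
    (c := ComplexShape.up ℤ) (fun i' j' _ =>
    if h' : i' = i ∧ j' = j then eqToHom (by obtain ⟨rfl, rfl⟩ := h'; rfl) else 0)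

lemma inc_proj (i j n : ℤ) (h : i + j = n) : inc K₁ K₂ i j n h ≫ proj K₁ K₂ i j n = 𝟙 _ := by
  unfold inc proj
  erw [HomologicalComplex.ι_mapBifunctorDesc]
  simp

lemma inc_proj_ne (i' j' i j n : ℤ) (h : i' + j' = n) (hne : ¬ (i' = i ∧ j' = j)) :
    inc K₁ K₂ i' j' n h ≫ proj K₁ K₂ i j n = 0 := by
  unfold inc proj
  erw [HomologicalComplex.ι_mapBifunctorDesc]
  simp [hne]

lemma hom_ext' {n : ℤ} {Y : ModuleCat.{u} R} {f g : (K₁ ⊗ K₂).X n ⟶ Y}
    (h : ∀ (i j : ℤ) (h : i + j = n), inc K₁ K₂ i j n h ≫ f = inc K₁ K₂ i j n h ≫ g) : f = g :=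
  HomologicalComplex.mapBifunctor.hom_ext (K₁ := K₁) (K₂ := K₂) (F := curriedTensor _)
    (c := ComplexShape.up ℤ) h

lemma inc_proj_apply (i j n : ℤ) (h : i + j = n) (t : ↑(K₁.X i ⊗ K₂.X j)) :
    (proj K₁ K₂ i j n).hom ((inc K₁ K₂ i j n h).hom t) = t :=
  congr_arg (fun m => m.hom t) (inc_proj K₁ K₂ i j n h)

lemma inc_proj_ne_apply (i' j' i j n : ℤ) (h : i' + j' = n) (hne : ¬ (i' = i ∧ j' = j))
    (t : ↑(K₁.X i' ⊗ K₂.X j')) :
    (proj K₁ K₂ i j n).hom ((inc K₁ K₂ i' j' n h).hom t) = 0 :=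
  congr_arg (fun m => m.hom t) (inc_proj_ne K₁ K₂ i' j' i j n h hne)

/-- the summands span -/
lemma iSup_range_inc (n : ℤ) :
    (⨆ (i : ℤ), LinearMap.range (inc K₁ K₂ i (n - i) n (by ring)).hom) = ⊤ := by
  set S := ⨆ (i : ℤ), LinearMap.range (inc K₁ K₂ i (n - i) n (by ring)).hom with hS
  have h0 : ModuleCat.ofHom S.mkQ = (0 : (K₁ ⊗ K₂).X n ⟶ ModuleCat.of R (_ ⧸ S)) := by
    apply hom_ext'
    intro i j h
    obtain rfl : j = n - i := by omega
    rw [comp_zero]
    ext t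
    show S.mkQ ((inc K₁ K₂ i (n - i) n _).hom t) = 0
    rw [Submodule.mkQ_apply, Submodule.Quotient.mk_eq_zero]
    exact (le_iSup (fun i : ℤ => LinearMap.range (inc K₁ K₂ i (n - i) n (by ring)).hom) i)
      (LinearMap.mem_range_self _ t)
  rw [eq_top_iff]
  intro x _
  have := congr_arg (fun m => m.hom x) h0
  have h1 : S.mkQ x = 0 := this
  rwa [Submodule.mkQ_apply, Submodule.Quotient.mk_eq_zero] at h1

/-- induction principle for elements of the tensor complex -/
lemma induction_on {n : ℤ} {P : ↑((K₁ ⊗ K₂).X n) → Prop} (x : ↑((K₁ ⊗ K₂).X n))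
    (h0 : P 0) (hadd : ∀ x y, P x → P y → P (x + y))
    (hinc : ∀ (i j : ℤ) (h : i + j = n) (t : ↑(K₁.X i ⊗ K₂.X j)), P ((inc K₁ K₂ i j n h).hom t)) :
    P x := by
  have hx : x ∈ (⨆ (i : ℤ), LinearMap.range (inc K₁ K₂ i (n - i) n (by ring)).hom) := by
    rw [iSup_range_inc]; trivial
  refine Submodule.iSup_induction _ (motive := P) hx ?_ h0 hadd
  rintro i _ ⟨t, rfl⟩
  exact hinc i (n - i) (by ring) t

/-- finite decomposition of an element -/
lemma exists_decomp {n : ℤ} (x : ↑((K₁ ⊗ K₂).X n)) : ∃ s : Finset ℤ,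
    x = ∑ i ∈ s, (inc K₁ K₂ i (n - i) n (by ring)).hom ((proj K₁ K₂ i (n - i) n).hom x) ∧
    ∀ i, i ∉ s → (proj K₁ K₂ i (n - i) n).hom x = 0 := by
  classical
  refine induction_on K₁ K₂ (P := fun x => ∃ s : Finset ℤ,
    x = ∑ i ∈ s, (inc K₁ K₂ i (n - i) n (by ring)).hom ((proj K₁ K₂ i (n - i) n).hom x) ∧
    ∀ i, i ∉ s → (proj K₁ K₂ i (n - i) n).hom x = 0) x ⟨∅, by simp, fun i _ => by simp⟩ ?_ ?_
  · rintro x y ⟨s, hx, hx'⟩ ⟨t, hy, hy'⟩
    refine ⟨s ∪ t, ?_, ?_⟩
    · have e1 : x = ∑ i ∈ s ∪ t, (inc K₁ K₂ i (n - i) n (by ring)).hom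
          ((proj K₁ K₂ i (n - i) n).hom x) := by
        conv_lhs => rw [hx]
        apply Finset.sum_subset Finset.subset_union_left
        intro i _ hi
        rw [hx' i hi, map_zero]
      have e2 : y = ∑ i ∈ s ∪ t, (inc K₁ K₂ i (n - i) n (by ring)).hom
          ((proj K₁ K₂ i (n - i) n).hom y) := by
        conv_lhs => rw [hy]
        apply Finset.sum_subset Finset.subset_union_right
        intro i _ hi
        rw [hy' i hi, map_zero]
      conv_lhs => rw [e1, e2]
      rw [← Finset.sum_add_distrib]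
      apply Finset.sum_congr rfl
      intro i _
      rw [map_add, map_add]
    · intro i hi
      rw [Finset.mem_union, not_or] at hi
      rw [map_add, hx' i hi.1, hy' i hi.2, add_zero]
  · intro i j h t
    obtain rfl : j = n - i := by omega
    refine ⟨{i}, ?_, ?_⟩
    · rw [Finset.sum_singleton, inc_proj_apply]
    · intro i' hi'
      rw [Finset.mem_singleton] at hi'
      exact inc_proj_ne_apply K₁ K₂ i (n - i) i' (n - i') n (by ring) (fun hh => hi' hh.1.symm) t

/-- elements are determined by their projections -/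
lemma eq_zero_of_proj {n : ℤ} (x : ↑((K₁ ⊗ K₂).X n))
    (h : ∀ i j : ℤ, i + j = n → (proj K₁ K₂ i j n).hom x = 0) : x = 0 := by
  obtain ⟨s, hx, -⟩ := exists_decomp K₁ K₂ x
  rw [hx]
  apply Finset.sum_eq_zero
  intro i _
  rw [h i (n - i) (by ring), map_zero]

/-- general formula for the differential on a summand -/
lemma inc_d (i j n n' : ℤ) (h : i + j = n) :
    inc K₁ K₂ i j n h ≫ (K₁ ⊗ K₂).d n n' =
      HomologicalComplex.mapBifunctor.d₁ K₁ K₂ (curriedTensor _) (ComplexShape.up ℤ) i j n' +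
      HomologicalComplex.mapBifunctor.d₂ K₁ K₂ (curriedTensor _) (ComplexShape.up ℤ) i j n' := by
  unfold inc
  erw [HomologicalComplex.mapBifunctor.d_eq]
  rw [Preadditive.comp_add]
  erw [HomologicalComplex.mapBifunctor.ι_D₁, HomologicalComplex.mapBifunctor.ι_D₂]

lemma inc_d_succ (i j n : ℤ) (h : i + j = n) :
    inc K₁ K₂ i j n h ≫ (K₁ ⊗ K₂).d n (n+1) =
      (K₁.d i (i+1) ▷ K₂.X j) ≫ inc K₁ K₂ (i+1) j (n+1) (by omega) +
      i.negOnePow • ((K₁.X i ◁ K₂.d j (j+1)) ≫ inc K₁ K₂ i (j+1) (n+1) (by omega)) := by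
  rw [inc_d, HomologicalComplex.mapBifunctor.d₁_eq K₁ K₂ _ _
      (show (ComplexShape.up ℤ).Rel i (i+1) from rfl) j (n+1) (by show i + 1 + j = n + 1; omega),
    HomologicalComplex.mapBifunctor.d₂_eq K₁ K₂ _ _ i
      (show (ComplexShape.up ℤ).Rel j (j+1) from rfl) (n+1) (by show i + (j + 1) = n + 1; omega)]
  have e1 : ComplexShape.ε₁ (ComplexShape.up ℤ) (ComplexShape.up ℤ) (ComplexShape.up ℤ) (i, j) = 1 :=
    rfl
  have e2 : ComplexShape.ε₂ (ComplexShape.up ℤ) (ComplexShape.up ℤ) (ComplexShape.up ℤ) (i, j) =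
    i.negOnePow := rfl
  rw [e1, e2, one_smul]
  rfl

lemma inc_d_succ_apply (i j n : ℤ) (h : i + j = n) (x : K₁.X i) (y : K₂.X j) :
    ((K₁ ⊗ K₂).d n (n+1)).hom ((inc K₁ K₂ i j n h).hom (x ⊗ₜ[R] y)) =
      (inc K₁ K₂ (i+1) j (n+1) (by omega)).hom ((K₁.d i (i+1)).hom x ⊗ₜ[R] y) +
      (i.negOnePow : ℤ) • (inc K₁ K₂ i (j+1) (n+1) (by omega)).hom (x ⊗ₜ[R] (K₂.d j (j+1)).hom y) := by
  have := congr_arg (fun m => m.hom (x ⊗ₜ[R] y)) (inc_d_succ K₁ K₂ i j n h)
  simp only [ModuleCat.hom_comp, LinearMap.comp_apply, ModuleCat.hom_add, LinearMap.add_apply] at this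
  rw [this]
  rfl

variable {K₂} in
lemma inc_map {L₂ : CochainComplex (ModuleCat.{u} R) ℤ} (g : K₂ ⟶ L₂) (i j n : ℤ) (h : i + j = n) :
    inc K₁ K₂ i j n h ≫ (K₁ ◁ g).f n = (K₁.X i ◁ g.f j) ≫ inc K₁ L₂ i j n h := by
  unfold inc
  erw [HomologicalComplex.ι_mapBifunctorMap]
  simp

variable {K₂} in
lemma inc_map_apply {L₂ : CochainComplex (ModuleCat.{u} R) ℤ} (g : K₂ ⟶ L₂) (i j n : ℤ)
    (h : i + j = n) (x : K₁.X i) (y : K₂.X j) :
    ((K₁ ◁ g).f n).hom ((inc K₁ K₂ i j n h).hom (x ⊗ₜ[R] y)) =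
      (inc K₁ L₂ i j n h).hom (x ⊗ₜ[R] (g.f j).hom y) :=
  congr_arg (fun m => m.hom (x ⊗ₜ[R] y)) (inc_map K₁ g i j n h)

variable {K₂} in
lemma proj_map {L₂ : CochainComplex (ModuleCat.{u} R) ℤ} (g : K₂ ⟶ L₂) (i j n : ℤ) :
    (K₁ ◁ g).f n ≫ proj K₁ L₂ i j n = proj K₁ K₂ i j n ≫ (K₁.X i ◁ g.f j) := by
  apply hom_ext'
  intro i' j' h
  rw [← Category.assoc, inc_map, Category.assoc, ← Category.assoc (inc K₁ K₂ i' j' n h)]
  by_cases hh : i' = i ∧ j' = j
  · obtain ⟨rfl, rfl⟩ := hh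
    rw [inc_proj, inc_proj, Category.comp_id, Category.id_comp]
  · rw [inc_proj_ne _ _ _ _ _ _ _ h hh, inc_proj_ne _ _ _ _ _ _ _ h hh, comp_zero, zero_comp]

end Tot

section Exact

variable {R : Type u} [CommRing R] (L : CochainComplex (ModuleCat.{u} R) ℤ)

lemma subsingleton_tensor_left (X Y : ModuleCat.{u} R) (h : IsZero X) : IsZero (X ⊗ Y) := by
  haveI := ModuleCat.subsingleton_of_isZero h
  haveI : Subsingleton (TensorProduct R X Y) := by
    refine ⟨fun a b => ?_⟩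
    have : ∀ t : TensorProduct R X Y, t = 0 := by
      intro t
      induction t using TensorProduct.induction_on with
      | zero => rfl
      | tmul x y => rw [Subsingleton.elim x 0, TensorProduct.zero_tmul]
      | add a b ha hb => rw [ha, hb, add_zero]
    rw [this a, this b]
  exact ModuleCat.isZero_of_subsingleton _

lemma subsingleton_tensor_right (X Y : ModuleCat.{u} R) (h : IsZero Y) : IsZero (X ⊗ Y) := by
  haveI := ModuleCat.subsingleton_of_isZero h
  haveI : Subsingleton (TensorProduct R X Y) := by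
    refine ⟨fun a b => ?_⟩
    have : ∀ t : TensorProduct R X Y, t = 0 := by
      intro t
      induction t using TensorProduct.induction_on with
      | zero => rfl
      | tmul x y => rw [Subsingleton.elim y 0, TensorProduct.tmul_zero]
      | add a b ha hb => rw [ha, hb, add_zero]
    rw [this a, this b]
  exact ModuleCat.isZero_of_subsingleton _

/-- vanishing of the tensor complex in high degrees -/
lemma isZero_tensor_X (M : CochainComplex (ModuleCat.{u} R) ℤ) (bL b : ℤ)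
    (hL : ∀ i, bL < i → IsZero (L.X i)) (hM : ∀ j, b < j → IsZero (M.X j)) (n : ℤ)
    (hn : bL + b < n) : IsZero ((L ⊗ M).X n) := by
  rw [IsZero.iff_id_eq_zero]
  apply hom_ext'
  intro i j h
  have hz : IsZero (L.X i ⊗ M.X j) := by
    by_cases hi : bL < i
    · exact subsingleton_tensor_left _ _ (hL i hi)
    · exact subsingleton_tensor_right _ _ (hM j (by omega))
  exact hz.eq_of_src _ _

variable {M₁ P M : CochainComplex (ModuleCat.{u} R) ℤ} (f : M₁ ⟶ P) (g : P ⟶ M)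

lemma whiskerLeft_hom (X : ModuleCat.{u} R) {Y Z : ModuleCat.{u} R} (φ : Y ⟶ Z) :
    (X ◁ φ).hom = LinearMap.lTensor X φ.hom := rfl

lemma whiskerLeft_zero' (M₁ M : CochainComplex (ModuleCat.{u} R) ℤ) :
    L ◁ (0 : M₁ ⟶ M) = 0 := by
  ext n : 1
  apply hom_ext'
  intro i j h
  rw [inc_map, HomologicalComplex.zero_f, MonoidalPreadditive.whiskerLeft_zero, zero_comp,
    HomologicalComplex.zero_f, comp_zero]

lemma injective_whiskerLeft (hflat : ∀ i, Module.Flat R (L.X i))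
    (hf : ∀ j, Function.Injective (f.f j).hom) (n : ℤ) :
    Function.Injective ((L ◁ f).f n).hom := by
  rw [injective_iff_map_eq_zero]
  intro x hx
  apply eq_zero_of_proj
  intro i j h
  have h1 := congr_arg (fun m => m.hom x) (proj_map L f i j n)
  have h2 : (proj L P i j n).hom (((L ◁ f).f n).hom x) =
      (L.X i ◁ f.f j).hom ((proj L M₁ i j n).hom x) := h1
  rw [hx, map_zero] at h2
  haveI := hflat i
  have hinj : Function.Injective (L.X i ◁ f.f j).hom := by
    rw [whiskerLeft_hom]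
    exact Module.Flat.lTensor_preserves_injective_linearMap _ (hf j)
  exact hinj (by rw [← h2, map_zero])

lemma surjective_whiskerLeft (hg : ∀ j, Function.Surjective (g.f j).hom) (n : ℤ) :
    Function.Surjective ((L ◁ g).f n).hom := by
  intro y
  refine induction_on L M (P := fun y => ∃ x, ((L ◁ g).f n).hom x = y) y ⟨0, map_zero _⟩ ?_ ?_
  · rintro _ _ ⟨x, rfl⟩ ⟨x', rfl⟩
    exact ⟨x + x', map_add _ _ _⟩
  · intro i j h t
    have hsurj : Function.Surjective (L.X i ◁ g.f j).hom := by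
      rw [whiskerLeft_hom]
      exact LinearMap.lTensor_surjective _ (hg j)
    obtain ⟨t', rfl⟩ := hsurj t
    refine ⟨(inc L P i j n h).hom t', ?_⟩
    exact congr_arg (fun m => m.hom t') (inc_map L g i j n h)

lemma exact_whiskerLeft (w : f ≫ g = 0)
    (hex : ∀ j, Function.Exact (f.f j).hom (g.f j).hom)
    (hg : ∀ j, Function.Surjective (g.f j).hom) (n : ℤ) :
    Function.Exact ((L ◁ f).f n).hom ((L ◁ g).f n).hom := by
  intro y
  constructor
  · intro hy
    obtain ⟨s, hs, -⟩ := exists_decomp L P y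
    have hterm : ∀ i : ℤ, ∃ t : ↑(L.X i ⊗ M₁.X (n - i)),
        (L.X i ◁ f.f (n - i)).hom t = (proj L P i (n - i) n).hom y := by
      intro i
      have h1 := congr_arg (fun m => m.hom y) (proj_map L g i (n - i) n)
      have h2 : (proj L M i (n - i) n).hom (((L ◁ g).f n).hom y) =
          (L.X i ◁ g.f (n - i)).hom ((proj L P i (n - i) n).hom y) := h1
      rw [hy, map_zero] at h2
      have hex' : Function.Exact (L.X i ◁ f.f (n - i)).hom (L.X i ◁ g.f (n - i)).hom := by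
        rw [whiskerLeft_hom, whiskerLeft_hom]
        exact lTensor_exact _ (hex (n - i)) (hg (n - i))
      exact (hex' _).mp h2.symm
    choose t ht using hterm
    refine ⟨∑ i ∈ s, (inc L M₁ i (n - i) n (by ring)).hom (t i), ?_⟩
    rw [map_sum]
    conv_rhs => rw [hs]
    apply Finset.sum_congr rfl
    intro i _
    rw [← ht i]
    exact congr_arg (fun m => m.hom (t i)) (inc_map L f i (n - i) n (by ring))
  · rintro ⟨x, rfl⟩
    have : (L ◁ f) ≫ (L ◁ g) = 0 := by
      rw [← MonoidalCategory.whiskerLeft_comp, w, whiskerLeft_zero']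
    exact congr_arg (fun m => (m.f n).hom x) this

end Exact

section More

variable {R : Type u} [CommRing R] (K₁ K₂ : CochainComplex (ModuleCat.{u} R) ℤ)

/-- the differential formula with flexible indices -/
lemma inc_d_apply (i j n i' j' n' : ℤ) (h : i + j = n) (hi : i + 1 = i') (hj : j + 1 = j')
    (hn : n + 1 = n') (x : K₁.X i) (y : K₂.X j) :
    ((K₁ ⊗ K₂).d n n').hom ((inc K₁ K₂ i j n h).hom (x ⊗ₜ[R] y)) =
      (inc K₁ K₂ i' j n' (by omega)).hom ((K₁.d i i').hom x ⊗ₜ[R] y) +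
      (i.negOnePow : ℤ) • (inc K₁ K₂ i j' n' (by omega)).hom (x ⊗ₜ[R] (K₂.d j j').hom y) := by
  subst hi hj hn
  exact inc_d_succ_apply K₁ K₂ i j n h x y

lemma inc_injective (i j n : ℤ) (h : i + j = n) : Function.Injective (inc K₁ K₂ i j n h).hom := by
  intro x y hxy
  have := congr_arg (proj K₁ K₂ i j n).hom hxy
  rwa [inc_proj_apply, inc_proj_apply] at this

end More

end Groth.Agent.Lib.Helper32.KunTen
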