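import Mathlib
import Groth.Agent.Lib.Helper32.KunTen

/-!
Element-level long exact homology sequence for short exact sequences of `ℤ`-indexed cochain
complexes of modules, and for their tensor products with a termwise flat complex.
-/

set_option autoImplicit false
universe u
open CategoryTheory CategoryTheory.Limits MonoidalCategory HomologicalComplex

namespace Groth.Agent.Lib.Helper32.KunLES

open Groth.Agent.Lib.Helper32.KunTen

variable {R : Type u} [CommRing R]

section General

variable (S : ShortComplex (CochainComplex (ModuleCat.{u} R) ℤ)) (hS : S.ShortExact)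

/-- the connecting homomorphism -/
noncomputable def δ (n : ℤ) : S.X₃.homology n →ₗ[R] S.X₁.homology (n+1) :=
  (hS.δ n (n+1) rfl).hom

include hS in
lemma exact₂ (n : ℤ) : Function.Exact (HomologicalComplex.homologyMap S.f n).hom
    (HomologicalComplex.homologyMap S.g n).hom :=
  (ShortComplex.ShortExact.moduleCat_exact_iff_function_exact _).1 (hS.homology_exact₂ n)

lemma exact₃ (n : ℤ) : Function.Exact (HomologicalComplex.homologyMap S.g n).hom (δ S hS n) :=
  (ShortComplex.ShortExact.moduleCat_exact_iff_function_exact _).1 (hS.homology_exact₃ n (n+1) rfl)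

lemma exact₁ (n : ℤ) : Function.Exact (δ S hS n) (HomologicalComplex.homologyMap S.f (n+1)).hom :=
  (ShortComplex.ShortExact.moduleCat_exact_iff_function_exact _).1 (hS.homology_exact₁ n (n+1) rfl)

include hS in
lemma degreewise (j : ℤ) : (S.map (HomologicalComplex.eval _ _ j)).ShortExact :=
  (HomologicalComplex.shortExact_iff_degreewise_shortExact S).1 hS j

include hS in
lemma f_injective (j : ℤ) : Function.Injective (S.f.f j).hom :=
  (degreewise S hS j).moduleCat_injective_f

include hS in
lemma g_surjective (j : ℤ) : Function.Surjective (S.g.f j).hom :=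
  (degreewise S hS j).moduleCat_surjective_g

include hS in
lemma fg_exact (j : ℤ) : Function.Exact (S.f.f j).hom (S.g.f j).hom :=
  (ShortComplex.ShortExact.moduleCat_exact_iff_function_exact _).1 (degreewise S hS j).exact

include hS in
/-- if the quotient is acyclic, the inclusion is a quasi-isomorphism -/
lemma bijective_of_acyclic₃ (h3 : ∀ n, IsZero (S.X₃.homology n)) (n : ℤ) :
    Function.Bijective (HomologicalComplex.homologyMap S.f n).hom := by
  constructor
  · rw [injective_iff_map_eq_zero]
    intro x hx
    obtain ⟨m, rfl⟩ : ∃ m, n = m + 1 := ⟨n - 1, by ring⟩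
    obtain ⟨y, rfl⟩ := (exact₁ S hS m x).mp hx
    haveI := ModuleCat.subsingleton_of_isZero (h3 m)
    rw [Subsingleton.elim y 0, map_zero]
  · intro y
    haveI := ModuleCat.subsingleton_of_isZero (h3 n)
    exact (exact₂ S hS n y).mp (Subsingleton.elim _ _)

end General

section Tensor

variable (L : CochainComplex (ModuleCat.{u} R) ℤ)
  (S : ShortComplex (CochainComplex (ModuleCat.{u} R) ℤ))

/-- tensoring a short complex of complexes with `L` -/
noncomputable def ten : ShortComplex (CochainComplex (ModuleCat.{u} R) ℤ) :=
  ShortComplex.mk (L ◁ S.f) (L ◁ S.g) (by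
    rw [← MonoidalCategory.whiskerLeft_comp, S.zero, whiskerLeft_zero'])

lemma ten_shortExact (hL : ∀ i, Module.Flat R (L.X i)) (hS : S.ShortExact) :
    (ten L S).ShortExact := by
  apply HomologicalComplex.shortExact_of_degreewise_shortExact
  intro n
  apply ModuleCat.shortComplex_shortExact
  · exact exact_whiskerLeft L S.f S.g S.zero (fg_exact S hS) (g_surjective S hS) n
  · exact injective_whiskerLeft L S.f hL (f_injective S hS) n
  · exact surjective_whiskerLeft L S.g (g_surjective S hS) n

end Tensor

section Kernel

variable {P M : CochainComplex (ModuleCat.{u} R) ℤ} (π : P ⟶ M)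

/-- the kernel short complex of a morphism -/
noncomputable def kerSC : ShortComplex (CochainComplex (ModuleCat.{u} R) ℤ) :=
  ShortComplex.mk (kernel.ι π) π (kernel.condition π)

lemma kerSC_shortExact (hπ : ∀ j, Function.Surjective (π.f j).hom) : (kerSC π).ShortExact := by
  haveI : ∀ j, Epi (π.f j) := fun j => (ModuleCat.epi_iff_surjective _).2 (hπ j)
  haveI : Epi π := HomologicalComplex.epi_of_epi_f π inferInstance
  exact ShortComplex.ShortExact.mk' (ShortComplex.exact_of_f_is_kernel _ (kernelIsKernel π))
    (by dsimp [kerSC]; infer_instance) (by dsimp [kerSC]; infer_instance)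

end Kernel

end Groth.Agent.Lib.Helper32.KunLES
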