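import Mathlib
import Groth.Agent.Lib.Helper32.KunTen

/-!
The Künneth map `⊕_{i+j=n} H^i(L) ⊗ H^j(M) → H^n(L ⊗ M)` for `ℤ`-indexed cochain complexes of
modules: construction, characterization on generators, naturality in the second variable.
-/

set_option autoImplicit false
universe u
open CategoryTheory CategoryTheory.Limits MonoidalCategory HomologicalComplex TensorProduct

namespace Groth.Agent.Lib.Helper32.KunMap

open Groth.Agent.Lib.Helper32.KunTen
open Groth.Agent.Lib.Helper32 (TenLowDeg.iCycles_injective)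

variable {R : Type u} [CommRing R] (L M : CochainComplex (ModuleCat.{u} R) ℤ)

lemma d_iCycles_apply (K : CochainComplex (ModuleCat.{u} R) ℤ) (i j : ℤ) (z : K.cycles i) :
    (K.d i j).hom ((K.iCycles i).hom z) = 0 :=
  congr_arg (fun f => f.hom z) (K.iCycles_d i j)

lemma d_inc_cycles (i j n : ℤ) (h : i + j = n) (z : L.cycles i) (z' : M.cycles j) :
    ((L ⊗ M).d n (n+1)).hom
      ((inc L M i j n h).hom ((L.iCycles i).hom z ⊗ₜ[R] (M.iCycles j).hom z')) = 0 := by
  rw [inc_d_succ_apply, d_iCycles_apply, d_iCycles_apply, TensorProduct.zero_tmul,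
    TensorProduct.tmul_zero, map_zero, map_zero, smul_zero, add_zero]

/-- product of cycles is a cycle -/
noncomputable def cyc (i j n : ℤ) (h : i + j = n) : L.cycles i ⊗ M.cycles j ⟶ (L ⊗ M).cycles n :=
  (L ⊗ M).liftCycles ((L.iCycles i ⊗ₘ M.iCycles j) ≫ inc L M i j n h) (n+1) (by simp) (by
    apply ModuleCat.MonoidalCategory.tensor_ext
    intro z z'
    exact d_inc_cycles L M i j n h z z')

lemma iCycles_cyc (i j n : ℤ) (h : i + j = n) (z : L.cycles i) (z' : M.cycles j) :
    ((L ⊗ M).iCycles n).hom ((cyc L M i j n h).hom (z ⊗ₜ[R] z')) =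
      (inc L M i j n h).hom ((L.iCycles i).hom z ⊗ₜ[R] (M.iCycles j).hom z') := by
  have := (L ⊗ M).liftCycles_i ((L.iCycles i ⊗ₘ M.iCycles j) ≫ inc L M i j n h) (n+1) (by simp) (by
    apply ModuleCat.MonoidalCategory.tensor_ext
    intro z z'
    exact d_inc_cycles L M i j n h z z')
  exact congr_arg (fun f => f.hom (z ⊗ₜ[R] z')) this

/-- the pre-Künneth map on cycles -/
noncomputable def pre (i j n : ℤ) (h : i + j = n) :
    TensorProduct R (L.cycles i) (M.cycles j) →ₗ[R] (L ⊗ M).homology n :=
  ((L ⊗ M).homologyπ n).hom ∘ₗ (cyc L M i j n h).hom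

lemma pre_boundary_right (i j n : ℤ) (h : i + j = n) (z : L.cycles i) (j' : ℤ) (hj' : j' + 1 = j)
    (y : M.X j') : pre L M i j n h (z ⊗ₜ[R] (M.toCycles j' j).hom y) = 0 := by
  have e : (cyc L M i j n h).hom (z ⊗ₜ[R] (M.toCycles j' j).hom y) =
      ((L ⊗ M).toCycles (n - 1) n).hom ((i.negOnePow : ℤ) •
        (inc L M i j' (n-1) (by omega)).hom ((L.iCycles i).hom z ⊗ₜ[R] y)) := by
    apply TenLowDeg.iCycles_injective
    rw [iCycles_cyc, TenLowDeg.iCycles_toCycles, TenLowDeg.iCycles_toCycles, map_zsmul,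
      inc_d_apply L M i j' (n-1) (i+1) j n (by omega) rfl hj' (by omega), d_iCycles_apply,
      TensorProduct.zero_tmul, map_zero, zero_add, smul_smul]
    have : ((i.negOnePow : ℤ) * (i.negOnePow : ℤ)) = 1 := by
      rw [← Units.val_mul, ← Int.negOnePow_add]
      simp [Int.negOnePow_even _ (Even.add_self i)]
    rw [this, one_smul]
  show ((L ⊗ M).homologyπ n).hom _ = 0
  rw [e, TenLowDeg.homologyπ_toCycles]

lemma pre_boundary_left (i j n : ℤ) (h : i + j = n) (i' : ℤ) (hi' : i' + 1 = i) (y : L.X i')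
    (z' : M.cycles j) : pre L M i j n h ((L.toCycles i' i).hom y ⊗ₜ[R] z') = 0 := by
  have e : (cyc L M i j n h).hom ((L.toCycles i' i).hom y ⊗ₜ[R] z') =
      ((L ⊗ M).toCycles (n - 1) n).hom
        ((inc L M i' j (n-1) (by omega)).hom (y ⊗ₜ[R] (M.iCycles j).hom z')) := by
    apply TenLowDeg.iCycles_injective
    rw [iCycles_cyc, TenLowDeg.iCycles_toCycles, TenLowDeg.iCycles_toCycles,
      inc_d_apply L M i' j (n-1) i (j+1) n (by omega) hi' rfl (by omega), d_iCycles_apply,
      TensorProduct.tmul_zero, map_zero, smul_zero, add_zero]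
  show ((L ⊗ M).homologyπ n).hom _ = 0
  rw [e, TenLowDeg.homologyπ_toCycles]


lemma ker_map_le (i j n : ℤ) (h : i + j = n) :
    LinearMap.ker (TensorProduct.map (L.homologyπ i).hom (M.homologyπ j).hom) ≤
      LinearMap.ker (pre L M i j n h) := by
  rw [TensorProduct.map_ker (f := (LinearMap.ker (L.homologyπ i).hom).subtype)
    (f' := (LinearMap.ker (M.homologyπ j).hom).subtype)
    (LinearMap.exact_subtype_ker_map _) (TenLowDeg.homologyπ_surjective L i)
    (LinearMap.exact_subtype_ker_map _) (TenLowDeg.homologyπ_surjective M j)]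
  refine sup_le ?_ ?_
  · rintro _ ⟨t, rfl⟩
    rw [LinearMap.mem_ker]
    induction t using TensorProduct.induction_on with
    | zero => simp
    | tmul z b =>
      obtain ⟨y, hy⟩ := TenLowDeg.exists_of_homologyπ_eq_zero M (j - 1) j (by simp) b.1 b.2
      rw [LinearMap.lTensor_tmul, Submodule.subtype_apply, ← hy]
      exact pre_boundary_right L M i j n h z (j - 1) (by ring) y
    | add a b ha hb => rw [map_add, map_add, ha, hb, add_zero]
  · rintro _ ⟨t, rfl⟩
    rw [LinearMap.mem_ker]
    induction t using TensorProduct.induction_on with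
    | zero => simp
    | tmul b z' =>
      obtain ⟨y, hy⟩ := TenLowDeg.exists_of_homologyπ_eq_zero L (i - 1) i (by simp) b.1 b.2
      rw [LinearMap.rTensor_tmul, Submodule.subtype_apply, ← hy]
      exact pre_boundary_left L M i j n h (i - 1) (by ring) y z'
    | add a b ha hb => rw [map_add, map_add, ha, hb, add_zero]

lemma map_π_surjective (i j : ℤ) :
    Function.Surjective (TensorProduct.map (L.homologyπ i).hom (M.homologyπ j).hom) :=
  TensorProduct.map_surjective (TenLowDeg.homologyπ_surjective L i)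
    (TenLowDeg.homologyπ_surjective M j)

/-- the Künneth map on one summand -/
noncomputable def kun (i j n : ℤ) (h : i + j = n) :
    TensorProduct R (L.homology i) (M.homology j) →ₗ[R] (L ⊗ M).homology n :=
  ((LinearMap.ker (TensorProduct.map (L.homologyπ i).hom (M.homologyπ j).hom)).liftQ
      (pre L M i j n h) (ker_map_le L M i j n h)) ∘ₗ
    ((TensorProduct.map (L.homologyπ i).hom (M.homologyπ j).hom).quotKerEquivOfSurjective
      (map_π_surjective L M i j)).symm.toLinearMap

lemma kun_map (i j n : ℤ) (h : i + j = n) (t : TensorProduct R (L.cycles i) (M.cycles j)) :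
    kun L M i j n h (TensorProduct.map (L.homologyπ i).hom (M.homologyπ j).hom t) =
      pre L M i j n h t := by
  unfold kun
  rw [LinearMap.comp_apply]
  have : ((TensorProduct.map (L.homologyπ i).hom (M.homologyπ j).hom).quotKerEquivOfSurjective
      (map_π_surjective L M i j)).symm.toLinearMap
      (TensorProduct.map (L.homologyπ i).hom (M.homologyπ j).hom t) =
      Submodule.Quotient.mk t := by
    rw [LinearEquiv.coe_coe, LinearEquiv.symm_apply_eq]
    rfl
  rw [this, Submodule.liftQ_apply]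

lemma kun_tmul (i j n : ℤ) (h : i + j = n) (z : L.cycles i) (z' : M.cycles j) :
    kun L M i j n h ((L.homologyπ i).hom z ⊗ₜ[R] (M.homologyπ j).hom z') =
      ((L ⊗ M).homologyπ n).hom ((cyc L M i j n h).hom (z ⊗ₜ[R] z')) := by
  rw [← TensorProduct.map_tmul, kun_map]
  rfl

/-- index set of the Künneth sum -/
abbrev Antidiag (n : ℤ) : Type := {ij : ℤ × ℤ // ij.1 + ij.2 = n}

/-- the Künneth sum -/
abbrev KSum (n : ℤ) : Type u :=
  DirectSum (Antidiag n) fun ij => TensorProduct R (L.homology ij.1.1) (M.homology ij.1.2)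

/-- the Künneth map -/
noncomputable def kunSum (n : ℤ) : KSum L M n →ₗ[R] (L ⊗ M).homology n :=
  DirectSum.toModule R (Antidiag n) _ (fun ij => kun L M ij.1.1 ij.1.2 n ij.2)

lemma kunSum_lof (n : ℤ) (ij : Antidiag n)
    (t : TensorProduct R (L.homology ij.1.1) (M.homology ij.1.2)) :
    kunSum L M n (DirectSum.lof R (Antidiag n) _ ij t) = kun L M ij.1.1 ij.1.2 n ij.2 t := by
  unfold kunSum
  rw [DirectSum.toModule_lof]

/-- the defining property -/
lemma kunSum_spec (n : ℤ) (ij : Antidiag n) (z : L.cycles ij.1.1) (z' : M.cycles ij.1.2)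
    (w : (L ⊗ M).cycles n)
    (hw : ((L ⊗ M).iCycles n).hom w =
      (inc L M ij.1.1 ij.1.2 n ij.2).hom ((L.iCycles ij.1.1).hom z ⊗ₜ[R] (M.iCycles ij.1.2).hom z')) :
    kunSum L M n (DirectSum.lof R (Antidiag n) _ ij
      ((L.homologyπ ij.1.1).hom z ⊗ₜ[R] (M.homologyπ ij.1.2).hom z')) =
      ((L ⊗ M).homologyπ n).hom w := by
  rw [kunSum_lof, kun_tmul]
  congr 1
  apply TenLowDeg.iCycles_injective
  rw [iCycles_cyc, hw]


/-- induction on the Künneth sum via generators -/
lemma KSum_induction {n : ℤ} {P : KSum L M n → Prop} (x : KSum L M n) (h0 : P 0)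
    (hadd : ∀ x y, P x → P y → P (x + y))
    (hgen : ∀ (ij : Antidiag n) (z : L.cycles ij.1.1) (z' : M.cycles ij.1.2),
      P (DirectSum.lof R (Antidiag n) _ ij
        ((L.homologyπ ij.1.1).hom z ⊗ₜ[R] (M.homologyπ ij.1.2).hom z'))) : P x := by
  induction x using DirectSum.induction_on with
  | zero => exact h0
  | of ij t =>
    show P (DirectSum.lof R (Antidiag n)
      (fun ij => TensorProduct R (L.homology ij.1.1) (M.homology ij.1.2)) ij t)
    induction t using TensorProduct.induction_on with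
    | zero => rw [map_zero]; exact h0
    | tmul a b =>
      obtain ⟨z, rfl⟩ := TenLowDeg.homologyπ_surjective L _ a
      obtain ⟨z', rfl⟩ := TenLowDeg.homologyπ_surjective M _ b
      exact hgen ij z z'
    | add a b ha hb => rw [map_add]; exact hadd _ _ ha hb
  | add x y hx hy => exact hadd x y hx hy

variable {M} in
/-- functoriality of the Künneth sum in the second variable -/
noncomputable def Kmap {M' : CochainComplex (ModuleCat.{u} R) ℤ} (g : M ⟶ M') (n : ℤ) :
    KSum L M n →ₗ[R] KSum L M' n :=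
  DirectSum.lmap (fun ij => LinearMap.lTensor (L.homology ij.1.1)
    (HomologicalComplex.homologyMap g ij.1.2).hom)

variable {M} in
lemma Kmap_lof {M' : CochainComplex (ModuleCat.{u} R) ℤ} (g : M ⟶ M') (n : ℤ) (ij : Antidiag n)
    (a : L.homology ij.1.1) (b : M.homology ij.1.2) :
    Kmap L g n (DirectSum.lof R (Antidiag n) _ ij (a ⊗ₜ[R] b)) =
      DirectSum.lof R (Antidiag n) _ ij
        (a ⊗ₜ[R] (HomologicalComplex.homologyMap g ij.1.2).hom b) := by
  unfold Kmap
  rw [DirectSum.lmap_lof]
  rfl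

variable {M} in
/-- naturality of the Künneth map -/
lemma kunSum_natural {M' : CochainComplex (ModuleCat.{u} R) ℤ} (g : M ⟶ M') (n : ℤ)
    (x : KSum L M n) :
    (HomologicalComplex.homologyMap (L ◁ g) n).hom (kunSum L M n x) =
      kunSum L M' n (Kmap L g n x) := by
  refine KSum_induction L M (P := fun x => (HomologicalComplex.homologyMap (L ◁ g) n).hom
    (kunSum L M n x) = kunSum L M' n (Kmap L g n x)) x (by simp) ?_ ?_
  · intro x y hx hy
    simp only [map_add, hx, hy]
  · intro ij z z'
    rw [kunSum_lof, kun_tmul, Kmap_lof, TenLowDeg.homologyMap_homologyπ,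
      TenLowDeg.homologyMap_homologyπ]
    symm
    apply kunSum_spec
    rw [TenLowDeg.iCycles_cyclesMap, TenLowDeg.iCycles_cyclesMap, iCycles_cyc, inc_map_apply]

end Groth.Agent.Lib.Helper32.KunMap
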