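import Mathlib
import Groth.Agent.Lib.Helper32.KunMap

/-!
The Künneth map is bijective when the second complex has zero differentials and flat terms.
-/

set_option autoImplicit false
universe u
open CategoryTheory CategoryTheory.Limits MonoidalCategory HomologicalComplex TensorProduct

namespace Groth.Agent.Lib.Helper32.KunZero

open Groth.Agent.Lib.Helper32.KunTen Groth.Agent.Lib.Helper32.KunMap

variable {R : Type u} [CommRing R] (L F : CochainComplex (ModuleCat.{u} R) ℤ)
  (hd : ∀ i j, F.d i j = 0)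

include hd in
lemma d_proj (i i' j n n' : ℤ) (hi : i + 1 = i') (hn : n + 1 = n') :
    (L ⊗ F).d n n' ≫ proj L F i' j n' = proj L F i j n ≫ (L.d i i' ▷ F.X j) := by
  subst hi hn
  apply hom_ext'
  intro a b h
  rw [← Category.assoc, inc_d_succ, hd, MonoidalPreadditive.whiskerLeft_zero, zero_comp, smul_zero,
    add_zero, Category.assoc, ← Category.assoc (inc L F a b n h)]
  by_cases hh : a = i ∧ b = j
  · obtain ⟨rfl, rfl⟩ := hh
    rw [inc_proj, inc_proj, Category.comp_id, Category.id_comp]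
  · rw [inc_proj_ne L F (a+1) b (i+1) j (n+1) (by omega) (by omega),
      inc_proj_ne L F a b i j n h hh, comp_zero, zero_comp]

include hd in
lemma d_proj_apply (i i' j n n' : ℤ) (hi : i + 1 = i') (hn : n + 1 = n') (x : ↑((L ⊗ F).X n)) :
    (proj L F i' j n').hom (((L ⊗ F).d n n').hom x) =
      (L.d i i' ▷ F.X j).hom ((proj L F i j n).hom x) :=
  congr_arg (fun m => m.hom x) (d_proj L F hd i i' j n n' hi hn)

include hd in
lemma iCycles_surjective (j : ℤ) : Function.Surjective (F.iCycles j).hom := by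
  intro x
  exact TenLowDeg.exists_cycle F j (j+1) (by simp) x (by rw [hd]; rfl)

include hd in
lemma homologyπ_injective (j : ℤ) : Function.Injective (F.homologyπ j).hom := by
  rw [injective_iff_map_eq_zero]
  intro z hz
  obtain ⟨y, rfl⟩ := TenLowDeg.exists_of_homologyπ_eq_zero F (j-1) j (by simp) z hz
  apply TenLowDeg.iCycles_injective
  rw [TenLowDeg.iCycles_toCycles, hd, map_zero]
  rfl

lemma tensorHom_hom {X Y X' Y' : ModuleCat.{u} R} (f : X ⟶ Y) (g : X' ⟶ Y') :
    (f ⊗ₘ g).hom = TensorProduct.map f.hom g.hom := rfl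

lemma whiskerRight_hom {X Y : ModuleCat.{u} R} (f : X ⟶ Y) (Z : ModuleCat.{u} R) :
    (f ▷ Z).hom = LinearMap.rTensor Z f.hom := rfl

include hd in
/-- flatness: the kernel of `d ⊗ 1` consists of tensors of cycles -/
lemma exists_of_d_eq_zero (i j : ℤ) [Module.Flat R (F.X j)] (t : ↑(L.X i ⊗ F.X j))
    (ht : (L.d i (i+1) ▷ F.X j).hom t = 0) :
    ∃ v : ↑(L.cycles i ⊗ F.cycles j), (L.iCycles i ⊗ₘ F.iCycles j).hom v = t := by
  have hex : Function.Exact (L.iCycles i).hom (L.d i (i+1)).hom := by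
    intro x
    constructor
    · intro hx
      exact TenLowDeg.exists_cycle L i (i+1) (by simp) x hx
    · rintro ⟨z, rfl⟩
      exact d_iCycles_apply L i (i+1) z
  have hex' := Module.Flat.rTensor_exact (F.X j) hex
  rw [whiskerRight_hom] at ht
  obtain ⟨u, hu⟩ := (hex' t).mp ht
  obtain ⟨v, hv⟩ := LinearMap.lTensor_surjective (L.cycles i) (iCycles_surjective F hd j) u
  refine ⟨v, ?_⟩
  rw [tensorHom_hom, ← hu, ← hv, ← LinearMap.comp_apply, LinearMap.rTensor_comp_lTensor]

include hd in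
lemma tensorHom_iCycles_injective (i j : ℤ) [Module.Flat R (F.X j)] :
    Function.Injective (L.iCycles i ⊗ₘ F.iCycles j).hom := by
  rw [tensorHom_hom, ← LinearMap.rTensor_comp_lTensor]
  rw [LinearMap.coe_comp]
  apply Function.Injective.comp
  · exact Module.Flat.rTensor_preserves_injective_linearMap _ (TenLowDeg.iCycles_injective L i)
  · let e : F.cycles j ≃ₗ[R] F.X j := LinearEquiv.ofBijective (F.iCycles j).hom
      ⟨TenLowDeg.iCycles_injective F j, iCycles_surjective F hd j⟩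
    exact (e.lTensor (L.cycles i)).injective

lemma iCycles_cyc' (i j n : ℤ) (h : i + j = n) (v : ↑(L.cycles i ⊗ F.cycles j)) :
    ((L ⊗ F).iCycles n).hom ((cyc L F i j n h).hom v) =
      (inc L F i j n h).hom ((L.iCycles i ⊗ₘ F.iCycles j).hom v) := by
  have := (L ⊗ F).liftCycles_i ((L.iCycles i ⊗ₘ F.iCycles j) ≫ inc L F i j n h) (n+1) (by simp) (by
    apply ModuleCat.MonoidalCategory.tensor_ext
    intro z z'
    exact d_inc_cycles L F i j n h z z')
  exact congr_arg (fun f => f.hom v) this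

lemma kunSum_lof_map (n : ℤ) (ij : Antidiag n) (v : ↑(L.cycles ij.1.1 ⊗ F.cycles ij.1.2)) :
    kunSum L F n (DirectSum.lof R (Antidiag n) _ ij
      (TensorProduct.map (L.homologyπ ij.1.1).hom (F.homologyπ ij.1.2).hom v)) =
      ((L ⊗ F).homologyπ n).hom ((cyc L F ij.1.1 ij.1.2 n ij.2).hom v) := by
  rw [kunSum_lof, kun_map]
  rfl

include hd in
theorem kunSum_surjective (hF : ∀ j, Module.Flat R (F.X j)) (n : ℤ) :
    Function.Surjective (kunSum L F n) := by
  intro y
  obtain ⟨w, rfl⟩ := TenLowDeg.homologyπ_surjective (L ⊗ F) n y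
  obtain ⟨s, hs, -⟩ := exists_decomp L F (((L ⊗ F).iCycles n).hom w)
  have hv : ∀ i : ℤ, ∃ v : ↑(L.cycles i ⊗ F.cycles (n - i)),
      (L.iCycles i ⊗ₘ F.iCycles (n - i)).hom v =
        (proj L F i (n - i) n).hom (((L ⊗ F).iCycles n).hom w) := by
    intro i
    haveI := hF (n - i)
    apply exists_of_d_eq_zero L F hd
    rw [← d_proj_apply L F hd i (i+1) (n - i) n (n+1) rfl rfl, d_iCycles_apply, map_zero]
  choose v hv using hv
  refine ⟨∑ i ∈ s, DirectSum.lof R (Antidiag n) _ ⟨(i, n - i), by simp⟩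
    (TensorProduct.map (L.homologyπ i).hom (F.homologyπ (n - i)).hom (v i)), ?_⟩
  rw [map_sum]
  have e : ∀ i ∈ s, kunSum L F n (DirectSum.lof R (Antidiag n) _ ⟨(i, n - i), by simp⟩
      (TensorProduct.map (L.homologyπ i).hom (F.homologyπ (n - i)).hom (v i))) =
      ((L ⊗ F).homologyπ n).hom ((cyc L F i (n - i) n (by ring)).hom (v i)) := by
    intro i _
    exact kunSum_lof_map L F n ⟨(i, n - i), by simp⟩ (v i)
  rw [Finset.sum_congr rfl e, ← map_sum]
  congr 1
  apply TenLowDeg.iCycles_injective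
  rw [map_sum]
  conv_rhs => rw [hs]
  apply Finset.sum_congr rfl
  intro i _
  rw [iCycles_cyc', hv]


include hd in
theorem kunSum_injective (hF : ∀ j, Module.Flat R (F.X j)) (n : ℤ) :
    Function.Injective (kunSum L F n) := by
  classical
  rw [injective_iff_map_eq_zero]
  intro x hx
  -- choose lifts of the components
  have hv : ∀ ij : Antidiag n, ∃ v : ↑(L.cycles ij.1.1 ⊗ F.cycles ij.1.2),
      TensorProduct.map (L.homologyπ ij.1.1).hom (F.homologyπ ij.1.2).hom v = x ij :=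
    fun ij => map_π_surjective L F ij.1.1 ij.1.2 (x ij)
  choose v hv using hv
  have hx' : x = ∑ ij ∈ DFinsupp.support x, DirectSum.lof R (Antidiag n) _ ij
      (TensorProduct.map (L.homologyπ ij.1.1).hom (F.homologyπ ij.1.2).hom (v ij)) := by
    conv_lhs => rw [← DirectSum.sum_support_of x]
    apply Finset.sum_congr rfl
    intro ij _
    rw [hv]
    rfl
  set w : (L ⊗ F).cycles n :=
    ∑ ij ∈ DFinsupp.support x, (cyc L F ij.1.1 ij.1.2 n ij.2).hom (v ij) with hw
  have h1 : ((L ⊗ F).homologyπ n).hom w = 0 := by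
    rw [hw, map_sum, ← hx]
    conv_rhs => rw [hx', map_sum]
    apply Finset.sum_congr rfl
    intro ij _
    rw [kunSum_lof_map]
  obtain ⟨y, hy⟩ := TenLowDeg.exists_of_homologyπ_eq_zero (L ⊗ F) (n - 1) n (by simp) w h1
  have h2 : ((L ⊗ F).d (n - 1) n).hom y = ∑ ij ∈ DFinsupp.support x,
      (inc L F ij.1.1 ij.1.2 n ij.2).hom ((L.iCycles ij.1.1 ⊗ₘ F.iCycles ij.1.2).hom (v ij)) := by
    rw [← TenLowDeg.iCycles_toCycles, hy, hw, map_sum]
    apply Finset.sum_congr rfl
    intro ij _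
    rw [iCycles_cyc']
  -- componentwise
  apply DFinsupp.ext
  intro ij₀
  by_cases hmem : ij₀ ∈ DFinsupp.support x
  swap
  · rw [DFinsupp.mem_support_toFun, not_not] at hmem
    rw [hmem]; rfl
  obtain ⟨⟨i₀, j₀⟩, h₀⟩ := ij₀
  simp only at h₀
  have h3 := congr_arg (proj L F i₀ j₀ n).hom h2
  rw [d_proj_apply L F hd (i₀ - 1) i₀ j₀ (n - 1) n (by ring) (by ring), map_sum,
    Finset.sum_eq_single_of_mem (⟨(i₀, j₀), h₀⟩ : Antidiag n) hmem, inc_proj_apply] at h3
  swap
  · intro ij _ hne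
    apply inc_proj_ne_apply
    intro hh
    apply hne
    apply Subtype.ext
    exact Prod.ext hh.1 hh.2
  -- now use flatness
  haveI := hF j₀
  obtain ⟨y', hy'⟩ := LinearMap.lTensor_surjective (L.X (i₀ - 1)) (iCycles_surjective F hd j₀)
    ((proj L F (i₀ - 1) j₀ (n - 1)).hom y)
  have h4 : (L.iCycles i₀ ⊗ₘ F.iCycles j₀).hom (v ⟨(i₀, j₀), h₀⟩) =
      (L.iCycles i₀ ⊗ₘ F.iCycles j₀).hom
        (LinearMap.rTensor (F.cycles j₀) (L.toCycles (i₀ - 1) i₀).hom y') := by
    rw [← h3, ← hy', whiskerRight_hom, tensorHom_hom, LinearMap.map_rTensor, ← LinearMap.comp_apply,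
      LinearMap.rTensor_comp_lTensor, ← ModuleCat.hom_comp, L.toCycles_i]
  have h5 := tensorHom_iCycles_injective L F hd i₀ j₀ h4
  show x ⟨(i₀, j₀), h₀⟩ = 0
  rw [← hv, h5, LinearMap.map_rTensor, ← ModuleCat.hom_comp, L.toCycles_comp_homologyπ]
  simp

end Groth.Agent.Lib.Helper32.KunZero
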