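import Mathlib
import Groth.Agent.Lib.Helper32.KunZero
import Groth.Agent.Lib.Helper32.KunLES

/-!
Free covers of bounded above complexes: `P = Zd F ⊞ Std A → M`, termwise surjective, surjective on
cohomology, with `Zd F` a zero-differential complex of free modules and `Std A` contractible.
-/

set_option autoImplicit false
universe u
open CategoryTheory CategoryTheory.Limits MonoidalCategory HomologicalComplex

namespace Groth.Agent.Lib.Helper32.KunCover

open Groth.Agent.Lib.Helper32.KunTen Groth.Agent.Lib.Helper32.KunMap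

variable {R : Type u} [CommRing R]

section Zd

variable (F : ℤ → ModuleCat.{u} R)

/-- the complex with terms `F n` and zero differentials -/
noncomputable def Zd : CochainComplex (ModuleCat.{u} R) ℤ :=
  CochainComplex.of F (fun _ => 0) (fun _ => by simp)

lemma Zd_d (i j : ℤ) : (Zd F).d i j = 0 := by
  by_cases h : i + 1 = j
  · subst h
    show CochainComplex.of.d F (fun _ => 0) i (i+1) = 0
    rw [CochainComplex.of_d]
  · exact (Zd F).shape i j h

variable {F} in
/-- morphisms out of a zero-differential complex -/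
noncomputable def Zd.desc {M : CochainComplex (ModuleCat.{u} R) ℤ} (φ : ∀ n, F n ⟶ M.X n)
    (hφ : ∀ n, φ n ≫ M.d n (n+1) = 0) : Zd F ⟶ M where
  f := φ
  comm' i j h := by
    obtain rfl : i + 1 = j := h
    rw [Zd_d, zero_comp]
    exact hφ i

end Zd

section Std

variable (A : ℤ → ModuleCat.{u} R)

/-- the differential of the standard contractible complex -/
def dStd (n : ℤ) : (A n × A (n+1)) →ₗ[R] (A (n+1) × A (n+1+1)) :=
  (LinearMap.inl R _ _).comp (LinearMap.snd R _ _)

@[simp] lemma dStd_apply (n : ℤ) (p : A n × A (n+1)) : dStd A n p = (p.2, 0) := rfl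

/-- the standard contractible complex -/
noncomputable def Std : CochainComplex (ModuleCat.{u} R) ℤ :=
  CochainComplex.of (fun n => ModuleCat.of R (A n × A (n+1)))
    (fun n => ModuleCat.ofHom (dStd A n))
    (fun n => by
      rw [← ModuleCat.ofHom_comp]
      have : (dStd A (n+1)).comp (dStd A n) = 0 := by
        apply LinearMap.ext
        intro p
        simp
      rw [this]
      rfl)

lemma Std_d (n : ℤ) : (Std A).d n (n+1) = ModuleCat.ofHom (dStd A n) := by
  simp [Std]

/-- the contracting homotopy, degreewise -/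
def sStd (n : ℤ) : (A (n+1) × A (n+1+1)) →ₗ[R] (A n × A (n+1)) :=
  (LinearMap.inr R _ _).comp (LinearMap.fst R _ _)

@[simp] lemma sStd_apply (n : ℤ) (p : A (n+1) × A (n+1+1)) : sStd A n p = (0, p.1) := rfl

/-- the standard complex is contractible -/
noncomputable def Std_homotopy : Homotopy (𝟙 (Std A)) 0 where
  hom i j := if h : j + 1 = i then eqToHom (by subst h; rfl) ≫ ModuleCat.ofHom (sStd A j) else 0
  zero i j h := dif_neg h
  comm i := by
    obtain ⟨m, rfl⟩ : ∃ m, i = m + 1 := ⟨i - 1, by ring⟩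
    rw [dNext_eq _ (show (ComplexShape.up ℤ).Rel (m+1) (m+1+1) from rfl),
      prevD_eq _ (show (ComplexShape.up ℤ).Rel m (m+1) from rfl)]
    simp only [dif_pos, HomologicalComplex.zero_f, add_zero, HomologicalComplex.id_f]
    rw [Std_d, Std_d]
    apply ModuleCat.hom_ext
    apply LinearMap.ext
    intro p
    show p = sStd A (m+1) (dStd A (m+1) p) + dStd A m (sStd A m p)
    obtain ⟨a, b⟩ := p
    simp

variable {A} in
/-- morphisms out of the standard contractible complex -/
noncomputable def Std.desc {M : CochainComplex (ModuleCat.{u} R) ℤ} (α : ∀ n, A n ⟶ M.X n)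
    (ψ : ∀ n, A (n+1) ⟶ M.X n) (hα : ∀ n, α n ≫ M.d n (n+1) = 0)
    (hψ : ∀ n, ψ n ≫ M.d n (n+1) = α (n+1)) : Std A ⟶ M where
  f n := ModuleCat.ofHom ((α n).hom.comp (LinearMap.fst R _ _) + (ψ n).hom.comp (LinearMap.snd R _ _))
  comm' i j h := by
    obtain rfl : i + 1 = j := h
    rw [Std_d]
    apply ModuleCat.hom_ext
    apply LinearMap.ext
    intro p
    have h1 : (M.d i (i+1)).hom ((α i).hom p.1) = 0 := congr_arg (fun f => f.hom p.1) (hα i)
    have h2 : (M.d i (i+1)).hom ((ψ i).hom p.2) = (α (i+1)).hom p.2 :=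
      congr_arg (fun f => f.hom p.2) (hψ i)
    show (M.d i (i+1)).hom ((α i).hom p.1 + (ψ i).hom p.2) =
      (α (i+1)).hom (dStd A i p).1 + (ψ (i+1)).hom (dStd A i p).2
    rw [map_add, h1, h2]
    simp

end Std


section Contractible

lemma isZero_homology_of_homotopy (K : CochainComplex (ModuleCat.{u} R) ℤ)
    (h : Homotopy (𝟙 K) 0) (n : ℤ) : IsZero (K.homology n) := by
  rw [IsZero.iff_id_eq_zero, ← HomologicalComplex.homologyMap_id, h.homologyMap_eq n,
    HomologicalComplex.homologyMap_zero]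

/-- tensoring a contractible complex gives a contractible complex -/
noncomputable def tensorHomotopy (L C : CochainComplex (ModuleCat.{u} R) ℤ)
    (h : Homotopy (𝟙 C) 0) : Homotopy (𝟙 (L ⊗ C)) 0 :=
  (Homotopy.ofEq (show 𝟙 (L ⊗ C) = L ◁ (𝟙 C) from (MonoidalCategory.whiskerLeft_id L C).symm)).trans
    ((HomologicalComplex.mapBifunctorMapHomotopy₂ (𝟙 L) h (curriedTensor (ModuleCat.{u} R))
      (ComplexShape.up ℤ)).trans
      (Homotopy.ofEq (show L ◁ (0 : C ⟶ C) = 0 from whiskerLeft_zero' L C C)))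

lemma isZero_homology_tensor_Std (L : CochainComplex (ModuleCat.{u} R) ℤ) (A : ℤ → ModuleCat.{u} R)
    (n : ℤ) : IsZero ((L ⊗ Std A).homology n) :=
  isZero_homology_of_homotopy _ (tensorHomotopy L _ (Std_homotopy A)) n

lemma isZero_homology_Std (A : ℤ → ModuleCat.{u} R) (n : ℤ) : IsZero ((Std A).homology n) :=
  isZero_homology_of_homotopy _ (Std_homotopy A) n

end Contractible


section Cover

variable (M : CochainComplex (ModuleCat.{u} R) ℤ)

/-- nonzero cycles -/
def ZI (n : ℤ) : Type u := {z : M.cycles n // z ≠ 0}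

/-- non-cycles in degree `n - 1` -/
def XI (n : ℤ) : Type u := {x : M.X (n-1) // (M.d (n-1) n).hom x ≠ 0}

/-- free module on nonzero cycles -/
noncomputable def FF (n : ℤ) : ModuleCat.{u} R := ModuleCat.of R (ZI M n →₀ R)

/-- free module on non-cycles of degree `n-1` -/
noncomputable def AA (n : ℤ) : ModuleCat.{u} R := ModuleCat.of R (XI M n →₀ R)

instance (n : ℤ) : Module.Flat R (FF M n) := by
  unfold FF
  infer_instance

lemma isEmpty_ZI (n : ℤ) (h : IsZero (M.X n)) : IsEmpty (ZI M n) := by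
  refine ⟨fun z => z.2 ?_⟩
  apply TenLowDeg.iCycles_injective
  haveI := ModuleCat.subsingleton_of_isZero h
  exact Subsingleton.elim _ _

lemma isEmpty_XI (n : ℤ) (h : IsZero (M.X n)) : IsEmpty (XI M n) := by
  refine ⟨fun x => x.2 ?_⟩
  haveI := ModuleCat.subsingleton_of_isZero h
  exact Subsingleton.elim _ _

lemma isZero_FF (n : ℤ) (h : IsZero (M.X n)) : IsZero (FF M n) := by
  haveI := isEmpty_ZI M n h
  unfold FF
  exact ModuleCat.isZero_of_subsingleton _

lemma isZero_AA (n : ℤ) (h : IsZero (M.X n)) : IsZero (AA M n) := by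
  haveI := isEmpty_XI M n h
  unfold AA
  exact ModuleCat.isZero_of_subsingleton _

/-- the map on the cycle generators -/
noncomputable def φ (n : ℤ) : FF M n ⟶ M.X n :=
  ModuleCat.ofHom (Finsupp.linearCombination R (fun z : ZI M n => (M.iCycles n).hom z.1))

lemma φ_single (n : ℤ) (z : ZI M n) (r : R) :
    (φ M n).hom (Finsupp.single z r : ZI M n →₀ R) = r • (M.iCycles n).hom z.1 := by
  show Finsupp.linearCombination R _ _ = _
  rw [Finsupp.linearCombination_single]

lemma hφ (n : ℤ) : φ M n ≫ M.d n (n+1) = 0 := by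
  apply ModuleCat.hom_ext
  apply Finsupp.lhom_ext
  intro z r
  show (M.d n (n+1)).hom ((φ M n).hom (Finsupp.single z r : ZI M n →₀ R)) = 0
  rw [φ_single, map_smul, d_iCycles_apply, smul_zero]

/-- the map on the boundary part -/
noncomputable def α (n : ℤ) : AA M n ⟶ M.X n :=
  ModuleCat.ofHom (Finsupp.linearCombination R (fun x : XI M n => (M.d (n-1) n).hom x.1))

lemma α_single (n : ℤ) (x : XI M n) (r : R) :
    (α M n).hom (Finsupp.single x r : XI M n →₀ R) = r • (M.d (n-1) n).hom x.1 := by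
  show Finsupp.linearCombination R _ _ = _
  rw [Finsupp.linearCombination_single]

/-- the map on the generator part -/
noncomputable def ψ (n : ℤ) : AA M (n+1) ⟶ M.X n :=
  ModuleCat.ofHom (Finsupp.linearCombination R
    (fun x : XI M (n+1) => (M.XIsoOfEq (show n+1-1 = n by ring)).hom.hom x.1))

lemma ψ_single (n : ℤ) (x : XI M (n+1)) (r : R) :
    (ψ M n).hom (Finsupp.single x r : XI M (n+1) →₀ R) =
      r • (M.XIsoOfEq (show n+1-1 = n by ring)).hom.hom x.1 := by
  show Finsupp.linearCombination R _ _ = _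
  rw [Finsupp.linearCombination_single]

lemma d_d_apply (i j k : ℤ) (v : M.X i) : (M.d j k).hom ((M.d i j).hom v) = 0 :=
  congr_arg (fun m => m.hom v) (M.d_comp_d i j k)

lemma hα (n : ℤ) : α M n ≫ M.d n (n+1) = 0 := by
  apply ModuleCat.hom_ext
  apply Finsupp.lhom_ext
  intro x r
  show (M.d n (n+1)).hom ((α M n).hom (Finsupp.single x r : XI M n →₀ R)) = 0
  rw [α_single, map_smul, d_d_apply, smul_zero]

lemma hψ (n : ℤ) : ψ M n ≫ M.d n (n+1) = α M (n+1) := by
  apply ModuleCat.hom_ext
  apply Finsupp.lhom_ext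
  intro x r
  show (M.d n (n+1)).hom ((ψ M n).hom (Finsupp.single x r : XI M (n+1) →₀ R)) =
    (α M (n+1)).hom (Finsupp.single x r : XI M (n+1) →₀ R)
  rw [ψ_single, α_single, map_smul]
  congr 1
  exact congr_arg (fun m => m.hom x.1) (M.XIsoOfEq_hom_comp_d (show n+1-1 = n by ring) (n+1))

/-- the cover -/
noncomputable def P : CochainComplex (ModuleCat.{u} R) ℤ := Zd (FF M) ⊞ Std (AA M)

/-- the covering map -/
noncomputable def π : P M ⟶ M :=
  biprod.desc (Zd.desc (φ M) (hφ M)) (Std.desc (α M) (ψ M) (hα M) (hψ M))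

/-- the inclusion of the zero-differential part -/
noncomputable def iF : Zd (FF M) ⟶ P M := biprod.inl

/-- the inclusion of the contractible part -/
noncomputable def iC : Std (AA M) ⟶ P M := biprod.inr

lemma iF_π : iF M ≫ π M = Zd.desc (φ M) (hφ M) := biprod.inl_desc _ _

lemma iC_π : iC M ≫ π M = Std.desc (α M) (ψ M) (hα M) (hψ M) := biprod.inr_desc _ _

lemma π_iF_apply (n : ℤ) (s : FF M n) : ((π M).f n).hom (((iF M).f n).hom s) = (φ M n).hom s :=
  congr_arg (fun m => (m.f n).hom s) (iF_π M)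

lemma π_iC_apply (n : ℤ) (a : AA M n) (b : AA M (n+1)) :
    ((π M).f n).hom (((iC M).f n).hom ((a, b) : AA M n × AA M (n+1))) =
      (α M n).hom a + (ψ M n).hom b :=
  congr_arg (fun m => (m.f n).hom ((a, b) : AA M n × AA M (n+1))) (iC_π M)

/-- the split short exact sequence `Zd F → P → Std A` -/
noncomputable def S₀ : ShortComplex (CochainComplex (ModuleCat.{u} R) ℤ) :=
  ShortComplex.mk (biprod.inl : Zd (FF M) ⟶ Zd (FF M) ⊞ Std (AA M))
    (biprod.snd : Zd (FF M) ⊞ Std (AA M) ⟶ Std (AA M)) (by simp)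

lemma S₀_shortExact : (S₀ M).ShortExact :=
  (ShortComplex.Splitting.ofHasBinaryBiproduct (Zd (FF M)) (Std (AA M))).shortExact

lemma π_surjective (n : ℤ) : Function.Surjective ((π M).f n).hom := by
  intro x
  by_cases hx : (M.d n (n+1)).hom x = 0
  · obtain ⟨z, rfl⟩ := TenLowDeg.exists_cycle M n (n+1) (by simp) x hx
    by_cases hz : z = 0
    · exact ⟨0, by rw [hz, map_zero, map_zero]⟩
    · refine ⟨((iF M).f n).hom (Finsupp.single (⟨z, hz⟩ : ZI M n) (1 : R) : ZI M n →₀ R), ?_⟩
      rw [π_iF_apply, φ_single, one_smul]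
  · have hx' : (M.d (n+1-1) (n+1)).hom ((M.XIsoOfEq (show n+1-1 = n by ring)).inv.hom x) ≠ 0 := by
      have := congr_arg (fun m => m.hom x) (M.XIsoOfEq_inv_comp_d (show n+1-1 = n by ring) (n+1))
      intro h0
      exact hx (this.symm.trans h0)
    refine ⟨((iC M).f n).hom (((0 : AA M n), (Finsupp.single
      (⟨(M.XIsoOfEq (show n+1-1 = n by ring)).inv.hom x, hx'⟩ : XI M (n+1)) (1 : R) :
        XI M (n+1) →₀ R)) : AA M n × AA M (n+1)), ?_⟩
    rw [π_iC_apply, map_zero, zero_add, ψ_single, one_smul]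
    exact congr_arg (fun m => m.hom x) (M.XIsoOfEq (show n+1-1 = n by ring)).inv_hom_id

end Cover


section Cover2

variable (M : CochainComplex (ModuleCat.{u} R) ℤ)

lemma hom_comm_apply {K K' : CochainComplex (ModuleCat.{u} R) ℤ} (f : K ⟶ K') (i j : ℤ) (x : K.X i) :
    (K'.d i j).hom ((f.f i).hom x) = (f.f j).hom ((K.d i j).hom x) :=
  congr_arg (fun m => m.hom x) (f.comm i j)

/-- the cover is surjective on cohomology -/
lemma homologyMap_π_surjective (j : ℤ) :
    Function.Surjective (HomologicalComplex.homologyMap (π M) j).hom := by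
  intro h
  obtain ⟨z, rfl⟩ := TenLowDeg.homologyπ_surjective M j h
  by_cases hz : z = 0
  · exact ⟨0, by rw [hz, map_zero, map_zero]⟩
  · set p := ((iF M).f j).hom (Finsupp.single (⟨z, hz⟩ : ZI M j) (1 : R) : ZI M j →₀ R) with hp
    have hdp : ((P M).d j (j+1)).hom p = 0 := by
      rw [hp, hom_comm_apply, Zd_d]
      simp
    obtain ⟨c, hc⟩ := TenLowDeg.exists_cycle (P M) j (j+1) (by simp) p hdp
    refine ⟨((P M).homologyπ j).hom c, ?_⟩
    rw [TenLowDeg.homologyMap_homologyπ]
    congr 1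
    apply TenLowDeg.iCycles_injective
    rw [TenLowDeg.iCycles_cyclesMap, hc, hp, π_iF_apply, φ_single, one_smul]

lemma isZero_P (n : ℤ) (h1 : IsZero (M.X n)) (h2 : IsZero (M.X (n+1))) : IsZero ((P M).X n) := by
  show IsZero ((Zd (FF M) ⊞ Std (AA M)).X n)
  rw [IsZero.iff_id_eq_zero]
  have e : 𝟙 (Zd (FF M) ⊞ Std (AA M)) = biprod.fst ≫ biprod.inl + biprod.snd ≫ biprod.inr :=
    biprod.total.symm
  have e' : 𝟙 ((Zd (FF M) ⊞ Std (AA M)).X n) =
      (biprod.fst : Zd (FF M) ⊞ Std (AA M) ⟶ _).f n ≫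
        (biprod.inl : _ ⟶ Zd (FF M) ⊞ Std (AA M)).f n +
      (biprod.snd : Zd (FF M) ⊞ Std (AA M) ⟶ _).f n ≫
        (biprod.inr : _ ⟶ Zd (FF M) ⊞ Std (AA M)).f n := by
    have := congr_arg (fun m => m.f n) e
    simpa using this
  rw [e']
  have z1 : IsZero ((Zd (FF M)).X n) := isZero_FF M n h1
  have z2 : IsZero ((Std (AA M)).X n) := by
    haveI := ModuleCat.subsingleton_of_isZero (isZero_AA M n h1)
    haveI := ModuleCat.subsingleton_of_isZero (isZero_AA M (n+1) h2)
    exact ModuleCat.isZero_of_subsingleton (ModuleCat.of R (AA M n × AA M (n+1)))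
  rw [z1.eq_of_tgt ((biprod.fst : Zd (FF M) ⊞ Std (AA M) ⟶ _).f n) 0,
    z2.eq_of_tgt ((biprod.snd : Zd (FF M) ⊞ Std (AA M) ⟶ _).f n) 0]
  simp

lemma homologyMap_iF_bijective (j : ℤ) :
    Function.Bijective (HomologicalComplex.homologyMap (iF M) j).hom :=
  KunLES.bijective_of_acyclic₃ (S₀ M) (S₀_shortExact M) (isZero_homology_Std (AA M)) j

/-- the cohomology of the cover is flat -/
lemma flat_homology_P (j : ℤ) : Module.Flat R ((P M).homology j) := by
  let e1 : (Zd (FF M)).cycles j ≃ₗ[R] FF M j := LinearEquiv.ofBijective ((Zd (FF M)).iCycles j).hom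
    ⟨TenLowDeg.iCycles_injective _ j, KunZero.iCycles_surjective _ (Zd_d (FF M)) j⟩
  let e2 : (Zd (FF M)).cycles j ≃ₗ[R] (Zd (FF M)).homology j :=
    LinearEquiv.ofBijective ((Zd (FF M)).homologyπ j).hom
    ⟨KunZero.homologyπ_injective _ (Zd_d (FF M)) j, TenLowDeg.homologyπ_surjective _ j⟩
  let e3 : (Zd (FF M)).homology j ≃ₗ[R] (P M).homology j :=
    LinearEquiv.ofBijective _ (homologyMap_iF_bijective M j)
  exact Module.Flat.of_linearEquiv ((e3.symm.trans e2.symm).trans e1)

lemma lTensor_bijective {N N' : Type u} [AddCommGroup N] [Module R N] [AddCommGroup N']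
    [Module R N'] (X : Type u) [AddCommGroup X] [Module R X] (f : N →ₗ[R] N')
    (hf : Function.Bijective f) : Function.Bijective (LinearMap.lTensor X f) :=
  ((LinearEquiv.ofBijective f hf).lTensor X).bijective

/-- the Künneth map of the cover is bijective -/
theorem kunSum_P_bijective (L : CochainComplex (ModuleCat.{u} R) ℤ)
    (hL : ∀ i, Module.Flat R (L.X i)) (n : ℤ) : Function.Bijective (kunSum L (P M) n) := by
  have h1 : Function.Bijective (Kmap L (iF M) n) := by
    constructor
    · exact (DirectSum.lmap_injective _).2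
        (fun ij => (lTensor_bijective _ _ (homologyMap_iF_bijective M ij.1.2)).1)
    · exact (DirectSum.lmap_surjective _).2
        (fun ij => (lTensor_bijective _ _ (homologyMap_iF_bijective M ij.1.2)).2)
  have h2 : Function.Bijective (HomologicalComplex.homologyMap (L ◁ iF M) n).hom :=
    KunLES.bijective_of_acyclic₃ (KunLES.ten L (S₀ M))
      (KunLES.ten_shortExact L (S₀ M) hL (S₀_shortExact M))
      (isZero_homology_tensor_Std L (AA M)) n
  have h3 : Function.Bijective (kunSum L (Zd (FF M)) n) :=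
    ⟨KunZero.kunSum_injective L _ (Zd_d (FF M)) (fun j => inferInstanceAs (Module.Flat R (FF M j))) n,
      KunZero.kunSum_surjective L _ (Zd_d (FF M))
        (fun j => inferInstanceAs (Module.Flat R (FF M j))) n⟩
  have h4 : (kunSum L (P M) n) ∘ (Kmap L (iF M) n) =
      (HomologicalComplex.homologyMap (L ◁ iF M) n).hom ∘ (kunSum L (Zd (FF M)) n) := by
    funext x
    exact (kunSum_natural L (iF M) n x).symm
  rw [← Function.Bijective.of_comp_iff _ h1, h4]
  exact h2.comp h3

end Cover2

end Groth.Agent.Lib.Helper32.KunCover
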