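import Mathlib
import Groth.Prelude.Def_HTor

/-!
Linear algebra for the Künneth filtration: calculus of `HTor.IsSubquotient` and the abstract
filtration step along a connecting homomorphism.
-/

set_option autoImplicit false
universe u

namespace Groth.Agent.Lib.Helper32.KunFilt

open HTor

variable {R : Type u} [CommRing R]

section Subq

variable {N T Q : Type u} [AddCommGroup N] [Module R N] [AddCommGroup T] [Module R T]
  [AddCommGroup Q] [Module R Q]

/-- criterion: `N ↪ Q` with image contained in the image of `T → Q` -/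
theorem isSubquotient_of_maps (i : N →ₗ[R] Q) (q : T →ₗ[R] Q) (hi : Function.Injective i)
    (h : LinearMap.range i ≤ LinearMap.range q) : IsSubquotient R N T := by
  let S' : Submodule R T := (LinearMap.range i).comap q
  let S : Submodule R T := LinearMap.ker q
  have hSS' : S ≤ S' := by
    intro t ht
    show q t ∈ LinearMap.range i
    rw [LinearMap.mem_ker.1 ht]
    exact zero_mem _
  let e : N ≃ₗ[R] LinearMap.range i := LinearEquiv.ofInjective i hi
  let g₀ : S' →ₗ[R] LinearMap.range i :=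
    LinearMap.codRestrict (LinearMap.range i) (q.comp S'.subtype) (fun t => t.2)
  let g : S' →ₗ[R] N := e.symm.toLinearMap.comp g₀
  have hg_apply : ∀ t : S', i (g t) = q t.1 := by
    intro t
    have : (e (g t) : Q) = q t.1 := by
      show (e (e.symm (g₀ t)) : Q) = q t.1
      rw [LinearEquiv.apply_symm_apply]
      rfl
    exact this
  have hg : Function.Surjective g := by
    intro n
    obtain ⟨t, ht⟩ := h (LinearMap.mem_range_self i n)
    refine ⟨⟨t, ?_⟩, ?_⟩
    · show q t ∈ LinearMap.range i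
      rw [ht]; exact LinearMap.mem_range_self i n
    · apply hi
      rw [hg_apply, ht]
  have hker : LinearMap.ker g = Submodule.comap S'.subtype S := by
    ext t
    rw [LinearMap.mem_ker, Submodule.mem_comap, LinearMap.mem_ker, Submodule.subtype_apply]
    constructor
    · intro h0
      rw [← hg_apply, h0, map_zero]
    · intro h0
      apply hi
      rw [hg_apply, h0, map_zero]
  exact ⟨S, S', hSS', ⟨((Submodule.quotEquivOfEq _ _ hker).symm.trans
    (LinearMap.quotKerEquivOfSurjective g hg)).symm⟩⟩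

/-- converse form -/
theorem exists_maps_of_isSubquotient (h : IsSubquotient R N T) :
    ∃ (Q : Type u) (_ : AddCommGroup Q) (_ : Module R Q) (i : N →ₗ[R] Q) (q : T →ₗ[R] Q),
      Function.Injective i ∧ Function.Surjective q := by
  obtain ⟨S, S', hSS', ⟨e⟩⟩ := h
  have hle : Submodule.comap S'.subtype S ≤ LinearMap.ker (S.mkQ.comp S'.subtype) := by
    intro t ht
    rw [LinearMap.mem_ker, LinearMap.comp_apply, Submodule.mkQ_apply,
      Submodule.Quotient.mk_eq_zero]
    exact ht
  refine ⟨T ⧸ S, inferInstance, inferInstance,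
    ((Submodule.comap S'.subtype S).liftQ (S.mkQ.comp S'.subtype) hle).comp e.toLinearMap,
    S.mkQ, ?_, Submodule.mkQ_surjective S⟩
  rw [LinearMap.coe_comp]
  apply Function.Injective.comp _ e.injective
  rw [← LinearMap.ker_eq_bot]
  apply Submodule.ker_liftQ_eq_bot
  intro t ht
  rw [LinearMap.mem_ker, LinearMap.comp_apply, Submodule.mkQ_apply,
    Submodule.Quotient.mk_eq_zero] at ht
  exact ht

theorem isSubquotient_of_injective {N' : Type u} [AddCommGroup N'] [Module R N']
    (j : N' →ₗ[R] N) (hj : Function.Injective j) (h : IsSubquotient R N T) :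
    IsSubquotient R N' T := by
  obtain ⟨Q, _, _, i, q, hi, hq⟩ := exists_maps_of_isSubquotient h
  refine isSubquotient_of_maps (i.comp j) q (hi.comp hj) ?_
  rw [LinearMap.range_eq_top.2 hq]
  exact le_top

theorem isSubquotient_of_surjective {T' : Type u} [AddCommGroup T'] [Module R T']
    (s : T' →ₗ[R] T) (hs : Function.Surjective s) (h : IsSubquotient R N T) :
    IsSubquotient R N T' := by
  obtain ⟨Q, _, _, i, q, hi, hq⟩ := exists_maps_of_isSubquotient h
  refine isSubquotient_of_maps i (q.comp s) hi ?_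
  have : Function.Surjective (q.comp s) := by
    rw [LinearMap.coe_comp]
    exact hq.comp hs
  rw [LinearMap.range_eq_top.2 this]
  exact le_top

theorem isSubquotient_of_subsingleton [Subsingleton N] : IsSubquotient R N T :=
  isSubquotient_of_maps (0 : N →ₗ[R] T) LinearMap.id
    (fun a b _ => Subsingleton.elim a b) (by rw [LinearMap.range_id]; exact le_top)

theorem subsingleton_of_isSubquotient [Subsingleton T] (h : IsSubquotient R N T) :
    Subsingleton N := by
  obtain ⟨Q, _, _, i, q, hi, hq⟩ := exists_maps_of_isSubquotient h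
  haveI : Subsingleton Q := hq.subsingleton
  exact hi.subsingleton

end Subq


section Step

variable {H H₁ HP HP' K K₁ KP KP' : Type u}
  [AddCommGroup H] [Module R H] [AddCommGroup H₁] [Module R H₁]
  [AddCommGroup HP] [Module R HP] [AddCommGroup HP'] [Module R HP']
  [AddCommGroup K] [Module R K] [AddCommGroup K₁] [Module R K₁]
  [AddCommGroup KP] [Module R KP] [AddCommGroup KP'] [Module R KP']

/-- the new filtration: `F 0 = range κ`, `F (p+1) = δ⁻¹ (F' p)` -/
def stepF (κ : K →ₗ[R] H) (δ : H →ₗ[R] H₁) (F' : ℕ → Submodule R H₁) : ℕ → Submodule R H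
  | 0 => LinearMap.range κ
  | p+1 => (F' p).comap δ

variable (g : HP →ₗ[R] H) (δ : H →ₗ[R] H₁) (f' : H₁ →ₗ[R] HP')
  (hgδ : Function.Exact g δ) (hδf : Function.Exact δ f')
  (κ : K →ₗ[R] H) (κ₁ : K₁ →ₗ[R] H₁) (κP : KP →ₗ[R] HP) (κP' : KP' →ₗ[R] HP')
  (Kg : KP →ₗ[R] K) (hKg : Function.Surjective Kg) (sq1 : ∀ x, κ (Kg x) = g (κP x))
  (Kf' : K₁ →ₗ[R] KP') (sq2 : ∀ x, κP' (Kf' x) = f' (κ₁ x))
  (hκP : Function.Surjective κP) (hκP' : Function.Injective κP')
  (F' : ℕ → Submodule R H₁) (h0 : F' 0 = LinearMap.range κ₁) (hmono : Monotone F')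

include hgδ hKg sq1 hκP in
lemma range_κ_eq_ker : LinearMap.range κ = LinearMap.ker δ := by
  ext y
  rw [LinearMap.mem_ker, hgδ y]
  constructor
  · rintro ⟨x, rfl⟩
    obtain ⟨x', rfl⟩ := hKg x
    exact ⟨κP x', (sq1 x').symm⟩
  · rintro ⟨y', rfl⟩
    obtain ⟨x', rfl⟩ := hκP y'
    exact ⟨Kg x', sq1 x'⟩

include hgδ hKg sq1 hκP hmono in
lemma stepF_mono : Monotone (stepF κ δ F') := by
  apply monotone_nat_of_le_succ
  intro p
  cases p with
  | zero =>
    show LinearMap.range κ ≤ (F' 0).comap δ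
    rw [range_κ_eq_ker g δ hgδ κ κP Kg hKg sq1 hκP]
    intro y hy
    show δ y ∈ F' 0
    rw [LinearMap.mem_ker.1 hy]
    exact zero_mem _
  | succ p =>
    show (F' p).comap δ ≤ (F' (p+1)).comap δ
    exact Submodule.comap_mono (hmono (Nat.le_succ p))

lemma stepF_top (N' : ℕ) (htop : F' N' = ⊤) : stepF κ δ F' (N' + 1) = ⊤ := by
  show (F' N').comap δ = ⊤
  rw [htop, Submodule.comap_top]

include hgδ hδf hKg sq1 sq2 hκP hκP' h0 in
/-- the bottom graded piece is a subquotient of anything surjecting onto `ker Kf'` -/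
lemma stepF_gr_zero {T : Type u} [AddCommGroup T] [Module R T] (D : T →ₗ[R] K₁)
    (hD : LinearMap.ker Kf' ≤ LinearMap.range D) :
    IsSubquotient R (grSucc (stepF κ δ F') 0) T := by
  -- the map induced by δ
  let j₀ : ↥(stepF κ δ F' (0 + 1)) →ₗ[R] H₁ := δ.comp (stepF κ δ F' (0 + 1)).subtype
  have hle : Submodule.comap (stepF κ δ F' (0 + 1)).subtype (stepF κ δ F' 0) ≤ LinearMap.ker j₀ := by
    intro y hy
    have hy' : (y : H) ∈ LinearMap.range κ := hy
    rw [range_κ_eq_ker g δ hgδ κ κP Kg hKg sq1 hκP] at hy'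
    exact hy'
  let i₀ : grSucc (stepF κ δ F') 0 →ₗ[R] H₁ := Submodule.liftQ _ j₀ hle
  have hi₀ : Function.Injective i₀ := by
    rw [← LinearMap.ker_eq_bot]
    apply Submodule.ker_liftQ_eq_bot
    intro y hy
    show (y : H) ∈ LinearMap.range κ
    rw [range_κ_eq_ker g δ hgδ κ κP Kg hKg sq1 hκP]
    exact hy
  refine isSubquotient_of_maps i₀ (κ₁.comp D) hi₀ ?_
  rintro _ ⟨c, rfl⟩
  obtain ⟨y, rfl⟩ := Submodule.mkQ_surjective _ c
  show j₀ y ∈ _
  have hy : δ (y : H) ∈ F' 0 := y.2
  rw [h0] at hy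
  obtain ⟨x, hx⟩ := hy
  have hx0 : Kf' x = 0 := by
    apply hκP'
    rw [sq2, hx, map_zero]
    exact (hδf _).2 ⟨_, rfl⟩
  obtain ⟨t, rfl⟩ := hD (LinearMap.mem_ker.2 hx0)
  exact ⟨t, hx⟩

/-- the higher graded pieces embed into those of the old filtration -/
lemma stepF_gr_succ (p : ℕ) {T : Type u} [AddCommGroup T] [Module R T]
    (h : IsSubquotient R (grSucc F' p) T) :
    IsSubquotient R (grSucc (stepF κ δ F') (p + 1)) T := by
  let δ' : ↥(stepF κ δ F' (p + 1 + 1)) →ₗ[R] ↥(F' (p + 1)) :=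
    LinearMap.codRestrict _ (δ.comp (stepF κ δ F' (p + 1 + 1)).subtype) (fun y => y.2)
  let j₀ : ↥(stepF κ δ F' (p + 1 + 1)) →ₗ[R] grSucc F' p :=
    (Submodule.mkQ _).comp δ'
  have hker : ∀ y : ↥(stepF κ δ F' (p + 1 + 1)), j₀ y = 0 ↔ (y : H) ∈ stepF κ δ F' (p + 1) := by
    intro y
    show Submodule.Quotient.mk (δ' y) = 0 ↔ _
    rw [Submodule.Quotient.mk_eq_zero]
    rfl
  have hle : Submodule.comap (stepF κ δ F' (p + 1 + 1)).subtype (stepF κ δ F' (p + 1)) ≤
      LinearMap.ker j₀ := fun y hy => (hker y).2 hy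
  let i₀ : grSucc (stepF κ δ F') (p + 1) →ₗ[R] grSucc F' p := Submodule.liftQ _ j₀ hle
  have hi₀ : Function.Injective i₀ := by
    rw [← LinearMap.ker_eq_bot]
    apply Submodule.ker_liftQ_eq_bot
    intro y hy
    exact (hker y).1 hy
  exact isSubquotient_of_injective i₀ hi₀ h

end Step

end Groth.Agent.Lib.Helper32.KunFilt
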