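import Mathlib
import Groth.Prelude.Def_HTor
import Groth.Agent.Lib.Helper46.TorShift
import Groth.Agent.Lib.Helper32.KunMap

/-!
Dimension shifting for the Tor sums of the Künneth spectral sequence along a short exact sequence
of complexes whose cohomology sequences are short exact with flat middle terms.
-/

set_option autoImplicit false
universe u
open CategoryTheory CategoryTheory.Limits MonoidalCategory HomologicalComplex

namespace Groth.Agent.Lib.Helper32.KunTor

open Groth.Agent.Lib.Helper46 Groth.Agent.Lib.Helper32.KunMap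

variable {R : Type u} [CommRing R]

section Mod

variable (X : ModuleCat.{u} R) (S : ShortComplex (ModuleCat.{u} R)) (hS : S.ShortExact)

lemma δ₂_surjective [Module.Flat R S.X₂] (p : ℕ) :
    Function.Surjective (TorLES2.δ₂ X S hS (p + 1)).hom := by
  have hex := (ShortComplex.ShortExact.moduleCat_exact_iff_function_exact _).1
    (TorLES2.exact₁₂ X S hS (p + 1))
  have hz : IsZero (((Tor (ModuleCat.{u} R) (p + 1)).obj X).obj S.X₂) :=
    TorLES.isZero_tor_succ_of_flat_right S.X₂ p X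
  intro t
  haveI := ModuleCat.subsingleton_of_isZero hz
  exact (hex t).1 (Subsingleton.elim _ _)

/-- the connecting map `Tor₁(X, S.X₃) → X ⊗ S.X₁` -/
noncomputable def D₁ : ((Tor (ModuleCat.{u} R) (0 + 1)).obj X).obj S.X₃ →ₗ[R]
    TensorProduct R X S.X₁ :=
  ((TorLES.torZeroIso X).hom.app S.X₁).hom ∘ₗ (TorLES2.δ₂ X S hS 0).hom

lemma torZero_nat (t : ((Tor (ModuleCat.{u} R) 0).obj X).obj S.X₁) :
    ((TorLES.torZeroIso X).hom.app S.X₂).hom ((((Tor (ModuleCat.{u} R) 0).obj X).map S.f).hom t) =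
      LinearMap.lTensor X S.f.hom (((TorLES.torZeroIso X).hom.app S.X₁).hom t) :=
  congr_arg (fun m => m.hom t) ((TorLES.torZeroIso X).hom.naturality S.f)

lemma lTensor_D₁ (t : ((Tor (ModuleCat.{u} R) (0 + 1)).obj X).obj S.X₃) :
    LinearMap.lTensor X S.f.hom (D₁ X S hS t) = 0 := by
  unfold D₁
  rw [LinearMap.comp_apply, ← torZero_nat]
  have := congr_arg (fun m => m.hom t) (TorLES2.δ₂_map_f X S hS 0)
  have h2 : (((Tor (ModuleCat.{u} R) 0).obj X).map S.f).hom ((TorLES2.δ₂ X S hS 0).hom t) = 0 := this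
  rw [h2, map_zero]

lemma ker_le_range_D₁ : LinearMap.ker (LinearMap.lTensor X S.f.hom) ≤ LinearMap.range (D₁ X S hS) := by
  intro t ht
  rw [LinearMap.mem_ker] at ht
  have hex := (ShortComplex.ShortExact.moduleCat_exact_iff_function_exact _).1
    (TorLES2.exact₁₂ X S hS 0)
  set t' := ((TorLES.torZeroIso X).inv.app S.X₁).hom t with ht'
  have e1 : ((TorLES.torZeroIso X).hom.app S.X₁).hom t' = t :=
    congr_arg (fun m => m.hom t) ((TorLES.torZeroIso X).inv_hom_id_app S.X₁)
  have h0 : (((Tor (ModuleCat.{u} R) 0).obj X).map S.f).hom t' = 0 := by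
    have hinj : Function.Injective ((TorLES.torZeroIso X).hom.app S.X₂).hom := by
      intro a b hab
      have h3 := congr_arg ((TorLES.torZeroIso X).inv.app S.X₂).hom hab
      have ea : ((TorLES.torZeroIso X).inv.app S.X₂).hom
          (((TorLES.torZeroIso X).hom.app S.X₂).hom a) = a :=
        congr_arg (fun m => m.hom a) ((TorLES.torZeroIso X).hom_inv_id_app S.X₂)
      have eb : ((TorLES.torZeroIso X).inv.app S.X₂).hom
          (((TorLES.torZeroIso X).hom.app S.X₂).hom b) = b :=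
        congr_arg (fun m => m.hom b) ((TorLES.torZeroIso X).hom_inv_id_app S.X₂)
      rw [ea, eb] at h3
      exact h3
    apply hinj
    rw [torZero_nat, e1, ht, map_zero]
  obtain ⟨u, hu⟩ := (hex t').1 h0
  refine ⟨u, ?_⟩
  unfold D₁
  rw [LinearMap.comp_apply]
  have hu' : (TorLES2.δ₂ X S hS 0).hom u = t' := hu
  rw [hu', e1]

end Mod


section Sum

variable (L : CochainComplex (ModuleCat.{u} R) ℤ)
  (S : ShortComplex (CochainComplex (ModuleCat.{u} R) ℤ))

/-- the cohomology short complexes -/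
noncomputable abbrev SH (j : ℤ) : ShortComplex (ModuleCat.{u} R) :=
  ShortComplex.mk (HomologicalComplex.homologyMap S.f j) (HomologicalComplex.homologyMap S.g j)
    (by rw [← HomologicalComplex.homologyMap_comp, S.zero, HomologicalComplex.homologyMap_zero])

variable (hSH : ∀ j, (SH S j).ShortExact) (hflat : ∀ j, Module.Flat R (S.X₂.homology j))

/-- component of the shifting map -/
noncomputable def shiftComp (n : ℤ) (p : ℕ)
    (ij : {ij : ℤ × ℤ // ij.1 + ij.2 - ((p + 1 + 1 : ℕ) : ℤ) = n}) :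
    DRing.Tor R (p + 1 + 1) (L.homology ij.1.1) (S.X₃.homology ij.1.2) →ₗ[R]
      DRing.Tor R (p + 1) (L.homology ij.1.1) (S.X₁.homology ij.1.2) :=
  (TorLES2.δ₂ (L.homology ij.1.1) (SH S ij.1.2) (hSH ij.1.2) (p + 1)).hom

include hflat in
lemma shiftComp_surjective (n : ℤ) (p : ℕ)
    (ij : {ij : ℤ × ℤ // ij.1 + ij.2 - ((p + 1 + 1 : ℕ) : ℤ) = n}) :
    Function.Surjective (shiftComp L S hSH n p ij) := by
  haveI : Module.Flat R (SH S ij.1.2).X₂ := hflat ij.1.2
  exact δ₂_surjective (L.homology ij.1.1) (SH S ij.1.2) (hSH ij.1.2) p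

/-- the shifting map on Tor sums -/
noncomputable def shift (n : ℤ) (p : ℕ) :
    HTor.TorSum L S.X₃ n (p + 1 + 1) →ₗ[R] HTor.TorSum L S.X₁ (n + 1) (p + 1) :=
  DirectSum.toModule R _ _ (fun ij =>
    (DirectSum.lof R {ij : ℤ × ℤ // ij.1 + ij.2 - ((p + 1 : ℕ) : ℤ) = n + 1}
      (fun ij => DRing.Tor R (p + 1) (L.homology ij.1.1) (S.X₁.homology ij.1.2))
      ⟨ij.1, by have := ij.2; push_cast at this ⊢; omega⟩).comp (shiftComp L S hSH n p ij))

include hflat in
theorem shift_surjective (n : ℤ) (p : ℕ) : Function.Surjective (shift L S hSH n p) := by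
  intro y
  induction y using DirectSum.induction_on with
  | zero => exact ⟨0, map_zero _⟩
  | of ij t =>
    have hidx : ij.1.1 + ij.1.2 - ((p + 1 + 1 : ℕ) : ℤ) = n := by
      have := ij.2; push_cast at this ⊢; omega
    obtain ⟨t', ht'⟩ := shiftComp_surjective L S hSH hflat n p ⟨ij.1, hidx⟩ t
    refine ⟨DirectSum.lof R {ij : ℤ × ℤ // ij.1 + ij.2 - ((p + 1 + 1 : ℕ) : ℤ) = n}
      (fun ij => DRing.Tor R (p + 1 + 1) (L.homology ij.1.1) (S.X₃.homology ij.1.2))
      ⟨ij.1, hidx⟩ t', ?_⟩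
    unfold shift
    rw [DirectSum.toModule_lof, LinearMap.comp_apply, ht']
    rfl
  | add x y hx hy =>
    obtain ⟨x', rfl⟩ := hx
    obtain ⟨y', rfl⟩ := hy
    exact ⟨x' + y', map_add _ _ _⟩

end Sum


section SumOne

variable (L : CochainComplex (ModuleCat.{u} R) ℤ)
  (S : ShortComplex (CochainComplex (ModuleCat.{u} R) ℤ))
  (hSH : ∀ j, (SH S j).ShortExact)

/-- the map from the `Tor₁` sum to the Künneth sum of the kernel -/
noncomputable def DSum (n : ℤ) : HTor.TorSum L S.X₃ n (0 + 1) →ₗ[R] KSum L S.X₁ (n + 1) :=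
  DirectSum.toModule R _ _ (fun ij =>
    (DirectSum.lof R (Antidiag (n + 1))
      (fun ij => TensorProduct R (L.homology ij.1.1) (S.X₁.homology ij.1.2))
      ⟨ij.1, by have := ij.2; push_cast at this ⊢; omega⟩).comp
      (D₁ (L.homology ij.1.1) (SH S ij.1.2) (hSH ij.1.2)))

theorem ker_Kmap_le_range_DSum (n : ℤ) :
    LinearMap.ker (Kmap L S.f (n + 1)) ≤ LinearMap.range (DSum L S hSH n) := by
  classical
  intro x hx
  rw [LinearMap.mem_ker] at hx
  rw [← DirectSum.sum_support_of x]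
  apply Submodule.sum_mem
  intro ij _
  have hij : LinearMap.lTensor (L.homology ij.1.1)
      (HomologicalComplex.homologyMap S.f ij.1.2).hom (x ij) = 0 := by
    have := congr_arg (fun y => y ij) hx
    exact this
  obtain ⟨t, ht⟩ := ker_le_range_D₁ (L.homology ij.1.1) (SH S ij.1.2) (hSH ij.1.2)
    (LinearMap.mem_ker.2 hij)
  have hidx : ij.1.1 + ij.1.2 - ((0 + 1 : ℕ) : ℤ) = n := by
    have := ij.2; push_cast at this ⊢; omega
  refine ⟨DirectSum.lof R {ij : ℤ × ℤ // ij.1 + ij.2 - ((0 + 1 : ℕ) : ℤ) = n}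
    (fun ij => DRing.Tor R (0 + 1) (L.homology ij.1.1) (S.X₃.homology ij.1.2)) ⟨ij.1, hidx⟩ t, ?_⟩
  unfold DSum
  rw [DirectSum.toModule_lof, LinearMap.comp_apply, ht]
  rfl

end SumOne

end Groth.Agent.Lib.Helper32.KunTor
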