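import Mathlib
import Groth.Prelude.Def_HTor
import Groth.Agent.Lib.Helper32.KunCover
import Groth.Agent.Lib.Helper32.KunFilt
import Groth.Agent.Lib.Helper32.KunTor

/-!
The Künneth filtration theorem and the Künneth isomorphism for flat cohomology, for bounded above
complexes of modules, by induction along syzygy complexes.
-/

set_option autoImplicit false
universe u
open CategoryTheory CategoryTheory.Limits MonoidalCategory HomologicalComplex

namespace Groth.Agent.Lib.Helper32.KunMain

open Groth.Agent.Lib.Helper32.KunTen Groth.Agent.Lib.Helper32.KunMap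
  Groth.Agent.Lib.Helper32.KunCover Groth.Agent.Lib.Helper32.KunFilt
  Groth.Agent.Lib.Helper32.KunTor HTor

variable {R : Type u} [CommRing R]

section CoverData

variable (M : CochainComplex (ModuleCat.{u} R) ℤ)

/-- the syzygy complex -/
noncomputable abbrev M₁ : CochainComplex (ModuleCat.{u} R) ℤ := kernel (π M)

/-- its inclusion into the cover -/
noncomputable abbrev ι : M₁ M ⟶ P M := kernel.ι (π M)

/-- the short exact sequence `0 → M₁ → P → M → 0` -/
noncomputable abbrev SC : ShortComplex (CochainComplex (ModuleCat.{u} R) ℤ) :=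
  ShortComplex.mk (ι M) (π M) (kernel.condition (π M))

lemma SC_shortExact : (SC M).ShortExact :=
  KunLES.kerSC_shortExact (π M) (π_surjective M)

lemma homologyMap_ι_injective (j : ℤ) :
    Function.Injective (HomologicalComplex.homologyMap (ι M) j).hom := by
  rw [injective_iff_map_eq_zero]
  intro x hx
  obtain ⟨m, rfl⟩ : ∃ m, j = m + 1 := ⟨j - 1, by ring⟩
  obtain ⟨y, rfl⟩ := (KunLES.exact₁ (SC M) (SC_shortExact M) m x).1 hx
  obtain ⟨y', rfl⟩ := homologyMap_π_surjective M m y
  exact (KunLES.exact₃ (SC M) (SC_shortExact M) m _).2 ⟨y', rfl⟩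

lemma SH_shortExact (j : ℤ) : (SH (SC M) j).ShortExact :=
  ModuleCat.shortComplex_shortExact _ (KunLES.exact₂ (SC M) (SC_shortExact M) j)
    (homologyMap_ι_injective M j) (homologyMap_π_surjective M j)

lemma isZero_M₁ (b : ℤ) (hM : ∀ j, b < j → IsZero (M.X j)) (j : ℤ) (hj : b < j) :
    IsZero ((M₁ M).X j) := by
  have hP : IsZero ((P M).X j) := isZero_P M j (hM j hj) (hM (j+1) (by omega))
  haveI := ModuleCat.subsingleton_of_isZero hP
  haveI : Subsingleton ((M₁ M).X j) :=
    (KunLES.f_injective (SC M) (SC_shortExact M) j).subsingleton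
  exact ModuleCat.isZero_of_subsingleton _

end CoverData

section Main

variable (L : CochainComplex (ModuleCat.{u} R) ℤ) (hL : ∀ i, Module.Flat R (L.X i)) (bL : ℤ)
  (hbL : ∀ i, bL < i → IsZero (L.X i))

include hbL in
lemma isZero_homology_tensor (M : CochainComplex (ModuleCat.{u} R) ℤ) (b : ℤ)
    (hM : ∀ j, b < j → IsZero (M.X j)) (n : ℤ) (hn : bL + b < n) :
    IsZero ((L ⊗ M).homology n) :=
  ShortComplex.isZero_homology_of_isZero_X₂ ((L ⊗ M).sc n) (isZero_tensor_X L M bL b hbL hM n hn)

lemma filtration_of_isZero (M : CochainComplex (ModuleCat.{u} R) ℤ) (n : ℤ)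
    (hz : IsZero ((L ⊗ M).homology n)) :
    ∃ (N : ℕ) (F : ℕ → Submodule R ((L ⊗ M).homology n)),
      F 0 = LinearMap.range (kunSum L M n) ∧ Monotone F ∧ F N = ⊤ ∧
      ∀ p : ℕ, IsSubquotient R (grSucc F p) (TorSum L M n (p + 1)) := by
  haveI := ModuleCat.subsingleton_of_isZero hz
  refine ⟨0, fun _ => ⊤, ?_, monotone_const, rfl, ?_⟩
  · rw [Submodule.eq_bot_of_subsingleton (p := ⊤),
      Submodule.eq_bot_of_subsingleton (p := LinearMap.range (kunSum L M n))]
  · intro p
    haveI : Subsingleton (grSucc (fun _ : ℕ => (⊤ : Submodule R ((L ⊗ M).homology n))) p) :=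
      (Submodule.mkQ_surjective _).subsingleton
    exact isSubquotient_of_subsingleton

include hL hbL in
theorem filtration : ∀ (d : ℕ) (M : CochainComplex (ModuleCat.{u} R) ℤ) (b n : ℤ),
    (∀ j, b < j → IsZero (M.X j)) → bL + b - n < d →
    ∃ (N : ℕ) (F : ℕ → Submodule R ((L ⊗ M).homology n)),
      F 0 = LinearMap.range (kunSum L M n) ∧ Monotone F ∧ F N = ⊤ ∧
      ∀ p : ℕ, IsSubquotient R (grSucc F p) (TorSum L M n (p + 1)) := by
  intro d
  induction d with
  | zero =>
    intro M b n hM hd
    exact filtration_of_isZero L M n (isZero_homology_tensor L bL hbL M b hM n (by omega))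
  | succ d ih =>
    intro M b n hM hd
    by_cases hn : bL + b < n
    · exact filtration_of_isZero L M n (isZero_homology_tensor L bL hbL M b hM n hn)
    · have hS := SC_shortExact M
      have hten := KunLES.ten_shortExact L (SC M) hL hS
      obtain ⟨N', F', h0', hmono', htop', hgr'⟩ :=
        ih (M₁ M) b (n + 1) (isZero_M₁ M b hM) (by push_cast at hd ⊢; omega)
      -- the maps
      let g : (L ⊗ P M).homology n →ₗ[R] (L ⊗ M).homology n :=
        (HomologicalComplex.homologyMap (L ◁ π M) n).hom
      let δ : (L ⊗ M).homology n →ₗ[R] (L ⊗ M₁ M).homology (n + 1) :=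
        KunLES.δ (KunLES.ten L (SC M)) hten n
      let f' : (L ⊗ M₁ M).homology (n + 1) →ₗ[R] (L ⊗ P M).homology (n + 1) :=
        (HomologicalComplex.homologyMap (L ◁ ι M) (n + 1)).hom
      have hgδ : Function.Exact g δ := KunLES.exact₃ (KunLES.ten L (SC M)) hten n
      have hδf : Function.Exact δ f' := KunLES.exact₁ (KunLES.ten L (SC M)) hten n
      have hKg : Function.Surjective (Kmap L (π M) n) :=
        (DirectSum.lmap_surjective _).2
          (fun ij => LinearMap.lTensor_surjective _ (homologyMap_π_surjective M ij.1.2))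
      have sq1 : ∀ x, kunSum L M n (Kmap L (π M) n x) = g (kunSum L (P M) n x) :=
        fun x => (kunSum_natural L (π M) n x).symm
      have sq2 : ∀ x, kunSum L (P M) (n + 1) (Kmap L (ι M) (n + 1) x) =
          f' (kunSum L (M₁ M) (n + 1) x) :=
        fun x => (kunSum_natural L (ι M) (n + 1) x).symm
      have hκP := (kunSum_P_bijective M L hL n).2
      have hκP' := (kunSum_P_bijective M L hL (n + 1)).1
      refine ⟨N' + 1, stepF (kunSum L M n) δ F', rfl,
        stepF_mono g δ hgδ (kunSum L M n) (kunSum L (P M) n) (Kmap L (π M) n) hKg sq1 hκP F' hmono',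
        stepF_top δ (kunSum L M n) F' N' htop', ?_⟩
      intro p
      cases p with
      | zero =>
        exact stepF_gr_zero g δ f' hgδ hδf (kunSum L M n) (kunSum L (M₁ M) (n + 1))
          (kunSum L (P M) n) (kunSum L (P M) (n + 1)) (Kmap L (π M) n) hKg sq1
          (Kmap L (ι M) (n + 1)) sq2 hκP hκP' F' h0'
          (DSum L (SC M) (SH_shortExact M) n) (ker_Kmap_le_range_DSum L (SC M) (SH_shortExact M) n)
      | succ p =>
        exact stepF_gr_succ δ (kunSum L M n) F' p
          (isSubquotient_of_surjective (shift L (SC M) (SH_shortExact M) n p)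
            (shift_surjective L (SC M) (SH_shortExact M) (flat_homology_P M) n p) (hgr' p))

end Main

end Groth.Agent.Lib.Helper32.KunMain
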