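import Mathlib
import Groth.Prelude.Def_HTor
import Groth.Agent.Lib.Helper32.KunMain

/-!
Corollaries of the Künneth filtration: vanishing of `H^n(L ⊗ M)` when all relevant Tor modules
vanish, and bijectivity of the Künneth map when the cohomology of `L` is flat.
-/

set_option autoImplicit false
universe u
open CategoryTheory CategoryTheory.Limits MonoidalCategory HomologicalComplex

namespace Groth.Agent.Lib.Helper32.KunCor

open Groth.Agent.Lib.Helper32.KunTen Groth.Agent.Lib.Helper32.KunMap
  Groth.Agent.Lib.Helper32.KunCover Groth.Agent.Lib.Helper32.KunFilt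
  Groth.Agent.Lib.Helper32.KunTor Groth.Agent.Lib.Helper32.KunMain HTor
  Groth.Agent.Lib.Helper46

variable {R : Type u} [CommRing R]

lemma subsingleton_directSum {ι : Type} {β : ι → Type u} [∀ i, AddCommMonoid (β i)]
    (h : ∀ i, Subsingleton (β i)) : Subsingleton (DirectSum ι β) :=
  ⟨fun a b => DFinsupp.ext (fun i => Subsingleton.elim _ _)⟩

section Vanish

variable (L : CochainComplex (ModuleCat.{u} R) ℤ) (hL : ∀ i, Module.Flat R (L.X i)) (bL : ℤ)
  (hbL : ∀ i, bL < i → IsZero (L.X i))

include hL hbL in
theorem isZero_of_tor_vanishing (M : CochainComplex (ModuleCat.{u} R) ℤ) (b : ℤ)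
    (hM : ∀ j, b < j → IsZero (M.X j)) (n : ℤ)
    (h : ∀ (p : ℕ) (i j : ℤ), i + j - p = n →
      Subsingleton (DRing.Tor R p (L.homology i) (M.homology j))) :
    IsZero ((L ⊗ M).homology n) := by
  obtain ⟨N, F, h0, hmono, htop, hgr⟩ := filtration L hL bL hbL
    ((bL + b - n).toNat + 1) M b n hM (by push_cast; omega)
  -- graded pieces vanish
  have hstep : ∀ p, F (p + 1) ≤ F p := by
    intro p
    haveI : Subsingleton (TorSum L M n (p + 1)) :=
      subsingleton_directSum (fun ij => h (p + 1) ij.1.1 ij.1.2 ij.2)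
    haveI := subsingleton_of_isSubquotient (hgr p)
    intro y hy
    have : (Submodule.Quotient.mk (⟨y, hy⟩ : ↥(F (p + 1))) : grSucc F p) = 0 :=
      Subsingleton.elim _ _
    rw [Submodule.Quotient.mk_eq_zero] at this
    exact this
  have hall : ∀ p, F p ≤ F 0 := by
    intro p
    induction p with
    | zero => exact le_refl _
    | succ p ih => exact (hstep p).trans ih
  -- the Künneth sum vanishes
  haveI : Subsingleton (KSum L M n) := by
    apply subsingleton_directSum
    intro ij
    haveI : Subsingleton (DRing.Tor R 0 (L.homology ij.1.1) (M.homology ij.1.2)) :=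
      h 0 ij.1.1 ij.1.2 (by have := ij.2; push_cast; omega)
    exact (TorShift.torZeroEquiv (R := R) (L.homology ij.1.1) (M.homology ij.1.2)).symm.subsingleton
  have hbot : LinearMap.range (kunSum L M n) = ⊥ := by
    rw [LinearMap.range_eq_bot]
    apply LinearMap.ext
    intro x
    rw [Subsingleton.elim x 0, map_zero, LinearMap.zero_apply]
  have htb : (⊤ : Submodule R ((L ⊗ M).homology n)) = ⊥ := by
    apply le_antisymm _ bot_le
    rw [← htop, ← hbot, ← h0]
    exact hall N
  haveI : Subsingleton ((L ⊗ M).homology n) := by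
    refine ⟨fun a b => ?_⟩
    have ha : a ∈ (⊤ : Submodule R ((L ⊗ M).homology n)) := trivial
    have hb : b ∈ (⊤ : Submodule R ((L ⊗ M).homology n)) := trivial
    rw [htb, Submodule.mem_bot] at ha hb
    rw [ha, hb]
  exact ModuleCat.isZero_of_subsingleton _

end Vanish


section Bij

variable (L : CochainComplex (ModuleCat.{u} R) ℤ) (hL : ∀ i, Module.Flat R (L.X i)) (bL : ℤ)
  (hbL : ∀ i, bL < i → IsZero (L.X i)) (hH : ∀ i, Module.Flat R (L.homology i))

lemma lmap_exact {ι : Type} {A B C : ι → Type u} [∀ i, AddCommGroup (A i)] [∀ i, Module R (A i)]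
    [∀ i, AddCommGroup (B i)] [∀ i, Module R (B i)] [∀ i, AddCommGroup (C i)]
    [∀ i, Module R (C i)] (f : ∀ i, A i →ₗ[R] B i) (g : ∀ i, B i →ₗ[R] C i)
    (h : ∀ i, Function.Exact (f i) (g i)) :
    Function.Exact (DirectSum.lmap f) (DirectSum.lmap g) := by
  rw [LinearMap.exact_iff, DirectSum.ker_lmap, DirectSum.range_lmap]
  congr 2
  funext i
  exact LinearMap.exact_iff.1 (h i)

include hbL in
lemma subsingleton_KSum (M : CochainComplex (ModuleCat.{u} R) ℤ) (b : ℤ)
    (hM : ∀ j, b < j → IsZero (M.X j)) (n : ℤ) (hn : bL + b < n) : Subsingleton (KSum L M n) := by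
  apply subsingleton_directSum
  intro ij
  by_cases hi : bL < ij.1.1
  · have hz : IsZero (L.homology ij.1.1) :=
      ShortComplex.isZero_homology_of_isZero_X₂ (L.sc ij.1.1) (hbL _ hi)
    exact ModuleCat.subsingleton_of_isZero (subsingleton_tensor_left _ (M.homology ij.1.2) hz)
  · have hj : b < ij.1.2 := by have := ij.2; omega
    have hz : IsZero (M.homology ij.1.2) :=
      ShortComplex.isZero_homology_of_isZero_X₂ (M.sc ij.1.2) (hM _ hj)
    exact ModuleCat.subsingleton_of_isZero (subsingleton_tensor_right (L.homology ij.1.1) _ hz)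

include hL hbL hH in
theorem kunSum_bijective : ∀ (d : ℕ) (M : CochainComplex (ModuleCat.{u} R) ℤ) (b n : ℤ),
    (∀ j, b < j → IsZero (M.X j)) → bL + b - n < d → Function.Bijective (kunSum L M n) := by
  have base : ∀ (M : CochainComplex (ModuleCat.{u} R) ℤ) (b n : ℤ),
      (∀ j, b < j → IsZero (M.X j)) → bL + b < n → Function.Bijective (kunSum L M n) := by
    intro M b n hM hn
    haveI := subsingleton_KSum L bL hbL M b hM n hn
    haveI := ModuleCat.subsingleton_of_isZero (isZero_homology_tensor L bL hbL M b hM n hn)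
    exact ⟨fun a b _ => Subsingleton.elim a b, fun y => ⟨0, Subsingleton.elim _ _⟩⟩
  intro d
  induction d with
  | zero =>
    intro M b n hM hd
    exact base M b n hM (by omega)
  | succ d ih =>
    intro M b n hM hd
    by_cases hn : bL + b < n
    · exact base M b n hM hn
    -- surjectivity for all complexes bounded by b in degree n
    have surj : ∀ (M : CochainComplex (ModuleCat.{u} R) ℤ), (∀ j, b < j → IsZero (M.X j)) →
        Function.Surjective (kunSum L M n) := by
      intro M hM y
      have hS := SC_shortExact M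
      have hten := KunLES.ten_shortExact L (SC M) hL hS
      have ih1 := ih (M₁ M) b (n + 1) (isZero_M₁ M b hM) (by push_cast at hd ⊢; omega)
      let δ : (L ⊗ M).homology n →ₗ[R] (L ⊗ M₁ M).homology (n + 1) :=
        KunLES.δ (KunLES.ten L (SC M)) hten n
      obtain ⟨x, hx⟩ := ih1.2 (δ y)
      have hx0 : Kmap L (ι M) (n + 1) x = 0 := by
        apply (kunSum_P_bijective M L hL (n + 1)).1
        rw [← kunSum_natural, hx, map_zero]
        exact (KunLES.exact₁ (KunLES.ten L (SC M)) hten n _).2 ⟨y, rfl⟩
      have hinj : Function.Injective (Kmap L (ι M) (n + 1)) :=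
        (DirectSum.lmap_injective _).2 (fun ij => by
          haveI := hH ij.1.1
          exact Module.Flat.lTensor_preserves_injective_linearMap _
            (homologyMap_ι_injective M ij.1.2))
      have hx' : x = 0 := hinj (by rw [hx0, map_zero])
      have hδy : δ y = 0 := by rw [← hx, hx', map_zero]
      obtain ⟨y', hy'⟩ := (KunLES.exact₃ (KunLES.ten L (SC M)) hten n y).1 hδy
      obtain ⟨x', hx'⟩ := (kunSum_P_bijective M L hL n).2 y'
      refine ⟨Kmap L (π M) n x', ?_⟩
      rw [← kunSum_natural, hx']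
      exact hy'
    refine ⟨?_, surj M hM⟩
    -- injectivity
    rw [injective_iff_map_eq_zero]
    intro x hx
    have hS := SC_shortExact M
    have hten := KunLES.ten_shortExact L (SC M) hL hS
    have hKg : Function.Surjective (Kmap L (π M) n) :=
      (DirectSum.lmap_surjective _).2
        (fun ij => LinearMap.lTensor_surjective _ (homologyMap_π_surjective M ij.1.2))
    obtain ⟨x', rfl⟩ := hKg x
    rw [← kunSum_natural] at hx
    obtain ⟨y'', hy''⟩ := (KunLES.exact₂ (KunLES.ten L (SC M)) hten n _).1 hx
    obtain ⟨x'', rfl⟩ := surj (M₁ M) (isZero_M₁ M b hM) y''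
    have hy3 : (HomologicalComplex.homologyMap (L ◁ ι M) n).hom (kunSum L (M₁ M) n x'') =
        kunSum L (P M) n x' := hy''
    rw [kunSum_natural] at hy3
    have hx3 : Kmap L (ι M) n x'' = x' := (kunSum_P_bijective M L hL n).1 hy3
    rw [← hx3]
    have hex : Function.Exact (Kmap L (ι M) n) (Kmap L (π M) n) :=
      lmap_exact _ _ (fun ij => lTensor_exact _
        (KunLES.exact₂ (SC M) hS ij.1.2) (homologyMap_π_surjective M ij.1.2))
    exact (hex _).2 ⟨x'', rfl⟩

end Bij

end Groth.Agent.Lib.Helper32.KunCor
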