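import Mathlib
import Groth.Agent.Lib.Helper32.ConeSplit

/-!
Koszul complexes as iterated concrete cones `Cn (f • 𝟙 K)`; exactness for sequences regular
"from the right", finite free terms, null-homotopies of the elements of the sequence.
-/

set_option autoImplicit false
universe u
open CategoryTheory CategoryTheory.Limits HomologicalComplex

namespace Groth.Agent.Lib.Helper32.KzCn

open Groth.Agent.Lib.Helper32.ConeSplit

variable {B : Type u} [CommRing B]

lemma smulId_f_apply (f : B) (K : CochainComplex (ModuleCat.{u} B) ℤ) (i : ℤ) (x : K.X i) :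
    ((f • 𝟙 K : K ⟶ K).f i).hom x = f • x := by
  simp

lemma Cn_d_apply {M N : CochainComplex (ModuleCat.{u} B) ℤ} (φ : M ⟶ N) (n : ℤ)
    (x : M.X (n+1) × N.X n) :
    ((Cn φ).d n (n+1)).hom x = (-(M.d (n+1) (n+1+1)).hom x.1,
      (φ.f (n+1)).hom x.1 + (N.d n (n+1)).hom x.2) := by
  rw [Cn_d]
  rfl

/-- the differential of the cone of multiplication by `f` -/
lemma CnSmul_d_apply (f : B) (K : CochainComplex (ModuleCat.{u} B) ℤ) (n : ℤ)
    (x : K.X (n+1) × K.X n) :
    ((Cn (f • 𝟙 K)).d n (n+1)).hom x = (-(K.d (n+1) (n+1+1)).hom x.1,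
      f • x.1 + (K.d n (n+1)).hom x.2) := by
  rw [Cn_d_apply, smulId_f_apply]

/-- resolution-like properties of a complex in degrees `≤ 0` with `H^0 = B/𝔞` -/
structure IsRes (K : CochainComplex (ModuleCat.{u} B) ℤ) (𝔞 : Ideal B) : Prop where
  pos : ∀ j : ℤ, 0 < j → Subsingleton (K.X j)
  ex : ∀ j : ℤ, j + 1 < 0 → ∀ x : K.X (j+1), (K.d (j+1) (j+1+1)).hom x = 0 →
    ∃ y : K.X j, (K.d j (j+1)).hom y = x
  aug : ∀ j : ℤ, j + 1 = 0 → ∃ ε : K.X (j+1) →ₗ[B] (B ⧸ 𝔞), Function.Surjective ε ∧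
    ∀ x, ε x = 0 ↔ ∃ y : K.X j, (K.d j (j+1)).hom y = x

theorem IsRes.cone {K : CochainComplex (ModuleCat.{u} B) ℤ} {𝔞 : Ideal B} (h : IsRes K 𝔞) (f : B)
    (hf : ∀ b : B, f * b ∈ 𝔞 → b ∈ 𝔞) : IsRes (Cn (f • 𝟙 K)) (𝔞 ⊔ Ideal.span {f}) where
  pos j hj := by
    haveI := h.pos (j+1) (by omega)
    haveI := h.pos j hj
    show Subsingleton (K.X (j+1) × K.X j)
    infer_instance
  ex j hj x hx := by
    obtain ⟨m', n⟩ : K.X (j+1+1) × K.X (j+1) := x
    rw [CnSmul_d_apply] at hx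
    have hx1 : (K.d (j+1+1) (j+1+1+1)).hom m' = 0 := by
      have : -(K.d (j+1+1) (j+1+1+1)).hom m' = 0 := congr_arg Prod.fst hx
      exact neg_eq_zero.1 this
    have hx2 : f • m' + (K.d (j+1) (j+1+1)).hom n = 0 := congr_arg Prod.snd hx
    -- step 1
    have h1 : ∃ m'' : K.X (j+1), (K.d (j+1) (j+1+1)).hom m'' = m' := by
      rcases lt_or_eq_of_le (show j + 1 + 1 ≤ 0 by omega) with hlt | heq
      · exact h.ex (j+1) hlt m' hx1
      · obtain ⟨ε, hε, hker⟩ := h.aug (j+1) heq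
        rw [← hker]
        have h2 : ε (f • m') = 0 := by
          have : f • m' = (K.d (j+1) (j+1+1)).hom (-n) := by
            rw [map_neg]
            exact eq_neg_of_add_eq_zero_left hx2
          rw [this, hker]
          exact ⟨_, rfl⟩
        rw [map_smul] at h2
        obtain ⟨b, hb⟩ := Ideal.Quotient.mk_surjective (ε m')
        rw [← hb] at h2 ⊢
        have h3 : Ideal.Quotient.mk 𝔞 (f * b) = 0 := by
          rw [map_mul, ← h2]
          rfl
        rw [Ideal.Quotient.eq_zero_iff_mem] at h3 ⊢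
        exact hf b h3
    obtain ⟨m'', hm''⟩ := h1
    -- step 2
    have h2 : (K.d (j+1) (j+1+1)).hom (n + f • m'') = 0 := by
      rw [map_add, map_smul, hm'']
      exact (add_comm _ _).trans hx2
    obtain ⟨n'', hn''⟩ := h.ex j hj _ h2
    refine ⟨((-m'', n'') : K.X (j+1) × K.X j), ?_⟩
    rw [CnSmul_d_apply]
    refine Prod.ext ?_ ?_
    · show -(K.d (j+1) (j+1+1)).hom (-m'') = m'
      rw [map_neg, neg_neg, hm'']
    · show f • (-m'') + (K.d j (j+1)).hom n'' = n
      rw [hn'', smul_neg]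
      abel
  aug j hj := by
    obtain ⟨ε, hε, hker⟩ := h.aug j hj
    haveI : Subsingleton (K.X (j+1+1)) := h.pos _ (by omega)
    let q : (B ⧸ 𝔞) →ₗ[B] (B ⧸ (𝔞 ⊔ Ideal.span {f})) :=
      Submodule.mapQ 𝔞 (𝔞 ⊔ Ideal.span {f}) LinearMap.id le_sup_left
    have hq : Function.Surjective q := by
      intro z
      obtain ⟨b, rfl⟩ := Submodule.Quotient.mk_surjective _ z
      exact ⟨Submodule.Quotient.mk b, rfl⟩
    refine ⟨(q.comp ε).comp (LinearMap.snd B (K.X (j+1+1)) (K.X (j+1))),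
      (hq.comp hε).comp Prod.snd_surjective, ?_⟩
    rintro ⟨m', m⟩
    show q (ε m) = 0 ↔ _
    constructor
    · intro h0
      obtain ⟨b, hb⟩ := Submodule.Quotient.mk_surjective _ (ε m)
      rw [← hb] at h0
      have h1 : b ∈ 𝔞 ⊔ Ideal.span {f} := by
        have : q (Submodule.Quotient.mk b) = Submodule.Quotient.mk b := rfl
        rw [this, Submodule.Quotient.mk_eq_zero] at h0
        exact h0
      obtain ⟨a₀, ha₀, c', hc', rfl⟩ := Submodule.mem_sup.1 h1
      obtain ⟨c, rfl⟩ := Ideal.mem_span_singleton'.1 hc'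
      obtain ⟨m₀, hm₀⟩ := hε (Submodule.Quotient.mk c)
      have h2 : ε (m - f • m₀) = 0 := by
        rw [map_sub, map_smul, hm₀, ← hb, ← Submodule.Quotient.mk_smul, ← Submodule.Quotient.mk_sub,
          Submodule.Quotient.mk_eq_zero]
        have : a₀ + c * f - f • c = a₀ := by
          rw [smul_eq_mul]
          ring
        rw [this]
        exact ha₀
      obtain ⟨y, hy⟩ := (hker _).1 h2
      refine ⟨((m₀, y) : K.X (j+1) × K.X j), ?_⟩
      rw [CnSmul_d_apply]
      refine Prod.ext (Subsingleton.elim _ _) ?_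
      show f • m₀ + (K.d j (j+1)).hom y = m
      rw [hy]
      abel
    · rintro ⟨y, hy⟩
      obtain ⟨a, b⟩ : K.X (j+1) × K.X j := y
      rw [CnSmul_d_apply] at hy
      have h1 : f • a + (K.d j (j+1)).hom b = m := congr_arg Prod.snd hy
      rw [← h1, map_add, (hker _).2 ⟨b, rfl⟩, add_zero, map_smul]
      obtain ⟨c, hc⟩ := Submodule.Quotient.mk_surjective _ (ε a)
      rw [← hc, ← Submodule.Quotient.mk_smul]
      have : q (Submodule.Quotient.mk (f • c)) = Submodule.Quotient.mk (f • c) := rfl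
      rw [this, Submodule.Quotient.mk_eq_zero]
      exact Ideal.mem_sup_right (Ideal.mem_span_singleton'.2 ⟨c, by rw [smul_eq_mul, mul_comm]⟩)

/-- the Koszul complex as an iterated concrete cone -/
noncomputable def Kz : List B → CochainComplex (ModuleCat.{u} B) ℤ
  | [] => (HomologicalComplex.single (ModuleCat.{u} B) (ComplexShape.up ℤ) 0).obj (ModuleCat.of B B)
  | f :: l => Cn (f • 𝟙 (Kz l))

/-- each element is regular modulo the later ones -/
def RegOn : List B → Prop
  | [] => True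
  | f :: l => RegOn l ∧ ∀ b : B, f * b ∈ Ideal.span {x | x ∈ l} → b ∈ Ideal.span {x | x ∈ l}

lemma span_cons (f : B) (l : List B) :
    Ideal.span {x | x ∈ f :: l} = Ideal.span {x | x ∈ l} ⊔ Ideal.span {f} := by
  rw [← Ideal.span_union]
  congr 1
  ext x
  simp only [List.mem_cons, Set.union_singleton, Set.mem_insert_iff]
  exact Iff.rfl

lemma subsingleton_single_X (j : ℤ) (hj : j ≠ 0) :
    Subsingleton (((HomologicalComplex.single (ModuleCat.{u} B) (ComplexShape.up ℤ) 0).obj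
      (ModuleCat.of B B)).X j) :=
  ModuleCat.subsingleton_of_isZero (HomologicalComplex.isZero_single_obj_X _ _ _ _ hj)

theorem isRes_nil : IsRes (Kz ([] : List B)) (Ideal.span {x | x ∈ ([] : List B)}) where
  pos j hj := subsingleton_single_X j (by omega)
  ex j hj x hx := by
    haveI : Subsingleton ((Kz ([] : List B)).X (j+1)) :=
      subsingleton_single_X (B := B) (j+1) (by omega)
    exact ⟨0, Subsingleton.elim _ _⟩
  aug j hj := by
    haveI : Subsingleton ((Kz ([] : List B)).X j) := subsingleton_single_X (B := B) j (by omega)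
    let e : (Kz ([] : List B)).X (j+1) ≃ₗ[B] B :=
      (HomologicalComplex.singleObjXIsoOfEq (ComplexShape.up ℤ) 0 (ModuleCat.of B B) (j+1)
        hj).toLinearEquiv
    refine ⟨(Submodule.mkQ _).comp e.toLinearMap,
      (Submodule.mkQ_surjective _).comp e.surjective, fun x => ?_⟩
    have h0 : Ideal.span {x | x ∈ ([] : List B)} = ⊥ := by simp
    constructor
    · intro hx
      have h1 : e x ∈ Ideal.span {x | x ∈ ([] : List B)} := by
        have : Submodule.Quotient.mk (e x) = (0 : B ⧸ Ideal.span {x | x ∈ ([] : List B)}) := hx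
        exact (Submodule.Quotient.mk_eq_zero _).1 this
      rw [h0, Ideal.mem_bot] at h1
      refine ⟨0, ?_⟩
      rw [map_zero]
      exact (e.map_eq_zero_iff.1 h1).symm
    · rintro ⟨y, rfl⟩
      rw [Subsingleton.elim y 0, map_zero, map_zero]

theorem isRes_Kz : ∀ l : List B, RegOn l → IsRes (Kz l) (Ideal.span {x | x ∈ l})
  | [], _ => isRes_nil
  | f :: l, h => by
    rw [span_cons]
    exact (isRes_Kz l h.1).cone f h.2

theorem Kz_ff : ∀ (l : List B) (i : ℤ), Module.Finite B ((Kz l).X i) ∧ Module.Free B ((Kz l).X i)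
  | [], i => by
    by_cases hi : i = 0
    · let e : (Kz ([] : List B)).X i ≃ₗ[B] B :=
        (HomologicalComplex.singleObjXIsoOfEq (ComplexShape.up ℤ) 0 (ModuleCat.of B B) i
          hi).toLinearEquiv
      exact ⟨Module.Finite.equiv e.symm, Module.Free.of_equiv e.symm⟩
    · haveI : Subsingleton ((Kz ([] : List B)).X i) := subsingleton_single_X (B := B) i hi
      exact ⟨Module.Finite.of_surjective (0 : B →ₗ[B] (Kz ([] : List B)).X i)
        (fun x => ⟨0, Subsingleton.elim _ _⟩), Module.Free.of_subsingleton _ _⟩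
  | f :: l, i => by
    haveI := (Kz_ff l (i+1)).1
    haveI := (Kz_ff l (i+1)).2
    haveI := (Kz_ff l i).1
    haveI := (Kz_ff l i).2
    exact ⟨inferInstanceAs (Module.Finite B ((Kz l).X (i+1) × (Kz l).X i)),
      inferInstanceAs (Module.Free B ((Kz l).X (i+1) × (Kz l).X i))⟩

theorem Kz_bdd : ∀ (l : List B) (i : ℤ), i < -(l.length : ℤ) → Subsingleton ((Kz l).X i)
  | [], i, hi => subsingleton_single_X i (by simp at hi; omega)
  | f :: l, i, hi => by
    haveI := Kz_bdd l (i+1) (by simp at hi; omega)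
    haveI := Kz_bdd l i (by simp at hi; omega)
    show Subsingleton ((Kz l).X (i+1) × (Kz l).X i)
    infer_instance

section Homotopies

variable (K : CochainComplex (ModuleCat.{u} B) ℤ) (f : B)

/-- multiplication by `f` is null-homotopic on the cone of multiplication by `f` -/
noncomputable def cnSelfHomotopy : Homotopy (f • 𝟙 (Cn (f • 𝟙 K))) 0 where
  hom i j := if h : j + 1 = i then eqToHom (by subst h; rfl) ≫ ModuleCat.ofHom (sId K j) else 0
  zero i j h := dif_neg h
  comm i := by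
    obtain ⟨m, rfl⟩ : ∃ m, i = m + 1 := ⟨i - 1, by ring⟩
    rw [dNext_eq _ (show (ComplexShape.up ℤ).Rel (m+1) (m+1+1) from rfl),
      prevD_eq _ (show (ComplexShape.up ℤ).Rel m (m+1) from rfl)]
    simp only [dif_pos, HomologicalComplex.zero_f, add_zero]
    apply ModuleCat.hom_ext
    apply LinearMap.ext
    intro p
    rw [Cn_d, Cn_d]
    show ((f • 𝟙 (Cn (f • 𝟙 K)) : Cn (f • 𝟙 K) ⟶ Cn (f • 𝟙 K)).f (m+1)).hom p =
      sId K (m+1) (cnD (f • 𝟙 K) (m+1) p) + cnD (f • 𝟙 K) m (sId K m p)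
    obtain ⟨a, b⟩ : K.X (m+1+1) × K.X (m+1) := p
    rw [smulId_f_apply, cnD_apply, cnD_apply, smulId_f_apply, smulId_f_apply]
    simp only [sId_apply, map_zero, add_zero]
    refine Prod.ext ?_ ?_
    · show f • a = f • a + (K.d (m+1) (m+1+1)).hom b + -(K.d (m+1) (m+1+1)).hom b
      abel
    · show f • b = 0 + f • b
      rw [zero_add]

variable {K} {f} in
lemma htpy_rel {g : B} (s : Homotopy (g • 𝟙 K) 0) (k : ℤ) (y : K.X (k+1)) :
    g • y = (s.hom (k+1+1) (k+1)).hom ((K.d (k+1) (k+1+1)).hom y) +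
      (K.d k (k+1)).hom ((s.hom (k+1) k).hom y) := by
  have h := s.comm (k+1)
  rw [dNext_eq _ (show (ComplexShape.up ℤ).Rel (k+1) (k+1+1) from rfl),
    prevD_eq _ (show (ComplexShape.up ℤ).Rel k (k+1) from rfl)] at h
  have h' := congr_arg (fun φ => φ.hom y) h
  simp only [HomologicalComplex.zero_f, add_zero] at h'
  rw [← smulId_f_apply g K (k+1) y]
  exact h'

/-- a null-homotopy of `g` on `K` induces one on the cone of multiplication by `f` -/
noncomputable def cnLiftHomotopy {g : B} (s : Homotopy (g • 𝟙 K) 0) :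
    Homotopy (g • 𝟙 (Cn (f • 𝟙 K))) 0 where
  hom i j := if h : j + 1 = i then eqToHom (by subst h; rfl) ≫
      ModuleCat.ofHom (LinearMap.prod
        (-((s.hom (j+1+1) (j+1)).hom ∘ₗ LinearMap.fst B (K.X (j+1+1)) (K.X (j+1))))
        ((s.hom (j+1) j).hom ∘ₗ LinearMap.snd B (K.X (j+1+1)) (K.X (j+1)))) else 0
  zero i j h := dif_neg h
  comm i := by
    obtain ⟨m, rfl⟩ : ∃ m, i = m + 1 := ⟨i - 1, by ring⟩
    rw [dNext_eq _ (show (ComplexShape.up ℤ).Rel (m+1) (m+1+1) from rfl),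
      prevD_eq _ (show (ComplexShape.up ℤ).Rel m (m+1) from rfl)]
    simp only [dif_pos, HomologicalComplex.zero_f, add_zero]
    apply ModuleCat.hom_ext
    apply LinearMap.ext
    intro p
    obtain ⟨a, b⟩ : K.X (m+1+1) × K.X (m+1) := p
    rw [Cn_d, Cn_d]
    show ((g • 𝟙 (Cn (f • 𝟙 K)) : Cn (f • 𝟙 K) ⟶ Cn (f • 𝟙 K)).f (m+1)).hom (a, b) =
      (LinearMap.prod
        (-((s.hom (m+1+1+1) (m+1+1)).hom ∘ₗ LinearMap.fst B (K.X (m+1+1+1)) (K.X (m+1+1))))
        ((s.hom (m+1+1) (m+1)).hom ∘ₗ LinearMap.snd B (K.X (m+1+1+1)) (K.X (m+1+1))))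
        (cnD (f • 𝟙 K) (m+1) (a, b)) +
        cnD (f • 𝟙 K) m ((LinearMap.prod
        (-((s.hom (m+1+1) (m+1)).hom ∘ₗ LinearMap.fst B (K.X (m+1+1)) (K.X (m+1))))
        ((s.hom (m+1) m).hom ∘ₗ LinearMap.snd B (K.X (m+1+1)) (K.X (m+1)))) (a, b))
    rw [smulId_f_apply, cnD_apply, cnD_apply, smulId_f_apply, smulId_f_apply]
    refine Prod.ext ?_ ?_
    · show g • a = -(s.hom (m+1+1+1) (m+1+1)).hom (-(K.d (m+1+1) (m+1+1+1)).hom a) +
        -(K.d (m+1) (m+1+1)).hom (-(s.hom (m+1+1) (m+1)).hom a)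
      rw [htpy_rel s (m+1) a, map_neg, map_neg, neg_neg, neg_neg]
    · show g • b = (s.hom (m+1+1) (m+1)).hom (f • a + (K.d (m+1) (m+1+1)).hom b) +
        (f • (-(s.hom (m+1+1) (m+1)).hom a) + (K.d m (m+1)).hom ((s.hom (m+1) m).hom b))
      rw [htpy_rel s m b, map_add, map_smul, smul_neg]
      abel

end Homotopies

theorem Kz_homotopy : ∀ (l : List B) (g : B), g ∈ l → Nonempty (Homotopy (g • 𝟙 (Kz l)) 0)
  | [], g, hg => by simp at hg
  | f :: l, g, hg => by
    rcases List.mem_cons.1 hg with rfl | hg'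
    · exact ⟨cnSelfHomotopy (Kz l) g⟩
    · obtain ⟨s⟩ := Kz_homotopy l g hg'
      exact ⟨cnLiftHomotopy (Kz l) f s⟩

end Groth.Agent.Lib.Helper32.KzCn
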