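import Mathlib

/-!
# Localization of an abelian category w.r.t. a class with left and right calculus of fractions

is abelian and the localization functor is exact (`main`). Reduction to Mathlib's Serre-class
localization: `P L` = kernel of `L` is a Serre class (`isSerreClass`), `W ≤ (P L).isoModSerre`
(`W_le`), `L` inverts `(P L).isoModSerre` (`inverts`).
-/

set_option autoImplicit false
universe v v' u u'
open CategoryTheory CategoryTheory.Limits ZeroObject
set_option linter.unusedSectionVars false
set_option linter.style.haveILetI false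

namespace Groth.Agent.Lib.Helper32.LocAbelian

variable {A : Type u} [Category.{v} A] [Abelian A]
    (W : MorphismProperty A) [W.HasLeftCalculusOfFractions] [W.HasRightCalculusOfFractions]
    {D : Type u'} [Category.{v'} D] (L : A ⥤ D) [L.IsLocalization W] [Preadditive D] [L.Additive]

omit [Abelian A] [L.Additive] in
lemma isZero_of_isIso_of_eq_zero {X Y : D} (f : X ⟶ Y) [IsIso f] (h : f = 0) :
    IsZero Y ∧ IsZero X := by
  subst h
  constructor
  · rw [IsZero.iff_id_eq_zero]
    exact (IsIso.inv_hom_id (0 : X ⟶ Y)).symm.trans comp_zero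
  · rw [IsZero.iff_id_eq_zero]
    exact (IsIso.hom_inv_id (0 : X ⟶ Y)).symm.trans zero_comp

include W in
lemma isZero_of_W_zero {Z X : A} (s : Z ⟶ X) (hs : W s) (h0 : s = 0) :
    IsZero (L.obj X) ∧ IsZero (L.obj Z) := by
  have hi : IsIso (L.map s) := Localization.inverts L W s hs
  have hz : L.map s = 0 := by rw [h0, L.map_zero]
  exact isZero_of_isIso_of_eq_zero (L.map s) hz

include W in
lemma map_eq_zero_iff_pre {X Y : A} (f : X ⟶ Y) :
    L.map f = 0 ↔ ∃ (Z : A) (s : Z ⟶ X), W s ∧ s ≫ f = 0 := by
  rw [← L.map_zero, MorphismProperty.map_eq_iff_precomp L W]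
  constructor
  · rintro ⟨Z, s, hs, h⟩; exact ⟨Z, s, hs, by rw [h, comp_zero]⟩
  · rintro ⟨Z, s, hs, h⟩; exact ⟨Z, s, hs, by rw [h, comp_zero]⟩

include W in
lemma map_eq_zero_iff_post {X Y : A} (f : X ⟶ Y) :
    L.map f = 0 ↔ ∃ (Z : A) (s : Y ⟶ Z), W s ∧ f ≫ s = 0 := by
  rw [← L.map_zero, MorphismProperty.map_eq_iff_postcomp L W]
  constructor
  · rintro ⟨Z, s, hs, h⟩; exact ⟨Z, s, hs, by rw [h, zero_comp]⟩
  · rintro ⟨Z, s, hs, h⟩; exact ⟨Z, s, hs, by rw [h, zero_comp]⟩

/-- the kernel of `L` -/
def P : ObjectProperty A := fun X => IsZero (L.obj X)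

include W in
lemma isSerreClass : (P L).IsSerreClass where
  exists_zero := ⟨0, isZero_zero A, L.map_isZero (isZero_zero A)⟩
  prop_of_mono {X Y} i _ hY := by
    have h : L.map i = 0 := hY.eq_of_tgt _ _
    obtain ⟨Z, s, hs, h0⟩ := (map_eq_zero_iff_pre W L i).1 h
    have hs0 : s = 0 := by rw [← cancel_mono i, h0, zero_comp]
    exact (isZero_of_W_zero W L s hs hs0).1
  prop_of_epi {X Y} p _ hX := by
    have h : L.map p = 0 := hX.eq_of_src _ _
    obtain ⟨Z, s, hs, h0⟩ := (map_eq_zero_iff_post W L p).1 h
    have hs0 : s = 0 := by rw [← cancel_epi p, h0, comp_zero]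
    exact (isZero_of_W_zero W L s hs hs0).2
  prop_X₂_of_shortExact {S} hS h₁ h₃ := by
    have h : L.map S.g = 0 := IsZero.eq_of_tgt h₃ _ _
    obtain ⟨Z, s, hs, h0⟩ := (map_eq_zero_iff_pre W L S.g).1 h
    have := hS.mono_f
    let k : Z ⟶ S.X₁ := hS.exact.lift s h0
    have hk : k ≫ S.f = s := hS.exact.lift_f s h0
    have hi : IsIso (L.map s) := Localization.inverts L W s hs
    have hz : L.map s = 0 := by
      rw [← hk, L.map_comp, IsZero.eq_of_tgt h₁ (L.map k) 0, zero_comp]
    exact (isZero_of_isIso_of_eq_zero (L.map s) hz).1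


include W in
lemma W_le : letI := isSerreClass W L; W ≤ (P L).isoModSerre := by
  let := isSerreClass W L
  intro X Y f hf
  have hi : IsIso (L.map f) := Localization.inverts L W f hf
  constructor
  · show IsZero (L.obj (kernel f))
    have h : L.map (kernel.ι f) = 0 := by
      rw [← cancel_mono (L.map f), ← L.map_comp, kernel.condition, L.map_zero, zero_comp]
    obtain ⟨Z, s, hs, h0⟩ := (map_eq_zero_iff_pre W L _).1 h
    have hs0 : s = 0 := by rw [← cancel_mono (kernel.ι f), h0, zero_comp]
    exact (isZero_of_W_zero W L s hs hs0).1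
  · show IsZero (L.obj (cokernel f))
    have h : L.map (cokernel.π f) = 0 := by
      rw [← cancel_epi (L.map f), ← L.map_comp, cokernel.condition, L.map_zero, comp_zero]
    obtain ⟨Z, s, hs, h0⟩ := (map_eq_zero_iff_post W L _).1 h
    have hs0 : s = 0 := by rw [← cancel_epi (cokernel.π f), h0, comp_zero]
    exact (isZero_of_W_zero W L s hs hs0).2

include W in
/-- `L` of an epi is "epi against objects in the image" -/
lemma eq_zero_of_epi_comp {X I T : A} (p : X ⟶ I) [Epi p] (g : L.obj I ⟶ L.obj T)
    (h : L.map p ≫ g = 0) : g = 0 := by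
  obtain ⟨φ, hφ⟩ := Localization.exists_leftFraction L W g
  have hi : IsIso (L.map φ.s) := Localization.inverts L W _ φ.hs
  have h1 : L.map (p ≫ φ.f) = 0 := by
    rw [L.map_comp, ← MorphismProperty.LeftFraction.map_comp_map_s φ L (Localization.inverts L W),
      ← hφ, reassoc_of% h, zero_comp]
  obtain ⟨Z, t, ht, h0⟩ := (map_eq_zero_iff_post W L _).1 h1
  have h2 : φ.f ≫ t = 0 := by rw [← cancel_epi p, ← Category.assoc, h0, comp_zero]
  have h3 : L.map φ.f = 0 := (map_eq_zero_iff_post W L _).2 ⟨Z, t, ht, h2⟩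
  have h4 := MorphismProperty.LeftFraction.map_comp_map_s φ L (Localization.inverts L W)
  rw [← hφ, h3] at h4
  rw [← cancel_mono (L.map φ.s), h4, zero_comp]

include W in
lemma eq_zero_of_comp_mono {T I Y : A} (j : I ⟶ Y) [Mono j] (g : L.obj T ⟶ L.obj I)
    (h : g ≫ L.map j = 0) : g = 0 := by
  obtain ⟨φ, hφ⟩ := Localization.exists_rightFraction L W g
  have hi : IsIso (L.map φ.s) := Localization.inverts L W _ φ.hs
  have h1 : L.map (φ.f ≫ j) = 0 := by
    rw [L.map_comp, ← MorphismProperty.RightFraction.map_s_comp_map φ L (Localization.inverts L W),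
      ← hφ, Category.assoc, h, comp_zero]
  obtain ⟨Z, t, ht, h0⟩ := (map_eq_zero_iff_pre W L _).1 h1
  have h2 : t ≫ φ.f = 0 := by rw [← cancel_mono j, Category.assoc, h0, zero_comp]
  have h3 : L.map φ.f = 0 := (map_eq_zero_iff_pre W L _).2 ⟨Z, t, ht, h2⟩
  have h4 := MorphismProperty.RightFraction.map_s_comp_map φ L (Localization.inverts L W)
  rw [← hφ, h3] at h4
  rw [← cancel_epi (L.map φ.s), h4, comp_zero]

include W in
lemma isIso_map_epi {X I : A} (p : X ⟶ I) [Epi p] (hK : IsZero (L.obj (kernel p))) :
    IsIso (L.map p) := by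
  have h : L.map (kernel.ι p) = 0 := hK.eq_of_src _ _
  obtain ⟨T, t, ht, h0⟩ := (map_eq_zero_iff_post W L _).1 h
  -- `t` factors through `p`
  let b : I ⟶ T := (Abelian.epiIsCokernelOfKernel _ (kernelIsKernel p)).desc (CokernelCofork.ofπ t h0)
  have hb : p ≫ b = t :=
    (Abelian.epiIsCokernelOfKernel _ (kernelIsKernel p)).fac (CokernelCofork.ofπ t h0)
      WalkingParallelPair.one
  have hi : IsIso (L.map t) := Localization.inverts L W _ ht
  let r : L.obj I ⟶ L.obj X := L.map b ≫ inv (L.map t)
  have h1 : L.map p ≫ r = 𝟙 _ := by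
    dsimp [r]
    rw [← Category.assoc, ← L.map_comp, hb, IsIso.hom_inv_id]
  have h2 : r ≫ L.map p = 𝟙 _ := by
    have : r ≫ L.map p - 𝟙 _ = 0 := by
      apply eq_zero_of_epi_comp W L p
      rw [Preadditive.comp_sub, reassoc_of% h1, Category.comp_id, sub_self]
    exact sub_eq_zero.1 this
  exact ⟨r, h1, h2⟩

include W in
lemma isIso_map_mono {I Y : A} (j : I ⟶ Y) [Mono j] (hQ : IsZero (L.obj (cokernel j))) :
    IsIso (L.map j) := by
  have h : L.map (cokernel.π j) = 0 := hQ.eq_of_tgt _ _
  obtain ⟨T, t, ht, h0⟩ := (map_eq_zero_iff_pre W L _).1 h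
  let b : T ⟶ I := (Abelian.monoIsKernelOfCokernel _ (cokernelIsCokernel j)).lift (KernelFork.ofι t h0)
  have hb : b ≫ j = t :=
    (Abelian.monoIsKernelOfCokernel _ (cokernelIsCokernel j)).fac (KernelFork.ofι t h0)
      WalkingParallelPair.zero
  have hi : IsIso (L.map t) := Localization.inverts L W _ ht
  let r : L.obj Y ⟶ L.obj I := inv (L.map t) ≫ L.map b
  have h1 : r ≫ L.map j = 𝟙 _ := by
    dsimp [r]
    rw [Category.assoc, ← L.map_comp, hb, IsIso.inv_hom_id]
  have h2 : L.map j ≫ r = 𝟙 _ := by
    have : L.map j ≫ r - 𝟙 _ = 0 := by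
      apply eq_zero_of_comp_mono W L j
      rw [Preadditive.sub_comp, Category.assoc, h1, Category.comp_id, Category.id_comp, sub_self]
    exact sub_eq_zero.1 this
  exact ⟨r, h2, h1⟩


include W in
lemma inverts : letI := isSerreClass W L; (P L).isoModSerre.IsInvertedBy L := by
  let := isSerreClass W L
  intro X Y f hf
  obtain ⟨hk, hc⟩ : (P L) (kernel f) ∧ (P L) (cokernel f) := hf
  have h1 : IsIso (L.map (Abelian.factorThruImage f)) := by
    apply isIso_map_epi W L
    let m : kernel (Abelian.factorThruImage f) ⟶ kernel f :=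
      kernel.lift f (kernel.ι (Abelian.factorThruImage f)) (by
        have h := kernel.condition (Abelian.factorThruImage f)
        calc kernel.ι (Abelian.factorThruImage f) ≫ f
            = kernel.ι (Abelian.factorThruImage f) ≫ Abelian.factorThruImage f ≫
                Abelian.image.ι f := by rw [Abelian.image.fac]
          _ = 0 := by rw [reassoc_of% h, zero_comp])
    have hm : m ≫ kernel.ι f = kernel.ι (Abelian.factorThruImage f) := kernel.lift_ι _ _ _
    have : Mono m := mono_of_mono_fac hm
    exact (P L).prop_of_mono m hk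
  have h2 : IsIso (L.map (Abelian.image.ι f)) := by
    apply isIso_map_mono W L
    let m : cokernel f ⟶ cokernel (Abelian.image.ι f) :=
      cokernel.desc f (cokernel.π (Abelian.image.ι f)) (by
        have h := cokernel.condition (Abelian.image.ι f)
        calc f ≫ cokernel.π (Abelian.image.ι f)
            = Abelian.factorThruImage f ≫ Abelian.image.ι f ≫
                cokernel.π (Abelian.image.ι f) := by
                  rw [← Category.assoc, Abelian.image.fac]
          _ = 0 := by rw [h, comp_zero])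
    have hm : cokernel.π f ≫ m = cokernel.π (Abelian.image.ι f) := cokernel.π_desc _ _ _
    have : Epi m := epi_of_epi_fac hm
    exact (P L).prop_of_epi m hc
  have : L.map f = L.map (Abelian.factorThruImage f) ≫ L.map (Abelian.image.ι f) := by
    rw [← L.map_comp, Abelian.image.fac]
  rw [this]
  infer_instance

end Groth.Agent.Lib.Helper32.LocAbelian

namespace Groth.Agent.Lib.Helper32.LocAbelian

theorem main {A : Type u} [Category.{v} A] [Abelian A]
    (W : MorphismProperty A) [W.HasLeftCalculusOfFractions] [W.HasRightCalculusOfFractions]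
    {D : Type u'} [Category.{v'} D] (L : A ⥤ D) [L.IsLocalization W] :
    Nonempty (Abelian D) ∧ PreservesFiniteLimits L ∧ PreservesFiniteColimits L := by
  letI : Preadditive D := Localization.preadditive L W
  haveI : L.Additive := Localization.functor_additive L W
  let := isSerreClass W L
  haveI : L.IsLocalization (P L).isoModSerre :=
    Functor.IsLocalization.of_equivalence_source L W L (P L).isoModSerre CategoryTheory.Equivalence.refl
      (fun X Y f hf => MorphismProperty.le_isoClosure _ _ (W_le W L f hf)) (inverts W L)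
      (Functor.leftUnitor L)
  exact ⟨⟨ObjectProperty.SerreClassLocalization.abelian L (P L)⟩,
    ObjectProperty.SerreClassLocalization.preservesFiniteLimits L (P L),
    ObjectProperty.SerreClassLocalization.preservesFiniteColimits L (P L)⟩

end Groth.Agent.Lib.Helper32.LocAbelian

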