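import Mathlib

/-!
# Localization of a full subcategory (Kashiwara–Schapira 7.2.1)

If `W` has a right calculus of fractions in `C`, `L : C ⥤ E` is a localization functor for `W`, and
`P` is a class of objects such that every `X : C` receives a `W`-morphism from an object of `P`, then
`W.inverseImage P.ι` has a right calculus of fractions (`hasRightCalculusOfFractions`) and
`P.ι ⋙ L` is a localization functor for it (`isLocalization`).
-/

set_option autoImplicit false
set_option linter.unusedSectionVars false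
universe v u v' u'
open CategoryTheory CategoryTheory.Limits

namespace Groth.Agent.Lib.Helper32.LocSub

variable {C : Type u} [Category.{v} C] (W : MorphismProperty C) [W.HasRightCalculusOfFractions]
  (P : ObjectProperty C) (hP : ∀ X : C, ∃ (X' : C) (s : X' ⟶ X), P X' ∧ W s)

include hP in
lemma hasRightCalculusOfFractions : (W.inverseImage P.ι).HasRightCalculusOfFractions where
  exists_rightFraction X Y φ := by
    obtain ⟨ψ, hψ⟩ := (MorphismProperty.LeftFraction.mk (W := W) φ.f.hom φ.s.hom φ.hs).exists_rightFraction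
    obtain ⟨Z', t, hZ', ht⟩ := hP ψ.X'
    refine ⟨⟨P.homMk (X := ⟨Z', hZ'⟩) (t ≫ ψ.s), ?_, P.homMk (t ≫ ψ.f)⟩, ?_⟩
    · exact W.comp_mem _ _ ht ψ.hs
    · ext
      dsimp at hψ ⊢
      simp only [Category.assoc, hψ]
  ext X Y Y' f₁ f₂ s hs eq := by
    obtain ⟨Z, t, ht, fac⟩ := MorphismProperty.HasRightCalculusOfFractions.ext f₁.hom f₂.hom s.hom hs
      (by rw [← ObjectProperty.FullSubcategory.comp_hom, eq, ObjectProperty.FullSubcategory.comp_hom])
    obtain ⟨Z', u, hZ', hu⟩ := hP Z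
    refine ⟨⟨Z', hZ'⟩, P.homMk (u ≫ t), W.comp_mem _ _ hu ht, ?_⟩
    ext
    dsimp
    simp only [Category.assoc, fac]


variable {E : Type u'} [Category.{v'} E] (L : C ⥤ E) [L.IsLocalization W]

lemma inverts : (W.inverseImage P.ι).IsInvertedBy (P.ι ⋙ L) := fun _ _ f hf =>
  Localization.inverts L W _ hf

include hP in
theorem isLocalization : (P.ι ⋙ L).IsLocalization (W.inverseImage P.ι) := by
  have hcalc := hasRightCalculusOfFractions W P hP
  let W' := W.inverseImage P.ι
  have hinv : W'.IsInvertedBy (P.ι ⋙ L) := inverts W P L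
  let G := Localization.Construction.lift (P.ι ⋙ L) hinv
  let e : W'.Q ⋙ G ≅ P.ι ⋙ L := eqToIso (Localization.Construction.fac _ _)
  have hG : ∀ {X Y : P.FullSubcategory} (h : X ⟶ Y),
      G.map (W'.Q.map h) = e.hom.app X ≫ L.map h.hom ≫ e.inv.app Y := by
    intro X Y h
    have h1 : G.map (W'.Q.map h) ≫ e.hom.app Y = e.hom.app X ≫ L.map h.hom := e.hom.naturality h
    have h2 : e.inv.app Y ≫ e.hom.app Y = 𝟙 (L.obj Y.obj) := e.inv_hom_id_app Y
    rw [← cancel_mono (e.hom.app Y), h1, Category.assoc, Category.assoc, h2, Category.comp_id]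
  have : W'.Q.EssSurj := Localization.essSurj W'.Q W'
  have hfull : G.Full := by
    refine G.full_of_comp_essSurj W'.Q (fun X₁ X₂ φ => ?_)
    obtain ⟨φ', hφ'⟩ : ∃ φ' : L.obj X₁.obj ⟶ L.obj X₂.obj,
        φ = e.hom.app X₁ ≫ φ' ≫ e.inv.app X₂ :=
      ⟨e.inv.app X₁ ≫ φ ≫ e.hom.app X₂, by simp⟩
    obtain ⟨ψ, hψ⟩ := Localization.exists_rightFraction L W φ'
    obtain ⟨Z', t, hZ', ht⟩ := hP ψ.X'
    let s' : (⟨Z', hZ'⟩ : P.FullSubcategory) ⟶ X₁ := P.homMk (t ≫ ψ.s)
    let f' : (⟨Z', hZ'⟩ : P.FullSubcategory) ⟶ X₂ := P.homMk (t ≫ ψ.f)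
    have hs' : W' s' := W.comp_mem _ _ ht ψ.hs
    have i1 : IsIso (W'.Q.map s') := Localization.inverts W'.Q W' _ hs'
    have i2 : IsIso (L.map ψ.s) := Localization.inverts L W _ ψ.hs
    have i3 : IsIso (L.map t) := Localization.inverts L W _ ht
    refine ⟨inv (W'.Q.map s') ≫ W'.Q.map f', ?_⟩
    rw [G.map_comp, G.map_inv, IsIso.inv_comp_eq, hG, hG, hφ', hψ]
    dsimp [MorphismProperty.RightFraction.map, s', f']
    simp only [Category.assoc, Iso.inv_hom_id_app_assoc, Functor.map_comp, IsIso.hom_inv_id_assoc]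
  have hfaith : G.Faithful := by
    refine G.faithful_of_comp_essSurj W'.Q (fun X₁ X₂ f g hfg => ?_)
    obtain ⟨φ, rfl⟩ := Localization.exists_rightFraction W'.Q W' f
    obtain ⟨ψ, rfl⟩ := Localization.exists_rightFraction W'.Q W' g
    rw [MorphismProperty.RightFraction.map_eq_iff]
    have hGfrac : ∀ (φ : W'.RightFraction X₁ X₂),
        G.map (φ.map W'.Q (Localization.inverts _ _)) = e.hom.app X₁ ≫
          (MorphismProperty.RightFraction.mk (W := W) φ.s.hom φ.hs φ.f.hom).map L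
            (Localization.inverts _ _) ≫ e.inv.app X₂ := by
      intro φ
      have i1 : IsIso (W'.Q.map φ.s) := Localization.inverts W'.Q W' _ φ.hs
      have i2 : IsIso (L.map φ.s.hom) := Localization.inverts L W _ φ.hs
      dsimp [MorphismProperty.RightFraction.map]
      rw [G.map_comp, G.map_inv, IsIso.inv_comp_eq, hG, hG]
      simp only [Category.assoc, Iso.inv_hom_id_app_assoc, IsIso.hom_inv_id_assoc]
    rw [hGfrac, hGfrac] at hfg
    have hfg' := (cancel_epi (e.hom.app X₁)).1 hfg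
    have hfg'' := (cancel_mono (e.inv.app X₂)).1 hfg'
    rw [MorphismProperty.RightFraction.map_eq_iff] at hfg''
    obtain ⟨Z, t₁, t₂, hst, hft, ht⟩ := hfg''
    obtain ⟨Z', u, hZ', hu⟩ := hP Z
    dsimp at t₁ t₂ hst hft ht
    refine ⟨⟨Z', hZ'⟩, P.homMk (u ≫ t₁), P.homMk (u ≫ t₂), ?_, ?_, ?_⟩
    · ext
      dsimp
      simp only [Category.assoc, hst]
    · ext
      dsimp
      simp only [Category.assoc, hft]
    · show W ((u ≫ t₁) ≫ φ.s.hom)
      rw [Category.assoc]
      exact W.comp_mem _ _ hu ht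
  have hess : G.EssSurj := by
    refine ⟨fun Y => ?_⟩
    have : L.EssSurj := Localization.essSurj L W
    obtain ⟨Z', u, hZ', hu⟩ := hP (L.objPreimage Y)
    have i3 : IsIso (L.map u) := Localization.inverts L W _ hu
    exact ⟨W'.Q.obj ⟨Z', hZ'⟩, ⟨e.app ⟨Z', hZ'⟩ ≪≫ asIso (L.map u) ≪≫ L.objObjPreimageIso Y⟩⟩
  exact ⟨hinv, { faithful := hfaith, full := hfull, essSurj := hess }⟩

end Groth.Agent.Lib.Helper32.LocSub
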