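import Mathlib
import Groth.Statements.S6787
import Groth.Agent.S3532

set_option autoImplicit false
universe u
open CategoryTheory CategoryTheory.Limits Opposite

namespace Groth.Agent.Lib.Helper32.MLEss

open Groth.Agent.S3532

lemma nat_tr {F G : ℕᵒᵖ ⥤ AddCommGrpCat.{u}} (φ : F ⟶ G) {k q : ℕ} (h : q ≤ k) (x : F.obj (op k)) :
    (φ.app (op q)).hom (tr F h x) = tr G h ((φ.app (op k)).hom x) := by
  have := ConcreteCategory.congr_hom (φ.naturality (homOfLE h).op) x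
  exact this

lemma tr_tr' (F : ℕᵒᵖ ⥤ AddCommGrpCat.{u}) {k l q : ℕ} (h1 : q ≤ l) (h2 : l ≤ k) (h3 : q ≤ k)
    (x : F.obj (op k)) : tr F h1 (tr F h2 x) = tr F h3 x := tr_tr F h1 h2 x

variable {A B C : ℕᵒᵖ ⥤ AddCommGrpCat.{u}} (a : A ⟶ B) (b : B ⟶ C)

/-- essentially constant systems are ML -/
theorem cml_of_essConstant (hC : ∃ (C₀ : AddCommGrpCat.{u}) (c : (Functor.const ℕᵒᵖ).obj C₀ ⟶ C),
    DerCA.IsEssConstant C C₀ c) : CML C := by
  obtain ⟨C₀, c, i₀, s, hs, hfac⟩ := hC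
  intro q
  obtain ⟨k, hi, hq, hk⟩ := hfac q
  refine ⟨k, hq, fun m hm => le_antisymm (R_anti C hq hm) ?_⟩
  rintro _ ⟨x, rfl⟩
  have h1 : tr C hq x = (c.app (op q)).hom (s.hom (tr C hi x)) := by
    have := ConcreteCategory.congr_hom hk x
    exact this
  rw [h1]
  refine ⟨(c.app (op m)).hom (s.hom (tr C hi x)), ?_⟩
  have := ConcreteCategory.congr_hom (c.naturality (homOfLE (hq.trans hm)).op) (s.hom (tr C hi x))
  exact this.symm

theorem cml_ext (hb : ∀ i, Function.Surjective (b.app i).hom)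
    (hex : ∀ i, (b.app i).hom.ker = (a.app i).hom.range) (hA : CML A) (hC : CML C) : CML B := by
  intro j
  obtain ⟨k₁, hj1, hk₁⟩ := hA j
  obtain ⟨k₂, h12, hk₂⟩ := hC k₁
  refine ⟨k₂, hj1.trans h12, fun k hk => le_antisymm (R_anti B _ hk) ?_⟩
  rintro _ ⟨x, rfl⟩
  have hx : tr C h12 ((b.app (op k₂)).hom x) ∈ (tr C (h12.trans hk)).range := by
    rw [hk₂ k hk]; exact ⟨_, rfl⟩
  obtain ⟨w, hw⟩ := hx
  obtain ⟨y, rfl⟩ := hb (op k) w
  have hd : tr B (h12.trans hk) y - tr B h12 x ∈ (b.app (op k₁)).hom.ker := by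
    rw [AddMonoidHom.mem_ker, map_sub, nat_tr b, nat_tr b, hw, sub_self]
  rw [hex] at hd
  obtain ⟨α, hα⟩ := hd
  have hα' : tr A hj1 α ∈ (tr A (hj1.trans (h12.trans hk))).range := by
    rw [hk₁ k (h12.trans hk)]; exact ⟨_, rfl⟩
  obtain ⟨α', hα''⟩ := hα'
  refine ⟨y - (a.app (op k)).hom α', ?_⟩
  rw [map_sub, ← nat_tr a, hα'', nat_tr a, hα, map_sub, tr_tr' B hj1 (h12.trans hk) (hj1.trans (h12.trans hk)) y,
    tr_tr' B hj1 h12 (hj1.trans h12) x]
  abel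

theorem cml_ker (ha : ∀ i, Function.Injective (a.app i).hom)
    (hex : ∀ i, (b.app i).hom.ker = (a.app i).hom.range)
    (hC : ∃ (C₀ : AddCommGrpCat.{u}) (c : (Functor.const ℕᵒᵖ).obj C₀ ⟶ C),
      DerCA.IsEssConstant C C₀ c) (hB : CML B) : CML A := by
  obtain ⟨C₀, c, i₀, s, hs, hfac⟩ := hC
  have hba : ∀ i (x : A.obj i), (b.app i).hom ((a.app i).hom x) = 0 := by
    intro i x
    have : (a.app i).hom x ∈ (b.app i).hom.ker := by rw [hex]; exact ⟨x, rfl⟩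
    exact this
  intro q
  let k₀ := max i₀ q
  have hi0 : i₀ ≤ k₀ := le_max_left _ _
  have hq0 : q ≤ k₀ := le_max_right _ _
  obtain ⟨k₁, h01, hk₁⟩ := hB k₀
  refine ⟨k₁, hq0.trans h01, fun k hk => le_antisymm (R_anti A _ hk) ?_⟩
  rintro _ ⟨x, rfl⟩
  obtain ⟨k'', hi'', hk'', hfac''⟩ := hfac k
  have hmem : tr B h01 ((a.app (op k₁)).hom x) ∈ (tr B (h01.trans (hk.trans hk''))).range := by
    rw [hk₁ k'' (hk.trans hk'')]; exact ⟨_, rfl⟩
  obtain ⟨y'', hy''⟩ := hmem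
  let y := tr B hk'' y''
  have hy : tr B (h01.trans hk) y = tr B h01 ((a.app (op k₁)).hom x) := by
    rw [← hy'']; exact tr_tr' B _ _ _ y''
  let γ := s.hom (tr C hi'' ((b.app (op k'')).hom y''))
  have hw : (b.app (op k)).hom y = (c.app (op k)).hom γ := by
    show (b.app (op k)).hom (tr B hk'' y'') = _
    rw [nat_tr b]
    exact ConcreteCategory.congr_hom hfac'' _
  have hik : i₀ ≤ k := hi0.trans (h01.trans hk)
  have h1 : tr C hik ((c.app (op k)).hom γ) = (c.app (op i₀)).hom γ := by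
    have := ConcreteCategory.congr_hom (c.naturality (homOfLE hik).op) γ
    exact this.symm
  have h2 : tr C hik ((b.app (op k)).hom y) = 0 := by
    rw [← tr_tr' C hi0 (h01.trans hk) hik, ← nat_tr b, hy, nat_tr b, hba, map_zero, map_zero]
  have hγ : γ = 0 := by
    have h3 : (c.app (op i₀)).hom γ = 0 := by rw [← h1, ← hw, h2]
    have h4 : s.hom ((c.app (op i₀)).hom γ) = γ := ConcreteCategory.congr_hom hs γ
    rw [← h4, h3, map_zero]
  have hyker : y ∈ (b.app (op k)).hom.ker := by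
    rw [AddMonoidHom.mem_ker, hw, hγ, map_zero]
  rw [hex] at hyker
  obtain ⟨x', hx'⟩ := hyker
  refine ⟨x', ?_⟩
  apply ha
  rw [nat_tr a, hx', nat_tr a, ← tr_tr' B hq0 (h01.trans hk) ((hq0.trans h01).trans hk) y, hy,
    tr_tr' B hq0 h01 (hq0.trans h01)]

theorem main (ha : ∀ i, Function.Injective (a.app i).hom)
    (hb : ∀ i, Function.Surjective (b.app i).hom)
    (hex : ∀ i, (b.app i).hom.ker = (a.app i).hom.range)
    (hC : ∃ (C₀ : AddCommGrpCat.{u}) (c : (Functor.const ℕᵒᵖ).obj C₀ ⟶ C),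
      DerCA.IsEssConstant C C₀ c) :
    (A ⋙ forget AddCommGrpCat).IsMittagLeffler ↔ (B ⋙ forget AddCommGrpCat).IsMittagLeffler := by
  rw [ml_iff_cml, ml_iff_cml]
  exact ⟨fun hA => cml_ext a b hb hex hA (cml_of_essConstant hC), cml_ker a b ha hex hC⟩

end Groth.Agent.Lib.Helper32.MLEss
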