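import Mathlib
import Groth.Prelude.Def_W4c3perfectstacksMV

set_option autoImplicit false
set_option linter.unusedSectionVars false
universe v u
open CategoryTheory CategoryTheory.Limits CategoryTheory.Pretriangulated
open W4c3perfectstacks W4c3perfectstacks.MVSq

/-!
# Mayer–Vietoris squares of triangulated categories (helper32)

Octahedron-free toolkit: for a shift-closed class `P` of objects of a pretriangulated category,
`ROrth P Y` (right orthogonality) and `KEquiv P g` (`g` induces bijections on `Hom(X, -)`, `X ∈ P`);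
a map is a `P`-equivalence iff its cone is right orthogonal to `P`.  For an MV square `q`:
`Ker q = ker j^*`, `j_* P`, `f_* j'_* P'`, `f_* f^* j_* P` are right orthogonal to it, the unit of
`f^* ⊣ f_*` is a `Ker q`-equivalence.
-/

namespace Groth.Agent.Lib.Helper32.MVSq

section Fiber

variable {C : Type u} [Category.{v} C] [Preadditive C] [HasZeroObject C] [HasShift C ℤ]
  [∀ n : ℤ, (shiftFunctor C n).Additive] [Pretriangulated C]

/-- In a distinguished triangle `F ⟶ A ⊞ B ⟶ D ⟶` whose second map restricts to an isomorphism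
`B ≅ D`, the composite `F ⟶ A ⊞ B ⟶ A` is an isomorphism. -/
lemma isIso_comp_fst_of_isIso {F A B D : C} (ι : F ⟶ A ⊞ B) (u : A ⟶ D) (v : B ⟶ D) [IsIso v]
    (δ : D ⟶ F⟦(1 : ℤ)⟧) (hT : Triangle.mk ι (biprod.desc u v) δ ∈ distTriang C) :
    IsIso (ι ≫ biprod.fst) := by
  have hδ : δ = 0 := by
    have h1 : biprod.desc u v ≫ δ = 0 := comp_distTriang_mor_zero₂₃ _ hT
    have h2 : v ≫ δ = 0 := by
      have : biprod.inr ≫ biprod.desc u v ≫ δ = v ≫ δ := by rw [biprod.inr_desc_assoc]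
      rw [← this, h1, comp_zero]
    exact (cancel_epi v).1 (by rw [h2, comp_zero])
  have hmono : Mono ι := Triangle.mono₁ _ hT hδ
  have hιψ : ι ≫ biprod.desc u v = 0 := comp_distTriang_mor_zero₁₂ _ hT
  let s : A ⟶ A ⊞ B := biprod.lift (𝟙 A) (-(u ≫ inv v))
  have hs : s ≫ biprod.desc u v = 0 := by
    simp [s, biprod.lift_desc]
  obtain ⟨t, ht⟩ : ∃ t : A ⟶ F, s = t ≫ ι := Triangle.coyoneda_exact₂ _ hT s hs
  have ht' : t ≫ ι = s := ht.symm
  refine ⟨t, ?_, ?_⟩
  · rw [← cancel_mono ι, Category.assoc, Category.assoc, ht', Category.id_comp]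
    apply biprod.hom_ext
    · simp [s]
    · have h3 : ι ≫ biprod.fst ≫ u + ι ≫ biprod.snd ≫ v = 0 := by
        have hd : biprod.desc u v = biprod.fst ≫ u + biprod.snd ≫ v := by
          apply biprod.hom_ext' <;> simp
        rw [← hιψ, hd, Preadditive.comp_add]
      have h4 : ι ≫ biprod.snd = -(ι ≫ biprod.fst ≫ u ≫ inv v) := by
        have : ι ≫ biprod.snd ≫ v = -(ι ≫ biprod.fst ≫ u) := by
          rw [eq_neg_iff_add_eq_zero, add_comm]; exact h3
        rw [← cancel_mono v]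
        simp only [Category.assoc, Preadditive.neg_comp, IsIso.inv_hom_id, Category.comp_id]
        exact this
      simp [s, h4]
  · rw [← Category.assoc, ht']
    simp [s]

end Fiber

section Orth

variable {C : Type u} [Category.{v} C] [Preadditive C] [HasZeroObject C] [HasShift C ℤ]
  [∀ n : ℤ, (shiftFunctor C n).Additive] [Pretriangulated C]

/-- `Y` is right orthogonal to the class `P`. -/
def ROrth (P : C → Prop) (Y : C) : Prop := ∀ X, P X → ∀ f : X ⟶ Y, f = 0

/-- `g` induces bijections `Hom(X, A) ≃ Hom(X, B)` for all `X` in `P`. -/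
def KEquiv (P : C → Prop) {A B : C} (g : A ⟶ B) : Prop :=
  ∀ X, P X → Function.Bijective (fun h : X ⟶ A => h ≫ g)

variable {P : C → Prop}

lemma ROrth.of_iso {Y Y' : C} (e : Y ≅ Y') (h : ROrth P Y) : ROrth P Y' := by
  intro X hX f
  have := h X hX (f ≫ e.inv)
  rw [← cancel_mono e.inv, this, zero_comp]

lemma ROrth.shift (hP : ∀ X (n : ℤ), P X → P (X⟦n⟧)) {Y : C} (h : ROrth P Y) (n : ℤ) :
    ROrth P (Y⟦n⟧) := by
  intro X hX f
  have h0 := h _ (hP X (-n) hX) (f⟦-n⟧' ≫ (shiftFunctorCompIsoId C n (-n) (by omega)).hom.app Y)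
  have h1 : f⟦-n⟧' = 0 := by
    rw [← cancel_mono ((shiftFunctorCompIsoId C n (-n) (by omega)).hom.app Y), h0, zero_comp]
  exact (shiftFunctor C (-n)).map_injective (by rw [h1, Functor.map_zero])

lemma ROrth.biprod {Y Y' : C} (h : ROrth P Y) (h' : ROrth P Y') : ROrth P (Y ⊞ Y') := by
  intro X hX f
  apply biprod.hom_ext
  · rw [h X hX (f ≫ biprod.fst), zero_comp]
  · rw [h' X hX (f ≫ biprod.snd), zero_comp]

lemma KEquiv.of_isIso {A B : C} (g : A ⟶ B) [IsIso g] : KEquiv P g := by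
  intro X _
  constructor
  · intro h h' hh
    exact (cancel_mono g).1 hh
  · intro y
    exact ⟨y ≫ inv g, by simp⟩

lemma KEquiv.comp {A B D : C} {g : A ⟶ B} {g' : B ⟶ D} (h : KEquiv P g) (h' : KEquiv P g') :
    KEquiv P (g ≫ g') := by
  intro X hX
  have : (fun x : X ⟶ A => x ≫ g ≫ g') = (fun y : X ⟶ B => y ≫ g') ∘ (fun x : X ⟶ A => x ≫ g) := by
    funext x; simp
  rw [this]
  exact (h' X hX).comp (h X hX)

lemma KEquiv.of_comp_left {A B D : C} {g : A ⟶ B} {g' : B ⟶ D} (h : KEquiv P g)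
    (hc : KEquiv P (g ≫ g')) : KEquiv P g' := by
  intro X hX
  have : (fun x : X ⟶ A => x ≫ g ≫ g') = (fun y : X ⟶ B => y ≫ g') ∘ (fun x : X ⟶ A => x ≫ g) := by
    funext x; simp
  have h2 := hc X hX
  rw [this] at h2
  exact (Function.Bijective.of_comp_iff _ (h X hX)).1 h2

lemma KEquiv.of_comp_right {A B D : C} {g : A ⟶ B} {g' : B ⟶ D} (h' : KEquiv P g')
    (hc : KEquiv P (g ≫ g')) : KEquiv P g := by
  intro X hX
  have : (fun x : X ⟶ A => x ≫ g ≫ g') = (fun y : X ⟶ B => y ≫ g') ∘ (fun x : X ⟶ A => x ≫ g) := by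
    funext x; simp
  have h2 := hc X hX
  rw [this] at h2
  exact (Function.Bijective.of_comp_iff' (h' X hX) _).1 h2

/-- If the cone of `T.mor₁` is right orthogonal to `P` (shift-closed), `T.mor₁` is a `P`-equivalence. -/
lemma KEquiv.of_rorth (hP : ∀ X (n : ℤ), P X → P (X⟦n⟧)) (T : Triangle C) (hT : T ∈ distTriang C)
    (h : ROrth P T.obj₃) : KEquiv P T.mor₁ := by
  intro X hX
  constructor
  · intro x x' hxx
    have h0 : (x - x') ≫ T.mor₁ = 0 := by
      rw [Preadditive.sub_comp]; exact sub_eq_zero.2 hxx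
    obtain ⟨g, hg⟩ := Triangle.coyoneda_exact₂ _ (inv_rot_of_distTriang _ hT) (x - x') h0
    have hg0 : g = 0 := (h.shift hP (-1)) X hX g
    rw [hg0, zero_comp] at hg
    exact sub_eq_zero.1 hg
  · intro y
    obtain ⟨x, hx⟩ := Triangle.coyoneda_exact₂ _ hT y (h X hX _)
    exact ⟨x, hx.symm⟩

/-- Conversely the cone of a `P`-equivalence is right orthogonal to `P`. -/
lemma ROrth.of_kequiv (hP : ∀ X (n : ℤ), P X → P (X⟦n⟧)) (T : Triangle C) (hT : T ∈ distTriang C)
    (h : KEquiv P T.mor₁) : ROrth P T.obj₃ := by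
  intro X hX x
  have h1 : x ≫ T.mor₃ = 0 := by
    have e := shiftFunctorCompIsoId C (1 : ℤ) (-1) (by omega)
    have h2 : ((x ≫ T.mor₃)⟦(-1 : ℤ)⟧' ≫ e.hom.app T.obj₁) ≫ T.mor₁ = 0 := by
      rw [Category.assoc]
      have := e.hom.naturality T.mor₁
      dsimp at this
      rw [← this, ← Functor.map_comp_assoc, Category.assoc, comp_distTriang_mor_zero₃₁ _ hT,
        comp_zero, Functor.map_zero, zero_comp]
    have h3 := (h _ (hP X (-1) hX)).1 (a₁ := (x ≫ T.mor₃)⟦(-1 : ℤ)⟧' ≫ e.hom.app T.obj₁) (a₂ := 0)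
      (by simpa using h2)
    have h4 : (x ≫ T.mor₃)⟦(-1 : ℤ)⟧' = 0 := by
      rw [← cancel_mono (e.hom.app T.obj₁), h3, zero_comp]
    exact (shiftFunctor C (-1 : ℤ)).map_injective (by rw [h4, Functor.map_zero])
  obtain ⟨z, hz⟩ := Triangle.coyoneda_exact₃ _ hT x h1
  obtain ⟨w, hw⟩ := (h X hX).2 z
  dsimp at hw
  rw [hz, ← hw, Category.assoc, comp_distTriang_mor_zero₁₂ _ hT, comp_zero]

end Orth

section MV

variable {S S' R R' : Type u} [Category.{v} S] [Category.{v} S'] [Category.{v} R] [Category.{v} R']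
    [Preadditive S] [Preadditive S'] [Preadditive R] [Preadditive R']
    [HasZeroObject S] [HasZeroObject S'] [HasZeroObject R] [HasZeroObject R']
    [HasShift S ℤ] [HasShift S' ℤ] [HasShift R ℤ] [HasShift R' ℤ]
    [∀ n : ℤ, (shiftFunctor S n).Additive] [∀ n : ℤ, (shiftFunctor S' n).Additive]
    [∀ n : ℤ, (shiftFunctor R n).Additive] [∀ n : ℤ, (shiftFunctor R' n).Additive]
    [Pretriangulated S] [Pretriangulated S'] [Pretriangulated R] [Pretriangulated R']
    (q : W4c3perfectstacks.MVSq S S' R R')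
    [q.jst.CommShift ℤ] [q.fst.CommShift ℤ] [q.jpst.CommShift ℤ] [q.gst.CommShift ℤ]
    [q.jst.IsTriangulated] [q.fst.IsTriangulated] [q.jpst.IsTriangulated] [q.gst.IsTriangulated]

/-- the kernel of `j^*` -/
def Ker (N : S) : Prop := IsZero (q.jst.obj N)

lemma ker_shift (X : S) (n : ℤ) (h : Ker q X) : Ker q (X⟦n⟧) :=
  IsZero.of_iso ((shiftFunctor R n).map_isZero h) ((q.jst.commShiftIso n).app X)

lemma rorth_jls (P : R) : ROrth (Ker q) (q.jls.obj P) := fun X hX _ =>
  (q.adjJ.homEquiv X P).symm.injective (IsZero.eq_of_src hX _ _)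

lemma rorth_fls_jpls (P' : R') : ROrth (Ker q) (q.fls.obj (q.jpls.obj P')) := by
  intro X hX f
  apply (q.adjF.homEquiv _ _).symm.injective
  apply (q.adjJp.homEquiv _ _).symm.injective
  have hz : IsZero (q.jpst.obj (q.fst.obj X)) :=
    IsZero.of_iso (q.gst.map_isZero hX) (q.e.app X).symm
  exact hz.eq_of_src _ _

lemma rorth_D (hq : q.IsMV) (P : R) : ROrth (Ker q) (q.fls.obj (q.fst.obj (q.jls.obj P))) := by
  have := hq.isIso_bc2App P
  exact (rorth_fls_jpls q _).of_iso (q.fls.mapIso (asIso (q.bc2App P))).symm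

lemma isIso_jst_unit (hq : q.IsMV) (N : S) : IsIso (q.jst.map (q.adjJ.unit.app N)) := by
  have := hq.isIso_counitJ
  have h := q.adjJ.left_triangle_components N
  have : IsIso (q.jst.map (q.adjJ.unit.app N) ≫ q.adjJ.counit.app (q.jst.obj N)) := by
    rw [h]; exact IsIso.id _
  exact IsIso.of_isIso_comp_right _ (q.adjJ.counit.app (q.jst.obj N))

lemma ker_of_triangle_unit (hq : q.IsMV) {N K : S} (k : K ⟶ N)
    (κ : q.jls.obj (q.jst.obj N) ⟶ K⟦(1 : ℤ)⟧)
    (hT : Triangle.mk k (q.adjJ.unit.app N) κ ∈ distTriang S) : Ker q K := by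
  have h := q.jst.map_distinguished _ hT
  have := isIso_jst_unit q hq N
  exact Triangle.isZero₁_of_isIso₂ _ h (show IsIso (q.jst.map (q.adjJ.unit.app N)) from this)

/-- The unit of `f^* ⊣ f_*` is a `ker j^*`-equivalence. -/
lemma kequiv_unitF (hq : q.IsMV) (N : S) : KEquiv (Ker q) (q.adjF.unit.app N) := by
  let _ : q.fls.CommShift ℤ := q.adjF.rightAdjointCommShift ℤ
  have : q.adjF.CommShift ℤ := q.adjF.commShift_of_leftAdjoint ℤ
  have : q.fls.IsTriangulated := q.adjF.isTriangulated_rightAdjoint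
  obtain ⟨K, k, κ, hT⟩ := distinguished_cocone_triangle₁ (q.adjJ.unit.app N)
  have hK := ker_of_triangle_unit q hq k κ hT
  have h1 : KEquiv (Ker q) k :=
    KEquiv.of_rorth (ker_shift q) _ hT (rorth_jls q _)
  have h2 : KEquiv (Ker q) ((q.fst ⋙ q.fls).map k) :=
    KEquiv.of_rorth (ker_shift q) _ ((q.fst ⋙ q.fls).map_distinguished _ hT) (rorth_D q hq _)
  have := hq.isIso_unitF K hK
  have h3 : KEquiv (Ker q) (q.adjF.unit.app K) := KEquiv.of_isIso _
  have hn : k ≫ q.adjF.unit.app N = q.adjF.unit.app K ≫ (q.fst ⋙ q.fls).map k :=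
    q.adjF.unit.naturality k
  have h4 : KEquiv (Ker q) (k ≫ q.adjF.unit.app N) := by
    rw [hn]; exact h3.comp h2
  exact KEquiv.of_comp_left h1 h4

lemma ker_fls (hq : q.IsMV) (M : S') (hM : IsZero (q.jpst.obj M)) : Ker q (q.fls.obj M) := by
  have := hq.isIso_bcApp M
  have : q.gls.Additive := q.adjG.right_adjoint_additive
  exact IsZero.of_iso (q.gls.map_isZero hM) (asIso (q.bcApp M))

/-- S16409 -/
theorem fst_map_bijective (hq : q.IsMV) (M : S') (hM : IsZero (q.jpst.obj M)) (N : S) :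
    Function.Bijective (fun g : q.fls.obj M ⟶ N => q.fst.map g) := by
  have hK := ker_fls q hq M hM
  have h1 := kequiv_unitF q hq N _ hK
  have : (fun g : q.fls.obj M ⟶ N => q.fst.map g) =
      (q.adjF.homEquiv _ _).symm ∘ (fun h : q.fls.obj M ⟶ N => h ≫ q.adjF.unit.app N) := by
    funext g
    apply (q.adjF.homEquiv _ _).injective
    simp [Adjunction.homEquiv_unit]
  rw [this]
  exact (Equiv.bijective _).comp h1

end MV

end Groth.Agent.Lib.Helper32.MVSq
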