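import Mathlib

set_option autoImplicit false
universe v u

namespace Groth.Agent.Lib.Helper32.MVSq

section Algebra

open DirectSum

variable {ι : Type*}

lemma directSum_map_exact {α β γ : ι → Type*} [∀ i, AddCommGroup (α i)] [∀ i, AddCommGroup (β i)]
    [∀ i, AddCommGroup (γ i)] (f : ∀ i, α i →+ β i) (g : ∀ i, β i →+ γ i)
    (h : ∀ i, Function.Exact (f i) (g i)) :
    Function.Exact (DirectSum.map f) (DirectSum.map g) := by
  classical
  intro y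
  constructor
  · intro hy
    have hy' : ∀ i, g i (y i) = 0 := by
      intro i
      have := DFunLike.congr_fun hy i
      rw [DirectSum.map_apply] at this
      exact this
    have hex : ∀ i, ∃ x : α i, f i x = y i := fun i => (h i (y i)).1 (hy' i)
    let s : ∀ i, β i → α i := fun i b =>
      if hb : ∃ x : α i, f i x = b then (if b = 0 then 0 else hb.choose) else 0
    have hs0 : ∀ i, s i 0 = 0 := by
      intro i
      simp only [s]
      split_ifs <;> rfl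
    refine ⟨DFinsupp.mapRange s hs0 y, ?_⟩
    ext i
    rw [DirectSum.map_apply]
    show f i (s i (y i)) = y i
    simp only [s]
    rw [dif_pos (hex i)]
    split_ifs with h0
    · rw [h0, map_zero]
    · exact (hex i).choose_spec
  · rintro ⟨x, rfl⟩
    ext i
    rw [DirectSum.map_apply, DirectSum.map_apply]
    exact (h i (f i (x i))).2 ⟨x i, rfl⟩

lemma toAddMonoid_comp_map {A B : ι → Type*} {C D : Type*} [DecidableEq ι]
    [∀ i, AddCommGroup (A i)]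
    [∀ i, AddCommGroup (B i)] [AddCommGroup C] [AddCommGroup D]
    (f : ∀ i, A i →+ B i) (g : C →+ D) (φ : ∀ i, A i →+ C) (ψ : ∀ i, B i →+ D)
    (hc : ∀ i, g.comp (φ i) = (ψ i).comp (f i)) :
    g.comp (DirectSum.toAddMonoid φ) = (DirectSum.toAddMonoid ψ).comp (DirectSum.map f) := by
  apply DirectSum.addHom_ext
  intro i x
  simp only [AddMonoidHom.comp_apply, DirectSum.toAddMonoid_of, DirectSum.map_of]
  exact DFunLike.congr_fun (hc i) x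

/-- five lemma for a family of exact rows summed against one exact row -/
lemma bijective_toAddMonoid_of_five
    {M₁ M₂ M₃ M₄ M₅ : ι → Type*} {N₁ N₂ N₃ N₄ N₅ : Type*}
    [∀ i, AddCommGroup (M₁ i)] [∀ i, AddCommGroup (M₂ i)] [∀ i, AddCommGroup (M₃ i)]
    [∀ i, AddCommGroup (M₄ i)] [∀ i, AddCommGroup (M₅ i)]
    [AddCommGroup N₁] [AddCommGroup N₂] [AddCommGroup N₃] [AddCommGroup N₄] [AddCommGroup N₅]
    [DecidableEq ι]
    (f₁ : ∀ i, M₁ i →+ M₂ i) (f₂ : ∀ i, M₂ i →+ M₃ i) (f₃ : ∀ i, M₃ i →+ M₄ i)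
    (f₄ : ∀ i, M₄ i →+ M₅ i)
    (g₁ : N₁ →+ N₂) (g₂ : N₂ →+ N₃) (g₃ : N₃ →+ N₄) (g₄ : N₄ →+ N₅)
    (φ₁ : ∀ i, M₁ i →+ N₁) (φ₂ : ∀ i, M₂ i →+ N₂) (φ₃ : ∀ i, M₃ i →+ N₃) (φ₄ : ∀ i, M₄ i →+ N₄)
    (φ₅ : ∀ i, M₅ i →+ N₅)
    (hc₁ : ∀ i, g₁.comp (φ₁ i) = (φ₂ i).comp (f₁ i))
    (hc₂ : ∀ i, g₂.comp (φ₂ i) = (φ₃ i).comp (f₂ i))
    (hc₃ : ∀ i, g₃.comp (φ₃ i) = (φ₄ i).comp (f₃ i))
    (hc₄ : ∀ i, g₄.comp (φ₄ i) = (φ₅ i).comp (f₄ i))
    (hf₁ : ∀ i, Function.Exact (f₁ i) (f₂ i)) (hf₂ : ∀ i, Function.Exact (f₂ i) (f₃ i))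
    (hf₃ : ∀ i, Function.Exact (f₃ i) (f₄ i))
    (hg₁ : Function.Exact g₁ g₂) (hg₂ : Function.Exact g₂ g₃) (hg₃ : Function.Exact g₃ g₄)
    (h₁ : Function.Surjective (DirectSum.toAddMonoid φ₁))
    (h₂ : Function.Bijective (DirectSum.toAddMonoid φ₂))
    (h₄ : Function.Bijective (DirectSum.toAddMonoid φ₄))
    (h₅ : Function.Injective (DirectSum.toAddMonoid φ₅)) :
    Function.Bijective (DirectSum.toAddMonoid φ₃) := by
  exact AddMonoidHom.bijective_of_surjective_of_bijective_of_bijective_of_injective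
    (DirectSum.map f₁) (DirectSum.map f₂) (DirectSum.map f₃) (DirectSum.map f₄) g₁ g₂ g₃ g₄
    (DirectSum.toAddMonoid φ₁) (DirectSum.toAddMonoid φ₂) (DirectSum.toAddMonoid φ₃)
    (DirectSum.toAddMonoid φ₄) (DirectSum.toAddMonoid φ₅)
    (toAddMonoid_comp_map f₁ g₁ φ₁ φ₂ hc₁) (toAddMonoid_comp_map f₂ g₂ φ₂ φ₃ hc₂)
    (toAddMonoid_comp_map f₃ g₃ φ₃ φ₄ hc₃) (toAddMonoid_comp_map f₄ g₄ φ₄ φ₅ hc₄)
    (directSum_map_exact f₁ f₂ hf₁) (directSum_map_exact f₂ f₃ hf₂) (directSum_map_exact f₃ f₄ hf₃)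
    hg₁ hg₂ hg₃ h₁ h₂ h₄ h₅

end Algebra

end Groth.Agent.Lib.Helper32.MVSq
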