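import Mathlib
import Groth.Prelude.Def_CohDer

set_option autoImplicit false
set_option linter.unusedSectionVars false
universe v u u'
open CategoryTheory CategoryTheory.Limits

namespace Groth.Agent.Lib.Helper32.MVSq

section Good

variable {C : Type u} [Category.{v} C] [Preadditive C]
  {E : Type u'} [Category.{v} E] [Preadditive E] [HasCoproducts.{v} C]

/-- the comparison map `⊕_i Hom(K, G X_i) → Hom(K, G (∐ X))`. -/
noncomputable def compMap (K : E) (G : C ⥤ E) {ι : Type v} (X : ι → C) :
    DirectSum ι (fun i => K ⟶ G.obj (X i)) →+ (K ⟶ G.obj (∐ X)) := by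
  classical
  exact DirectSum.toAddMonoid fun i => Preadditive.rightComp K (G.map (Sigma.ι X i))

/-- `Hom(K, G -)` commutes with coproducts. -/
def Good (K : E) (G : C ⥤ E) : Prop :=
  ∀ (ι : Type v) (X : ι → C), Function.Bijective (compMap K G X)

lemma good_id_iff (K : C) : Good K (𝟭 C) ↔ CohDer.IsCompactObject K := Iff.rfl

/-- transport of goodness along natural additive bijections `Hom(K, G Y) ≃ Hom(K', L Y)` with
`L` preserving coproducts and `K'` compact. -/
lemma good_of_addEquiv {E' : Type u'} [Category.{v} E'] [Preadditive E'] [HasCoproducts.{v} E']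
    (K : E) (G : C ⥤ E) (K' : E') (L : C ⥤ E')
    [∀ (ι : Type v), PreservesColimitsOfShape (Discrete ι) L]
    (θ : ∀ Y, (K ⟶ G.obj Y) ≃+ (K' ⟶ L.obj Y))
    (hθ : ∀ {Y Y' : C} (y : Y ⟶ Y') (w : K ⟶ G.obj Y), θ Y' (w ≫ G.map y) = θ Y w ≫ L.map y)
    (hK' : CohDer.IsCompactObject K') : Good K G := by
  classical
  intro ι X
  let iso := PreservesCoproduct.iso L X
  -- postcomposition with `iso.hom` as an additive equivalence
  let post : (K' ⟶ L.obj (∐ X)) ≃+ (K' ⟶ ∐ fun i => L.obj (X i)) :=
    { toFun := fun w => w ≫ iso.hom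
      invFun := fun w => w ≫ iso.inv
      left_inv := fun w => by simp
      right_inv := fun w => by simp
      map_add' := fun w w' => by simp }
  have hsq : (post.toAddMonoidHom.comp (θ (∐ X)).toAddMonoidHom).comp (compMap K G X) =
      (CohDer.homSumToHomCoprod K' (fun i => L.obj (X i))).comp
        (DirectSum.map (fun i => (θ (X i)).toAddMonoidHom)) := by
    apply DirectSum.addHom_ext
    intro i w
    simp only [AddMonoidHom.comp_apply, DirectSum.map_of, compMap, CohDer.homSumToHomCoprod,
      DirectSum.toAddMonoid_of]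
    show (θ (∐ X) (w ≫ G.map (Sigma.ι X i))) ≫ iso.hom = θ (X i) w ≫ Sigma.ι (fun j => L.obj (X j)) i
    rw [hθ, Category.assoc]
    congr 1
    rw [← cancel_mono iso.inv, Category.assoc, iso.hom_inv_id, Category.comp_id,
      PreservesCoproduct.inv_hom, ι_comp_sigmaComparison]
  have h1 : Function.Bijective (DirectSum.map (fun i => (θ (X i)).toAddMonoidHom)) :=
    ⟨(DirectSum.map_injective _).2 (fun i => (θ (X i)).injective),
      (DirectSum.map_surjective _).2 (fun i => (θ (X i)).surjective)⟩
  have h2 : Function.Bijective ((CohDer.homSumToHomCoprod K' (fun i => L.obj (X i))).comp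
      (DirectSum.map (fun i => (θ (X i)).toAddMonoidHom))) := (hK' ι _).comp h1
  rw [← hsq] at h2
  have h3 : Function.Bijective (post.toAddMonoidHom.comp (θ (∐ X)).toAddMonoidHom) :=
    post.bijective.comp (θ (∐ X)).bijective
  exact (Function.Bijective.of_comp_iff' h3 _).1 h2

lemma compact_of_iso {K K' : C} (e : K ≅ K') (hK : CohDer.IsCompactObject K) :
    CohDer.IsCompactObject K' := by
  rw [← good_id_iff]
  let θ : ∀ Y : C, (K' ⟶ (𝟭 C).obj Y) ≃+ (K ⟶ (𝟭 C).obj Y) := fun Y =>
    { toFun := fun w => e.hom ≫ w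
      invFun := fun w => e.inv ≫ w
      left_inv := fun w => by simp
      right_inv := fun w => by simp
      map_add' := fun w w' => by simp }
  exact good_of_addEquiv K' (𝟭 C) K (𝟭 C) θ (fun y w => by simp [θ]) hK

lemma compact_shift [HasShift C ℤ] [∀ n : ℤ, (shiftFunctor C n).Additive] {K : C}
    (hK : CohDer.IsCompactObject K) (n : ℤ) : CohDer.IsCompactObject (K⟦n⟧) := by
  rw [← good_id_iff]
  have : ∀ (ι : Type v), PreservesColimitsOfShape (Discrete ι) (shiftEquiv C n).inverse :=
    fun ι => inferInstance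
  have : (shiftEquiv C n).functor.Additive := (inferInstance : (shiftFunctor C n).Additive)
  exact good_of_addEquiv (K⟦n⟧) (𝟭 C) K (shiftEquiv C n).inverse
    (fun Y => (shiftEquiv C n).toAdjunction.homAddEquiv K Y)
    (fun y w => (shiftEquiv C n).toAdjunction.homEquiv_naturality_right w y) hK

end Good

end Groth.Agent.Lib.Helper32.MVSq
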