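import Mathlib
import Groth.Agent.Lib.Helper32.MVSq

set_option autoImplicit false
set_option linter.unusedSectionVars false
universe v u
open CategoryTheory CategoryTheory.Limits CategoryTheory.Pretriangulated
open W4c3perfectstacks W4c3perfectstacks.MVSq

/-!
# The Mayer–Vietoris triangle of an MV square (helper32)

`exists_mv`, `mv_unique`, `mv_natural`: existence, uniqueness and naturality of the connecting
map of `N ⟶ j_* j^* N ⊞ f_* f^* N ⟶ f_* f^* j_* j^* N ⟶ N⟦1⟧`.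
-/

namespace Groth.Agent.Lib.Helper32.MVSq

section Fiber2

variable {C : Type u} [Category.{v} C] [Preadditive C] [HasZeroObject C] [HasShift C ℤ]
  [∀ n : ℤ, (shiftFunctor C n).Additive] [Pretriangulated C]

/-- Fiber lemma, biproduct-free form: `T` distinguished, `T.obj₂` decomposed as `A ⊕ B` by
`(i₁, i₂, p₁, p₂)`, and `i₂ ≫ T.mor₂` an isomorphism. Then `T.mor₁ ≫ p₁` is an isomorphism. -/
lemma isIso_comp_proj_of_isIso (T : Triangle C) (hT : T ∈ distTriang C) {A B : C}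
    (i₁ : A ⟶ T.obj₂) (i₂ : B ⟶ T.obj₂) (p₁ : T.obj₂ ⟶ A) (p₂ : T.obj₂ ⟶ B)
    (h11 : i₁ ≫ p₁ = 𝟙 A) (h21 : i₂ ≫ p₁ = 0)
    (htot : p₁ ≫ i₁ + p₂ ≫ i₂ = 𝟙 T.obj₂) (hv : IsIso (i₂ ≫ T.mor₂)) :
    IsIso (T.mor₁ ≫ p₁) := by
  set v := i₂ ≫ T.mor₂ with hvdef
  have hδ : T.mor₃ = 0 := by
    have h1 : T.mor₂ ≫ T.mor₃ = 0 := comp_distTriang_mor_zero₂₃ _ hT
    have h2 : v ≫ T.mor₃ = 0 := by rw [hvdef, Category.assoc, h1, comp_zero]
    exact (cancel_epi v).1 (by rw [h2, comp_zero])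
  have hmono : Mono T.mor₁ := Triangle.mono₁ _ hT hδ
  have hιψ : T.mor₁ ≫ T.mor₂ = 0 := comp_distTriang_mor_zero₁₂ _ hT
  let s : A ⟶ T.obj₂ := i₁ - i₁ ≫ T.mor₂ ≫ inv v ≫ i₂
  have hs : s ≫ T.mor₂ = 0 := by
    simp only [s, Preadditive.sub_comp, Category.assoc]
    rw [← hvdef, IsIso.inv_hom_id, Category.comp_id, sub_self]
  obtain ⟨t, ht⟩ := Triangle.coyoneda_exact₂ _ hT s hs
  have ht' : t ≫ T.mor₁ = s := ht.symm
  refine ⟨t, ?_, ?_⟩
  · rw [← cancel_mono T.mor₁, Category.assoc, Category.assoc, ht', Category.id_comp]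
    have h3 : T.mor₁ ≫ p₁ ≫ i₁ ≫ T.mor₂ = -(T.mor₁ ≫ p₂ ≫ v) := by
      have : T.mor₁ ≫ (p₁ ≫ i₁ + p₂ ≫ i₂) ≫ T.mor₂ = 0 := by
        rw [htot, Category.id_comp, hιψ]
      rw [Preadditive.add_comp, Preadditive.comp_add, Category.assoc, Category.assoc] at this
      rw [eq_neg_iff_add_eq_zero]
      exact this
    have h4 : T.mor₁ ≫ p₁ ≫ s = T.mor₁ ≫ p₁ ≫ i₁ + T.mor₁ ≫ p₂ ≫ i₂ := by
      simp only [s, Preadditive.comp_sub]
      rw [sub_eq_add_neg]
      congr 1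
      have h5 : T.mor₁ ≫ p₁ ≫ i₁ ≫ T.mor₂ ≫ inv v ≫ i₂ =
          (T.mor₁ ≫ p₁ ≫ i₁ ≫ T.mor₂) ≫ inv v ≫ i₂ := by simp only [Category.assoc]
      rw [h5, h3]
      simp
    rw [h4, ← Preadditive.comp_add, htot, Category.comp_id]
  · rw [← Category.assoc, ht']
    simp only [s, Preadditive.sub_comp, Category.assoc, h11, h21, comp_zero, sub_zero]

end Fiber2

section MVTri

variable {S S' R R' : Type u} [Category.{v} S] [Category.{v} S'] [Category.{v} R] [Category.{v} R']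
    [Preadditive S] [Preadditive S'] [Preadditive R] [Preadditive R']
    [HasZeroObject S] [HasZeroObject S'] [HasZeroObject R] [HasZeroObject R']
    [HasShift S ℤ] [HasShift S' ℤ] [HasShift R ℤ] [HasShift R' ℤ]
    [∀ n : ℤ, (shiftFunctor S n).Additive] [∀ n : ℤ, (shiftFunctor S' n).Additive]
    [∀ n : ℤ, (shiftFunctor R n).Additive] [∀ n : ℤ, (shiftFunctor R' n).Additive]
    [Pretriangulated S] [Pretriangulated S'] [Pretriangulated R] [Pretriangulated R']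
    (q : W4c3perfectstacks.MVSq S S' R R')
    [q.jst.CommShift ℤ] [q.fst.CommShift ℤ] [q.jpst.CommShift ℤ] [q.gst.CommShift ℤ]
    [q.jst.IsTriangulated] [q.fst.IsTriangulated] [q.jpst.IsTriangulated] [q.gst.IsTriangulated]

/-- first map of the MV triangle -/
noncomputable abbrev mvφ (N : S) : N ⟶ q.jls.obj (q.jst.obj N) ⊞ q.fls.obj (q.fst.obj N) :=
  biprod.lift (q.adjJ.unit.app N) (q.adjF.unit.app N)

/-- second map of the MV triangle -/
noncomputable abbrev mvψ (N : S) : q.jls.obj (q.jst.obj N) ⊞ q.fls.obj (q.fst.obj N) ⟶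
    q.fls.obj (q.fst.obj (q.jls.obj (q.jst.obj N))) :=
  biprod.desc (q.adjF.unit.app (q.jls.obj (q.jst.obj N)))
    (-(q.fls.map (q.fst.map (q.adjJ.unit.app N))))

lemma mvφ_ψ (N : S) : mvφ q N ≫ mvψ q N = 0 := by
  have := q.adjF.unit.naturality (q.adjJ.unit.app N)
  dsimp at this
  rw [biprod.lift_desc, Preadditive.comp_neg, this, add_neg_cancel]

lemma ker_cone_unit (hq : q.IsMV) {N Z : S} (g : q.jls.obj (q.jst.obj N) ⟶ Z)
    (h : Z ⟶ N⟦(1 : ℤ)⟧)
    (hT : Triangle.mk (q.adjJ.unit.app N) g h ∈ distTriang S) : Ker q Z := by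
  have h' := q.jst.map_distinguished _ hT
  have := isIso_jst_unit q hq N
  exact Triangle.isZero₃_of_isIso₁ _ h' (show IsIso (q.jst.map (q.adjJ.unit.app N)) from this)

/-- the connecting map of an MV triangle kills every map into an object right orthogonal to
`ker j^*`. -/
lemma comp_eq_zero_of_rorth (hq : q.IsMV) {N : S}
    {d : q.fls.obj (q.fst.obj (q.jls.obj (q.jst.obj N))) ⟶ N⟦(1 : ℤ)⟧}
    (hT : Triangle.mk (mvφ q N) (mvψ q N) d ∈ distTriang S) {Y : S} (hY : ROrth (Ker q) Y)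
    (x : N⟦(1 : ℤ)⟧ ⟶ Y) : d ≫ x = 0 := by
  obtain ⟨Z, g, h, hZ⟩ := distinguished_cocone_triangle (q.adjJ.unit.app N)
  have hK := ker_cone_unit q hq g h hZ
  have h0 : d ≫ (mvφ q N)⟦(1 : ℤ)⟧' = 0 := comp_distTriang_mor_zero₃₁ _ hT
  have h1 : d ≫ (q.adjJ.unit.app N)⟦(1 : ℤ)⟧' = 0 := by
    have : q.adjJ.unit.app N = mvφ q N ≫ biprod.fst := by simp [mvφ]
    rw [this, Functor.map_comp, reassoc_of% h0, zero_comp]
  obtain ⟨g', hg'⟩ : ∃ g' : q.fls.obj (q.fst.obj (q.jls.obj (q.jst.obj N))) ⟶ Z, d = g' ≫ h :=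
    Triangle.coyoneda_exact₁ _ hZ d h1
  rw [hg', Category.assoc, hY Z hK (h ≫ x), comp_zero]

/-- S16408: naturality of the connecting map. -/
theorem mv_natural (hq : q.IsMV) {N₁ N₂ : S} (φ : N₁ ⟶ N₂)
    (d₁ : q.fls.obj (q.fst.obj (q.jls.obj (q.jst.obj N₁))) ⟶ N₁⟦(1 : ℤ)⟧)
    (d₂ : q.fls.obj (q.fst.obj (q.jls.obj (q.jst.obj N₂))) ⟶ N₂⟦(1 : ℤ)⟧)
    (h₁ : Triangle.mk (mvφ q N₁) (mvψ q N₁) d₁ ∈ distTriang S)
    (h₂ : Triangle.mk (mvφ q N₂) (mvψ q N₂) d₂ ∈ distTriang S) :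
    d₁ ≫ (shiftFunctor S (1 : ℤ)).map φ = q.fls.map (q.fst.map (q.jls.map (q.jst.map φ))) ≫ d₂ := by
  let b : q.jls.obj (q.jst.obj N₁) ⊞ q.fls.obj (q.fst.obj N₁) ⟶
      q.jls.obj (q.jst.obj N₂) ⊞ q.fls.obj (q.fst.obj N₂) :=
    biprod.map (q.jls.map (q.jst.map φ)) (q.fls.map (q.fst.map φ))
  have hJ := q.adjJ.unit.naturality φ
  have hF := q.adjF.unit.naturality φ
  have hF' := q.adjF.unit.naturality (q.jls.map (q.jst.map φ))
  dsimp at hJ hF hF'
  have comm : mvφ q N₁ ≫ b = φ ≫ mvφ q N₂ := by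
    apply biprod.hom_ext
    · rw [Category.assoc, Category.assoc, biprod.map_fst, biprod.lift_fst, biprod.lift_fst_assoc]
      exact hJ.symm
    · rw [Category.assoc, Category.assoc, biprod.map_snd, biprod.lift_snd, biprod.lift_snd_assoc]
      exact hF.symm
  have hfl : q.fls.Additive := q.adjF.right_adjoint_additive
  have comm2 : mvψ q N₁ ≫ q.fls.map (q.fst.map (q.jls.map (q.jst.map φ))) = b ≫ mvψ q N₂ := by
    apply biprod.hom_ext'
    · simp only [b, mvψ, biprod.inl_desc_assoc, biprod.inl_map_assoc, biprod.inl_desc]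
      exact hF'.symm
    · simp only [b, mvψ, biprod.inr_desc_assoc, biprod.inr_map_assoc, biprod.inr_desc,
        Preadditive.neg_comp, Preadditive.comp_neg, ← Functor.map_comp, hJ]
  obtain ⟨c, hc1, hc2⟩ : ∃ c : q.fls.obj (q.fst.obj (q.jls.obj (q.jst.obj N₁))) ⟶
      q.fls.obj (q.fst.obj (q.jls.obj (q.jst.obj N₂))),
      mvψ q N₁ ≫ c = b ≫ mvψ q N₂ ∧ d₁ ≫ φ⟦(1 : ℤ)⟧' = c ≫ d₂ :=
    complete_distinguished_triangle_morphism _ _ h₁ h₂ φ b comm
  have h3 : mvψ q N₁ ≫ (c - q.fls.map (q.fst.map (q.jls.map (q.jst.map φ)))) = 0 := by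
    rw [Preadditive.comp_sub, hc1, comm2, sub_self]
  obtain ⟨x, hx⟩ := Triangle.yoneda_exact₃ _ h₁ _ h3
  have h4 : d₁ ≫ x = 0 := comp_eq_zero_of_rorth q hq h₁ (rorth_D q hq _) x
  have h5 : c = q.fls.map (q.fst.map (q.jls.map (q.jst.map φ))) := by
    have : c - q.fls.map (q.fst.map (q.jls.map (q.jst.map φ))) = 0 := hx.trans h4
    exact sub_eq_zero.1 this
  rw [← h5]
  exact hc2

/-- uniqueness of the connecting map. -/
theorem mv_unique (hq : q.IsMV) {N : S}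
    (d d' : q.fls.obj (q.fst.obj (q.jls.obj (q.jst.obj N))) ⟶ N⟦(1 : ℤ)⟧)
    (h : Triangle.mk (mvφ q N) (mvψ q N) d ∈ distTriang S)
    (h' : Triangle.mk (mvφ q N) (mvψ q N) d' ∈ distTriang S) : d = d' := by
  have := mv_natural q hq (𝟙 N) d d' h h'
  simpa using this

lemma bcApp_naturality {M M' : S'} (x : M ⟶ M') :
    q.jst.map (q.fls.map x) ≫ q.bcApp M' = q.bcApp M ≫ q.gls.map (q.jpst.map x) := by
  have h1 := q.adjG.unit.naturality (q.jst.map (q.fls.map x))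
  have h2 := q.e.hom.naturality (q.fls.map x)
  have h3 := q.adjF.counit.naturality x
  dsimp at h1 h2 h3
  simp only [MVSq.bcApp, Category.assoc]
  rw [reassoc_of% h1, ← Functor.map_comp, ← Functor.map_comp, ← Functor.map_comp,
    ← Functor.map_comp, reassoc_of% h2, ← Functor.map_comp, ← Functor.map_comp, h3]

lemma isIso_jst_fls_map (hq : q.IsMV) {M M' : S'} (x : M ⟶ M') (hx : IsIso (q.jpst.map x)) :
    IsIso (q.jst.map (q.fls.map x)) := by
  have := hq.isIso_bcApp M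
  have := hq.isIso_bcApp M'
  have h := bcApp_naturality q x
  have : q.jst.map (q.fls.map x) = q.bcApp M ≫ q.gls.map (q.jpst.map x) ≫ inv (q.bcApp M') := by
    rw [← Category.assoc, ← h, Category.assoc, IsIso.hom_inv_id, Category.comp_id]
  rw [this]
  infer_instance

lemma isIso_jpst_fst_map {N N' : S} (x : N ⟶ N') (hx : IsIso (q.jst.map x)) :
    IsIso (q.jpst.map (q.fst.map x)) := by
  have h := q.e.hom.naturality x
  dsimp at h
  have : q.jpst.map (q.fst.map x) = q.e.inv.app N ≫ q.gst.map (q.jst.map x) ≫ q.e.hom.app N' := by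
    rw [h, Iso.inv_hom_id_app_assoc]
  rw [this]
  infer_instance

lemma isIso_neg' {C : Type u} [Category.{v} C] [Preadditive C] {X Y : C} (f : X ⟶ Y) [IsIso f] :
    IsIso (-f) := ⟨-inv f, by simp, by simp⟩

lemma kequiv_snd {C : Type u} [Category.{v} C] [Preadditive C] [HasBinaryBiproducts C]
    {P : C → Prop} {A B : C} (hA : ROrth P A) : KEquiv P (biprod.snd : A ⊞ B ⟶ B) := by
  intro X hX
  constructor
  · intro x x' hxx
    apply biprod.hom_ext
    · rw [hA X hX (x ≫ biprod.fst), hA X hX (x' ≫ biprod.fst)]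
    · exact hxx
  · intro y
    exact ⟨y ≫ biprod.inr, by simp⟩

/-- existence of the Mayer–Vietoris triangle -/
theorem exists_mv (hq : q.IsMV) (N : S) :
    ∃ d : q.fls.obj (q.fst.obj (q.jls.obj (q.jst.obj N))) ⟶ N⟦(1 : ℤ)⟧,
      Triangle.mk (mvφ q N) (mvψ q N) d ∈ distTriang S := by
  obtain ⟨F, ι, δ, hT⟩ := distinguished_cocone_triangle₁ (mvψ q N)
  obtain ⟨n, hn⟩ : ∃ n : N ⟶ F, mvφ q N = n ≫ ι :=
    Triangle.coyoneda_exact₂ _ hT (mvφ q N) (mvφ_ψ q N)
  have hn_iso : IsIso n := by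
    obtain ⟨Q, qm, r, hQ⟩ := distinguished_cocone_triangle n
    have hA := rorth_jls q (q.jst.obj N)
    have hD := rorth_D q hq (q.jst.obj N)
    have h1 : KEquiv (Ker q) ι := KEquiv.of_rorth (ker_shift q) _ hT hD
    have h2 : KEquiv (Ker q) (biprod.snd :
        q.jls.obj (q.jst.obj N) ⊞ q.fls.obj (q.fst.obj N) ⟶ _) := kequiv_snd hA
    have h3 : KEquiv (Ker q) (n ≫ ι ≫ biprod.snd) := by
      have : n ≫ ι ≫ biprod.snd = q.adjF.unit.app N := by
        rw [← Category.assoc, ← hn, biprod.lift_snd]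
      rw [this]
      exact kequiv_unitF q hq N
    have h4 : KEquiv (Ker q) n := KEquiv.of_comp_right (h1.comp h2) h3
    have hQ1 : ROrth (Ker q) Q := ROrth.of_kequiv (ker_shift q) _ hQ h4
    have hjn : IsIso (q.jst.map n) := by
      have hw : IsIso (q.jst.map (q.fls.map (q.fst.map (q.adjJ.unit.app N)))) :=
        isIso_jst_fls_map q hq _ (isIso_jpst_fst_map q _ (isIso_jst_unit q hq N))
      have hfl : q.fls.Additive := q.adjF.right_adjoint_additive
      have e1 : q.jst.map (biprod.inl : q.jls.obj (q.jst.obj N) ⟶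
          q.jls.obj (q.jst.obj N) ⊞ q.fls.obj (q.fst.obj N)) ≫ q.jst.map biprod.fst = 𝟙 _ := by
        rw [← CategoryTheory.Functor.map_comp, biprod.inl_fst, CategoryTheory.Functor.map_id]
      have e2 : q.jst.map (biprod.inr : q.fls.obj (q.fst.obj N) ⟶
          q.jls.obj (q.jst.obj N) ⊞ q.fls.obj (q.fst.obj N)) ≫ q.jst.map biprod.fst = 0 := by
        rw [← CategoryTheory.Functor.map_comp, biprod.inr_fst, Functor.map_zero]
      have e3 : q.jst.map (biprod.fst : q.jls.obj (q.jst.obj N) ⊞ q.fls.obj (q.fst.obj N) ⟶ _) ≫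
          q.jst.map biprod.inl + q.jst.map biprod.snd ≫ q.jst.map biprod.inr = 𝟙 _ := by
        rw [← CategoryTheory.Functor.map_comp, ← CategoryTheory.Functor.map_comp,
          ← Functor.map_add, biprod.total, CategoryTheory.Functor.map_id]
      have e4 : IsIso (q.jst.map (biprod.inr : q.fls.obj (q.fst.obj N) ⟶
          q.jls.obj (q.jst.obj N) ⊞ q.fls.obj (q.fst.obj N)) ≫ q.jst.map (mvψ q N)) := by
        rw [← CategoryTheory.Functor.map_comp, biprod.inr_desc, Functor.map_neg]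
        exact isIso_neg' _
      have h5 : IsIso (q.jst.map ι ≫ q.jst.map biprod.fst) :=
        isIso_comp_proj_of_isIso (q.jst.mapTriangle.obj _) (q.jst.map_distinguished _ hT)
          (q.jst.map biprod.inl) (q.jst.map biprod.inr) (q.jst.map biprod.fst)
          (q.jst.map biprod.snd) e1 e2 e3 e4
      have h6 : q.jst.map n ≫ (q.jst.map ι ≫ q.jst.map biprod.fst) =
          q.jst.map (q.adjJ.unit.app N) := by
        rw [← CategoryTheory.Functor.map_comp, ← CategoryTheory.Functor.map_comp, ← Category.assoc, ← hn, biprod.lift_fst]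
      have := isIso_jst_unit q hq N
      have : IsIso (q.jst.map n ≫ (q.jst.map ι ≫ q.jst.map biprod.fst)) := by rw [h6]; exact this
      exact IsIso.of_isIso_comp_right _ (q.jst.map ι ≫ q.jst.map biprod.fst)
    have hQ2 : Ker q Q := Triangle.isZero₃_of_isIso₁ _ (q.jst.map_distinguished _ hQ) hjn
    have hQ0 : IsZero Q := by
      rw [IsZero.iff_id_eq_zero]; exact hQ1 Q hQ2 (𝟙 Q)
    exact (Triangle.isZero₃_iff_isIso₁ _ hQ).1 hQ0
  let en : N ≅ F := asIso n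
  refine ⟨δ ≫ en.inv⟦(1 : ℤ)⟧', isomorphic_distinguished _ hT _
    (Triangle.isoMk _ _ en (Iso.refl _) (Iso.refl _) ?_ ?_ ?_)⟩
  · show mvφ q N ≫ 𝟙 _ = n ≫ ι
    rw [Category.comp_id, hn]
  · show mvψ q N ≫ 𝟙 _ = 𝟙 _ ≫ mvψ q N
    rw [Category.comp_id, Category.id_comp]
  · show (δ ≫ en.inv⟦(1 : ℤ)⟧') ≫ en.hom⟦(1 : ℤ)⟧' = 𝟙 _ ≫ δ
    rw [Category.assoc, ← CategoryTheory.Functor.map_comp, en.inv_hom_id,
      CategoryTheory.Functor.map_id, Category.comp_id, Category.id_comp]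

end MVTri

end Groth.Agent.Lib.Helper32.MVSq
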