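import Mathlib
import Groth.Agent.Lib.Helper32.MVSqTri
import Groth.Agent.Lib.Helper32.MVSqAlg
import Groth.Agent.Lib.Helper32.MVSqGood

set_option autoImplicit false
set_option linter.unusedSectionVars false
universe v u
open CategoryTheory CategoryTheory.Limits CategoryTheory.Pretriangulated
open W4c3perfectstacks W4c3perfectstacks.MVSq

namespace Groth.Agent.Lib.Helper32.MVSq

section AddEquivs

variable {C : Type u} [Category.{v} C] [Preadditive C]

/-- postcomposition with an isomorphism, as an additive equivalence -/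
def postcompAddEquiv (X : C) {A B : C} (e : A ≅ B) : (X ⟶ A) ≃+ (X ⟶ B) where
  toFun w := w ≫ e.hom
  invFun w := w ≫ e.inv
  left_inv w := by simp
  right_inv w := by simp
  map_add' w w' := by simp

/-- precomposition with an isomorphism, as an additive equivalence -/
def precompAddEquiv (X : C) {A B : C} (e : A ≅ B) : (B ⟶ X) ≃+ (A ⟶ X) where
  toFun w := e.hom ≫ w
  invFun w := e.inv ≫ w
  left_inv w := by simp
  right_inv w := by simp
  map_add' w w' := by simp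

end AddEquivs

section GoodBiprod

variable {C : Type u} [Category.{v} C] [Preadditive C] [HasCoproducts.{v} C]
  {E : Type u} [Category.{v} E] [Preadditive E]

omit [HasCoproducts.{v} C] in
lemma rightComp_apply' {P Q Q' : E} (g : Q ⟶ Q') (f : P ⟶ Q) :
    Preadditive.rightComp P g f = f ≫ g := rfl

lemma compMap_map_natTrans (K : E) {G G' : C ⥤ E} (τ : G ⟶ G') {ι : Type v} (X : ι → C)
    (z : DirectSum ι (fun i => K ⟶ G.obj (X i))) :
    compMap K G' X (DirectSum.map (fun i => Preadditive.rightComp K (τ.app (X i))) z) =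
      compMap K G X z ≫ τ.app (∐ X) := by
  classical
  have : (compMap K G' X).comp (DirectSum.map (fun i => Preadditive.rightComp K (τ.app (X i)))) =
      (Preadditive.rightComp K (τ.app (∐ X))).comp (compMap K G X) := by
    apply DirectSum.addHom_ext
    intro i w
    simp only [AddMonoidHom.comp_apply, DirectSum.map_of, compMap, DirectSum.toAddMonoid_of,
      rightComp_apply', Category.assoc, τ.naturality]
  exact DFunLike.congr_fun this z

lemma good_biprod (K : E) {G₁ G₂ G : C ⥤ E} (pr₁ : G ⟶ G₁) (pr₂ : G ⟶ G₂) (in₁ : G₁ ⟶ G)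
    (in₂ : G₂ ⟶ G) (htot : ∀ Y, pr₁.app Y ≫ in₁.app Y + pr₂.app Y ≫ in₂.app Y = 𝟙 (G.obj Y))
    (h₁ : Good K G₁) (h₂ : Good K G₂) : Good K G := by
  classical
  intro ι X
  constructor
  · rw [injective_iff_map_eq_zero]
    intro z hz
    have hz1 : DirectSum.map (fun i => Preadditive.rightComp K (pr₁.app (X i))) z = 0 := by
      apply (h₁ ι X).1
      rw [compMap_map_natTrans, hz, zero_comp, map_zero]
    have hz2 : DirectSum.map (fun i => Preadditive.rightComp K (pr₂.app (X i))) z = 0 := by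
      apply (h₂ ι X).1
      rw [compMap_map_natTrans, hz, zero_comp, map_zero]
    ext i
    have e1 : z i ≫ pr₁.app (X i) = 0 := by
      have := DFunLike.congr_fun hz1 i
      rw [DirectSum.map_apply] at this
      exact this
    have e2 : z i ≫ pr₂.app (X i) = 0 := by
      have := DFunLike.congr_fun hz2 i
      rw [DirectSum.map_apply] at this
      exact this
    show z i = 0
    have : z i = z i ≫ (pr₁.app (X i) ≫ in₁.app (X i) + pr₂.app (X i) ≫ in₂.app (X i)) := by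
      rw [htot, Category.comp_id]
    rw [this, Preadditive.comp_add, ← Category.assoc, ← Category.assoc, e1, e2, zero_comp,
      zero_comp, add_zero]
  · intro w
    obtain ⟨x₁, hx₁⟩ := (h₁ ι X).2 (w ≫ pr₁.app (∐ X))
    obtain ⟨x₂, hx₂⟩ := (h₂ ι X).2 (w ≫ pr₂.app (∐ X))
    refine ⟨DirectSum.map (fun i => Preadditive.rightComp K (in₁.app (X i))) x₁ +
      DirectSum.map (fun i => Preadditive.rightComp K (in₂.app (X i))) x₂, ?_⟩
    rw [map_add, compMap_map_natTrans, compMap_map_natTrans, hx₁, hx₂, Category.assoc,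
      Category.assoc, ← Preadditive.comp_add, htot, Category.comp_id]

end GoodBiprod

section MVGood

variable {S S' R R' : Type u} [Category.{v} S] [Category.{v} S'] [Category.{v} R] [Category.{v} R']
    [Preadditive S] [Preadditive S'] [Preadditive R] [Preadditive R']
    [HasZeroObject S] [HasZeroObject S'] [HasZeroObject R] [HasZeroObject R']
    [HasShift S ℤ] [HasShift S' ℤ] [HasShift R ℤ] [HasShift R' ℤ]
    [∀ n : ℤ, (shiftFunctor S n).Additive] [∀ n : ℤ, (shiftFunctor S' n).Additive]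
    [∀ n : ℤ, (shiftFunctor R n).Additive] [∀ n : ℤ, (shiftFunctor R' n).Additive]
    [Pretriangulated S] [Pretriangulated S'] [Pretriangulated R] [Pretriangulated R']
    (q : W4c3perfectstacks.MVSq S S' R R')
    [q.jst.CommShift ℤ] [q.fst.CommShift ℤ] [q.jpst.CommShift ℤ] [q.gst.CommShift ℤ]
    [q.jst.IsTriangulated] [q.fst.IsTriangulated] [q.jpst.IsTriangulated] [q.gst.IsTriangulated]
    [HasCoproducts.{v} S] [HasCoproducts.{v} S'] [HasCoproducts.{v} R] [HasCoproducts.{v} R']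

lemma bc2App_naturality {P P' : R} (p : P ⟶ P') :
    q.fst.map (q.jls.map p) ≫ q.bc2App P' = q.bc2App P ≫ q.jpls.map (q.gst.map p) := by
  have h1 := q.adjJp.unit.naturality (q.fst.map (q.jls.map p))
  have h2 := q.e.inv.naturality (q.jls.map p)
  have h3 := q.adjJ.counit.naturality p
  dsimp at h1 h2 h3
  simp only [MVSq.bc2App, Category.assoc]
  rw [reassoc_of% h1, ← CategoryTheory.Functor.map_comp, ← CategoryTheory.Functor.map_comp,
    ← CategoryTheory.Functor.map_comp, ← CategoryTheory.Functor.map_comp, reassoc_of% h2,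
    ← CategoryTheory.Functor.map_comp, ← CategoryTheory.Functor.map_comp, h3]

lemma good_A (K : S) (hJ : CohDer.IsCompactObject (q.jst.obj K)) : Good K (q.jst ⋙ q.jls) := by
  have := q.adjJ.leftAdjoint_preservesColimits
  have : ∀ ι : Type v, PreservesColimitsOfShape (Discrete ι) q.jst := fun ι => inferInstance
  exact good_of_addEquiv K (q.jst ⋙ q.jls) (q.jst.obj K) q.jst
    (fun Y => (q.adjJ.homAddEquiv K (q.jst.obj Y)).symm)
    (fun y w => q.adjJ.homEquiv_naturality_right_symm w (q.jst.map y)) hJ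

lemma good_B (K : S) (hF : CohDer.IsCompactObject (q.fst.obj K)) : Good K (q.fst ⋙ q.fls) := by
  have := q.adjF.leftAdjoint_preservesColimits
  have : ∀ ι : Type v, PreservesColimitsOfShape (Discrete ι) q.fst := fun ι => inferInstance
  exact good_of_addEquiv K (q.fst ⋙ q.fls) (q.fst.obj K) q.fst
    (fun Y => (q.adjF.homAddEquiv K (q.fst.obj Y)).symm)
    (fun y w => q.adjF.homEquiv_naturality_right_symm w (q.fst.map y)) hF

/-- the functor `f_* f^* j_* j^*` -/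
abbrev Dfun : S ⥤ S := q.jst ⋙ q.jls ⋙ q.fst ⋙ q.fls

lemma good_D (hq : q.IsMV) (K : S) (hG : CohDer.IsCompactObject (q.gst.obj (q.jst.obj K))) :
    Good K (Dfun q) := by
  have := q.adjJ.leftAdjoint_preservesColimits
  have := q.adjG.leftAdjoint_preservesColimits
  have : ∀ ι : Type v, PreservesColimitsOfShape (Discrete ι) (q.jst ⋙ q.gst) :=
    fun ι => inferInstance
  have hbc := hq.isIso_bc2App
  let θ : ∀ Y : S, (K ⟶ (Dfun q).obj Y) ≃+ (q.gst.obj (q.jst.obj K) ⟶ (q.jst ⋙ q.gst).obj Y) :=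
    fun Y => (((q.adjF.homAddEquiv K (q.fst.obj (q.jls.obj (q.jst.obj Y)))).symm.trans
      (postcompAddEquiv (q.fst.obj K) (asIso (q.bc2App (q.jst.obj Y))))).trans
      (q.adjJp.homAddEquiv (q.fst.obj K) (q.gst.obj (q.jst.obj Y))).symm).trans
      (precompAddEquiv _ (q.e.app K))
  refine good_of_addEquiv K (Dfun q) (q.gst.obj (q.jst.obj K)) (q.jst ⋙ q.gst) θ ?_ hG
  intro Y Y' y w
  show (q.e.app K).hom ≫ (q.adjJp.homEquiv _ _).symm
      (((q.adjF.homEquiv _ _).symm (w ≫ (Dfun q).map y)) ≫ q.bc2App (q.jst.obj Y')) =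
    ((q.e.app K).hom ≫ (q.adjJp.homEquiv _ _).symm
      (((q.adjF.homEquiv _ _).symm w) ≫ q.bc2App (q.jst.obj Y))) ≫ q.gst.map (q.jst.map y)
  have e1 : (q.adjF.homEquiv _ _).symm (w ≫ (Dfun q).map y) =
      (q.adjF.homEquiv _ _).symm w ≫ q.fst.map (q.jls.map (q.jst.map y)) :=
    q.adjF.homEquiv_naturality_right_symm w _
  rw [e1, Category.assoc, bc2App_naturality, ← Category.assoc,
    q.adjJp.homEquiv_naturality_right_symm, Category.assoc]

/-- the functor `Y ↦ j_* j^* Y ⊞ f_* f^* Y` -/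
noncomputable def ABfun : S ⥤ S where
  obj Y := q.jls.obj (q.jst.obj Y) ⊞ q.fls.obj (q.fst.obj Y)
  map y := biprod.map (q.jls.map (q.jst.map y)) (q.fls.map (q.fst.map y))
  map_id Y := by
    apply biprod.hom_ext <;> simp
  map_comp y y' := by
    apply biprod.hom_ext <;> simp

lemma good_AB (K : S) (hJ : CohDer.IsCompactObject (q.jst.obj K))
    (hF : CohDer.IsCompactObject (q.fst.obj K)) : Good K (ABfun q) := by
  let pr₁ : ABfun q ⟶ q.jst ⋙ q.jls :=
    { app := fun Y => biprod.fst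
      naturality := (by intro Y Y' y; simp [ABfun]) }
  let pr₂ : ABfun q ⟶ q.fst ⋙ q.fls :=
    { app := fun Y => biprod.snd
      naturality := (by intro Y Y' y; simp [ABfun]) }
  let in₁ : q.jst ⋙ q.jls ⟶ ABfun q :=
    { app := fun Y => biprod.inl
      naturality := (by intro Y Y' y; simp [ABfun]) }
  let in₂ : q.fst ⋙ q.fls ⟶ ABfun q :=
    { app := fun Y => biprod.inr
      naturality := (by intro Y Y' y; simp [ABfun]) }
  exact good_biprod K pr₁ pr₂ in₁ in₂ (fun Y => biprod.total) (good_A q K hJ) (good_B q K hF)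

/-- `A Y ⊞ B Y` -/
noncomputable abbrev ABobj (Y : S) : S := q.jls.obj (q.jst.obj Y) ⊞ q.fls.obj (q.fst.obj Y)
/-- `D Y` -/
abbrev Dobj (Y : S) : S := q.fls.obj (q.fst.obj (q.jls.obj (q.jst.obj Y)))
/-- `AB` on maps -/
noncomputable abbrev ABmap {Y Y' : S} (y : Y ⟶ Y') : ABobj q Y ⟶ ABobj q Y' :=
  biprod.map (q.jls.map (q.jst.map y)) (q.fls.map (q.fst.map y))
/-- `D` on maps -/
abbrev Dmap {Y Y' : S} (y : Y ⟶ Y') : Dobj q Y ⟶ Dobj q Y' :=
  q.fls.map (q.fst.map (q.jls.map (q.jst.map y)))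

lemma mvψ_naturality {Y Y' : S} (y : Y ⟶ Y') :
    mvψ q Y ≫ Dmap q y = ABmap q y ≫ mvψ q Y' := by
  have hfl : q.fls.Additive := q.adjF.right_adjoint_additive
  have hJ := q.adjJ.unit.naturality y
  have hF' := q.adjF.unit.naturality (q.jls.map (q.jst.map y))
  dsimp at hJ hF'
  apply biprod.hom_ext'
  · simp only [ABmap, Dmap, mvψ, biprod.inl_desc_assoc, biprod.inl_map_assoc, biprod.inl_desc]
    exact hF'.symm
  · simp only [ABmap, Dmap, mvψ, biprod.inr_desc_assoc, biprod.inr_map_assoc, biprod.inr_desc,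
      Preadditive.neg_comp, Preadditive.comp_neg,
      ← CategoryTheory.Functor.map_comp, hJ]

lemma mvφ_naturality {Y Y' : S} (y : Y ⟶ Y') :
    mvφ q Y ≫ ABmap q y = y ≫ mvφ q Y' := by
  have hJ := q.adjJ.unit.naturality y
  have hF := q.adjF.unit.naturality y
  dsimp at hJ hF
  apply biprod.hom_ext
  · simp only [ABmap, mvφ, Category.assoc, biprod.map_fst, biprod.lift_fst, biprod.lift_fst_assoc]
    exact hJ.symm
  · simp only [ABmap, mvφ, Category.assoc, biprod.map_snd, biprod.lift_snd, biprod.lift_snd_assoc]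
    exact hF.symm

/-- S16411 -/
theorem compact_of_pullbacks (hq : q.IsMV) (N : S)
    (hU : CohDer.IsCompactObject (q.jst.obj N)) (hX' : CohDer.IsCompactObject (q.fst.obj N))
    (hU' : CohDer.IsCompactObject (q.gst.obj (q.jst.obj N))) : CohDer.IsCompactObject N := by
  classical
  intro ι X
  have hU1 : CohDer.IsCompactObject (q.jst.obj (N⟦(1 : ℤ)⟧)) :=
    compact_of_iso ((q.jst.commShiftIso (1 : ℤ)).app N).symm (compact_shift hU 1)
  have hX1 : CohDer.IsCompactObject (q.fst.obj (N⟦(1 : ℤ)⟧)) :=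
    compact_of_iso ((q.fst.commShiftIso (1 : ℤ)).app N).symm (compact_shift hX' 1)
  have hU'1 : CohDer.IsCompactObject (q.gst.obj (q.jst.obj (N⟦(1 : ℤ)⟧))) :=
    compact_of_iso ((q.gst.mapIso ((q.jst.commShiftIso (1 : ℤ)).app N)) ≪≫
      ((q.gst.commShiftIso (1 : ℤ)).app (q.jst.obj N))).symm (compact_shift hU' 1)
  -- connecting maps
  choose d hd using exists_mv q hq
  have hψd : ∀ Y, mvψ q Y ≫ d Y = 0 := fun Y => comp_distTriang_mor_zero₂₃ _ (hd Y)
  have hdφ : ∀ Y, d Y ≫ (mvφ q Y)⟦(1 : ℤ)⟧' = 0 := fun Y => comp_distTriang_mor_zero₃₁ _ (hd Y)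
  have hE3 : ∀ (Y : S) (u : N⟦(1 : ℤ)⟧ ⟶ Dobj q Y), u ≫ d Y = 0 →
      ∃ w : N⟦(1 : ℤ)⟧ ⟶ ABobj q Y, u = w ≫ mvψ q Y :=
    fun Y u h => Triangle.coyoneda_exact₃ _ (hd Y) u h
  have hE1 : ∀ (Y : S) (v : N⟦(1 : ℤ)⟧ ⟶ Y⟦(1 : ℤ)⟧), v ≫ (mvφ q Y)⟦(1 : ℤ)⟧' = 0 →
      ∃ u : N⟦(1 : ℤ)⟧ ⟶ Dobj q Y, v = u ≫ d Y :=
    fun Y v h => Triangle.coyoneda_exact₁ _ (hd Y) v h
  have hE2 : ∀ (Y : S) (w : N ⟶ ABobj q Y), w ≫ mvψ q Y = 0 → ∃ v : N ⟶ Y, w = v ≫ mvφ q Y :=
    fun Y w h => Triangle.coyoneda_exact₂ _ (hd Y) w h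
  let sh : ∀ Y : S, (N ⟶ Y) ≃+ (N⟦(1 : ℤ)⟧ ⟶ Y⟦(1 : ℤ)⟧) := fun Y =>
    AddEquiv.ofBijective ((shiftFunctor S (1 : ℤ)).mapAddHom)
      ⟨(shiftFunctor S (1 : ℤ)).map_injective, (shiftFunctor S (1 : ℤ)).map_surjective⟩
  have hsh : ∀ (Y : S) (v : N ⟶ Y), sh Y v = v⟦(1 : ℤ)⟧' := fun Y v => rfl
  have hsh' : ∀ (Y : S) (u : N⟦(1 : ℤ)⟧ ⟶ Y⟦(1 : ℤ)⟧), ((sh Y).symm u)⟦(1 : ℤ)⟧' = u := fun Y u => by
    rw [← hsh, AddEquiv.apply_symm_apply]
  let f₁ : ∀ Y : S, (N⟦(1 : ℤ)⟧ ⟶ ABobj q Y) →+ (N⟦(1 : ℤ)⟧ ⟶ Dobj q Y) :=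
    fun Y => Preadditive.rightComp _ (mvψ q Y)
  let f₂ : ∀ Y : S, (N⟦(1 : ℤ)⟧ ⟶ Dobj q Y) →+ (N ⟶ Y) :=
    fun Y => (sh Y).symm.toAddMonoidHom.comp (Preadditive.rightComp _ (d Y))
  let f₃ : ∀ Y : S, (N ⟶ Y) →+ (N ⟶ ABobj q Y) :=
    fun Y => Preadditive.rightComp _ (mvφ q Y)
  let f₄ : ∀ Y : S, (N ⟶ ABobj q Y) →+ (N ⟶ Dobj q Y) :=
    fun Y => Preadditive.rightComp _ (mvψ q Y)
  have hf₁ : ∀ (Y : S) (w : N⟦(1 : ℤ)⟧ ⟶ ABobj q Y), f₁ Y w = w ≫ mvψ q Y := fun Y w => rfl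
  have hf₃ : ∀ (Y : S) (v : N ⟶ Y), f₃ Y v = v ≫ mvφ q Y := fun Y w => rfl
  have hf₄ : ∀ (Y : S) (w : N ⟶ ABobj q Y), f₄ Y w = w ≫ mvψ q Y := fun Y w => rfl
  have hf₂ : ∀ (Y : S) (u : N⟦(1 : ℤ)⟧ ⟶ Dobj q Y), (f₂ Y u)⟦(1 : ℤ)⟧' = u ≫ d Y :=
    fun Y u => hsh' Y _
  -- exactness of the rows
  have ex₁ : ∀ Y, Function.Exact (f₁ Y) (f₂ Y) := by
    intro Y u
    constructor
    · intro hu
      have h0 : u ≫ d Y = 0 := by
        rw [← hf₂, hu, Functor.map_zero]
      obtain ⟨w, hw⟩ := hE3 Y u h0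
      exact ⟨w, hw.symm⟩
    · rintro ⟨w, rfl⟩
      apply (shiftFunctor S (1 : ℤ)).map_injective
      rw [hf₂, Functor.map_zero, hf₁, Category.assoc, hψd, comp_zero]
  have ex₂ : ∀ Y, Function.Exact (f₂ Y) (f₃ Y) := by
    intro Y v
    constructor
    · intro hv
      have hv' : v ≫ mvφ q Y = 0 := hv
      have h0 : v⟦(1 : ℤ)⟧' ≫ (mvφ q Y)⟦(1 : ℤ)⟧' = 0 := by
        rw [← CategoryTheory.Functor.map_comp, hv', Functor.map_zero]
      obtain ⟨u, hu⟩ := hE1 Y _ h0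
      refine ⟨u, ?_⟩
      apply (shiftFunctor S (1 : ℤ)).map_injective
      rw [hf₂]
      exact hu.symm
    · rintro ⟨u, rfl⟩
      rw [hf₃]
      apply (shiftFunctor S (1 : ℤ)).map_injective
      rw [CategoryTheory.Functor.map_comp, hf₂, Functor.map_zero, Category.assoc, hdφ, comp_zero]
  have ex₃ : ∀ Y, Function.Exact (f₃ Y) (f₄ Y) := by
    intro Y w
    constructor
    · intro hw
      have hw' : w ≫ mvψ q Y = 0 := hw
      obtain ⟨v, hv⟩ := hE2 Y w hw'
      exact ⟨v, hv.symm⟩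
    · rintro ⟨v, rfl⟩
      rw [hf₃, hf₄, Category.assoc, mvφ_ψ, comp_zero]
  -- the vertical maps
  have key := bijective_toAddMonoid_of_five
    (fun i => f₁ (X i)) (fun i => f₂ (X i)) (fun i => f₃ (X i)) (fun i => f₄ (X i))
    (f₁ (∐ X)) (f₂ (∐ X)) (f₃ (∐ X)) (f₄ (∐ X))
    (fun i => Preadditive.rightComp _ (ABmap q (Sigma.ι X i)))
    (fun i => Preadditive.rightComp _ (Dmap q (Sigma.ι X i)))
    (fun i => Preadditive.rightComp N (Sigma.ι X i))
    (fun i => Preadditive.rightComp _ (ABmap q (Sigma.ι X i)))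
    (fun i => Preadditive.rightComp _ (Dmap q (Sigma.ι X i)))
    (fun i => by
      apply AddMonoidHom.ext
      intro u
      show (u ≫ ABmap q (Sigma.ι X i)) ≫ mvψ q (∐ X) = (u ≫ mvψ q (X i)) ≫ Dmap q _
      rw [Category.assoc, Category.assoc, mvψ_naturality])
    (fun i => by
      apply AddMonoidHom.ext
      intro u
      show f₂ (∐ X) (u ≫ Dmap q (Sigma.ι X i)) = f₂ (X i) u ≫ Sigma.ι X i
      apply (shiftFunctor S (1 : ℤ)).map_injective
      rw [hf₂, CategoryTheory.Functor.map_comp, hf₂, Category.assoc, Category.assoc]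
      congr 1
      exact (mv_natural q hq (Sigma.ι X i) (d (X i)) (d (∐ X)) (hd _) (hd _)).symm)
    (fun i => by
      apply AddMonoidHom.ext
      intro v
      show (v ≫ Sigma.ι X i) ≫ mvφ q (∐ X) = (v ≫ mvφ q (X i)) ≫ ABmap q _
      rw [Category.assoc, Category.assoc, mvφ_naturality])
    (fun i => by
      apply AddMonoidHom.ext
      intro u
      show (u ≫ ABmap q (Sigma.ι X i)) ≫ mvψ q (∐ X) = (u ≫ mvψ q (X i)) ≫ Dmap q _
      rw [Category.assoc, Category.assoc, mvψ_naturality])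
    (fun i => ex₁ _) (fun i => ex₂ _) (fun i => ex₃ _) (ex₁ _) (ex₂ _) (ex₃ _)
    ((good_AB q _ hU1 hX1 ι X).2) (good_D q hq _ hU'1 ι X) (good_AB q _ hU hX' ι X)
    ((good_D q hq _ hU' ι X).1)
  exact key

end MVGood

end Groth.Agent.Lib.Helper32.MVSq
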