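import Mathlib
import Groth.Agent.Lib.Helper32.MVSqTri

set_option autoImplicit false
set_option linter.unusedSectionVars false
universe v u
open CategoryTheory CategoryTheory.Limits CategoryTheory.Pretriangulated
open W4c3perfectstacks W4c3perfectstacks.MVSq

/-!
# Glueing along an MV square (helper32): `glue_isIso_J`, `glue_isIso_F` (S16410).
-/

namespace Groth.Agent.Lib.Helper32.MVSq

section Glue

variable {S S' R R' : Type u} [Category.{v} S] [Category.{v} S'] [Category.{v} R] [Category.{v} R']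
    [Preadditive S] [Preadditive S'] [Preadditive R] [Preadditive R']
    [HasZeroObject S] [HasZeroObject S'] [HasZeroObject R] [HasZeroObject R']
    [HasShift S ℤ] [HasShift S' ℤ] [HasShift R ℤ] [HasShift R' ℤ]
    [∀ n : ℤ, (shiftFunctor S n).Additive] [∀ n : ℤ, (shiftFunctor S' n).Additive]
    [∀ n : ℤ, (shiftFunctor R n).Additive] [∀ n : ℤ, (shiftFunctor R' n).Additive]
    [Pretriangulated S] [Pretriangulated S'] [Pretriangulated R] [Pretriangulated R']
    (q : W4c3perfectstacks.MVSq S S' R R')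
    [q.jst.CommShift ℤ] [q.fst.CommShift ℤ] [q.jpst.CommShift ℤ] [q.gst.CommShift ℤ]
    [q.jst.IsTriangulated] [q.fst.IsTriangulated] [q.jpst.IsTriangulated] [q.gst.IsTriangulated]

lemma isIso_jpst_unit (hq : q.IsMV) (M : S') : IsIso (q.jpst.map (q.adjJp.unit.app M)) := by
  have := hq.isIso_counitJp
  have h := q.adjJp.left_triangle_components M
  have : IsIso (q.jpst.map (q.adjJp.unit.app M) ≫ q.adjJp.counit.app (q.jpst.obj M)) := by
    rw [h]; exact IsIso.id _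
  exact IsIso.of_isIso_comp_right _ (q.adjJp.counit.app (q.jpst.obj M))

/-- S16410, first half. -/
theorem glue_isIso_J (hq : q.IsMV) (NU : R) (N' : S') (δ : q.jpst.obj N' ≅ q.gst.obj NU) (N : S)
    (a : N ⟶ q.jls.obj NU ⊞ q.fls.obj N')
    (d : q.fls.obj (q.jpls.obj (q.gst.obj NU)) ⟶ N⟦(1 : ℤ)⟧)
    (hT : Triangle.mk a
      (biprod.desc (q.adjF.unit.app (q.jls.obj NU) ≫ q.fls.map (q.bc2App NU))
        (-(q.fls.map (q.adjJp.unit.app N' ≫ q.jpls.map δ.hom)))) d ∈ distTriang S) :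
    IsIso (q.jst.map (a ≫ biprod.fst)) ∧
      IsIso ((q.adjJ.homEquiv N NU).symm (a ≫ biprod.fst)) := by
  have hfl : q.fls.Additive := q.adjF.right_adjoint_additive
  set x : N' ⟶ q.jpls.obj (q.gst.obj NU) := q.adjJp.unit.app N' ≫ q.jpls.map δ.hom with hxdef
  have hx : IsIso (q.jpst.map x) := by
    have := isIso_jpst_unit q hq N'
    rw [hxdef, CategoryTheory.Functor.map_comp]
    infer_instance
  have hw : IsIso (q.jst.map (q.fls.map x)) := isIso_jst_fls_map q hq x hx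
  have e1 : q.jst.map (biprod.inl : q.jls.obj NU ⟶ q.jls.obj NU ⊞ q.fls.obj N') ≫
      q.jst.map biprod.fst = 𝟙 _ := by
    rw [← CategoryTheory.Functor.map_comp, biprod.inl_fst, CategoryTheory.Functor.map_id]
  have e2 : q.jst.map (biprod.inr : q.fls.obj N' ⟶ q.jls.obj NU ⊞ q.fls.obj N') ≫
      q.jst.map biprod.fst = 0 := by
    rw [← CategoryTheory.Functor.map_comp, biprod.inr_fst, Functor.map_zero]
  have e3 : q.jst.map (biprod.fst : q.jls.obj NU ⊞ q.fls.obj N' ⟶ _) ≫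
      q.jst.map biprod.inl + q.jst.map biprod.snd ≫ q.jst.map biprod.inr = 𝟙 _ := by
    rw [← CategoryTheory.Functor.map_comp, ← CategoryTheory.Functor.map_comp,
      ← Functor.map_add, biprod.total, CategoryTheory.Functor.map_id]
  have e4 : IsIso (q.jst.map (biprod.inr : q.fls.obj N' ⟶ q.jls.obj NU ⊞ q.fls.obj N') ≫
      q.jst.map (biprod.desc (q.adjF.unit.app (q.jls.obj NU) ≫ q.fls.map (q.bc2App NU))
        (-(q.fls.map x)))) := by
    rw [← CategoryTheory.Functor.map_comp, biprod.inr_desc, Functor.map_neg]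
    exact isIso_neg' _
  have h5 : IsIso (q.jst.map a ≫ q.jst.map biprod.fst) :=
    isIso_comp_proj_of_isIso (q.jst.mapTriangle.obj _) (q.jst.map_distinguished _ hT)
      (q.jst.map biprod.inl) (q.jst.map biprod.inr) (q.jst.map biprod.fst)
      (q.jst.map biprod.snd) e1 e2 e3 e4
  have h6 : IsIso (q.jst.map (a ≫ biprod.fst)) := by
    rw [CategoryTheory.Functor.map_comp]; exact h5
  refine ⟨h6, ?_⟩
  have := hq.isIso_counitJ
  rw [Adjunction.homEquiv_counit]
  infer_instance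

/-- S16410, second half. -/
theorem glue_isIso_F (hq : q.IsMV) (NU : R) (N' : S') (δ : q.jpst.obj N' ≅ q.gst.obj NU) (N : S)
    (a : N ⟶ q.jls.obj NU ⊞ q.fls.obj N')
    (d : q.fls.obj (q.jpls.obj (q.gst.obj NU)) ⟶ N⟦(1 : ℤ)⟧)
    (hT : Triangle.mk a
      (biprod.desc (q.adjF.unit.app (q.jls.obj NU) ≫ q.fls.map (q.bc2App NU))
        (-(q.fls.map (q.adjJp.unit.app N' ≫ q.jpls.map δ.hom)))) d ∈ distTriang S) :
    IsIso ((q.adjF.homEquiv N N').symm (a ≫ biprod.snd)) := by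
  let _ : q.fls.CommShift ℤ := q.adjF.rightAdjointCommShift ℤ
  have : q.adjF.CommShift ℤ := q.adjF.commShift_of_leftAdjoint ℤ
  have : q.fls.IsTriangulated := q.adjF.isTriangulated_rightAdjoint
  have hfl : q.fls.Additive := q.adjF.right_adjoint_additive
  obtain ⟨hj1, hα₁⟩ := glue_isIso_J q hq NU N' δ N a d hT
  obtain ⟨x, hxdef⟩ : ∃ x : N' ⟶ q.jpls.obj (q.gst.obj NU),
      x = q.adjJp.unit.app N' ≫ q.jpls.map δ.hom := ⟨_, rfl⟩
  rw [← hxdef] at hT
  have hx : IsIso (q.jpst.map x) := by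
    have := isIso_jpst_unit q hq N'
    rw [hxdef, CategoryTheory.Functor.map_comp]
    infer_instance
  obtain ⟨a₁, ha₁⟩ : ∃ a₁ : N ⟶ q.jls.obj NU, a₁ = a ≫ biprod.fst := ⟨_, rfl⟩
  obtain ⟨a₂, ha₂⟩ : ∃ a₂ : N ⟶ q.fls.obj N', a₂ = a ≫ biprod.snd := ⟨_, rfl⟩
  rw [← ha₁] at hj1 hα₁
  rw [← ha₂]
  obtain ⟨α₁, hα₁def⟩ : ∃ α₁ : q.jst.obj N ⟶ NU, α₁ = (q.adjJ.homEquiv N NU).symm a₁ := ⟨_, rfl⟩
  obtain ⟨α₂, hα₂def⟩ : ∃ α₂ : q.fst.obj N ⟶ N', α₂ = (q.adjF.homEquiv N N').symm a₂ := ⟨_, rfl⟩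
  rw [← hα₁def] at hα₁
  rw [← hα₂def]
  have hη₁ : q.adjJ.unit.app N ≫ q.jls.map α₁ = a₁ := by
    rw [hα₁def]
    exact (q.adjJ.homEquiv_unit N NU _).symm.trans ((q.adjJ.homEquiv N NU).apply_symm_apply a₁)
  have hη₂ : q.adjF.unit.app N ≫ q.fls.map α₂ = a₂ := by
    rw [hα₂def]
    exact (q.adjF.homEquiv_unit N N' _).symm.trans ((q.adjF.homEquiv N N').apply_symm_apply a₂)
  -- the relation (★)
  have h0 : a₁ ≫ q.adjF.unit.app (q.jls.obj NU) ≫ q.fls.map (q.bc2App NU) = a₂ ≫ q.fls.map x := by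
    have h : a ≫ biprod.desc (q.adjF.unit.app (q.jls.obj NU) ≫ q.fls.map (q.bc2App NU))
        (-(q.fls.map x)) = 0 := comp_distTriang_mor_zero₁₂ _ hT
    have ha : a = biprod.lift a₁ a₂ := by
      apply biprod.hom_ext
      · rw [biprod.lift_fst, ha₁]
      · rw [biprod.lift_snd, ha₂]
    rw [ha, biprod.lift_desc, Preadditive.comp_neg, ← sub_eq_add_neg, sub_eq_zero] at h
    exact h
  have hstar : q.fst.map a₁ ≫ q.bc2App NU = α₂ ≫ x := by
    apply (q.adjF.homEquiv _ _).injective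
    rw [Adjunction.homEquiv_unit, Adjunction.homEquiv_unit, CategoryTheory.Functor.map_comp,
      CategoryTheory.Functor.map_comp, reassoc_of% hη₂, ← h0]
    have := q.adjF.unit.naturality a₁
    dsimp at this
    rw [← Category.assoc, ← this, Category.assoc]
  -- `j'^* α₂` is an isomorphism
  have hjα₂ : IsIso (q.jpst.map α₂) := by
    have h := congrArg (fun t => q.jpst.map t) hstar
    simp only [CategoryTheory.Functor.map_comp] at h
    have i1 : IsIso (q.jpst.map (q.fst.map a₁)) := isIso_jpst_fst_map q a₁ hj1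
    have i2 := hq.isIso_bc2App NU
    have : q.jpst.map α₂ =
        (q.jpst.map (q.fst.map a₁) ≫ q.jpst.map (q.bc2App NU)) ≫ inv (q.jpst.map x) := by
      rw [h, Category.assoc, IsIso.hom_inv_id, Category.comp_id]
    rw [this]
    infer_instance
  -- `f_* α₂` is an isomorphism: compare with the MV triangle of `N`
  obtain ⟨dMV, hMV⟩ := exists_mv q hq N
  let m : q.jls.obj (q.jst.obj N) ⊞ q.fls.obj (q.fst.obj N) ⟶ q.jls.obj NU ⊞ q.fls.obj N' :=
    biprod.map (q.jls.map α₁) (q.fls.map α₂)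
  let c₀ : q.fls.obj (q.fst.obj (q.jls.obj (q.jst.obj N))) ⟶ q.fls.obj (q.jpls.obj (q.gst.obj NU)) :=
    q.fls.map (q.fst.map (q.jls.map α₁)) ≫ q.fls.map (q.bc2App NU)
  have comm1 : mvφ q N ≫ m = 𝟙 N ≫ a := by
    rw [Category.id_comp]
    apply biprod.hom_ext
    · rw [Category.assoc, biprod.map_fst, biprod.lift_fst_assoc, hη₁, ha₁]
    · rw [Category.assoc, biprod.map_snd, biprod.lift_snd_assoc, hη₂, ha₂]
  have comm2 : mvψ q N ≫ c₀ = m ≫ biprod.desc (q.adjF.unit.app (q.jls.obj NU) ≫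
      q.fls.map (q.bc2App NU)) (-(q.fls.map x)) := by
    apply biprod.hom_ext'
    · rw [biprod.inl_desc_assoc, biprod.inl_map_assoc, biprod.inl_desc]
      have := q.adjF.unit.naturality (q.jls.map α₁)
      dsimp at this
      rw [← Category.assoc, ← this, Category.assoc]
    · rw [biprod.inr_desc_assoc, biprod.inr_map_assoc, biprod.inr_desc, Preadditive.neg_comp,
        Preadditive.comp_neg, ← CategoryTheory.Functor.map_comp, ← hstar]
      simp only [c₀, ← hη₁, CategoryTheory.Functor.map_comp, Category.assoc]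
  obtain ⟨c, hc1, hc2⟩ : ∃ c : q.fls.obj (q.fst.obj (q.jls.obj (q.jst.obj N))) ⟶
      q.fls.obj (q.jpls.obj (q.gst.obj NU)),
      mvψ q N ≫ c = m ≫ biprod.desc (q.adjF.unit.app (q.jls.obj NU) ≫
        q.fls.map (q.bc2App NU)) (-(q.fls.map x)) ∧ dMV ≫ (𝟙 N)⟦(1 : ℤ)⟧' = c ≫ d :=
    complete_distinguished_triangle_morphism _ _ hMV hT (𝟙 N) m comm1
  have hc : c = c₀ := by
    have h3 : mvψ q N ≫ (c - c₀) = 0 := by
      rw [Preadditive.comp_sub, hc1, comm2, sub_self]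
    obtain ⟨y, hy⟩ := Triangle.yoneda_exact₃ _ hMV _ h3
    have h4 : dMV ≫ y = 0 := comp_eq_zero_of_rorth q hq hMV (rorth_fls_jpls q _) y
    exact sub_eq_zero.1 (hy.trans h4)
  subst hc
  let Φ : Triangle.mk (mvφ q N) (mvψ q N) dMV ⟶ Triangle.mk a
      (biprod.desc (q.adjF.unit.app (q.jls.obj NU) ≫ q.fls.map (q.bc2App NU))
        (-(q.fls.map x))) d :=
    { hom₁ := 𝟙 N, hom₂ := m, hom₃ := c₀, comm₁ := comm1, comm₂ := hc1, comm₃ := hc2 }
  have hc₀ : IsIso c₀ := by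
    have := hq.isIso_bc2App NU
    dsimp only [c₀]
    infer_instance
  have hm : IsIso m := isIso₂_of_isIso₁₃ Φ hMV hT (IsIso.id N) hc₀
  have hfα₂ : IsIso (q.fls.map α₂) := by
    refine ⟨biprod.inr ≫ inv m ≫ biprod.snd, ?_, ?_⟩
    · have : q.fls.map α₂ ≫ biprod.inr = biprod.inr ≫ m := by simp [m]
      rw [reassoc_of% this, IsIso.hom_inv_id_assoc, biprod.inr_snd]
    · have : biprod.snd ≫ q.fls.map α₂ = m ≫ biprod.snd := by simp [m]
      rw [Category.assoc, Category.assoc, this, IsIso.inv_hom_id_assoc, biprod.inr_snd]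
  obtain ⟨Z, z1, z2, hZ⟩ := distinguished_cocone_triangle α₂
  have hZ1 : IsZero (q.jpst.obj Z) :=
    Triangle.isZero₃_of_isIso₁ _ (q.jpst.map_distinguished _ hZ) hjα₂
  have hZ2 : IsZero (q.fls.obj Z) :=
    Triangle.isZero₃_of_isIso₁ _ (q.fls.map_distinguished _ hZ) hfα₂
  have := hq.isIso_counitF Z hZ1
  have hZ0 : IsZero Z := IsZero.of_iso (q.fst.map_isZero hZ2) (asIso (q.adjF.counit.app Z)).symm
  exact (Triangle.isZero₃_iff_isIso₁ _ hZ).1 hZ0

end Glue

end Groth.Agent.Lib.Helper32.MVSq
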