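import Mathlib
import Groth.Prelude.Def_W4c5suslinpi1abAdj

set_option autoImplicit false
universe v u
open CategoryTheory MonoidalCategory Functor.LaxMonoidal Functor.OplaxMonoidal
open W4c5suslinpi1ab

namespace Groth.Agent.Lib.Helper32.MonAdj

variable {C : Type u} [Category.{v} C] [MonoidalCategory C]
variable {D : Type u} [Category.{v} D] [MonoidalCategory D]

lemma projR_adj {L : C ⥤ D} {R : D ⥤ C} (adj : L ⊣ R) [L.OplaxMonoidal] [R.LaxMonoidal]
    [adj.IsMonoidal] (A : D) (B : C) :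
    L.map (projR adj A B) ≫ adj.counit.app _ = δ L (R.obj A) B ≫ (adj.counit.app A ▷ L.obj B) := by
  dsimp only [projR]
  have h := δ_natural_right L (R.obj A) (adj.unit.app B)
  dsimp at h
  rw [Functor.map_comp, Category.assoc, adj.map_μ_comp_counit_app_tensor, ← reassoc_of% h,
    tensorHom_def', ← MonoidalCategory.whiskerLeft_comp_assoc]
  simp

lemma projL_adj {L : C ⥤ D} {R : D ⥤ C} (adj : L ⊣ R) [L.OplaxMonoidal] [R.LaxMonoidal]
    [adj.IsMonoidal] (A : C) (B : D) :
    L.map (projL adj A B) ≫ adj.counit.app _ = δ L A (R.obj B) ≫ (L.obj A ◁ adj.counit.app B) := by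
  dsimp only [projL]
  have h := δ_natural_left L (adj.unit.app A) (R.obj B)
  dsimp at h
  rw [Functor.map_comp, Category.assoc, adj.map_μ_comp_counit_app_tensor, ← reassoc_of% h,
    MonoidalCategory.tensorHom_def, ← MonoidalCategory.comp_whiskerRight_assoc]
  simp

section Square

variable {S₀ : Type u} [Category.{v} S₀] [MonoidalCategory S₀]
variable {Y₁ : Type u} [Category.{v} Y₁] [MonoidalCategory Y₁]
variable {Y₂ : Type u} [Category.{v} Y₂] [MonoidalCategory Y₂]
variable {X : Type u} [Category.{v} X] [MonoidalCategory X]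

theorem S18591 {fL : S₀ ⥤ Y₁} {fR : Y₁ ⥤ S₀} (adjf : fL ⊣ fR) [fL.OplaxMonoidal] [fR.LaxMonoidal]
    [adjf.IsMonoidal] {gR : Y₂ ⥤ S₀}
    {pL : Y₁ ⥤ X} {pR : X ⥤ Y₁} (adjp : pL ⊣ pR) [pL.OplaxMonoidal] [pR.LaxMonoidal]
    [adjp.IsMonoidal] {qL : Y₂ ⥤ X} {qR : X ⥤ Y₂} (adjq : qL ⊣ qR)
    (ν : qR ⋙ gR ⟶ pR ⋙ fR) (A : Y₁) (B : Y₂) :
    ((adjf.comp adjp).homEquiv _ _).symm (W4c5suslinpi1ab.extProd adjf adjp adjq ν A B) =
      δ (fL ⋙ pL) (fR.obj A) (gR.obj B) ≫
        (pL.map (adjf.counit.app A) ⊗ₘ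
          (pL.map ((W4c5suslinpi1ab.bcMor adjf adjq ν).app B) ≫ adjp.counit.app (qL.obj B))) := by
  have h1 := projR_adj adjf A (gR.obj B)
  have h2 := projL_adj adjp A (qL.obj B)
  have h3 : fL.map (extProd adjf adjp adjq ν A B) ≫ adjf.counit.app _ =
      δ fL (fR.obj A) (gR.obj B) ≫ (adjf.counit.app A ▷ fL.obj (gR.obj B)) ≫
        (A ◁ (bcMor adjf adjq ν).app B) ≫ projL adjp A (qL.obj B) := by
    dsimp only [extProd]
    simp only [Functor.map_comp, Category.assoc]
    have n1 := adjf.counit.naturality (projL adjp A (qL.obj B))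
    have n2 := adjf.counit.naturality (A ◁ (bcMor adjf adjq ν).app B)
    dsimp at n1 n2
    rw [n1, reassoc_of% n2, reassoc_of% h1]
  rw [Adjunction.homEquiv_counit]
  rw [Adjunction.comp_counit_app]
  dsimp only [Functor.comp_map, Functor.comp_obj]
  rw [← pL.map_comp_assoc, h3]
  simp only [Functor.map_comp, Category.assoc]
  rw [h2, comp_δ]
  have n3 := δ_natural pL (adjf.counit.app A) ((bcMor adjf adjq ν).app B)
  dsimp at n3
  rw [MonoidalCategory.tensorHom_def (adjf.counit.app A), Functor.map_comp, Category.assoc] at n3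
  simp only [Category.assoc]
  rw [← reassoc_of% n3]
  simp [MonoidalCategory.tensorHom_def]

end Square

end Groth.Agent.Lib.Helper32.MonAdj
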