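import Mathlib
import Groth.Prelude.Def_W4c5suslinpi1abAdj
import Groth.Agent.Lib.Helper32.MonAdj

set_option autoImplicit false
set_option linter.unusedSectionVars false
universe v u
open CategoryTheory MonoidalCategory Functor.LaxMonoidal Functor.OplaxMonoidal
open W4c5suslinpi1ab

namespace Groth.Agent.Lib.Helper32.MonAdj2

variable {C : Type u} [Category.{v} C] [MonoidalCategory C]
variable {D : Type u} [Category.{v} D] [MonoidalCategory D]

section nat

variable {L : C ⥤ D} {R : D ⥤ C} (adj : L ⊣ R) [R.LaxMonoidal]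

lemma projR_nat_right (A : D) {B B' : C} (b : B ⟶ B') :
    (R.obj A ◁ b) ≫ projR adj A B' = projR adj A B ≫ R.map (A ◁ L.map b) := by
  dsimp only [projR]
  have h1 := adj.unit.naturality b
  have h2 := μ_natural_right R A (L.map b)
  dsimp at h1 h2
  rw [Category.assoc, ← h2, ← MonoidalCategory.whiskerLeft_comp_assoc, h1,
    MonoidalCategory.whiskerLeft_comp_assoc]
  try rfl

lemma projR_nat_left {A A' : D} (a : A ⟶ A') (B : C) :
    (R.map a ▷ B) ≫ projR adj A' B = projR adj A B ≫ R.map (a ▷ L.obj B) := by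
  dsimp only [projR]
  have h2 := μ_natural_left R a (L.obj B)
  rw [Category.assoc, ← h2, ← whisker_exchange_assoc]
  try rfl

lemma projL_nat_left {A A' : C} (a : A ⟶ A') (B : D) :
    (a ▷ R.obj B) ≫ projL adj A' B = projL adj A B ≫ R.map (L.map a ▷ B) := by
  dsimp only [projL]
  have h1 := adj.unit.naturality a
  have h2 := μ_natural_left R (L.map a) B
  dsimp at h1 h2
  rw [Category.assoc, ← h2, ← MonoidalCategory.comp_whiskerRight_assoc, h1,
    MonoidalCategory.comp_whiskerRight_assoc]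
  try rfl

lemma projL_nat_right (A : C) {B B' : D} (b : B ⟶ B') :
    (A ◁ R.map b) ≫ projL adj A B' = projL adj A B ≫ R.map (L.obj A ◁ b) := by
  dsimp only [projL]
  have h2 := μ_natural_right R (L.obj A) b
  rw [Category.assoc, ← h2, whisker_exchange_assoc]
  try rfl

variable {S : C ⥤ D} (adj' : R ⊣ S) [∀ (A : D) (B : C), IsIso (projR adj A B)]

lemma cupShriek_nat (A : C) {B B' : C} (b : B ⟶ B') :
    cupShriek adj adj' A B ≫ S.map (A ◁ b) = (S.obj A ◁ L.map b) ≫ cupShriek adj adj' A B' := by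
  dsimp only [cupShriek]
  rw [← Adjunction.homEquiv_naturality_right, ← Adjunction.homEquiv_naturality_left]
  congr 1
  have h := projR_nat_right adj (S.obj A) b
  have h' := whisker_exchange (adj'.counit.app A) b
  dsimp at h'
  rw [Category.assoc, ← h', ← Category.assoc, ← Category.assoc]
  congr 1
  rw [IsIso.inv_comp_eq, ← Category.assoc, ← h, Category.assoc, IsIso.hom_inv_id, Category.comp_id]

lemma cupShriek_symm (A B : C) :
    R.map (cupShriek adj adj' A B) ≫ adj'.counit.app _ =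
      inv (projR adj (S.obj A) B) ≫ (adj'.counit.app A ▷ B) := by
  have h := (adj'.homEquiv _ _).symm_apply_apply
    (inv (projR adj (S.obj A) B) ≫ (adj'.counit.app A ▷ B))
  rw [Adjunction.homEquiv_counit] at h
  exact h

end nat

section Square

variable {S₀ : Type u} [Category.{v} S₀] [MonoidalCategory S₀]
variable {Y₁ : Type u} [Category.{v} Y₁] [MonoidalCategory Y₁]
variable {Y₂ : Type u} [Category.{v} Y₂] [MonoidalCategory Y₂]
variable {X : Type u} [Category.{v} X] [MonoidalCategory X]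
variable {fL : S₀ ⥤ Y₁} {fR : Y₁ ⥤ S₀} (adjf : fL ⊣ fR) [fL.OplaxMonoidal] [fR.LaxMonoidal]
    [adjf.IsMonoidal] {gR : Y₂ ⥤ S₀}
    {pL : Y₁ ⥤ X} {pR : X ⥤ Y₁} (adjp : pL ⊣ pR) [pL.OplaxMonoidal] [pR.LaxMonoidal]
    [adjp.IsMonoidal] {qL : Y₂ ⥤ X} {qR : X ⥤ Y₂} (adjq : qL ⊣ qR)
    (ν : qR ⋙ gR ⟶ pR ⋙ fR)
    {fS : S₀ ⥤ Y₁} (adjf' : fR ⊣ fS) {gS : S₀ ⥤ Y₂} (adjg' : gR ⊣ gS)
    {pS : Y₁ ⥤ X} (adjp' : pR ⊣ pS)
    [∀ (A : Y₁) (B : S₀), IsIso (W4c5suslinpi1ab.projR adjf A B)]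
    [∀ (A : Y₁) (B : X), IsIso (W4c5suslinpi1ab.projL adjp A B)]
    [∀ B : Y₂, IsIso ((W4c5suslinpi1ab.bcMor adjf adjq ν).app B)]

lemma prodShriek_symm (A B : S₀) :
    pR.map (prodShriek adjf adjf' adjg' adjp adjp' adjq ν A B) ≫ adjp'.counit.app _ =
      inv (projL adjp (fS.obj A) (qL.obj (gS.obj B))) ≫
      (fS.obj A ◁ inv ((bcMor adjf adjq ν).app (gS.obj B))) ≫
      cupShriek adjf adjf' A (gR.obj (gS.obj B)) ≫ fS.map (A ◁ adjg'.counit.app B) := by
  have h := (adjp'.homEquiv _ _).symm_apply_apply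
    (inv (projL adjp (fS.obj A) (qL.obj (gS.obj B))) ≫
      (fS.obj A ◁ inv ((bcMor adjf adjq ν).app (gS.obj B))) ≫
      cupShriek adjf adjf' A (gR.obj (gS.obj B)) ≫ fS.map (A ◁ adjg'.counit.app B))
  rw [Adjunction.homEquiv_counit] at h
  exact h

theorem S18593 (A B : S₀) :
    W4c5suslinpi1ab.extProd adjf adjp adjq ν (fS.obj A) (gS.obj B) ≫
      fR.map (pR.map (W4c5suslinpi1ab.prodShriek adjf adjf' adjg' adjp adjp' adjq ν A B)) ≫
        fR.map (adjp'.counit.app (fS.obj (A ⊗ B))) =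
      (fR.obj (fS.obj A) ◁ adjg'.counit.app B) ≫ W4c5suslinpi1ab.projR adjf (fS.obj A) B ≫
        fR.map (W4c5suslinpi1ab.cupShriek adjf adjf' A B) := by
  rw [← fR.map_comp, prodShriek_symm]
  dsimp only [extProd]
  simp only [Category.assoc, ← fR.map_comp]
  rw [IsIso.hom_inv_id_assoc, ← MonoidalCategory.whiskerLeft_comp_assoc, IsIso.hom_inv_id,
    MonoidalCategory.whiskerLeft_id, Category.id_comp, cupShriek_nat]
  have h := projR_nat_right adjf (fS.obj A) (adjg'.counit.app B)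
  rw [reassoc_of% h, ← fR.map_comp]
  rfl

theorem S18592 (A B : S₀) :
    W4c5suslinpi1ab.extProd adjf adjp adjq ν (fS.obj A) (gS.obj B) ≫
      ((adjp'.comp adjf').homEquiv _ _).symm
        (W4c5suslinpi1ab.prodShriek adjf adjf' adjg' adjp adjp' adjq ν A B) =
      (adjf'.counit.app A ⊗ₘ adjg'.counit.app B) := by
  rw [Adjunction.homEquiv_counit, Adjunction.comp_counit_app]
  dsimp only [Functor.comp_map, Functor.comp_obj]
  have h := S18593 adjf adjp adjq ν adjf' adjg' adjp' A B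
  rw [reassoc_of% h, cupShriek_symm, IsIso.hom_inv_id_assoc, MonoidalCategory.tensorHom_def']
  rfl

omit [fL.OplaxMonoidal] [adjf.IsMonoidal] [pL.OplaxMonoidal] [adjp.IsMonoidal] in
lemma extProd_nat {A A' : Y₁} {B B' : Y₂} (a : A ⟶ A') (b : B ⟶ B') :
    (fR.map a ⊗ₘ gR.map b) ≫ extProd adjf adjp adjq ν A' B' =
      extProd adjf adjp adjq ν A B ≫ fR.map (pR.map (pL.map a ⊗ₘ qL.map b)) := by
  dsimp only [extProd]
  have h1 := projR_nat_left adjf a (gR.obj B)
  have h2 := projR_nat_right adjf A' (gR.map b)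
  have h3 := (bcMor adjf adjq ν).naturality b
  have h4 := projL_nat_left adjp a (qL.obj B)
  have h5 := projL_nat_right adjp A' (qL.map b)
  have h6 := whisker_exchange a ((bcMor adjf adjq ν).app B)
  dsimp at h3 h6
  rw [MonoidalCategory.tensorHom_def (fR.map a), MonoidalCategory.tensorHom_def (pL.map a)]
  simp only [Category.assoc, Functor.map_comp]
  rw [reassoc_of% h2, reassoc_of% h1]
  simp only [← fR.map_comp]
  congr 2
  rw [← MonoidalCategory.whiskerLeft_comp_assoc, h3, MonoidalCategory.whiskerLeft_comp_assoc,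
    h5, ← reassoc_of% h6, reassoc_of% h4]

omit [fL.OplaxMonoidal] [adjf.IsMonoidal] [pL.OplaxMonoidal] [adjp.IsMonoidal] in
lemma isIso_extProd (A : Y₁) (B : Y₂) : IsIso (extProd adjf adjp adjq ν A B) := by
  dsimp only [extProd]
  infer_instance

theorem S18594 (A B : S₀) (A' : Y₁) (B' : Y₂) (C' : X)
    (trA : A' ⟶ fS.obj A) (trB : B' ⟶ gS.obj B) (trC : C' ⟶ pS.obj (fS.obj (A ⊗ B)))
    (m : pL.obj A' ⊗ qL.obj B' ⟶ C') :
    ((pL.map trA ⊗ₘ qL.map trB) ≫ W4c5suslinpi1ab.prodShriek adjf adjf' adjg' adjp adjp' adjq ν A B =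
        m ≫ trC) ↔
      (((adjf'.homEquiv _ _).symm trA ⊗ₘ (adjg'.homEquiv _ _).symm trB) =
        W4c5suslinpi1ab.extProd adjf adjp adjq ν A' B' ≫ fR.map (pR.map m) ≫
          ((adjp'.comp adjf').homEquiv _ _).symm trC) := by
  have key : extProd adjf adjp adjq ν A' B' ≫ ((adjp'.comp adjf').homEquiv _ _).symm
      ((pL.map trA ⊗ₘ qL.map trB) ≫ prodShriek adjf adjf' adjg' adjp adjp' adjq ν A B) =
      ((adjf'.homEquiv _ _).symm trA ⊗ₘ (adjg'.homEquiv _ _).symm trB) := by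
    rw [Adjunction.homEquiv_naturality_left_symm]
    dsimp only [Functor.comp_map]
    rw [← reassoc_of% (extProd_nat adjf adjp adjq ν trA trB),
      S18592 adjf adjp adjq ν adjf' adjg' adjp' A B, MonoidalCategory.tensorHom_comp_tensorHom,
      Adjunction.homEquiv_counit, Adjunction.homEquiv_counit]
  have hnat : fR.map (pR.map m) ≫ ((adjp'.comp adjf').homEquiv _ _).symm trC =
      ((adjp'.comp adjf').homEquiv _ _).symm (m ≫ trC) := by
    rw [Adjunction.homEquiv_naturality_left_symm]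
    rfl
  rw [hnat]
  constructor
  · intro h
    rw [← h, key]
  · intro h
    rw [← key] at h
    have := isIso_extProd adjf adjp adjq ν A' B'
    exact ((adjp'.comp adjf').homEquiv _ _).symm.injective ((cancel_epi _).1 h)

end Square

end Groth.Agent.Lib.Helper32.MonAdj2
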