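import Mathlib
import Groth.Agent.Lib.Helper32.SpSeqConv

set_option autoImplicit false
open CategoryTheory CategoryTheory.Limits
universe v u

namespace Groth.Agent.Lib.Helper32.NineSec

open Groth.Agent.Lib.Helper32.SpSeqConv

variable {C : Type u} [Category.{v} C] [Abelian C]

theorem map_factors_iff {X Y T : C} (f : X ⟶ Y) [Mono f] (P : Subobject X) (b : T ⟶ Y) :
    ((Subobject.map f).obj P).Factors b ↔ ∃ z : T ⟶ X, z ≫ f = b ∧ P.Factors z := by
  have hP : (Subobject.map f).obj P = Subobject.mk (P.arrow ≫ f) := by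
    conv_lhs => rw [← Subobject.mk_arrow P]
    exact Subobject.map_mk P.arrow f
  rw [hP, Subobject.mk_factors_iff]
  constructor
  · rintro ⟨u, hu⟩
    exact ⟨u ≫ P.arrow, by rw [Category.assoc]; exact hu, (Subobject.factors_iff _ _).mpr ⟨u, rfl⟩⟩
  · rintro ⟨z, hz, hP⟩
    exact ⟨P.factorThru z hP, by
      show P.factorThru z hP ≫ P.arrow ≫ f = b
      rw [← Category.assoc, Subobject.factorThru_arrow, hz]⟩

theorem image_factors_iff {X Y T : C} (s : X ⟶ Y) (y : T ⟶ Y) :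
    (imageSubobject s).Factors y ↔
      ∃ (T' : C) (π : T' ⟶ T) (_ : Epi π) (x : T' ⟶ X), π ≫ y = x ≫ s := by
  constructor
  · exact exists_of_image_factors s y
  · rintro ⟨T', π, hπ, x, e⟩
    apply factors_of_epi_comp π
    rw [e]
    exact imageSubobject_factors_comp_self s x

section

variable (S : ShortComplex C)

/-- the class in homology of a cycle -/
noncomputable def cl {T : C} (b : T ⟶ S.X₂) (hb : b ≫ S.g = 0) : T ⟶ S.homology :=
  S.liftCycles b hb ≫ S.homologyπ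

theorem comp_cl {T T' : C} (π : T' ⟶ T) (b : T ⟶ S.X₂) (hb : b ≫ S.g = 0) :
    π ≫ cl S b hb = cl S (π ≫ b) (by rw [Category.assoc, hb, comp_zero]) := by
  unfold cl
  rw [← Category.assoc, S.comp_liftCycles]

theorem cl_congr {T : C} {b b' : T ⟶ S.X₂} (e : b = b') (hb : b ≫ S.g = 0) (hb' : b' ≫ S.g = 0) :
    cl S b hb = cl S b' hb' := by
  subst e
  rfl

theorem cl_eq_iff {T : C} (b b' : T ⟶ S.X₂) (hb : b ≫ S.g = 0) (hb' : b' ≫ S.g = 0) :
    cl S b hb = cl S b' hb' ↔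
      ∃ (T' : C) (π : T' ⟶ T) (_ : Epi π) (x : T' ⟶ S.X₁), π ≫ b = π ≫ b' + x ≫ S.f :=
  S.liftCycles_comp_homologyπ_eq_iff_up_to_refinements b b' hb hb'

theorem cl_eq_zero_iff {T : C} (b : T ⟶ S.X₂) (hb : b ≫ S.g = 0) :
    cl S b hb = 0 ↔ ∃ (T' : C) (π : T' ⟶ T) (_ : Epi π) (x : T' ⟶ S.X₁), π ≫ b = x ≫ S.f :=
  S.liftCycles_comp_homologyπ_eq_zero_iff_up_to_refinements b hb

theorem exists_cl {T : C} (k : T ⟶ S.homology) :
    ∃ (T' : C) (π : T' ⟶ T) (_ : Epi π) (b : T' ⟶ S.X₂) (hb : b ≫ S.g = 0),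
      π ≫ k = cl S b hb :=
  S.eq_liftCycles_homologyπ_up_to_refinements k

theorem cl_f : cl S S.f S.zero = 0 := by
  rw [cl_eq_zero_iff]
  exact ⟨_, 𝟙 _, inferInstance, 𝟙 _, by simp⟩

/-- the subobject attached to a map into homology -/
noncomputable def Φ {C₁ : C} (s : C₁ ⟶ S.homology) : Subobject S.X₂ :=
  (Subobject.map S.iCycles).obj ((Subobject.pullback S.homologyπ).obj (imageSubobject s))

theorem Φ_factors_iff {C₁ T : C} (s : C₁ ⟶ S.homology) (b : T ⟶ S.X₂) :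
    (Φ S s).Factors b ↔ ∃ (hb : b ≫ S.g = 0) (T' : C) (π : T' ⟶ T) (_ : Epi π) (c₁ : T' ⟶ C₁),
      π ≫ cl S b hb = c₁ ≫ s := by
  unfold Φ
  rw [map_factors_iff]
  constructor
  · rintro ⟨z, hz, hP⟩
    rw [pullback_factors_iff, image_factors_iff] at hP
    have hb : b ≫ S.g = 0 := by rw [← hz, Category.assoc, S.iCycles_g, comp_zero]
    have hzl : S.liftCycles b hb = z := by
      apply (cancel_mono S.iCycles).mp
      rw [S.liftCycles_i, hz]
    refine ⟨hb, ?_⟩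
    unfold cl
    rw [hzl]
    exact hP
  · rintro ⟨hb, hP⟩
    refine ⟨S.liftCycles b hb, S.liftCycles_i b hb, ?_⟩
    rw [pullback_factors_iff, image_factors_iff]
    exact hP

end

section Main

variable (S : ShortComplex C) {A₂ A₃ C₁ C₂ : C}
  (i₁ : S.X₁ ⟶ A₂) (p₁ : A₂ ⟶ A₃) (wA : i₁ ≫ p₁ = 0)
  (hA : (ShortComplex.mk i₁ p₁ wA).ShortExact)
  (i₂ : A₂ ⟶ S.X₂) (π₂ : S.X₂ ⟶ C₂) (wB : i₂ ≫ π₂ = 0)
  (hB : (ShortComplex.mk i₂ π₂ wB).ShortExact)
  (j : C₁ ⟶ C₂) (q : C₂ ⟶ S.X₃) (wC : j ≫ q = 0)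
  (hC : (ShortComplex.mk j q wC).ShortExact)
  (hSf : S.f = i₁ ≫ i₂) (hSg : S.g = π₂ ≫ q)
  (h₂ : i₂ ≫ S.g = 0) (h₃ : S.f ≫ π₂ = 0)
  (f : A₃ ⟶ S.homology) (g : S.homology ⟶ C₁)
  (hf : p₁ ≫ f = S.liftCycles i₂ h₂ ≫ S.homologyπ)
  (hg : g ≫ j = S.homologyι ≫ S.descOpcycles π₂ h₃)

include hg in
theorem cl_g {T : C} (b : T ⟶ S.X₂) (hb : b ≫ S.g = 0) : cl S b hb ≫ g ≫ j = b ≫ π₂ := by
  unfold cl
  rw [Category.assoc, hg, ← Category.assoc S.homologyπ, S.homology_π_ι, Category.assoc,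
    S.p_descOpcycles, S.liftCycles_i_assoc]

include hf in
theorem cl_f' {T : C} (x : T ⟶ A₂) :
    (x ≫ p₁) ≫ f = cl S (x ≫ i₂) (by rw [Category.assoc, h₂, comp_zero]) := by
  unfold cl
  rw [Category.assoc, hf, ← Category.assoc, S.comp_liftCycles]

include hA hC hf hg wB in
theorem f_g : f ≫ g = 0 := by
  haveI := hA.epi_g
  haveI := hC.mono_f
  dsimp at *
  apply (cancel_epi p₁).mp
  apply (cancel_mono j).mp
  have := cl_f' S p₁ i₂ h₂ f hf (𝟙 A₂)
  rw [Category.id_comp] at this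
  rw [comp_zero, zero_comp, ← Category.assoc, this, Category.assoc,
    cl_g S π₂ j h₃ g hg, Category.id_comp, wB]

include hB hf hg in
/-- `ker g ≤ im f` elementwise -/
theorem exists_of_comp_g_eq_zero {T : C} (k : T ⟶ S.homology) (hk : k ≫ g = 0) :
    ∃ (T' : C) (π : T' ⟶ T) (_ : Epi π) (x : T' ⟶ A₂), π ≫ k = (x ≫ p₁) ≫ f := by
  obtain ⟨T₁, π₁, hπ₁, b, hb, e⟩ := exists_cl S k
  have h0 : b ≫ π₂ = 0 := by
    rw [← cl_g S π₂ j h₃ g hg b hb, ← e, Category.assoc, ← Category.assoc k, hk, zero_comp,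
      comp_zero]
  obtain ⟨T₂, π₂', hπ₂, x, hx⟩ := hB.exact.exact_up_to_refinements b h0
  dsimp at x hx
  haveI : Epi (π₂' ≫ π₁) := epi_comp π₂' π₁
  refine ⟨T₂, π₂' ≫ π₁, inferInstance, x, ?_⟩
  rw [cl_f' S p₁ i₂ h₂ f hf x, Category.assoc, e, comp_cl]
  exact cl_congr S hx _ _

section Backward

variable (s : C₁ ⟶ S.homology) (hs : s ≫ g = 𝟙 C₁)

theorem Φ_arrow_g : (Φ S s).arrow ≫ S.g = 0 :=
  ((Φ_factors_iff S s _).mp (Subobject.factors_self _)).1

/-- the map `Φ s ⟶ H` -/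
noncomputable def κ : ((Φ S s : Subobject S.X₂) : C) ⟶ S.homology :=
  cl S (Φ S s).arrow (Φ_arrow_g S s)

theorem Φ_factors_f : (Φ S s).Factors S.f := by
  rw [Φ_factors_iff]
  refine ⟨S.zero, _, 𝟙 _, inferInstance, 0, ?_⟩
  rw [cl_f, comp_zero, zero_comp]

theorem comp_κ {T : C} (y : T ⟶ ((Φ S s : Subobject S.X₂) : C)) :
    y ≫ κ S s = cl S (y ≫ (Φ S s).arrow) (by rw [Category.assoc, Φ_arrow_g, comp_zero]) := by
  unfold κ
  rw [comp_cl]

include hs in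
/-- elements of `Φ s` have class `s (g [b])` -/
theorem κ_eq : κ S s = (κ S s ≫ g) ≫ s := by
  obtain ⟨hb, T', π, hπ, c₁, e⟩ := (Φ_factors_iff S s _).mp (Subobject.factors_self (Φ S s))
  have e' : π ≫ κ S s = c₁ ≫ s := e
  have hc : c₁ = π ≫ κ S s ≫ g := by
    rw [← Category.assoc, e', Category.assoc, hs, Category.comp_id]
  apply (cancel_epi π).mp
  rw [e', hc]
  simp only [Category.assoc]

end Backward

theorem factors_of_comp_cokernel_π {X T : C} (P : Subobject X) (b : T ⟶ X)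
    (h : b ≫ cokernel.π P.arrow = 0) : P.Factors b := by
  have hex := ShortComplex.exact_cokernel P.arrow
  haveI : Mono (ShortComplex.mk P.arrow (cokernel.π P.arrow) (by simp)).f := by
    dsimp
    infer_instance
  exact (Subobject.factors_iff _ _).mpr ⟨hex.lift b h, hex.lift_f b h⟩

theorem comp_cokernel_π_of_factors {X T : C} (P : Subobject X) (b : T ⟶ X) (h : P.Factors b) :
    b ≫ cokernel.π P.arrow = 0 := by
  rw [← Subobject.factorThru_arrow P b h, Category.assoc, cokernel.condition, comp_zero]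

include hA hB hC hSf hSg hf hg wB in
theorem backward (s : C₁ ⟶ S.homology) (hs : s ≫ g = 𝟙 C₁) :
    ∃ (a : S.X₁ ⟶ ((Φ S s : Subobject S.X₂) : C)) (c : ((Φ S s : Subobject S.X₂) : C) ⟶ C₁)
      (wac : a ≫ c = 0) (a' : A₃ ⟶ cokernel (Φ S s).arrow) (c' : cokernel (Φ S s).arrow ⟶ S.X₃)
      (wac' : a' ≫ c' = 0),
      a ≫ (Φ S s).arrow = S.f ∧ c ≫ j = (Φ S s).arrow ≫ π₂ ∧
        (ShortComplex.mk a c wac).ShortExact ∧
        p₁ ≫ a' = i₂ ≫ cokernel.π (Φ S s).arrow ∧ cokernel.π (Φ S s).arrow ≫ c' = S.g ∧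
        (ShortComplex.mk a' c' wac').ShortExact := by
  have mi₁ : Mono i₁ := hA.mono_f
  have ep₁ : Epi p₁ := hA.epi_g
  have mi₂ : Mono i₂ := hB.mono_f
  have eπ₂ : Epi π₂ := hB.epi_g
  have eq' : Epi q := hC.epi_g
  have hfg := f_g S i₁ p₁ wA hA i₂ π₂ wB j q wC hC h₂ h₃ f g hf hg
  have ha : (Φ S s).factorThru S.f (Φ_factors_f S s) ≫ (Φ S s).arrow = S.f :=
    Subobject.factorThru_arrow _ _ _
  have hc : (κ S s ≫ g) ≫ j = (Φ S s).arrow ≫ π₂ := by
    rw [Category.assoc]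
    exact cl_g S π₂ j h₃ g hg (Φ S s).arrow _
  have hak : (Φ S s).factorThru S.f (Φ_factors_f S s) ≫ κ S s = 0 := by
    rw [comp_κ, cl_congr S ha _ S.zero, cl_f]
  have wac : (Φ S s).factorThru S.f (Φ_factors_f S s) ≫ (κ S s ≫ g) = 0 := by
    rw [← Category.assoc, hak, zero_comp]
  have hB₁g : (Φ S s).arrow ≫ S.g = 0 := Φ_arrow_g S s
  have hc' : cokernel.π (Φ S s).arrow ≫ cokernel.desc (Φ S s).arrow S.g hB₁g = S.g :=
    cokernel.π_desc _ _ _
  have hi : i₁ ≫ i₂ ≫ cokernel.π (Φ S s).arrow = 0 := by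
    rw [← Category.assoc, ← hSf, ← ha, Category.assoc, cokernel.condition, comp_zero]
  haveI : Epi (ShortComplex.mk i₁ p₁ wA).g := hA.epi_g
  have ha' : p₁ ≫ hA.exact.desc (i₂ ≫ cokernel.π (Φ S s).arrow) hi =
      i₂ ≫ cokernel.π (Φ S s).arrow := hA.exact.g_desc _ _
  have wac' : hA.exact.desc (i₂ ≫ cokernel.π (Φ S s).arrow) hi ≫
      cokernel.desc (Φ S s).arrow S.g hB₁g = 0 := by
    apply (cancel_epi p₁).mp
    rw [← Category.assoc, ha', Category.assoc, hc', h₂, comp_zero]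
  refine ⟨_, _, wac, _, _, wac', ha, hc, ?_, ha', hc', ?_⟩
  · -- first short exact sequence
    haveI : Mono S.f := by
      rw [hSf]
      infer_instance
    haveI : Mono ((Φ S s).factorThru S.f (Φ_factors_f S s)) := mono_of_mono_fac ha
    haveI : Epi (κ S s ≫ g) := by
      rw [epi_iff_surjective_up_to_refinements]
      intro T c₁
      obtain ⟨T', π, hπ, b, hb, e⟩ := exists_cl S (c₁ ≫ s)
      have hmem : (Φ S s).Factors b := by
        rw [Φ_factors_iff]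
        exact ⟨hb, T', 𝟙 _, inferInstance, π ≫ c₁, by rw [Category.id_comp, ← e, Category.assoc]⟩
      refine ⟨T', π, hπ, (Φ S s).factorThru b hmem, ?_⟩
      rw [← Category.assoc ((Φ S s).factorThru b hmem), comp_κ,
        cl_congr S (Subobject.factorThru_arrow _ _ _) _ hb, ← e]
      simp only [Category.assoc, hs, Category.comp_id]
    refine ShortComplex.ShortExact.mk' ?_ (by dsimp; infer_instance) (by dsimp; infer_instance)
    rw [ShortComplex.exact_iff_exact_up_to_refinements]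
    intro T y hy
    dsimp at y hy ⊢
    have h0 : y ≫ κ S s = 0 := by
      rw [κ_eq S g s hs, ← Category.assoc, ← Category.assoc, Category.assoc y, hy, zero_comp]
    rw [comp_κ, cl_eq_zero_iff] at h0
    obtain ⟨T', π, hπ, x, hx⟩ := h0
    refine ⟨T', π, hπ, x, ?_⟩
    apply (cancel_mono (Φ S s).arrow).mp
    rw [Category.assoc, Category.assoc, ha, hx]
  · -- second short exact sequence
    haveI : Mono (hA.exact.desc (i₂ ≫ cokernel.π (Φ S s).arrow) hi) := by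
      apply Preadditive.mono_of_cancel_zero
      intro T y hy
      obtain ⟨T₁, π₁, hπ₁, x, hx⟩ := surjective_up_to_refinements_of_epi p₁ y
      have h1 : (x ≫ i₂) ≫ cokernel.π (Φ S s).arrow = 0 := by
        rw [Category.assoc, ← ha', ← Category.assoc, ← hx, Category.assoc, hy, comp_zero]
      have hmem := factors_of_comp_cokernel_π (Φ S s) _ h1
      obtain ⟨hb, T₂, π₂', hπ₂, c₁, e⟩ := (Φ_factors_iff S s _).mp hmem
      have e1 : cl S (x ≫ i₂) hb = (x ≫ p₁) ≫ f := (cl_f' S p₁ i₂ h₂ f hf x).symm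
      have hc₁ : c₁ = 0 := by
        have : c₁ = (c₁ ≫ s) ≫ g := by rw [Category.assoc, hs, Category.comp_id]
        rw [this, ← e, e1, Category.assoc, Category.assoc, hfg, comp_zero, comp_zero]
      rw [hc₁, zero_comp, comp_cl, cl_eq_zero_iff] at e
      obtain ⟨T₃, π₃, hπ₃, x', hx'⟩ := e
      have h2 : π₃ ≫ π₂' ≫ x = x' ≫ i₁ := by
        apply (cancel_mono i₂).mp
        rw [Category.assoc, Category.assoc, Category.assoc, ← hSf]
        exact hx'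
      have h3 : (π₃ ≫ π₂' ≫ π₁) ≫ y = 0 := by
        have h3' : (π₃ ≫ π₂' ≫ π₁) ≫ y = (π₃ ≫ π₂' ≫ x) ≫ p₁ := by
          simp only [Category.assoc, hx]
        rw [h3', h2, Category.assoc, wA, comp_zero]
      haveI : Epi (π₂' ≫ π₁) := epi_comp π₂' π₁
      haveI : Epi (π₃ ≫ π₂' ≫ π₁) := epi_comp π₃ (π₂' ≫ π₁)
      exact (cancel_epi (π₃ ≫ π₂' ≫ π₁)).mp (by rw [h3, comp_zero])
    haveI : Epi S.g := by
      rw [hSg]
      infer_instance
    haveI : Epi (cokernel.desc (Φ S s).arrow S.g hB₁g) := epi_of_epi_fac hc'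
    refine ShortComplex.ShortExact.mk' ?_ (by dsimp; infer_instance) (by dsimp; infer_instance)
    rw [ShortComplex.exact_iff_exact_up_to_refinements]
    intro T y hy
    dsimp at y hy ⊢
    obtain ⟨T₀, π₀, hπ₀, b, hb0⟩ := surjective_up_to_refinements_of_epi
      (cokernel.π (Φ S s).arrow) y
    have hb : b ≫ S.g = 0 := by
      rw [← hc', ← Category.assoc, ← hb0, Category.assoc, hy, comp_zero]
    have hk : (cl S b hb - (cl S b hb ≫ g) ≫ s) ≫ g = 0 := by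
      rw [Preadditive.sub_comp, Category.assoc, hs, Category.comp_id, sub_self]
    obtain ⟨T₁, π₁, hπ₁, x, hx⟩ := exists_of_comp_g_eq_zero S p₁ i₂ π₂ wB hB j h₂ h₃ f g hf hg _ hk
    rw [cl_f' S p₁ i₂ h₂ f hf x, Preadditive.comp_sub, comp_cl] at hx
    -- the element `π₁ ≫ b - x ≫ i₂` lies in `Φ s`
    have hmem : (Φ S s).Factors (π₁ ≫ b - x ≫ i₂) := by
      rw [Φ_factors_iff]
      have hb' : (π₁ ≫ b - x ≫ i₂) ≫ S.g = 0 := by
        rw [Preadditive.sub_comp, Category.assoc, Category.assoc, hb, h₂, comp_zero, comp_zero,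
          sub_self]
      refine ⟨hb', T₁, 𝟙 _, inferInstance, π₁ ≫ cl S b hb ≫ g, ?_⟩
      rw [Category.id_comp]
      have e2 : cl S (π₁ ≫ b - x ≫ i₂) hb' =
          cl S (π₁ ≫ b) (by rw [Category.assoc, hb, comp_zero]) -
            cl S (x ≫ i₂) (by rw [Category.assoc, h₂, comp_zero]) := by
        unfold cl
        rw [← Preadditive.sub_comp]
        congr 1
        apply (cancel_mono S.iCycles).mp
        simp
      rw [e2]
      rw [sub_eq_iff_eq_add] at hx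
      rw [hx]
      simp only [Category.assoc]
      abel
    have h4 := comp_cokernel_π_of_factors (Φ S s) _ hmem
    rw [Preadditive.sub_comp, sub_eq_zero] at h4
    haveI : Epi (π₁ ≫ π₀) := epi_comp π₁ π₀
    refine ⟨T₁, π₁ ≫ π₀, inferInstance, x ≫ p₁, ?_⟩
    rw [Category.assoc, hb0, ← Category.assoc, h4, Category.assoc, Category.assoc, ha']

include hC hg in
theorem forward (B₁ : Subobject S.X₂) (a : S.X₁ ⟶ (B₁ : C)) (c : (B₁ : C) ⟶ C₁) (wac : a ≫ c = 0)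
    (c' : cokernel B₁.arrow ⟶ S.X₃)
    (e1 : a ≫ B₁.arrow = S.f) (e2 : c ≫ j = B₁.arrow ≫ π₂)
    (hac : (ShortComplex.mk a c wac).ShortExact)
    (e4 : cokernel.π B₁.arrow ≫ c' = S.g) :
    ∃ s : C₁ ⟶ S.homology, s ≫ g = 𝟙 C₁ ∧ Φ S s = B₁ := by
  haveI : Mono j := hC.mono_f
  haveI : Epi (ShortComplex.mk a c wac).g := hac.epi_g
  have ec : Epi c := hac.epi_g
  have hB₁g : B₁.arrow ≫ S.g = 0 := by
    rw [← e4, ← Category.assoc, cokernel.condition, zero_comp]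
  have hak : a ≫ cl S B₁.arrow hB₁g = 0 := by
    rw [comp_cl, cl_congr S e1 _ S.zero, cl_f]
  obtain ⟨s, hcs⟩ : ∃ s : C₁ ⟶ S.homology, c ≫ s = cl S B₁.arrow hB₁g :=
    ⟨_, hac.exact.g_desc _ hak⟩
  have hκg : cl S B₁.arrow hB₁g ≫ g = c := by
    apply (cancel_mono j).mp
    rw [Category.assoc, cl_g S π₂ j h₃ g hg, e2]
  have hs : s ≫ g = 𝟙 C₁ := by
    apply (cancel_epi c).mp
    rw [← Category.assoc, hcs, hκg, Category.comp_id]
  refine ⟨s, hs, le_antisymm ?_ ?_⟩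
  · apply le_of_forall_factors
    intro T b hb
    obtain ⟨hbg, T₁, π₁, hπ₁, c₁, e⟩ := (Φ_factors_iff S s b).mp hb
    obtain ⟨T₂, π₂', hπ₂, b₁, hb₁⟩ := surjective_up_to_refinements_of_epi c c₁
    have e3 : cl S (π₂' ≫ π₁ ≫ b) (by simp [hbg]) =
        cl S (b₁ ≫ B₁.arrow) (by rw [Category.assoc, hB₁g, comp_zero]) := by
      have l1 : cl S (π₂' ≫ π₁ ≫ b) (by simp [hbg]) = π₂' ≫ π₁ ≫ cl S b hbg := by
        rw [comp_cl, comp_cl]
      have l2 : cl S (b₁ ≫ B₁.arrow) (by rw [Category.assoc, hB₁g, comp_zero]) =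
          b₁ ≫ cl S B₁.arrow hB₁g := by rw [comp_cl]
      rw [l1, l2, e, ← hcs, ← Category.assoc, hb₁, Category.assoc]
    rw [cl_eq_iff] at e3
    obtain ⟨T₃, π₃, hπ₃, x, hx⟩ := e3
    haveI : Epi (π₂' ≫ π₁) := epi_comp _ _
    haveI : Epi (π₃ ≫ π₂' ≫ π₁) := epi_comp _ _
    apply factors_of_epi_comp (π₃ ≫ π₂' ≫ π₁)
    have e5 : (π₃ ≫ π₂' ≫ π₁) ≫ b = (π₃ ≫ b₁ + x ≫ a) ≫ B₁.arrow := by
      simp only [Preadditive.add_comp, Category.assoc, e1]
      exact hx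
    rw [e5]
    exact (Subobject.factors_iff _ _).mpr ⟨_, rfl⟩
  · apply le_of_forall_factors
    intro T b hb
    rw [Φ_factors_iff]
    have hbg : b ≫ S.g = 0 := by
      rw [← Subobject.factorThru_arrow B₁ b hb, Category.assoc, hB₁g, comp_zero]
    refine ⟨hbg, T, 𝟙 T, inferInstance, B₁.factorThru b hb ≫ c, ?_⟩
    rw [Category.id_comp, Category.assoc, hcs, comp_cl]
    exact cl_congr S (Subobject.factorThru_arrow _ _ _).symm _ _

theorem Φ_injective (s s' : C₁ ⟶ S.homology) (hs : s ≫ g = 𝟙 C₁) (hs' : s' ≫ g = 𝟙 C₁)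
    (h : Φ S s = Φ S s') : s = s' := by
  obtain ⟨T, π, hπ, b, hb, e⟩ := exists_cl S s
  have hmem : (Φ S s).Factors b := by
    rw [Φ_factors_iff]
    exact ⟨hb, T, 𝟙 T, inferInstance, π, by rw [Category.id_comp, e]⟩
  rw [h] at hmem
  obtain ⟨hb', T', π', hπ', c₁', e'⟩ := (Φ_factors_iff S s' b).mp hmem
  have hc : c₁' = π' ≫ π := by
    have h1 : c₁' = (c₁' ≫ s') ≫ g := by rw [Category.assoc, hs', Category.comp_id]
    rw [h1, ← e', ← e]
    simp only [Category.assoc, hs, Category.comp_id]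
  haveI : Epi (π' ≫ π) := epi_comp _ _
  apply (cancel_epi (π' ≫ π)).mp
  rw [Category.assoc, e, e', hc]

include hA hB hC hSf hSg hf hg wB in
theorem main :
    (∀ B₁ : Subobject S.X₂,
      (∃ (a : S.X₁ ⟶ (B₁ : C)) (c : (B₁ : C) ⟶ C₁) (wac : a ≫ c = 0)
         (a' : A₃ ⟶ cokernel B₁.arrow) (c' : cokernel B₁.arrow ⟶ S.X₃) (wac' : a' ≫ c' = 0),
         a ≫ B₁.arrow = S.f ∧ c ≫ j = B₁.arrow ≫ π₂ ∧ (ShortComplex.mk a c wac).ShortExact ∧
         p₁ ≫ a' = i₂ ≫ cokernel.π B₁.arrow ∧ cokernel.π B₁.arrow ≫ c' = S.g ∧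
         (ShortComplex.mk a' c' wac').ShortExact) ↔
      ∃ s : C₁ ⟶ S.homology, s ≫ g = 𝟙 C₁ ∧ Φ S s = B₁) ∧
    (∀ s s' : C₁ ⟶ S.homology, s ≫ g = 𝟙 C₁ → s' ≫ g = 𝟙 C₁ → Φ S s = Φ S s' → s = s') := by
  refine ⟨fun B₁ => ⟨?_, ?_⟩, fun s s' hs hs' h => Φ_injective S g s s' hs hs' h⟩
  · rintro ⟨a, c, wac, a', c', wac', e1, e2, hac, -, e4, -⟩
    exact forward S π₂ j q wC hC h₃ g hg B₁ a c wac c' e1 e2 hac e4
  · rintro ⟨s, hs, rfl⟩
    exact backward S i₁ p₁ wA hA i₂ π₂ wB hB j q wC hC hSf hSg h₂ h₃ f g hf hg s hs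

end Main

end Groth.Agent.Lib.Helper32.NineSec
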