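import Mathlib
import Groth.Prelude.Def_DRing2
import Groth.Agent.Lib.Helper32.K0Perf

/-!
# perfect modules and finite projective resolutions (S6955)
-/

set_option autoImplicit false
set_option linter.unusedSectionVars false
set_option linter.unusedSimpArgs false
universe u
open CategoryTheory CategoryTheory.Limits CategoryTheory.Pretriangulated DerivedCategory
open scoped ZeroObject
open Groth.Agent.Lib.Helper12 Groth.Agent.Lib.Helper32

namespace Groth.Agent.Lib.Helper32.PerfRes

attribute [local instance] HasDerivedCategory.standard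

variable {R : Type u} [CommRing R]

/-- (⇐) a finite resolution by finite projectives gives a perfect module -/
theorem perfect_of_resolution (M : Type u) [AddCommGroup M] [Module R M]
    (P : ProjectiveResolution (ModuleCat.of R M)) (d : ℕ)
    (hd : ∀ i : ℕ, d < i → IsZero (P.complex.X i)) (hf : ∀ i : ℕ, Module.Finite R (P.complex.X i)) :
    DRing.IsPerfectModule R M := by
  refine ⟨P.cochainComplex, -d, 0, ?_, ?_, ⟨?_⟩⟩
  · rintro i (hi | hi)
    · obtain ⟨k, rfl⟩ := Int.exists_eq_neg_ofNat (show i ≤ 0 by omega)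
      exact (hd k (by omega)).of_iso (P.cochainComplexXIso (-k) k)
    · exact CochainComplex.isZero_of_isStrictlyLE _ 0 _ hi
  · intro i
    by_cases hi : i ≤ 0
    · obtain ⟨k, rfl⟩ := Int.exists_eq_neg_ofNat hi
      have e := (P.cochainComplexXIso (-k) k).toLinearEquiv
      haveI := hf k
      haveI : Module.Projective R (P.complex.X k) :=
        (IsProjective.iff_projective _).2 (P.projective k)
      exact ⟨Module.Finite.equiv e.symm, Module.Projective.of_equiv e.symm⟩
    · have hz : IsZero (P.cochainComplex.X i) :=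
        CochainComplex.isZero_of_isStrictlyLE _ 0 _ (by omega)
      haveI : Subsingleton (P.cochainComplex.X i) := ModuleCat.subsingleton_of_isZero hz
      exact ⟨inferInstance, inferInstance⟩
  · have h : IsIso (Q.map P.π') := by
      rw [isIso_Q_map_iff_quasiIso]; infer_instance
    exact @asIso _ _ _ _ (Q.map P.π') h


section Forward
open K0Perf
variable (E : DRing.Cx R)

/-- homology of `E` vs. homology of an object of `D(R)` isomorphic to `Q E` -/
noncomputable def homIso (K : Dual.D R) (e : DRing.toD E ≅ K) (i : ℤ) :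
    E.homology i ≅ (homologyFunctor (ModuleCat.{u} R) i).obj K :=
  ((homologyFunctorFactors (ModuleCat.{u} R) i).app E).symm ≪≫ (homologyFunctor _ i).mapIso e

lemma exactAt_of_iso_single (M : ModuleCat.{u} R)
    (e : DRing.toD E ≅ (singleFunctor (ModuleCat.{u} R) 0).obj M) (i : ℤ) (hi : i ≠ 0) :
    E.ExactAt i := by
  rw [HomologicalComplex.exactAt_iff_isZero_homology]
  exact (K0Der.isZero_homology_single 0 i hi M).of_iso (homIso E _ e i)

noncomputable def H0Iso (M : ModuleCat.{u} R)
    (e : DRing.toD E ≅ (singleFunctor (ModuleCat.{u} R) 0).obj M) : E.homology 0 ≅ M :=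
  homIso E _ e 0 ≪≫ (singleFunctorCompHomologyFunctorIso (ModuleCat.{u} R) 0).app M

lemma toZc_surjective' (i : ℤ) (hE : E.ExactAt (i + 1)) : Function.Surjective (toZc E i) := by
  rintro ⟨y, hy⟩
  have h1 := (HomologicalComplex.exactAt_iff' E i (i + 1) (i + 1 + 1) (by simp) (by simp)).1 hE
  rw [ShortComplex.moduleCat_exact_iff] at h1
  obtain ⟨x, hx⟩ := h1 y hy
  exact ⟨x, Subtype.ext hx⟩

lemma fp_Zc_step' (i : ℤ) (hE : E.ExactAt (i + 1)) (hX : FP R (E.X i))
    (h : FP R (ModuleCat.of R (Zc E (i + 1)))) : FP R (ModuleCat.of R (Zc E i)) := by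
  obtain ⟨hf, hp⟩ := h
  obtain ⟨hXf, hXp⟩ := hX
  haveI : Module.Projective R (Zc E (i + 1)) := hp
  obtain ⟨s, hs⟩ := Module.projective_lifting_property (toZc E i) LinearMap.id
    (toZc_surjective' E i hE)
  let q : E.X i →ₗ[R] E.X i := LinearMap.id - s.comp (toZc E i)
  have hq : ∀ x, q x ∈ Zc E i := by
    intro x
    show (E.d i (i + 1)).hom (x - s (toZc E i x)) = 0
    rw [map_sub, sub_eq_zero]
    have := congrArg (fun f => ((f (toZc E i x) : Zc E (i + 1)) : E.X (i + 1))) hs
    exact this.symm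
  let p : E.X i →ₗ[R] Zc E i := q.codRestrict (Zc E i) hq
  have hp' : p.comp (Zc E i).subtype = LinearMap.id := by
    ext ⟨z, hz⟩
    show z - s (toZc E i z) = z
    have : toZc E i z = 0 := Subtype.ext hz
    rw [this, map_zero, sub_zero]
  have hsurj : Function.Surjective p := fun z => ⟨(Zc E i).subtype z, congrArg (fun f => f z) hp'⟩
  exact ⟨Module.Finite.of_surjective p hsurj, Module.Projective.of_split _ p hp'⟩

lemma fp_Zc' (hE : ∀ i : ℤ, 1 ≤ i → E.ExactAt i) (b : ℤ) (hb : DRing.VanishesAbove E b)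
    (hX : ∀ i, FP R (E.X i)) :
    ∀ (n : ℕ) (i : ℤ), 0 ≤ i → b + 1 ≤ i + n → FP R (ModuleCat.of R (Zc E i)) := by
  intro n
  induction n with
  | zero =>
    intro i _ hi
    haveI : Subsingleton (E.X i) := ModuleCat.subsingleton_of_isZero (hb i (by omega))
    exact ⟨inferInstance, inferInstance⟩
  | succ n ih =>
    intro i hi0 hi
    exact fp_Zc_step' E i (hE (i + 1) (by omega)) (hX i)
      (ih (i + 1) (by omega) (by push_cast at hi; omega))

/-- the short complex `E^{-1} → E^0 → E^1` -/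
noncomputable abbrev S0 : ShortComplex (ModuleCat.{u} R) := E.sc' (-((0 + 1 : ℕ) : ℤ)) 0 1

/-- terms of the resolution -/
noncomputable def X : ℕ → ModuleCat.{u} R
  | 0 => (S0 E).moduleCatLeftHomologyData.K
  | (k + 1) => E.X (-((k + 1 : ℕ) : ℤ))

/-- differentials of the resolution -/
noncomputable def dd : ∀ n : ℕ, X E (n + 1) ⟶ X E n
  | 0 => (S0 E).moduleCatLeftHomologyData.f'
  | (k + 1) => E.d (-((k + 1 + 1 : ℕ) : ℤ)) (-((k + 1 : ℕ) : ℤ))

lemma dd_sq : ∀ n : ℕ, dd E (n + 1) ≫ dd E n = 0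
  | 0 => by
    show E.d (-((0 + 1 + 1 : ℕ) : ℤ)) (-((0 + 1 : ℕ) : ℤ)) ≫ (S0 E).moduleCatLeftHomologyData.f' = 0
    apply ModuleCat.hom_ext
    ext x
    apply Subtype.ext
    exact congrArg (fun f => f.hom x) (E.d_comp_d (-((0 + 1 + 1 : ℕ) : ℤ)) (-((0 + 1 : ℕ) : ℤ)) 0)
  | (k + 1) => E.d_comp_d _ _ _

/-- the resolution complex -/
noncomputable def C : ChainComplex (ModuleCat.{u} R) ℕ := ChainComplex.of (X E) (dd E) (dd_sq E)


lemma C_d (n : ℕ) : (C E).d (n + 1) n = dd E n := ChainComplex.of_d (X E) (dd E) n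

lemma E_exact_elem (i j k : ℤ) (hij : i + 1 = j) (hjk : j + 1 = k) (hE : E.ExactAt j)
    (x : E.X j) (hx : (E.d j k).hom x = 0) : ∃ y : E.X i, (E.d i j).hom y = x := by
  have h1 := (HomologicalComplex.exactAt_iff' E i j k (by simp; omega) (by simp; omega)).1 hE
  rw [ShortComplex.moduleCat_exact_iff] at h1
  exact h1 x hx

lemma C_exactAt_succ (hE : ∀ i : ℤ, i < 0 → E.ExactAt i) (n : ℕ) : (C E).ExactAt (n + 1) := by
  rw [HomologicalComplex.exactAt_iff' _ (n + 1 + 1) (n + 1) n (by simp) (by simp)]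
  rw [ShortComplex.moduleCat_exact_iff]
  intro x hx
  change ((C E).d (n + 1) n).hom x = 0 at hx
  rw [C_d] at hx
  change ∃ y, ((C E).d (n + 1 + 1) (n + 1)).hom y = x
  rw [C_d]
  cases n with
  | zero =>
    have hx' : (E.d (-((0 + 1 : ℕ) : ℤ)) 0).hom x = 0 := congrArg Subtype.val hx
    exact E_exact_elem E (-((0 + 1 + 1 : ℕ) : ℤ)) (-((0 + 1 : ℕ) : ℤ)) 0 (by omega)
      (by omega) (hE _ (by omega)) x hx'
  | succ k =>
    exact E_exact_elem E (-((k + 1 + 1 + 1 : ℕ) : ℤ)) (-((k + 1 + 1 : ℕ) : ℤ)) (-((k + 1 : ℕ) : ℤ))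
      (by push_cast; omega) (by push_cast; omega) (hE _ (by omega)) x hx


variable (M : ModuleCat.{u} R) (e : DRing.toD E ≅ (singleFunctor (ModuleCat.{u} R) 0).obj M)

noncomputable def HIso : (S0 E).moduleCatLeftHomologyData.H ≅ M :=
  (S0 E).moduleCatHomologyIso.symm ≪≫
    (ShortComplex.homologyMapIso (E.isoSc' (-((0 + 1 : ℕ) : ℤ)) 0 1 (by simp) (by simp))).symm ≪≫
      H0Iso E M e

noncomputable def f0 : X E 0 ⟶ M := (S0 E).moduleCatLeftHomologyData.π ≫ (HIso E M e).hom

lemma f0_surjective : Function.Surjective (f0 E M e).hom := by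
  rw [← ModuleCat.epi_iff_surjective]
  haveI : Epi (S0 E).moduleCatLeftHomologyData.π := inferInstance
  exact epi_comp (S0 E).moduleCatLeftHomologyData.π (HIso E M e).hom

lemma dd_f0 : dd E 0 ≫ f0 E M e = 0 := by
  show (S0 E).moduleCatLeftHomologyData.f' ≫ (S0 E).moduleCatLeftHomologyData.π ≫ _ = 0
  rw [← Category.assoc, ShortComplex.LeftHomologyData.f'_π, zero_comp]

lemma f0_ker (x : X E 0) (hx : (f0 E M e).hom x = 0) : ∃ y : X E 1, (dd E 0).hom y = x := by
  have h1 : ((S0 E).moduleCatLeftHomologyData.π).hom x = 0 := by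
    have hinj : Function.Injective (HIso E M e).hom.hom :=
      (ModuleCat.mono_iff_injective _).1 inferInstance
    apply hinj
    rw [map_zero]
    exact hx
  have h2 : x ∈ LinearMap.range (S0 E).moduleCatToCycles := by
    rw [← Submodule.ker_mkQ (LinearMap.range (S0 E).moduleCatToCycles)]
    exact h1
  obtain ⟨y, hy⟩ := h2
  exact ⟨y, hy⟩


/-- the augmentation -/
noncomputable def aug : C E ⟶ (ChainComplex.single₀ (ModuleCat.{u} R)).obj M :=
  (ChainComplex.toSingle₀Equiv _ _).symm ⟨f0 E M e, by rw [C_d]; exact dd_f0 E M e⟩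

lemma aug_quasiIso (hE : ∀ i : ℤ, i < 0 → E.ExactAt i) : QuasiIso (aug E M e) := ⟨fun n => by
    cases n
    · rw [ChainComplex.quasiIsoAt₀_iff, ShortComplex.quasiIso_iff_of_zeros']
      · have hS' : (ShortComplex.mk (dd E 0) (f0 E M e) (dd_f0 E M e)).Exact ∧
            Epi (ShortComplex.mk (dd E 0) (f0 E M e) (dd_f0 E M e)).g := by
          refine ⟨?_, (ModuleCat.epi_iff_surjective _).2 (f0_surjective E M e)⟩
          rw [ShortComplex.moduleCat_exact_iff]
          exact f0_ker E M e
        refine (ShortComplex.exact_and_epi_g_iff_of_iso ?_).2 hS'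
        exact ShortComplex.isoMk (Iso.refl _) (Iso.refl _) (Iso.refl _)
            (by simp [C_d, aug]; exact (Category.id_comp _).trans (Category.comp_id _).symm)
            (by simp [aug]; exact (Category.id_comp _).trans (Category.comp_id _).symm)
      all_goals rfl
    · rw [quasiIsoAt_iff_exactAt']
      · exact C_exactAt_succ E hE _
      · apply ChainComplex.exactAt_succ_single_obj⟩


lemma fp_X (a b : ℤ) (hv : DRing.VanishesOutside E a b) (hfp : DRing.TermwiseFiniteProjective E)
    (hE : ∀ i : ℤ, 1 ≤ i → E.ExactAt i) : ∀ n : ℕ, FP R (X E n)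
  | 0 => by
    have h := fp_Zc' E hE b (fun i hi => hv i (Or.inr hi)) (fun i => hfp i) (b + 1).toNat 0 le_rfl
      (by omega)
    exact h
  | (k + 1) => hfp _

end Forward

/-- (⇒) a perfect module has a finite resolution by finite projectives -/
theorem resolution_of_perfect (M : Type u) [AddCommGroup M] [Module R M]
    (h : DRing.IsPerfectModule R M) :
    ∃ (P : ProjectiveResolution (ModuleCat.of R M)) (d : ℕ),
      (∀ i : ℕ, d < i → IsZero (P.complex.X i)) ∧ ∀ i : ℕ, Module.Finite R (P.complex.X i) := by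
  obtain ⟨E, a, b, hv, hfp, ⟨e⟩⟩ := h
  have hE : ∀ i : ℤ, i ≠ 0 → E.ExactAt i := fun i hi => exactAt_of_iso_single E _ e i hi
  have hX := fp_X E a b hv hfp (fun i hi => hE i (by omega))
  haveI := aug_quasiIso E (ModuleCat.of R M) e (fun i hi => hE i (by omega))
  refine ⟨{ complex := C E
            projective := fun n => (IsProjective.iff_projective _).1 (hX n).2
            π := aug E (ModuleCat.of R M) e }, (-a).toNat, ?_, fun i => (hX i).1⟩
  intro i hi
  cases i with
  | zero => omega
  | succ k => exact hv _ (Or.inl (by omega))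

theorem main (M : Type u) [AddCommGroup M] [Module R M] :
    DRing.IsPerfectModule R M ↔
      ∃ (P : ProjectiveResolution (ModuleCat.of R M)) (d : ℕ),
        (∀ i : ℕ, d < i → IsZero (P.complex.X i)) ∧ ∀ i : ℕ, Module.Finite R (P.complex.X i) :=
  ⟨resolution_of_perfect M, fun ⟨P, d, hd, hf⟩ => perfect_of_resolution M P d hd hf⟩


end Groth.Agent.Lib.Helper32.PerfRes
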