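import Mathlib
import Groth.Agent.Lib.Helper32.KzCn

/-!
The elements `X j - C (v j)` of a polynomial ring: they form a "regular from the right" sequence,
generate the kernel of evaluation at `v`; the quotients by powers of the ideal of variables are flat.
-/

set_option autoImplicit false
universe u
open MvPolynomial

namespace Groth.Agent.Lib.Helper32.PolyRegular

open Groth.Agent.Lib.Helper32.KzCn

variable {A : Type u} [CommRing A] {σ : Type u} (v : σ → A)

/-- `X j - C (v j)` -/
noncomputable def yy (j : σ) : MvPolynomial σ A := X j - C (v j)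

/-- the substitution `X j ↦ X j + C (v j)` -/
noncomputable def tau : MvPolynomial σ A →ₐ[A] MvPolynomial σ A :=
  aeval (fun j => X j + C (v j))

/-- the substitution `X j ↦ X j - C (v j)` -/
noncomputable def tau' : MvPolynomial σ A →ₐ[A] MvPolynomial σ A :=
  aeval (fun j => X j - C (v j))

lemma tau_X (j : σ) : tau v (X j) = X j + C (v j) := by
  simp [tau]

lemma tau'_X (j : σ) : tau' v (X j) = yy v j := by
  simp [tau', yy]

lemma tau_C (a : A) : tau v (C a) = C a := by
  simp [tau]

lemma tau'_C (a : A) : tau' v (C a) = C a := by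
  simp [tau']

lemma tau_yy (j : σ) : tau v (yy v j) = X j := by
  rw [yy, map_sub, tau_X, tau_C]
  ring

lemma tau'_tau (b : MvPolynomial σ A) : tau' v (tau v b) = b := by
  have h : (tau' v).comp (tau v) = AlgHom.id A _ := by
    apply MvPolynomial.algHom_ext
    intro j
    rw [AlgHom.comp_apply, tau_X, map_add, tau'_X, tau'_C, yy]
    simp
  exact congr_arg (fun φ => φ b) h

lemma map_tau_span (S : Set σ) :
    Ideal.map (tau v) (Ideal.span (yy v '' S)) = Ideal.span (X '' S) := by
  rw [Ideal.map_span, Set.image_image]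
  congr 1
  ext x
  simp only [Set.mem_image]
  constructor
  · rintro ⟨j, hj, rfl⟩
    exact ⟨j, hj, (tau_yy v j).symm⟩
  · rintro ⟨j, hj, rfl⟩
    exact ⟨j, hj, tau_yy v j⟩

lemma map_tau'_span (S : Set σ) :
    Ideal.map (tau' v) (Ideal.span (X '' S)) = Ideal.span (yy v '' S) := by
  rw [Ideal.map_span, Set.image_image]
  congr 1
  ext x
  simp only [Set.mem_image]
  constructor
  · rintro ⟨j, hj, rfl⟩
    exact ⟨j, hj, (tau'_X v j).symm⟩
  · rintro ⟨j, hj, rfl⟩
    exact ⟨j, hj, tau'_X v j⟩

theorem reg_lemma (S : Set σ) (j : σ) (hj : j ∉ S) (b : MvPolynomial σ A)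
    (h : yy v j * b ∈ Ideal.span (yy v '' S)) : b ∈ Ideal.span (yy v '' S) := by
  classical
  have h1 : tau v (yy v j * b) ∈ Ideal.span (X '' S : Set (MvPolynomial σ A)) := by
    rw [← map_tau_span v]
    exact Ideal.mem_map_of_mem _ h
  rw [map_mul, tau_yy] at h1
  have h2 : tau v b ∈ Ideal.span (X '' S : Set (MvPolynomial σ A)) := by
    rw [mem_ideal_span_X_image] at h1 ⊢
    intro m hm
    obtain ⟨i, hi, hne⟩ := h1 (Finsupp.single j 1 + m) (by
      rw [support_X_mul]
      exact Finset.mem_map_of_mem _ hm)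
    refine ⟨i, hi, ?_⟩
    have hij : i ≠ j := fun h => hj (h ▸ hi)
    rwa [Finsupp.add_apply, Finsupp.single_eq_of_ne hij, zero_add] at hne
  have h3 := Ideal.mem_map_of_mem (tau' v) h2
  rwa [map_tau'_span, tau'_tau] at h3

lemma setOf_mem_map (L : List σ) :
    {x | x ∈ L.map (yy v)} = yy v '' {k | k ∈ L} := by
  ext x
  simp only [List.mem_map, Set.mem_ofPred_eq, Set.mem_image]

theorem regOn_map : ∀ (L : List σ), L.Nodup → RegOn (L.map (yy v))
  | [], _ => trivial
  | j :: L, h => by
    rw [List.nodup_cons] at h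
    refine ⟨regOn_map L h.2, fun b hb => ?_⟩
    rw [setOf_mem_map] at hb ⊢
    exact reg_lemma v _ j h.1 b hb

lemma sub_C_mem (b : MvPolynomial σ A) :
    b - C (aeval v b) ∈ Ideal.span (Set.range (yy v)) := by
  induction b using MvPolynomial.induction_on with
  | C a => simp
  | add p q hp hq =>
    have : p + q - C (aeval v (p + q)) = (p - C (aeval v p)) + (q - C (aeval v q)) := by
      rw [map_add, map_add]; ring
    rw [this]
    exact Ideal.add_mem _ hp hq
  | mul_X p j hp =>
    have : p * X j - C (aeval v (p * X j)) =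
        (p - C (aeval v p)) * X j + C (aeval v p) * yy v j := by
      rw [map_mul, aeval_X, map_mul, yy]; ring
    rw [this]
    exact Ideal.add_mem _ (Ideal.mul_mem_right _ _ hp)
      (Ideal.mul_mem_left _ _ (Ideal.subset_span ⟨j, rfl⟩))

lemma aeval_yy (j : σ) : aeval v (yy v j) = 0 := by
  simp [yy]

lemma span_yy_le_ker : Ideal.span (Set.range (yy v)) ≤ RingHom.ker (aeval v : MvPolynomial σ A →ₐ[A] A) := by
  rw [Ideal.span_le]
  rintro _ ⟨j, rfl⟩
  exact aeval_yy v j

lemma map_idealOfVars :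
    Ideal.map (aeval v : MvPolynomial σ A →ₐ[A] A) (idealOfVars σ A) = Ideal.span (Set.range v) := by
  rw [idealOfVars, Ideal.map_span, ← Set.range_comp]
  congr 2
  ext j
  simp

theorem C_mem_sup_iff (a : A) (q : ℕ) :
    C a ∈ Ideal.span (Set.range (yy v)) ⊔ (idealOfVars σ A) ^ q ↔
      a ∈ (Ideal.span (Set.range v)) ^ q := by
  have hsurj : Function.Surjective (aeval v : MvPolynomial σ A →ₐ[A] A) := fun a =>
    ⟨C a, by simp⟩
  constructor
  · intro h
    have h1 := Ideal.mem_map_of_mem (aeval v : MvPolynomial σ A →ₐ[A] A) h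
    rw [Ideal.map_sup, Ideal.map_pow, map_idealOfVars,
      (Ideal.map_eq_bot_iff_le_ker _).2 (span_yy_le_ker v), bot_sup_eq] at h1
    simpa using h1
  · intro h
    rw [← map_idealOfVars v, ← Ideal.map_pow] at h
    obtain ⟨b, hb, rfl⟩ := (Ideal.mem_map_iff_of_surjective _ hsurj).1 h
    have : C (aeval v b) = -(b - C (aeval v b)) + b := by ring
    rw [this]
    exact Ideal.add_mem _ (Ideal.mem_sup_left (Ideal.neg_mem_iff _ |>.2 (sub_C_mem v b)))
      (Ideal.mem_sup_right hb)

section Flat

variable (A σ)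

/-- truncation below degree `q` -/
noncomputable def trunc (q : ℕ) : MvPolynomial σ A →ₗ[A] MvPolynomial σ A :=
  ∑ n ∈ Finset.range q, homogeneousComponent n

lemma coeff_trunc (q : ℕ) (p : MvPolynomial σ A) (m : σ →₀ ℕ) :
    coeff m (trunc A σ q p) = if m.degree < q then coeff m p else 0 := by
  classical
  rw [trunc, LinearMap.sum_apply, coeff_sum]
  simp only [coeff_homogeneousComponent]
  rw [Finset.sum_ite_eq]
  simp

lemma trunc_eq_zero_of_mem (q : ℕ) (p : MvPolynomial σ A) (hp : p ∈ (idealOfVars σ A) ^ q) :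
    trunc A σ q p = 0 := by
  rw [mem_pow_idealOfVars_iff'] at hp
  ext m
  rw [coeff_trunc, coeff_zero]
  split_ifs with h
  · exact hp m h
  · rfl

lemma sub_trunc_mem (q : ℕ) (p : MvPolynomial σ A) : p - trunc A σ q p ∈ (idealOfVars σ A) ^ q := by
  rw [mem_pow_idealOfVars_iff']
  intro m hm
  rw [coeff_sub, coeff_trunc, if_pos hm, sub_self]

instance flat_quot (q : ℕ) : Module.Flat A (MvPolynomial σ A ⧸ (idealOfVars σ A) ^ q) := by
  let 𝔮 : Ideal (MvPolynomial σ A) := (idealOfVars σ A) ^ q
  let i : (MvPolynomial σ A ⧸ 𝔮) →ₗ[A] MvPolynomial σ A :=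
    Submodule.liftQ (𝔮.restrictScalars A) (trunc A σ q) (fun p hp => trunc_eq_zero_of_mem A σ q p hp) ∘ₗ
      (Submodule.Quotient.restrictScalarsEquiv A 𝔮).symm.toLinearMap
  let r : MvPolynomial σ A →ₗ[A] (MvPolynomial σ A ⧸ 𝔮) := (Submodule.mkQ 𝔮).restrictScalars A
  refine Module.Flat.of_retract i r ?_
  apply LinearMap.ext
  intro x
  obtain ⟨p, rfl⟩ := Submodule.Quotient.mk_surjective _ x
  show Submodule.Quotient.mk (trunc A σ q p) = Submodule.Quotient.mk p
  rw [eq_comm, Submodule.Quotient.eq]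
  exact sub_trunc_mem A σ q p

end Flat

end Groth.Agent.Lib.Helper32.PolyRegular
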