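import Mathlib
import Groth.Agent.Lib.Helper1.LanFlat
import Groth.Agent.Lib.Helper68.ShriekGen

/-!
# Restriction from the big pro-étale site to a small pro-étale site preserves injectives (helper32)
Port of helper34's `BigEt`/`BigShriek` (étale case) to the pro-étale topology.
-/

set_option autoImplicit false
universe u
open CategoryTheory CategoryTheory.Limits AlgebraicGeometry Opposite

namespace Groth.Agent.Lib.Helper32.ProEtInj

section Big

variable {X Y : Scheme.{u}} (f : X ⟶ Y)

/-- `Over X ≌ Over (Over.mk f)`, the iterated slice. -/
noncomputable def equiv : Over X ≌ Over (Over.mk f) := (Over.iteratedSliceEquiv (Over.mk f)).symm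

/-- the equivalence is compatible with `Over.map f` -/
noncomputable def equivIso : (equiv f).functor ⋙ Over.forget (Over.mk f) ≅ Over.map f :=
  NatIso.ofComponents (fun V => Iso.refl _) (by
    intro V V' g
    simp only [Iso.refl_hom]
    rfl)

instance ab4Small : AB4OfSize.{u} AddCommGrpCat.{u + 1} :=
  AB4OfSize_shrink.{u, u + 1} AddCommGrpCat.{u + 1}

/-- restriction along `Over.map f` between big pro-étale sites preserves injectives. -/
theorem injective_overMap (I : Sheaf (Scheme.proetaleTopology.over Y) AddCommGrpCat.{u + 1})
    [Injective I] :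
    Injective (((Over.map f).sheafPushforwardContinuous AddCommGrpCat.{u + 1}
      (Scheme.proetaleTopology.over X) (Scheme.proetaleTopology.over Y)).obj I) := by
  haveI := Groth.Agent.Lib.Helper68.ShriekGen.isRightAdjoint (equiv f) (equivIso f)
    AddCommGrpCat.{u + 1} (Scheme.proetaleTopology.over X) (Scheme.proetaleTopology.over Y)
  haveI := Groth.Agent.Lib.Helper68.ShriekGen.preservesMonomorphisms_sheafPullback (equiv f)
    (equivIso f) AddCommGrpCat.{u + 1} (Scheme.proetaleTopology.over X)
    (Scheme.proetaleTopology.over Y)
  exact Injective.injective_of_adjoint ((Over.map f).sheafAdjunctionContinuous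
    AddCommGrpCat.{u + 1} (Scheme.proetaleTopology.over X) (Scheme.proetaleTopology.over Y)) I

end Big

section Small

variable (S : Scheme.{u})

attribute [local instance] CategoryTheory.Limits.reflectsLimits_of_reflectsIsomorphisms in
set_option backward.isDefEq.respectTransparency.types false in
/-- the pullback from the small to the big pro-étale site is exact. -/
theorem preservesFiniteLimits_sheafPullback :
    PreservesFiniteLimits ((Scheme.ProEt.forget S).sheafPullback AddCommGrpCat.{u + 1}
      (Scheme.ProEt.topology S) (Scheme.proetaleTopology.over S)) := by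
  haveI : PreservesFilteredColimitsOfSize.{u, u + 1} (forget AddCommGrpCat.{u + 1}) :=
    preservesFilteredColimitsOfSize_shrink.{u + 1, u + 1, u, u + 1} _
  haveI : ∀ V : (Over S)ᵒᵖ, IsFiltered (CostructuredArrow (Scheme.ProEt.forget S).op V) := fun V =>
    IsFiltered.of_equivalence (structuredArrowOpEquivalence (Scheme.ProEt.forget S) (unop V))
  haveI : ∀ V : (Over S)ᵒᵖ, PreservesColimitsOfShape
      (CostructuredArrow (Scheme.ProEt.forget S).op V)
      (forget AddCommGrpCat.{u + 1}) := fun V =>
    PreservesFilteredColimitsOfSize.preserves_filtered_colimits _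
  haveI : PreservesFiniteLimits ((Scheme.ProEt.forget S).op.lan :
      ((S.ProEt)ᵒᵖ ⥤ AddCommGrpCat.{u + 1}) ⥤ ((Over S)ᵒᵖ ⥤ AddCommGrpCat.{u + 1})) :=
    Groth.Agent.Lib.Helper1.LanFlat.lan_preservesFiniteLimits_of_flat
      (E := AddCommGrpCat.{u + 1}) (Scheme.ProEt.forget S)
  exact Functor.sheafPullbackConstruction.preservesFiniteLimits (Scheme.ProEt.forget S)
    AddCommGrpCat.{u + 1} (Scheme.ProEt.topology S) (Scheme.proetaleTopology.over S)

/-- restriction to the small pro-étale site preserves injectives -/
theorem injective_res (I : Sheaf (Scheme.proetaleTopology.over S) AddCommGrpCat.{u + 1})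
    [Injective I] :
    Injective (((Scheme.ProEt.forget S).sheafPushforwardContinuous AddCommGrpCat.{u + 1}
      (Scheme.ProEt.topology S) (Scheme.proetaleTopology.over S)).obj I) := by
  haveI := preservesFiniteLimits_sheafPullback S
  haveI : ((Scheme.ProEt.forget S).sheafPullback AddCommGrpCat.{u + 1}
      (Scheme.ProEt.topology S) (Scheme.proetaleTopology.over S)).PreservesMonomorphisms :=
    inferInstance
  exact Injective.injective_of_adjoint ((Scheme.ProEt.forget S).sheafAdjunctionContinuous
    AddCommGrpCat.{u + 1} (Scheme.ProEt.topology S) (Scheme.proetaleTopology.over S)) I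

end Small

end Groth.Agent.Lib.Helper32.ProEtInj
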