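import Mathlib
import Groth.Agent.Lib.Helper32.ProEtInj

/-!
# Small vs big pro-étale site: unit iso and vanishing of higher derived restriction (helper32)
-/

set_option autoImplicit false
universe u
open CategoryTheory CategoryTheory.Limits AlgebraicGeometry Opposite

namespace Groth.Agent.Lib.Helper32.ProEtUnit

section general

variable {C : Type*} [Category C] [Abelian C] [HasInjectiveResolutions C]
  {D : Type*} [Category D] [Abelian D]

/-- higher right derived functors of an exact functor vanish (only `HasInjectiveResolutions`) -/
theorem isZero_rightDerived_succ_of_exact (G : C ⥤ D) [G.Additive] [PreservesFiniteLimits G]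
    [PreservesFiniteColimits G] (A : C) (n : ℕ) : IsZero ((G.rightDerived (n + 1)).obj A) := by
  let I : InjectiveResolution A := (HasInjectiveResolution.out (Z := A)).some
  refine IsZero.of_iso ?_ (I.isoRightDerivedObj G (n + 1))
  have h1 : (I.cocomplex).ExactAt (n + 1) := I.cocomplex_exactAt_succ n
  have h2 : ((G.mapHomologicalComplex _).obj I.cocomplex).ExactAt (n + 1) := by
    rw [HomologicalComplex.exactAt_iff] at h1 ⊢
    exact h1.map G
  exact h2.isZero_homology

end general

variable (S : Scheme.{u})

set_option backward.isDefEq.respectTransparency.types false in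
lemma topology_eq_restrictedTopology :
    Scheme.ProEt.topology S =
      (Scheme.ProEt.forget S).restrictedTopology (Scheme.proetaleTopology.over S) :=
  MorphismProperty.toGrothendieck_comap_forget_eq_restrictedTopology
    _ Scheme.proetalePrecoverage_le_precoverage_weaklyEtale

set_option backward.isDefEq.respectTransparency.types false in
instance isCocontinuous_forget : (Scheme.ProEt.forget S).IsCocontinuous (Scheme.ProEt.topology S)
    (Scheme.proetaleTopology.over S) := by
  rw [topology_eq_restrictedTopology]
  infer_instance

/-- the unit `F ⟶ u^s u_s F` is an isomorphism. -/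
theorem isIso_unit (F : Sheaf (Scheme.ProEt.topology S) AddCommGrpCat.{u + 1}) :
    IsIso (((Scheme.ProEt.forget S).sheafAdjunctionContinuous AddCommGrpCat.{u + 1}
      (Scheme.ProEt.topology S) (Scheme.proetaleTopology.over S)).unit.app F) := by
  let t : Adjunction.Triple _ _ _ :=
    { adj₁ := (Scheme.ProEt.forget S).sheafAdjunctionContinuous AddCommGrpCat.{u + 1}
        (Scheme.ProEt.topology S) (Scheme.proetaleTopology.over S)
      adj₂ := (Scheme.ProEt.forget S).sheafAdjunctionCocontinuous AddCommGrpCat.{u + 1}
        (Scheme.ProEt.topology S) (Scheme.proetaleTopology.over S) }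
  have : IsIso t.adj₁.unit := by
    rw [t.isIso_unit_iff_isIso_counit]
    rw [NatTrans.isIso_iff_isIso_app]
    intro G
    have : IsIso ((sheafToPresheaf _ _).map (t.adj₂.counit.app G)) := by
      change IsIso (t.adj₂.counit.app G).hom
      erw [Functor.sheafAdjunctionCocontinuous_counit_app_hom]
      have : (Scheme.ProEt.forget S).op.Full := inferInstance
      have : (Scheme.ProEt.forget S).op.Faithful := inferInstance
      have key : IsIso (((Scheme.ProEt.forget S).op.ranAdjunction
          AddCommGrpCat.{u + 1}).counit.app G.obj) :=
        inferInstance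
      exact key
    exact isIso_of_fully_faithful (sheafToPresheaf _ _) _
  exact inferInstanceAs (IsIso (t.adj₁.unit.app F))

/-- restriction to the small pro-étale site is exact. -/
theorem exact_res :
    PreservesFiniteLimits ((Scheme.ProEt.forget S).sheafPushforwardContinuous AddCommGrpCat.{u + 1}
      (Scheme.ProEt.topology S) (Scheme.proetaleTopology.over S)) ∧
    PreservesFiniteColimits ((Scheme.ProEt.forget S).sheafPushforwardContinuous
      AddCommGrpCat.{u + 1} (Scheme.ProEt.topology S) (Scheme.proetaleTopology.over S)) := by
  haveI : PreservesLimitsOfSize.{0, 0} ((Scheme.ProEt.forget S).sheafPushforwardContinuous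
      AddCommGrpCat.{u + 1} (Scheme.ProEt.topology S) (Scheme.proetaleTopology.over S)) :=
    ((Scheme.ProEt.forget S).sheafAdjunctionContinuous AddCommGrpCat.{u + 1}
      (Scheme.ProEt.topology S) (Scheme.proetaleTopology.over S)).rightAdjoint_preservesLimits
  haveI : PreservesColimitsOfSize.{0, 0} ((Scheme.ProEt.forget S).sheafPushforwardContinuous
      AddCommGrpCat.{u + 1} (Scheme.ProEt.topology S) (Scheme.proetaleTopology.over S)) :=
    ((Scheme.ProEt.forget S).sheafAdjunctionCocontinuous AddCommGrpCat.{u + 1}
      (Scheme.ProEt.topology S) (Scheme.proetaleTopology.over S)).leftAdjoint_preservesColimits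
  exact ⟨PreservesLimitsOfSize.preservesFiniteLimits _,
    PreservesColimitsOfSize.preservesFiniteColimits _⟩

end Groth.Agent.Lib.Helper32.ProEtUnit
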