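import Mathlib

set_option autoImplicit false
universe v u

namespace Groth.Agent.Lib.Helper32.ProjLift

open CategoryTheory CategoryTheory.Limits CategoryTheory.Pretriangulated CochainComplex
  DerivedCategory

variable {A : Type u} [Category.{v} A] [Abelian A]

attribute [local instance] HasDerivedCategory.standard

/-- the cone of `α` is acyclic in degrees `≥ n` -/
lemma cone_isLE {E L : CochainComplex A ℤ} (α : E ⟶ L) (n : ℤ)
    (hiso : ∀ i : ℤ, n < i → IsIso (HomologicalComplex.homologyMap α i))
    (hepi : Epi (HomologicalComplex.homologyMap α n)) :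
    (mappingCone α).IsLE (n - 1) := by
  rw [CochainComplex.isLE_iff]
  intro i hi
  rw [HomologicalComplex.exactAt_iff_isZero_homology]
  let T := Q.mapTriangle.obj (CochainComplex.mappingCone.triangle α)
  have hT : T ∈ distTriang (DerivedCategory A) := by
    rw [DerivedCategory.mem_distTriang_iff]
    exact ⟨E, L, α, ⟨Iso.refl _⟩⟩
  -- transfer hypotheses
  have e : ∀ j, Arrow.mk ((homologyFunctor A j).map T.mor₁) ≅
      Arrow.mk ((HomologicalComplex.homologyFunctor A (ComplexShape.up ℤ) j).map α) := fun j =>
    Arrow.isoMk ((homologyFunctorFactors A j).app E) ((homologyFunctorFactors A j).app L)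
      ((homologyFunctorFactors A j).hom.naturality α).symm
  have hepi' : ∀ j, n ≤ j → Epi ((homologyFunctor A j).map T.mor₁) := by
    intro j hj
    have h1 : Epi ((HomologicalComplex.homologyFunctor A (ComplexShape.up ℤ) j).map α) := by
      rcases eq_or_lt_of_le hj with rfl | h
      · exact hepi
      · have : IsIso ((HomologicalComplex.homologyFunctor A (ComplexShape.up ℤ) j).map α) :=
          hiso j h
        infer_instance
    exact ((MorphismProperty.epimorphisms _).arrow_mk_iso_iff (e j)).2 h1
  have hmono' : ∀ j, n < j → Mono ((homologyFunctor A j).map T.mor₁) := by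
    intro j hj
    have : IsIso ((HomologicalComplex.homologyFunctor A (ComplexShape.up ℤ) j).map α) :=
      hiso j hj
    have h1 : Mono ((HomologicalComplex.homologyFunctor A (ComplexShape.up ℤ) j).map α) :=
      inferInstance
    exact ((MorphismProperty.monomorphisms _).arrow_mk_iso_iff (e j)).2 h1
  have h2 := (HomologySequence.epi_homologyMap_mor₁_iff T hT i).1 (hepi' i (by omega))
  have h3 := (HomologySequence.mono_homologyMap_mor₁_iff T hT i (i+1) rfl).1
    (hmono' (i+1) (by omega))
  have hz : IsZero ((homologyFunctor A i).obj T.obj₃) :=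
    (HomologySequence.exact₃ T hT i (i+1) rfl).isZero_of_both_zeros h2 h3
  exact IsZero.of_iso hz ((homologyFunctorFactors A i).app (mappingCone α)).symm


/-- maps from a K-projective complex concentrated in degrees `≥ n` to a complex acyclic in degrees
`≥ n` vanish in the homotopy category -/
lemma hom_eq_zero (P C : CochainComplex A ℤ) (n : ℤ) [P.IsStrictlyGE n] [P.IsKProjective]
    [C.IsLE (n - 1)]
    (φ : (HomotopyCategory.quotient _ _).obj P ⟶ (HomotopyCategory.quotient A (ComplexShape.up ℤ)).obj C) :
    φ = 0 := by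
  apply (CochainComplex.IsKProjective.Qh_map_bijective P _).1
  rw [Functor.map_zero]
  -- the quasi-iso from the truncation
  let ι := C.ιTruncLE (n - 1)
  have hι : IsIso (Qh.map ((HomotopyCategory.quotient A (ComplexShape.up ℤ)).map ι)) := by
    have : QuasiIso ι := inferInstance
    have h2 : IsIso (Q.map ι) := inferInstance
    exact ((NatIso.isIso_map_iff (quotientCompQhIso A) ι).2 h2)
  obtain ⟨ψ₀, hψ₀⟩ := (CochainComplex.IsKProjective.Qh_map_bijective P _).2
    (Qh.map φ ≫ inv (Qh.map ((HomotopyCategory.quotient A (ComplexShape.up ℤ)).map ι)))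
  obtain ⟨g, rfl⟩ := (HomotopyCategory.quotient A (ComplexShape.up ℤ)).map_surjective ψ₀
  have hg : g = 0 := by
    ext i
    by_cases hi : i < n
    · exact (P.isZero_of_isStrictlyGE n i hi).eq_of_src _ _
    · exact ((C.truncLE (n - 1)).isZero_of_isStrictlyLE (n - 1) i (by omega)).eq_of_tgt _ _
  rw [hg, Functor.map_zero, Functor.map_zero] at hψ₀
  have := hψ₀.symm
  rw [← cancel_mono (inv (Qh.map ((HomotopyCategory.quotient A (ComplexShape.up ℤ)).map ι))),
    zero_comp]
  exact this

theorem main (P E L : CochainComplex A ℤ) (β : P ⟶ L) (α : E ⟶ L) (n b : ℤ)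
    [P.IsStrictlyGE n] [P.IsStrictlyLE b]
    (hP : ∀ i : ℤ, Projective (P.X i))
    (hiso : ∀ i : ℤ, n < i → IsIso (HomologicalComplex.homologyMap α i))
    (hepi : Epi (HomologicalComplex.homologyMap α n)) :
    ∃ γ : P ⟶ E, Nonempty (Homotopy (γ ≫ α) β) := by
  have : P.IsKProjective := CochainComplex.isKProjective_of_projective P b
  have : (mappingCone α).IsLE (n - 1) := cone_isLE α n hiso hepi
  have hT := HomotopyCategory.mappingCone_triangleh_distinguished α
  obtain ⟨g, hg⟩ := Triangle.coyoneda_exact₂ _ hT
    ((HomotopyCategory.quotient A (ComplexShape.up ℤ)).map β) (hom_eq_zero P (mappingCone α) n _)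
  obtain ⟨γ, rfl⟩ := (HomotopyCategory.quotient A (ComplexShape.up ℤ)).map_surjective g
  refine ⟨γ, ⟨HomotopyCategory.homotopyOfEq _ _ ?_⟩⟩
  rw [Functor.map_comp]
  exact hg.symm

end Groth.Agent.Lib.Helper32.ProjLift
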