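import Mathlib
import Groth.Prelude.Def_ModSite

set_option autoImplicit false
universe u
open CategoryTheory CategoryTheory.Limits Opposite SheafOfModules

namespace Groth.Agent.Lib.Helper32.PullGen

section General

variable {C D : Type u} [SmallCategory C] [SmallCategory D] [HasBinaryProducts C]
  [HasBinaryProducts D] [Quiver.IsThin C]
  {J : GrothendieckTopology C} {K : GrothendieckTopology D}
  {R : Sheaf J RingCat.{u}} {S : Sheaf K RingCat.{u}} {F : D ⥤ C} [F.IsContinuous K J]
  (φ : S ⟶ (F.sheafPushforwardContinuous RingCat.{u} K J).obj R)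
  [(pushforward.{u} φ).IsRightAdjoint]
  (G : SheafOfModules.{u} S) (U : D)

/-- the unit `G ⟶ φ_* φ^* G` -/
noncomputable abbrev eta : G ⟶ (pushforward.{u} φ).obj ((SheafOfModules.pullback.{u} φ).obj G) :=
  (pullbackPushforwardAdjunction.{u} φ).unit.app G

/-- the element of `(φ^*G)(F U)` attached to a section of `G.over U` -/
noncomputable def elt (s : (G.over U).sections) : ((SheafOfModules.pullback.{u} φ).obj G).val.obj (op (F.obj U)) :=
  (eta φ G).val.app (op U) (s.val (op (Over.mk (𝟙 U))))

/-- the section of `(φ^*G).over (F U)` attached to a section of `G.over U` -/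
noncomputable def sec (s : (G.over U).sections) : (((SheafOfModules.pullback.{u} φ).obj G).over (F.obj U)).sections :=
  PresheafOfModules.sectionsMk
    (fun Y => ((SheafOfModules.pullback.{u} φ).obj G).val.map (Y.unop.hom).op (elt φ G U s))
    (by
      intro Y Y' a
      show ((SheafOfModules.pullback.{u} φ).obj G).val.map (a.unop.left).op
        (((SheafOfModules.pullback.{u} φ).obj G).val.map (Y.unop.hom).op (elt φ G U s)) = _
      rw [← PresheafOfModules.map_comp_apply]
      exact PresheafOfModules.congr_map_apply _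
        (by rw [← op_comp, Over.w]) _)

lemma sec_val (s : (G.over U).sections) (Y : (Over (F.obj U))ᵒᵖ) :
    (sec φ G U s).val Y =
      ((SheafOfModules.pullback.{u} φ).obj G).val.map (Y.unop.hom).op (elt φ G U s) := rfl

variable {G U}

/-- the adjunct `G ⟶ φ_* (star_V)_* Q` of `q : (φ^*G).over V ⟶ Q` -/
noncomputable def adjunct {Q : SheafOfModules.{u} (R.over (F.obj U))}
    (q : ((SheafOfModules.pullback.{u} φ).obj G).over (F.obj U) ⟶ Q) :
    G ⟶ (pushforward.{u} φ).obj ((pushforward.{u} (pushforwardOver (R := R) (F.obj U))).obj Q) :=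
  eta φ G ≫ (pushforward.{u} φ).map
    ((overPushforwardOverAdj.{u} (R := R) (F.obj U)).unit.app _ ≫
      (pushforward.{u} (pushforwardOver (R := R) (F.obj U))).map q)

lemma adjunct_app {Q : SheafOfModules.{u} (R.over (F.obj U))}
    (q : ((SheafOfModules.pullback.{u} φ).obj G).over (F.obj U) ⟶ Q) (W : D)
    (g : G.val.obj (op W)) :
    (adjunct φ q).val.app (op W) g =
      q.val.app (op ((Over.star (F.obj U)).obj (F.obj W)))
        (((SheafOfModules.pullback.{u} φ).obj G).val.map
          ((Over.forgetAdjStar (F.obj U)).counit.app (F.obj W)).op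
          ((eta φ G).val.app (op W) g)) := rfl

lemma eq_zero_of_adjunct_eq_zero {Q : SheafOfModules.{u} (R.over (F.obj U))}
    (q : ((SheafOfModules.pullback.{u} φ).obj G).over (F.obj U) ⟶ Q)
    (h : adjunct φ q = 0) : q = 0 := by
  have e1 : adjunct φ q = (pullbackPushforwardAdjunction.{u} φ).homEquiv _ _
      ((overPushforwardOverAdj.{u} (R := R) (F.obj U)).homEquiv _ _ q) := by
    rw [Adjunction.homEquiv_unit, Adjunction.homEquiv_unit]
    rfl
  have z1 : (pullbackPushforwardAdjunction.{u} φ).homEquiv G
      ((pushforward.{u} (pushforwardOver (R := R) (F.obj U))).obj Q) 0 = 0 := by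
    rw [Adjunction.homEquiv_unit]
    have : (pushforward.{u} φ).map
        (0 : (SheafOfModules.pullback.{u} φ).obj G ⟶
          (pushforward.{u} (pushforwardOver (R := R) (F.obj U))).obj Q) = 0 := rfl
    rw [this, comp_zero]
  have z2 : (overPushforwardOverAdj.{u} (R := R) (F.obj U)).homEquiv
      ((SheafOfModules.pullback.{u} φ).obj G) Q 0 = 0 := by
    rw [Adjunction.homEquiv_unit]
    have : (pushforward.{u} (pushforwardOver (R := R) (F.obj U))).map
        (0 : ((SheafOfModules.pullback.{u} φ).obj G).over (F.obj U) ⟶ Q) = 0 := rfl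
    erw [this, comp_zero]
  rw [e1, ← z1] at h
  have h2 := ((pullbackPushforwardAdjunction.{u} φ).homEquiv _ _).injective h
  rw [← z2] at h2
  exact ((overPushforwardOverAdj.{u} (R := R) (F.obj U)).homEquiv _ _).injective h2

instance thinOver (V : C) : Quiver.IsThin (Over V) :=
  fun _ _ => ⟨fun a b => Over.OverMorphism.ext (Subsingleton.elim _ _)⟩

/-- **generation of the pullback restricted to `F U`** (thin target site) -/
theorem epi_sec
    (hF : ∀ W : D, IsIso ((Over.star (F.obj U)).map (F.map (prod.snd : U ⨯ W ⟶ W))))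
    (σ : (G.over U).GeneratingSections) :
    Epi ((((SheafOfModules.pullback.{u} φ).obj G).over (F.obj U)).freeHomEquiv.symm
      (fun i => sec φ G U (σ.s i))) := by
  apply Preadditive.epi_of_cancel_zero
  intro Q q hq
  apply eq_zero_of_adjunct_eq_zero φ q
  -- `q` kills the sections
  have H : ∀ (i : σ.I) (Y : (Over (F.obj U))ᵒᵖ), q.val.app Y ((sec φ G U (σ.s i)).val Y) = 0 := by
    intro i Y
    have hq' : (((SheafOfModules.pullback.{u} φ).obj G).over (F.obj U)).freeHomEquiv.symm
        (fun i => sec φ G U (σ.s i)) ≫ q =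
        (((SheafOfModules.pullback.{u} φ).obj G).over (F.obj U)).freeHomEquiv.symm
        (fun i => sec φ G U (σ.s i)) ≫ 0 := by rw [hq, comp_zero]
    have h1 := congrArg (fun f => (Q.freeHomEquiv f i).val Y) hq'
    simp only [freeHomEquiv_comp_apply, Equiv.apply_symm_apply] at h1
    exact h1
  -- step A': the adjunct kills the generating sections over `U`
  have A' : ∀ i : σ.I, (adjunct φ q).val.app (op U) ((σ.s i).val (op (Over.mk (𝟙 U)))) = 0 := by
    intro i
    rw [adjunct_app]
    have h := H i (op ((Over.star (F.obj U)).obj (F.obj U)))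
    rw [sec_val] at h
    have e : (Over.forgetAdjStar (F.obj U)).counit.app (F.obj U) =
        ((Over.star (F.obj U)).obj (F.obj U)).hom := Subsingleton.elim _ _
    have e2 := PresheafOfModules.congr_map_apply ((SheafOfModules.pullback.{u} φ).obj G).val
      (congrArg Quiver.Hom.op e) (elt φ G U (σ.s i))
    erw [← e2] at h
    exact h
  -- step A: the adjunct vanishes on objects over `U`
  have A : ∀ (Y : Over U) (g : G.val.obj (op Y.left)), (adjunct φ q).val.app (op Y.left) g = 0 := by
    have hρ : (overFunctor S U).map (adjunct φ q) = 0 := by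
      rw [← cancel_epi σ.π, comp_zero]
      have e0 : σ.π ≫ (overFunctor S U).map (adjunct φ q) =
          σ.π ≫ (0 : G.over U ⟶ (overFunctor S U).obj _) := by
        show (G.over U).freeHomEquiv.symm σ.s ≫ _ = (G.over U).freeHomEquiv.symm σ.s ≫ _
        rw [freeHomEquiv_symm_comp, freeHomEquiv_symm_comp]
        congr 1
        funext i
        apply PresheafOfModules.sections_ext
        intro Y
        have hs := PresheafOfModules.sections_property (σ.s i)
          (Over.homMk Y.unop.hom (by simp) : Y.unop ⟶ Over.mk (𝟙 U)).op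
        show ((overFunctor S U).map (adjunct φ q)).val.app Y ((σ.s i).val Y) = 0
        rw [← hs, PresheafOfModules.naturality_apply]
        have h0 : ((overFunctor S U).map (adjunct φ q)).val.app (op (Over.mk (𝟙 U)))
            ((σ.s i).val (op (Over.mk (𝟙 U)))) = 0 := A' i
        rw [h0, map_zero]
        rfl
      rw [e0, comp_zero]
    intro Y g
    exact congrArg (fun r => r.val.app (op Y) g) hρ
  -- step B: it vanishes everywhere
  apply SheafOfModules.hom_ext
  apply PresheafOfModules.hom_ext
  intro W
  ext g
  show (adjunct φ q).val.app W g = 0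
  obtain ⟨W'⟩ := W
  let a : U ⨯ W' ⟶ W' := prod.snd
  let Y : Over U := Over.mk (prod.fst : U ⨯ W' ⟶ U)
  have hA := A Y (G.val.map a.op g)
  have hn := PresheafOfModules.naturality_apply (adjunct φ q).val a.op g
  haveI := hF W'
  let e := (Over.star (F.obj U)).map (F.map a)
  let x : Q.val.obj (op ((Over.star (F.obj U)).obj (F.obj W'))) :=
    (adjunct φ q).val.app (op W') g
  show x = 0
  have hx0 : Q.val.map e.op x = 0 := hn.symm.trans hA
  have hx1 : x = Q.val.map (inv e).op (Q.val.map e.op x) := by
    rw [← PresheafOfModules.map_comp_apply, ← op_comp, IsIso.inv_hom_id, op_id]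
    simp
  rw [hx1, hx0]
  exact map_zero (Q.val.map (inv e).op).hom

end General

end Groth.Agent.Lib.Helper32.PullGen
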