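import Groth.Agent.S11329
import Groth.Agent.Lib.QCoh.Helper50_AffineDict
import Groth.Agent.Lib.QCoh.Helper43_PushQcqs

set_option autoImplicit false
universe u
open CategoryTheory CategoryTheory.Limits AlgebraicGeometry Opposite TopologicalSpace

namespace Groth.Agent.Lib.Helper32.QCohInjFlasque

open Scheme.Modules Groth.Agent.Lib.QCoh

variable {X : Scheme.{u}}

/-- flasque modules -/
def IsFlasque (G : X.Modules) : Prop :=
  ∀ (U V : X.Opens) (h : U ≤ V), Function.Surjective (G.presheaf.map (homOfLE h).op)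

variable {R : CommRingCat.{u}}

example (N : ModuleCat.{u} R) : EnoughInjectives (ModuleCat.{u} R) := inferInstance

theorem exists_mono_tilde_injective [IsNoetherianRing R] (M : (Spec R).Modules) [M.IsQuasicoherent] :
    ∃ (I : ModuleCat.{u} R) (_ : Module.Injective R I) (ψ : M ⟶ tilde I), Mono ψ := by
  let N : ModuleCat.{u} R := (modulesSpecToSheaf.obj M).presheaf.obj (.op ⊤)
  let I := Injective.under N
  have hI : Injective I := inferInstance
  haveI hiso : IsIso M.fromTildeΓ := Scheme.Modules.isIso_fromTildeΓ_of_isQuasicoherent M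
  refine ⟨I, ?_, inv M.fromTildeΓ ≫ tilde.map (Injective.ι N), ?_⟩
  · exact @Module.injective_module_of_injective_object R I _ _ _ hI
  · infer_instance

/-- flasqueness of the tilde of an injective module (helper58, S11329) -/
theorem isFlasque_tilde_of_injective [IsNoetherianRing R] (I : ModuleCat.{u} R)
    [Module.Injective R I] : IsFlasque (tilde I) := by
  intro U V h s
  obtain ⟨t, ht⟩ := Groth.Agent.S11329.result R I U V h s
  exact ⟨t, ht⟩

theorem isFlasque_pushforward {Y : Scheme.{u}} (f : Y ⟶ X) (G : Y.Modules) (hG : IsFlasque G) :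
    IsFlasque ((pushforward f).obj G) := by
  intro U V h s
  obtain ⟨t, ht⟩ := hG (f ⁻¹ᵁ U) (f ⁻¹ᵁ V) (by
    intro x hx; exact h hx) s
  exact ⟨t, ht⟩

end Groth.Agent.Lib.Helper32.QCohInjFlasque

namespace Groth.Agent.Lib.Helper32.QCohInjFlasque

open Scheme.Modules Groth.Agent.Lib.QCoh

variable {X : Scheme.{u}}

theorem exists_flasque_piece [IsNoetherian X] (J : X.Modules) [J.IsQuasicoherent] {U : X.Opens}
    (hU : IsAffineOpen U) :
    ∃ (G : X.Modules) (_ : G.IsQuasicoherent) (_ : IsFlasque G) (φ : J ⟶ G),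
      ∀ (V : X.Opens) (s : Γ(J, V)), φ.app V s = 0 →
        ∀ (W : X.Opens) (hWV : W ≤ V), W ≤ U → J.presheaf.map (homOfLE hWV).op s = 0 := by
  haveI : IsNoetherianRing Γ(X, U) := IsLocallyNoetherian.component_noetherian ⟨U, hU⟩
  haveI : (J.restrict hU.fromSpec).IsQuasicoherent := isQuasicoherent_restrict hU.fromSpec J
  obtain ⟨I, hI, ψ, hψ⟩ := exists_mono_tilde_injective (J.restrict hU.fromSpec)
  haveI : QuasiCompact hU.fromSpec := inferInstance
  haveI : QuasiSeparated hU.fromSpec := inferInstance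
  refine ⟨(pushforward hU.fromSpec).obj (tilde I),
    isQuasicoherent_pushforward_of_qcqs hU.fromSpec (tilde I),
    isFlasque_pushforward hU.fromSpec _ (isFlasque_tilde_of_injective I),
    (restrictAdjunction hU.fromSpec).unit.app J ≫ (pushforward hU.fromSpec).map ψ, ?_⟩
  intro V s hs W hWV hWU
  have h1 : J.presheaf.map (homOfLE (hU.fromSpec.image_preimage_le V)).op s = 0 := by
    apply app_injective_of_mono ψ (hU.fromSpec ⁻¹ᵁ V)
    exact hs.trans (map_zero (ψ.app (hU.fromSpec ⁻¹ᵁ V)).hom).symm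
  have hW : W ≤ hU.fromSpec ''ᵁ hU.fromSpec ⁻¹ᵁ V := by
    rw [Scheme.Hom.image_preimage_eq_opensRange_inf, hU.opensRange_fromSpec]
    exact le_inf hWU hWV
  have h2 : J.presheaf.map (homOfLE hWV).op s = J.presheaf.map (homOfLE hW).op
      (J.presheaf.map (homOfLE (hU.fromSpec.image_preimage_le V)).op s) := by
    rw [← ConcreteCategory.comp_apply, ← Functor.map_comp]
    rfl
  rw [h2, h1, map_zero]

end Groth.Agent.Lib.Helper32.QCohInjFlasque
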