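import Groth.Agent.Lib.Helper32.QCohInjFlasque1

set_option autoImplicit false
universe u
open CategoryTheory CategoryTheory.Limits AlgebraicGeometry Opposite TopologicalSpace

namespace Groth.Agent.Lib.Helper32.QCohInjFlasque

open Scheme.Modules Groth.Agent.Lib.QCoh

variable {X : Scheme.{u}}

instance : HasFiniteBiproducts X.Modules := HasFiniteBiproducts.of_hasFiniteProducts

lemma sum_app {M N : X.Modules} {ι : Type*} (s : Finset ι) (f : ι → (M ⟶ N)) (U : X.Opens) :
    (∑ i ∈ s, f i).app U = ∑ i ∈ s, (f i).app U := by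
  classical
  induction s using Finset.induction_on with
  | empty => simp
  | insert a s ha ih => rw [Finset.sum_insert ha, Finset.sum_insert ha, Hom.add_app, ih]

lemma ab_sum_apply {P Q : AddCommGrpCat} {ι : Type*} (s : Finset ι) (f : ι → (P ⟶ Q)) (x : P) :
    (∑ i ∈ s, f i) x = ∑ i ∈ s, f i x := by
  classical
  induction s using Finset.induction_on with
  | empty => simp
  | insert a s ha ih =>
    rw [Finset.sum_insert ha, Finset.sum_insert ha, AddCommGrpCat.hom_add_apply, ih]

theorem isFlasque_biproduct {ι : Type} [Fintype ι] (G : ι → X.Modules)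
    (hG : ∀ i, IsFlasque (G i)) : IsFlasque (⨁ G) := by
  intro U V h s
  choose t ht using fun i => hG i U V h ((biproduct.π G i).app U s)
  refine ⟨∑ i, (biproduct.ι G i).app V (t i), ?_⟩
  rw [map_sum]
  have key : ∀ i, (⨁ G).presheaf.map (homOfLE h).op ((biproduct.ι G i).app V (t i)) =
      ((biproduct.π G i ≫ biproduct.ι G i).app U) s := by
    intro i
    rw [← app_naturality_apply (biproduct.ι G i) (homOfLE h) (t i), ht i]
    rfl
  simp_rw [key]
  have e : ∑ j, biproduct.π G j ≫ biproduct.ι G j = 𝟙 (⨁ G) := biproduct.total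
  have e2 := congrArg (fun φ : (⨁ G) ⟶ (⨁ G) => φ.app U s) e
  simp only [sum_app] at e2
  rw [ab_sum_apply] at e2
  exact e2

lemma exists_fin_affine_cover (X : Scheme.{u}) [CompactSpace X] :
    ∃ (n : ℕ) (U : Fin n → X.Opens), (∀ i, IsAffineOpen (U i)) ∧ ⨆ i, U i = ⊤ := by
  let 𝒰 := X.affineCover.finiteSubcover
  haveI : Fintype 𝒰.I₀ := inferInstance
  let e := Fintype.equivFin 𝒰.I₀
  refine ⟨Fintype.card 𝒰.I₀, fun i => (𝒰.f (e.symm i)).opensRange,
    fun i => isAffineOpen_opensRange _, ?_⟩
  rw [← 𝒰.iSup_opensRange]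
  exact e.symm.iSup_comp (g := fun j => (𝒰.f j).opensRange)

theorem exists_mono_flasque [IsNoetherian X] (J : X.Modules) [J.IsQuasicoherent] :
    ∃ (G : X.Modules) (_ : G.IsQuasicoherent) (_ : IsFlasque G) (φ : J ⟶ G), Mono φ := by
  obtain ⟨n, U, hU, hcov⟩ := exists_fin_affine_cover X
  choose G hGq hGf φ hφ using fun i => exists_flasque_piece J (hU i)
  refine ⟨⨁ G, ?_, isFlasque_biproduct G hGf, biproduct.lift φ, ?_⟩
  · exact isQuasicoherent_of_iso (biproduct.isoProduct G).symm (isQuasicoherent_pi_of_finite G hGq)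
  · apply mono_of_app_injective
    intro V
    rw [injective_iff_map_eq_zero]
    intro s hs
    apply sections_ext_of_cover J (fun i => U i ⊓ V) V (fun i => inf_le_right)
      (by rw [← iSup_inf_eq, hcov, top_inf_eq]) s 0
    intro i
    rw [map_zero]
    apply hφ i V s _ (U i ⊓ V) inf_le_right inf_le_left
    have h1 : (biproduct.lift φ ≫ biproduct.π G i).app V s = 0 := by
      change (biproduct.π G i).app V ((biproduct.lift φ).app V s) = 0
      rw [hs, map_zero]
    rwa [biproduct.lift_π] at h1

end Groth.Agent.Lib.Helper32.QCohInjFlasque
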