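import Mathlib
import Groth.Statements.S10067

set_option autoImplicit false
universe u
open CategoryTheory CategoryTheory.Limits AlgebraicGeometry Opposite
open AlgSp

namespace Groth.Agent.Lib.Helper32.RelLimPres

variable {S : Scheme.{u}}

lemma map_congr_left (F : AlgSp.PSp S) {X Y : Over S} (φ ψ : X ⟶ Y) (h : φ.left = ψ.left) :
    F.map φ.op = F.map ψ.op := by
  have : φ = ψ := Over.OverMorphism.ext h
  rw [this]

lemma map_map (F : AlgSp.PSp S) {X Y Z : Over S} (φ : X ⟶ Y) (ψ : Y ⟶ Z) (x : F.obj (op Z)) :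
    F.map φ.op (F.map ψ.op x) = F.map (φ ≫ ψ).op x := by
  rw [op_comp, Functor.map_comp_apply]

lemma map_map_congr (F : AlgSp.PSp S) {X Y Y' Z : Over S} (φ : X ⟶ Y) (ψ : Y ⟶ Z)
    (φ' : X ⟶ Y') (ψ' : Y' ⟶ Z) (h : φ.left ≫ ψ.left = φ'.left ≫ ψ'.left) (x : F.obj (op Z)) :
    F.map φ.op (F.map ψ.op x) = F.map φ'.op (F.map ψ'.op x) := by
  rw [map_map, map_map, map_congr_left F (φ ≫ ψ) (φ' ≫ ψ') (by simpa using h)]

lemma map_eq_map_map (F : AlgSp.PSp S) {X Y Z : Over S} (χ : X ⟶ Z) (φ : X ⟶ Y) (ψ : Y ⟶ Z)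
    (h : χ.left = φ.left ≫ ψ.left) (x : F.obj (op Z)) :
    F.map χ.op x = F.map φ.op (F.map ψ.op x) := by
  rw [map_map, map_congr_left F χ (φ ≫ ψ) (by simpa using h)]

lemma nat_apply {F G : AlgSp.PSp S} (a : F ⟶ G) {X Y : Over S} (φ : X ⟶ Y) (x : F.obj (op Y)) :
    a.app (op X) (F.map φ.op x) = G.map φ.op (a.app (op Y) x) :=
  NatTrans.naturality_apply a φ.op x

theorem of_pullback {F G : AlgSp.PSp S} (a : F ⟶ G)
    (H : ∀ ⦃I : Type u⦄ [SmallCategory I] [IsCofiltered I] (D : I ⥤ Over S) (c : Cone D),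
        IsLimit ((Over.forget S).mapCone c) → (∀ i, IsAffine (D.obj i).left) → IsAffine c.pt.left →
          IsPullback (colimMap (Functor.whiskerLeft D.op a)) (colimit.desc (D.op ⋙ F) (F.mapCocone c.op))
            (colimit.desc (D.op ⋙ G) (G.mapCocone c.op)) (a.app (Opposite.op c.pt))) :
    AlgSp.IsRelLimitPreserving a := by
  intro T y I _ _ D c hc hD hT
  let D' : I ⥤ Over S := D ⋙ Over.map T.hom
  let c' : Cone D' := (Over.map T.hom).mapCone c
  have hc' : IsLimit ((Over.forget S).mapCone c') := hc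
  have hpb := H D' c' hc' hD hT
  rw [Types.isPullback_iff] at hpb
  obtain ⟨hw, hinj, hsurj⟩ := hpb
  have hιmap : ∀ (j : Iᵒᵖ) (x : F.obj (op (D'.obj j.unop))),
      colimMap (Functor.whiskerLeft D'.op a) (colimit.ι (D'.op ⋙ F) j x) =
        colimit.ι (D'.op ⋙ G) j (a.app _ x) := fun j x =>
    ConcreteCategory.congr_hom (ι_colimMap (Functor.whiskerLeft D'.op a) j) x
  have hιdescF : ∀ (j : Iᵒᵖ) (x : F.obj (op (D'.obj j.unop))),
      colimit.desc (D'.op ⋙ F) (F.mapCocone c'.op) (colimit.ι (D'.op ⋙ F) j x) =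
        F.map (c'.π.app j.unop).op x := fun j x =>
    ConcreteCategory.congr_hom (colimit.ι_desc (F.mapCocone c'.op) j) x
  have hιdescG : ∀ (j : Iᵒᵖ) (x : G.obj (op (D'.obj j.unop))),
      colimit.desc (D'.op ⋙ G) (G.mapCocone c'.op) (colimit.ι (D'.op ⋙ G) j x) =
        G.map (c'.π.app j.unop).op x := fun j x =>
    ConcreteCategory.congr_hom (colimit.ι_desc (G.mapCocone c'.op) j) x
  refine ⟨Types.FilteredColimit.isColimitOf' _ _ ?_ ?_⟩
  · rintro ⟨x₀, hx₀⟩
    obtain ⟨i₀⟩ := IsCofiltered.nonempty (C := I)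
    let g₀ : G.obj (op (D'.obj i₀)) := G.map (overHom T (D.obj i₀)).op y
    have h1 : colimit.desc (D'.op ⋙ G) (G.mapCocone c'.op) (colimit.ι (D'.op ⋙ G) (op i₀) g₀) =
        a.app (op c'.pt) x₀ := by
      refine (hιdescG _ _).trans (Eq.trans ?_ hx₀.symm)
      exact (map_eq_map_map G _ _ _ (by simp [c']) y).symm
    obtain ⟨x₁, hx₁, hx₁'⟩ := hsurj _ _ h1
    obtain ⟨j, xj, rfl⟩ := Types.jointly_surjective' x₁
    rw [hιmap] at hx₁
    rw [hιdescF] at hx₁'
    obtain ⟨k, f, g, hk⟩ := (Types.FilteredColimit.colimit_eq_iff _).1 hx₁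
    have hk' : a.app _ (F.map (D'.map f.unop).op xj) =
        G.map (overHom T (D.obj k.unop)).op y := by
      rw [nat_apply]
      refine Eq.trans hk ?_
      exact (map_eq_map_map G _ _ _ (by simp [D']) y).symm
    refine ⟨k, ⟨F.map (D'.map f.unop).op xj, hk'⟩, ?_⟩
    apply Subtype.ext
    refine hx₁'.symm.trans ?_
    exact map_eq_map_map F _ _ _ (congrArg (fun t => t.left) (c.w f.unop)).symm xj
  · rintro i ⟨x₀, hx₀⟩ ⟨y₀, hy₀⟩ hxy
    have hxy' : F.map (c'.π.app i.unop).op x₀ = F.map (c'.π.app i.unop).op y₀ :=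
      congrArg Subtype.val hxy
    have h2 : colimit.ι (D'.op ⋙ F) i x₀ = colimit.ι (D'.op ⋙ F) i y₀ := by
      apply hinj
      refine ⟨?_, ?_⟩
      · exact (hιmap _ _).trans ((congrArg _ (hx₀.trans hy₀.symm)).trans (hιmap _ _).symm)
      · exact (hιdescF _ _).trans (hxy'.trans (hιdescF _ _).symm)
    obtain ⟨k, f, hk⟩ := (Types.FilteredColimit.isColimit_eq_iff' (colimit.isColimit _) _ _).1 h2
    exact ⟨k, f, Subtype.ext hk⟩

section Forward

variable {I : Type u} [SmallCategory I]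
  (D : I ⥤ Over S) (c : Cone D)

/-- the restricted diagram over `j₀`. -/
noncomputable abbrev Dj (j₀ : I) : Over j₀ ⥤ Over (D.obj j₀).left :=
  Over.post (X := j₀) (D ⋙ Over.forget S)

noncomputable abbrev cj (j₀ : I) : Cone (Dj D j₀) :=
  ((Over.forget S).mapCone c).overPost j₀

noncomputable def eK (j₀ : I) (k : Over j₀) :
    (Over.map (D.obj j₀).hom).obj ((Dj D j₀).obj k) ≅ D.obj k.left :=
  Over.isoMk (Iso.refl _) (by
    show 𝟙 (D.obj k.left).left ≫ (D.obj k.left).hom = (D.map k.hom).left ≫ (D.obj j₀).hom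
    rw [Category.id_comp, Over.w])

noncomputable def eP (j₀ : I) :
    (Over.map (D.obj j₀).hom).obj (cj D c j₀).pt ≅ c.pt :=
  Over.isoMk (Iso.refl _) (by
    show 𝟙 c.pt.left ≫ c.pt.hom = (c.π.app j₀).left ≫ (D.obj j₀).hom
    rw [Category.id_comp, Over.w]
    rfl)

@[simp] lemma eK_hom_left (j₀ : I) (k : Over j₀) : (eK D j₀ k).hom.left = 𝟙 _ := rfl
@[simp] lemma eK_inv_left (j₀ : I) (k : Over j₀) : (eK D j₀ k).inv.left = 𝟙 _ := rfl
@[simp] lemma eP_hom_left (j₀ : I) : (eP D c j₀).hom.left = 𝟙 _ := rfl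
@[simp] lemma eP_inv_left (j₀ : I) : (eP D c j₀).inv.left = 𝟙 _ := rfl

noncomputable def isLimit_cj [IsCofiltered I] (hc : IsLimit ((Over.forget S).mapCone c)) (j₀ : I) :
    IsLimit ((Over.forget (D.obj j₀).left).mapCone (cj D c j₀)) :=
  (Functor.Initial.isLimitWhiskerEquiv (Over.forget j₀) _).symm hc

end Forward

theorem to_pullback {F G : AlgSp.PSp S} (a : F ⟶ G) (hR : AlgSp.IsRelLimitPreserving a)
    ⦃I : Type u⦄ [SmallCategory I] [IsCofiltered I] (D : I ⥤ Over S) (c : Cone D)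
    (hc : IsLimit ((Over.forget S).mapCone c)) (hD : ∀ i, IsAffine (D.obj i).left)
    (hT : IsAffine c.pt.left) :
    IsPullback (colimMap (Functor.whiskerLeft D.op a)) (colimit.desc (D.op ⋙ F) (F.mapCocone c.op))
      (colimit.desc (D.op ⋙ G) (G.mapCocone c.op)) (a.app (Opposite.op c.pt)) := by
  have hιmap : ∀ (j : Iᵒᵖ) (x : F.obj (op (D.obj j.unop))),
      colimMap (Functor.whiskerLeft D.op a) (colimit.ι (D.op ⋙ F) j x) =
        colimit.ι (D.op ⋙ G) j (a.app _ x) := fun j x =>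
    ConcreteCategory.congr_hom (ι_colimMap (Functor.whiskerLeft D.op a) j) x
  have hιdescF : ∀ (j : Iᵒᵖ) (x : F.obj (op (D.obj j.unop))),
      colimit.desc (D.op ⋙ F) (F.mapCocone c.op) (colimit.ι (D.op ⋙ F) j x) =
        F.map (c.π.app j.unop).op x := fun j x =>
    ConcreteCategory.congr_hom (colimit.ι_desc (F.mapCocone c.op) j) x
  have hιdescG : ∀ (j : Iᵒᵖ) (x : G.obj (op (D.obj j.unop))),
      colimit.desc (D.op ⋙ G) (G.mapCocone c.op) (colimit.ι (D.op ⋙ G) j x) =
        G.map (c.π.app j.unop).op x := fun j x =>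
    ConcreteCategory.congr_hom (colimit.ι_desc (G.mapCocone c.op) j) x
  have hwF : ∀ {j k : Iᵒᵖ} (f : j ⟶ k) (x : F.obj (op (D.obj j.unop))),
      colimit.ι (D.op ⋙ F) k (F.map (D.map f.unop).op x) = colimit.ι (D.op ⋙ F) j x := fun f x =>
    ConcreteCategory.congr_hom (colimit.w (D.op ⋙ F) f) x
  have hwG : ∀ {j k : Iᵒᵖ} (f : j ⟶ k) (x : G.obj (op (D.obj j.unop))),
      colimit.ι (D.op ⋙ G) k (G.map (D.map f.unop).op x) = colimit.ι (D.op ⋙ G) j x := fun f x =>
    ConcreteCategory.congr_hom (colimit.w (D.op ⋙ G) f) x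
  rw [Types.isPullback_iff]
  refine ⟨?_, ?_, ?_⟩
  · apply colimit.hom_ext
    intro j
    rw [ι_colimMap_assoc, colimit.ι_desc, colimit.ι_desc_assoc]
    exact (a.naturality (c.π.app j.unop).op).symm
  · -- injectivity
    rintro x₁ y₁ ⟨h1, h2⟩
    obtain ⟨j, x, y', rfl, rfl⟩ :=
      Types.FilteredColimit.jointly_surjective_of_isColimit₂ (colimit.isColimit (D.op ⋙ F)) x₁ y₁
    change colimMap (Functor.whiskerLeft D.op a) (colimit.ι (D.op ⋙ F) j x) =
      colimMap (Functor.whiskerLeft D.op a) (colimit.ι (D.op ⋙ F) j y') at h1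
    change colimit.desc (D.op ⋙ F) (F.mapCocone c.op) (colimit.ι (D.op ⋙ F) j x) =
      colimit.desc (D.op ⋙ F) (F.mapCocone c.op) (colimit.ι (D.op ⋙ F) j y') at h2
    change colimit.ι (D.op ⋙ F) j x = colimit.ι (D.op ⋙ F) j y'
    have h1' := (hιmap j x).symm.trans (h1.trans (hιmap j y'))
    obtain ⟨k, f, hk⟩ := (Types.FilteredColimit.isColimit_eq_iff' (colimit.isColimit _) _ _).1 h1'
    -- move to index k
    let j₀ : I := k.unop
    let xk : F.obj (op (D.obj j₀)) := F.map (D.map f.unop).op x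
    let yk : F.obj (op (D.obj j₀)) := F.map (D.map f.unop).op y'
    have haxy : a.app _ xk = a.app _ yk := by
      refine (nat_apply a _ x).trans (Eq.trans ?_ (nat_apply a _ y').symm)
      exact hk
    have h2' : F.map (c.π.app j₀).op xk = F.map (c.π.app j₀).op yk := by
      have e1 : F.map (c.π.app j₀).op xk = F.map (c.π.app j.unop).op x :=
        (map_eq_map_map F _ _ _ (congrArg (fun t => t.left) (c.w f.unop)).symm x).symm
      have e2 : F.map (c.π.app j₀).op yk = F.map (c.π.app j.unop).op y' :=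
        (map_eq_map_map F _ _ _ (congrArg (fun t => t.left) (c.w f.unop)).symm y').symm
      exact e1.trans (((hιdescF j x).symm.trans (h2.trans (hιdescF j y'))).trans e2.symm)
    suffices hs : colimit.ι (D.op ⋙ F) k xk = colimit.ι (D.op ⋙ F) k yk from
      (hwF f x).symm.trans (hs.trans (hwF f y'))
    -- apply the hypothesis over D.obj j₀ with section g
    let g : G.obj (op (D.obj j₀)) := a.app _ xk
    obtain ⟨hcol⟩ := hR (D.obj j₀) g (Dj D j₀) (cj D c j₀) (isLimit_cj D c hc j₀)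
      (fun k' => hD k'.left) hT
    let k₀ : Over j₀ := Over.mk (𝟙 j₀)
    have hleft : (eK D j₀ k₀).hom.left = (overHom (D.obj j₀) ((Dj D j₀).obj k₀)).left := by
      show 𝟙 _ = (D.map (𝟙 j₀)).left
      rw [CategoryTheory.Functor.map_id]; rfl
    have hxt : a.app _ (F.map (eK D j₀ k₀).hom.op xk) =
        G.map (overHom (D.obj j₀) ((Dj D j₀).obj k₀)).op g := by
      refine (nat_apply a _ xk).trans ?_
      exact congrArg (fun t => (ConcreteCategory.hom t) g) (map_congr_left G _ _ hleft)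
    have hyt : a.app _ (F.map (eK D j₀ k₀).hom.op yk) =
        G.map (overHom (D.obj j₀) ((Dj D j₀).obj k₀)).op g := by
      refine (nat_apply a _ yk).trans ?_
      rw [← haxy]
      exact congrArg (fun t => (ConcreteCategory.hom t) g) (map_congr_left G _ _ hleft)
    let xt : (fiberFun a (D.obj j₀) g).obj (op ((Dj D j₀).obj k₀)) :=
      ⟨F.map (eK D j₀ k₀).hom.op xk, hxt⟩
    let yt : (fiberFun a (D.obj j₀) g).obj (op ((Dj D j₀).obj k₀)) :=
      ⟨F.map (eK D j₀ k₀).hom.op yk, hyt⟩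
    have hxyt : ((fiberFun a (D.obj j₀) g).mapCocone (cj D c j₀).op).ι.app (op k₀) xt =
        ((fiberFun a (D.obj j₀) g).mapCocone (cj D c j₀).op).ι.app (op k₀) yt := by
      apply Subtype.ext
      change F.map ((Over.map (D.obj j₀).hom).map ((cj D c j₀).π.app k₀)).op
          (F.map (eK D j₀ k₀).hom.op xk) =
        F.map ((Over.map (D.obj j₀).hom).map ((cj D c j₀).π.app k₀)).op
          (F.map (eK D j₀ k₀).hom.op yk)
      have e1 := map_map_congr F ((Over.map (D.obj j₀).hom).map ((cj D c j₀).π.app k₀))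
        (eK D j₀ k₀).hom (eP D c j₀).hom (c.π.app j₀)
        ((Category.comp_id _).trans (Category.id_comp _).symm) xk
      have e2 := map_map_congr F ((Over.map (D.obj j₀).hom).map ((cj D c j₀).π.app k₀))
        (eK D j₀ k₀).hom (eP D c j₀).hom (c.π.app j₀)
        ((Category.comp_id _).trans (Category.id_comp _).symm) yk
      rw [e1, e2, h2']
    obtain ⟨k', f', hk'⟩ := (Types.FilteredColimit.isColimit_eq_iff' hcol xt yt).1 hxyt
    have hk'' : F.map ((Over.map (D.obj j₀).hom).map ((Dj D j₀).map f'.unop)).op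
          (F.map (eK D j₀ k₀).hom.op xk) =
        F.map ((Over.map (D.obj j₀).hom).map ((Dj D j₀).map f'.unop)).op
          (F.map (eK D j₀ k₀).hom.op yk) := congrArg Subtype.val hk'
    have e1 := map_map_congr F ((Over.map (D.obj j₀).hom).map ((Dj D j₀).map f'.unop))
        (eK D j₀ k₀).hom (eK D j₀ k'.unop).hom (D.map f'.unop.left)
        ((Category.comp_id _).trans (Category.id_comp _).symm) xk
    have e2 := map_map_congr F ((Over.map (D.obj j₀).hom).map ((Dj D j₀).map f'.unop))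
        (eK D j₀ k₀).hom (eK D j₀ k'.unop).hom (D.map f'.unop.left)
        ((Category.comp_id _).trans (Category.id_comp _).symm) yk
    rw [e1, e2] at hk''
    have hinj : Function.Injective (F.map (eK D j₀ k'.unop).hom.op) := by
      intro u v huv
      have := congrArg (F.map (eK D j₀ k'.unop).inv.op) huv
      simpa [map_map] using this
    have hk3 := hinj hk''
    have := congrArg (colimit.ι (D.op ⋙ F) (op k'.unop.left)) hk3
    exact (hwF (k := op k'.unop.left) (j := k) (f'.unop.left).op xk).symm.trans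
      (this.trans (hwF (k := op k'.unop.left) (j := k) (f'.unop.left).op yk))
  · -- surjectivity
    intro x₂ x₃ h
    obtain ⟨j, g, rfl⟩ := Types.jointly_surjective' x₂
    let j₀ : I := j.unop
    have h' : G.map (c.π.app j₀).op g = a.app _ x₃ := (hιdescG j g).symm.trans h
    obtain ⟨hcol⟩ := hR (D.obj j₀) g (Dj D j₀) (cj D c j₀) (isLimit_cj D c hc j₀)
      (fun k' => hD k'.left) hT
    have hx3 : a.app _ (F.map (eP D c j₀).hom.op x₃) =
        G.map (overHom (D.obj j₀) (cj D c j₀).pt).op g := by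
      refine (nat_apply a _ x₃).trans ?_
      refine Eq.trans (congrArg _ h'.symm) ?_
      exact (map_eq_map_map G _ _ _ (Category.id_comp _).symm g).symm
    let xt : (fiberFun a (D.obj j₀) g).obj (op (cj D c j₀).pt) :=
      ⟨F.map (eP D c j₀).hom.op x₃, hx3⟩
    obtain ⟨k, z, hz⟩ := Types.jointly_surjective_of_isColimit hcol xt
    have hz' : F.map ((Over.map (D.obj j₀).hom).map ((cj D c j₀).π.app k.unop)).op z.1 =
        F.map (eP D c j₀).hom.op x₃ := congrArg Subtype.val hz
    let xk : F.obj (op (D.obj k.unop.left)) := F.map (eK D j₀ k.unop).inv.op z.1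
    refine ⟨colimit.ι (D.op ⋙ F) (op k.unop.left) xk, ?_, ?_⟩
    · refine (hιmap _ _).trans ?_
      have : a.app _ xk = G.map (D.map k.unop.hom).op g := by
        refine (nat_apply a _ z.1).trans ?_
        refine Eq.trans (congrArg _ z.2) ?_
        exact (map_eq_map_map G _ _ _ (Category.id_comp _).symm g).symm
      refine (congrArg _ this).trans ?_
      exact hwG (j := j) (k := op k.unop.left) k.unop.hom.op g
    · refine (hιdescF _ _).trans ?_
      have hinj : Function.Injective (F.map (eP D c j₀).hom.op) := by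
        intro u v huv
        have := congrArg (F.map (eP D c j₀).inv.op) huv
        simpa [map_map] using this
      apply hinj
      refine Eq.trans ?_ hz'
      refine ((congrArg _ (map_map F _ _ z.1)).trans ?_)
      exact (map_eq_map_map F _ _ _
        ((Category.id_comp _).trans (Category.comp_id _)).symm z.1).symm

theorem main (S : Scheme.{u}) {F G : AlgSp.PSp S} (a : F ⟶ G) :
    AlgSp.IsRelLimitPreserving a ↔
      ∀ ⦃I : Type u⦄ [SmallCategory I] [IsCofiltered I] (D : I ⥤ Over S) (c : Cone D),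
        IsLimit ((Over.forget S).mapCone c) → (∀ i, IsAffine (D.obj i).left) → IsAffine c.pt.left →
          IsPullback (colimMap (Functor.whiskerLeft D.op a)) (colimit.desc (D.op ⋙ F) (F.mapCocone c.op))
            (colimit.desc (D.op ⋙ G) (G.mapCocone c.op)) (a.app (Opposite.op c.pt)) :=
  ⟨fun hR _ _ _ D c hc hD hT => to_pullback a hR D c hc hD hT, of_pullback a⟩

end Groth.Agent.Lib.Helper32.RelLimPres
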