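import Groth.Agent.S12784
import Groth.Agent.S12785
import Groth.Agent.S12786
import Groth.Agent.Lib.Helper80.FibCat19

/-!
# Products of representable 1-morphisms of categories over `C` (helper32)

Port of helper80's `AlgStProd2.repByAlgSpWith_fpMap` to `FibCat.IsRepresentable1`:
`fpSwap` (generic universes), `isRep1_of_iso`, `isRep1_fpSnd`, `isRep1_fpMapLeft`, `isRep1_fpMapRight`,
`isRep1_fpMap`, `selfIsoMk'`.
-/

set_option autoImplicit false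
set_option backward.isDefEq.respectTransparency false

universe v u

open CategoryTheory CategoryTheory.Functor CategoryTheory.Limits

namespace Groth.Agent.Lib.Helper32.Rep1Prod

open BasedFunctor Groth.Agent.Lib.Helper80

variable {C : Type u} [Category.{v} C]

section Swap

universe v₂ u₂ v₃ u₃ v₄ u₄
variable {𝒳 : BasedCategory.{v₂, u₂} C} {𝒴 : BasedCategory.{v₃, u₃} C} {𝒮 : BasedCategory.{v₄, u₄} C}

/-- The swap `𝒳 ×_𝒮 𝒴 ⟶ 𝒴 ×_𝒮 𝒳` (generic universes; after helper80's `AlgStBC.fpSwap`). -/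
def fpSwap (F : 𝒳 ⥤ᵇ 𝒮) (G : 𝒴 ⥤ᵇ 𝒮) : FibCat.fp F G ⥤ᵇ FibCat.fp G F :=
  FibCat.fpLift (FibCat.fpSnd F G) (FibCat.fpFst F G) (FibCat.fpIso F G).symm

theorem fpSwap_isEquivOver (F : 𝒳 ⥤ᵇ 𝒮) (G : 𝒴 ⥤ᵇ 𝒮) : FibCat.IsEquivOver (fpSwap F G) := by
  apply fpLift_isEquivOver
  · intro w w' m m' h1 h2
    apply ObjectProperty.hom_ext
    apply CategoricalPullback.hom_ext
    · exact h2
    · exact h1
  · intro w w' φ ψ hw
    have hw' : G.map φ ≫ w'.obj.iso.inv = w.obj.iso.inv ≫ F.map ψ := hw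
    have key : F.map ψ ≫ w'.obj.iso.hom = w.obj.iso.hom ≫ G.map φ := by
      rw [← cancel_epi w.obj.iso.inv, ← Category.assoc, ← hw']
      simp
    exact ⟨ObjectProperty.homMk ⟨ψ, φ, key⟩, rfl, rfl⟩
  · intro Q
    have hQ : 𝒮.p.IsHomLift (𝟙 (𝒴.p.obj Q.obj.fst)) Q.obj.iso.hom := Q.property
    have hQi : 𝒮.p.IsHomLift (𝟙 (𝒴.p.obj Q.obj.fst)) Q.obj.iso.inv :=
      IsHomLift.lift_id_inv 𝒮.p _ Q.obj.iso
    have hx : 𝒳.p.obj Q.obj.snd = 𝒴.p.obj Q.obj.fst :=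
      (F.w_obj Q.obj.snd).symm.trans
        (IsHomLift.codomain_eq 𝒮.p (𝟙 (𝒴.p.obj Q.obj.fst)) Q.obj.iso.hom)
    have hP : 𝒮.p.IsHomLift (𝟙 (𝒳.p.obj Q.obj.snd)) Q.obj.iso.symm.hom :=
      isHomLift_id_of_eq 𝒮.p hx.symm Q.obj.iso.inv
    let P : (FibCat.fp F G).obj := ⟨⟨Q.obj.snd, Q.obj.fst, Q.obj.iso.symm⟩, hP⟩
    refine ⟨P, Iso.refl _, Iso.refl _, IsHomLift.id rfl, ?_⟩
    change G.map (𝟙 _) ≫ Q.obj.iso.hom = Q.obj.iso.hom ≫ F.map (𝟙 _)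
    simp

end Swap

section SelfIso

universe v₂ u₂ v₃ u₃ v₄ u₄

variable {𝒴₁ : BasedCategory.{v₂, u₂} C} {𝒴₂ : BasedCategory.{v₃, u₃} C}
  {𝒲 : BasedCategory.{v₄, u₄} C} {σ₁ : 𝒴₁ ⥤ᵇ FibCat.selfOver C} {σ₂ : 𝒴₂ ⥤ᵇ FibCat.selfOver C}

/-- For functors into a 2-fibre product over `C` itself the compatibility is automatic
(after helper80's `AlgStProd2.selfIsoMk`). -/
def selfIsoMk' {A B : 𝒲 ⥤ᵇ FibCat.fp σ₁ σ₂}
    (i₁ : BasedFunctor.comp A (FibCat.fpFst _ _) ≅ BasedFunctor.comp B (FibCat.fpFst _ _))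
    (i₂ : BasedFunctor.comp A (FibCat.fpSnd _ _) ≅ BasedFunctor.comp B (FibCat.fpSnd _ _)) :
    A ≅ B :=
  fpIsoMk i₁ i₂ (fun w => by
    have c1 : 𝒴₁.p.IsHomLift (𝟙 (𝒲.p.obj w)) (i₁.hom.toNatTrans.app w) :=
      iso_hom_app_isHomLift i₁ w rfl
    have c2 : 𝒴₂.p.IsHomLift (𝟙 (𝒲.p.obj w)) (i₂.hom.toNatTrans.app w) :=
      iso_hom_app_isHomLift i₂ w rfl
    have c3 : (FibCat.selfOver C).p.IsHomLift (𝟙 (𝒲.p.obj w))
      (σ₁.map (i₁.hom.toNatTrans.app w)) := BasedFunctor.preserves_isHomLift σ₁ _ _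
    have c4 : (FibCat.selfOver C).p.IsHomLift (𝟙 (𝒲.p.obj w))
      (σ₂.map (i₂.hom.toNatTrans.app w)) := BasedFunctor.preserves_isHomLift σ₂ _ _
    have c5 : (FibCat.selfOver C).p.IsHomLift (𝟙 (𝒲.p.obj w)) (B.obj w).obj.iso.hom :=
      fp_iso_isHomLift _ _ (B.obj w) (B.w_obj w)
    have c6 : (FibCat.selfOver C).p.IsHomLift (𝟙 (𝒲.p.obj w)) (A.obj w).obj.iso.hom :=
      fp_iso_isHomLift _ _ (A.obj w) (A.w_obj w)
    have c7 := comp_isHomLift_id (FibCat.selfOver C).p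
      (σ₁.map (i₁.hom.toNatTrans.app w)) (B.obj w).obj.iso.hom (S := 𝒲.p.obj w)
    have c8 := comp_isHomLift_id (FibCat.selfOver C).p
      (A.obj w).obj.iso.hom (σ₂.map (i₂.hom.toNatTrans.app w)) (S := 𝒲.p.obj w)
    exact eq_of_isHomLift_of_faithful (FibCat.selfOver C).p (𝟙 (𝒲.p.obj w)) _ _)

end SelfIso

universe u₄
variable {𝒜 ℬ 𝒳 𝒴 : BasedCategory.{v, max u v} C} {𝒮 : BasedCategory.{v, u₄} C}

theorem isRep1_of_iso {f f' : 𝒳 ⥤ᵇ 𝒴} (i : f ≅ f') (h : FibCat.IsRepresentable1 f) :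
    FibCat.IsRepresentable1 f' :=
  (Groth.Agent.S12784.result f f' (BasedFunctor.id _) (BasedFunctor.id _) isEquivOver_id
    isEquivOver_id (i.symm : BasedFunctor.comp f' (BasedFunctor.id _) ≅
      BasedFunctor.comp (BasedFunctor.id _) f)).mp h

theorem isRep1_fpSnd {𝒵 : BasedCategory.{v, max u v} C} (F : 𝒳 ⥤ᵇ 𝒵) (G : 𝒴 ⥤ᵇ 𝒵)
    (h : FibCat.IsRepresentable1 F) :
    FibCat.IsRepresentable1 (FibCat.fpSnd F G) :=
  (Groth.Agent.S12784.result (FibCat.fpFst G F) (FibCat.fpSnd F G) (fpSwap F G)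
    (BasedFunctor.id _) (fpSwap_isEquivOver F G) isEquivOver_id (BasedNatIso.id _)).mp
    (Groth.Agent.S12786.result F G h)

/-- `fpMapLeft` along `a` is a base change of `a`. -/
theorem isRep1_fpMapLeft (F : 𝒳 ⥤ᵇ 𝒮) (G : 𝒴 ⥤ᵇ 𝒮)
    (a : 𝒜 ⥤ᵇ 𝒳) (F' : 𝒜 ⥤ᵇ 𝒮) (i : F' ≅ BasedFunctor.comp a F)
    (ha : FibCat.IsRepresentable1 a) :
    FibCat.IsRepresentable1 (fpMapLeft F G a F' i) := by
  let i' : F' ≅ BasedFunctor.comp (BasedFunctor.id _) (BasedFunctor.comp a F) := i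
  let E₀ := fpMapLeft (BasedFunctor.comp a F) G (BasedFunctor.id _) F' i'
  have hE₀ : FibCat.IsEquivOver E₀ :=
    fpMapLeft_isEquivOver (BasedFunctor.comp a F) G (BasedFunctor.id _) F' i' isEquivOver_id
  let E₁ := fpPasteLeft a F G
  have hE₁ : FibCat.IsEquivOver E₁ := fpPasteLeft_isEquivOver a F G
  let E := BasedFunctor.comp E₀ E₁
  have hE : FibCat.IsEquivOver E := IsEquivOver.comp hE₀ hE₁
  let t := FibCat.fpSnd a (FibCat.fpFst F G)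
  have ht : FibCat.IsRepresentable1 t := isRep1_fpSnd a (FibCat.fpFst F G) ha
  have key : fpMapLeft F G a F' i ≅ BasedFunctor.comp E t :=
    fpIsoMk (BasedNatIso.id _) (BasedNatIso.id _) (by
      intro w
      change F.map (𝟙 _) ≫ (i.inv.toNatTrans.app w.obj.fst ≫ w.obj.iso.hom ≫ 𝟙 _) =
        (i.inv.toNatTrans.app w.obj.fst ≫ w.obj.iso.hom ≫ 𝟙 _) ≫ G.map (𝟙 _)
      simp)
  have h1 : FibCat.IsRepresentable1 (BasedFunctor.comp E t) :=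
    (Groth.Agent.S12784.result t (BasedFunctor.comp E t) E (BasedFunctor.id _) hE
      isEquivOver_id (BasedNatIso.id _)).mp ht
  exact isRep1_of_iso key.symm h1

/-- `fpMapRight` along `b` is a base change of `b`. -/
theorem isRep1_fpMapRight (F : 𝒳 ⥤ᵇ 𝒮) (G : 𝒴 ⥤ᵇ 𝒮)
    (b : ℬ ⥤ᵇ 𝒴) (G' : ℬ ⥤ᵇ 𝒮) (i : G' ≅ BasedFunctor.comp b G)
    (hb : FibCat.IsRepresentable1 b) :
    FibCat.IsRepresentable1 (fpMapRight F G b G' i) := by
  let i' : G' ≅ BasedFunctor.comp (BasedFunctor.id _) (BasedFunctor.comp b G) := i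
  let E₀ := fpMapRight F (BasedFunctor.comp b G) (BasedFunctor.id _) G' i'
  have hE₀ : FibCat.IsEquivOver E₀ :=
    fpMapRight_isEquivOver F (BasedFunctor.comp b G) (BasedFunctor.id _) G' i' isEquivOver_id
  let E₁ := fpPasteRight F G b
  have hE₁ : FibCat.IsEquivOver E₁ := fpPasteRight_isEquivOver F G b
  let E := BasedFunctor.comp E₀ E₁
  have hE : FibCat.IsEquivOver E := IsEquivOver.comp hE₀ hE₁
  let t := FibCat.fpFst (FibCat.fpSnd F G) b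
  have ht : FibCat.IsRepresentable1 t := Groth.Agent.S12786.result b (FibCat.fpSnd F G) hb
  have key : fpMapRight F G b G' i ≅ BasedFunctor.comp E t :=
    fpIsoMk (BasedNatIso.id _) (BasedNatIso.id _) (by
      intro w
      change F.map (𝟙 _) ≫ (𝟙 _ ≫ w.obj.iso.hom ≫ i.hom.toNatTrans.app w.obj.snd) =
        (𝟙 _ ≫ w.obj.iso.hom ≫ i.hom.toNatTrans.app w.obj.snd) ≫ G.map (𝟙 _)
      simp
      exact (Category.comp_id _).symm)
  have h1 : FibCat.IsRepresentable1 (BasedFunctor.comp E t) :=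
    (Groth.Agent.S12784.result t (BasedFunctor.comp E t) E (BasedFunctor.id _) hE
      isEquivOver_id (BasedNatIso.id _)).mp ht
  exact isRep1_of_iso key.symm h1

/-- The product of two representable 1-morphisms is representable. -/
theorem isRep1_fpMap
    (s : 𝒳 ⥤ᵇ 𝒮) (s' : 𝒴 ⥤ᵇ 𝒮) (F' : 𝒜 ⥤ᵇ 𝒮) (G' : ℬ ⥤ᵇ 𝒮) (F : 𝒜 ⥤ᵇ 𝒳) (G : ℬ ⥤ᵇ 𝒴)
    (iF : BasedFunctor.comp F' (BasedFunctor.id 𝒮) ≅ BasedFunctor.comp F s)
    (iG : BasedFunctor.comp G' (BasedFunctor.id 𝒮) ≅ BasedFunctor.comp G s')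
    (hF : FibCat.IsRepresentable1 F) (hG : FibCat.IsRepresentable1 G) :
    FibCat.IsRepresentable1 (fpMap s s' F' G' F G (BasedFunctor.id 𝒮) iF iG) := by
  let iF' : F' ≅ BasedFunctor.comp F s := iF
  let iG' : G' ≅ BasedFunctor.comp G s' := iG
  let Φ₁ := fpMapLeft s G' F F' iF'
  let Φ₂ := fpMapRight s s' G G' iG'
  have h1 : FibCat.IsRepresentable1 Φ₁ := isRep1_fpMapLeft s G' F F' iF' hF
  have h2 : FibCat.IsRepresentable1 Φ₂ := isRep1_fpMapRight s s' G G' iG' hG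
  have h12 : FibCat.IsRepresentable1 (BasedFunctor.comp Φ₁ Φ₂) :=
    Groth.Agent.S12785.result Φ₁ Φ₂ h1 h2
  have key : BasedFunctor.comp Φ₁ Φ₂ ≅ fpMap s s' F' G' F G (BasedFunctor.id 𝒮) iF iG :=
    fpIsoMk (BasedNatIso.id _) (BasedNatIso.id _) (by
      intro w
      change s.map (𝟙 _) ≫ (iF.inv.toNatTrans.app w.obj.fst ≫ w.obj.iso.hom ≫ iG.hom.toNatTrans.app w.obj.snd) =
        (𝟙 _ ≫ (iF.inv.toNatTrans.app w.obj.fst ≫ w.obj.iso.hom ≫ 𝟙 _) ≫ iG.hom.toNatTrans.app w.obj.snd) ≫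
          s'.map (𝟙 _)
      simp
      congr 2
      exact (Category.comp_id _).symm)
  exact isRep1_of_iso key h12

end Groth.Agent.Lib.Helper32.Rep1Prod
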