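import Mathlib

/-!
# acyclic complexes with retract terms (S8626)
-/

set_option autoImplicit false
set_option linter.unusedSectionVars false
set_option linter.unusedSimpArgs false
universe v v' u u'
open CategoryTheory CategoryTheory.Limits

namespace Groth.Agent.Lib.Helper32.RetractAcyc

variable {A : Type u} [Category.{v} A] [Abelian A]

section Step
variable {D1 D2 T : A}

lemma map_idem (e1 : D1 ⟶ D1) (Q : T ⟶ T) (he : e1 ≫ e1 = e1) (hQ : Q ≫ Q = Q) :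
    biprod.map e1 (𝟙 T - Q) ≫ biprod.map e1 (𝟙 T - Q) = biprod.map e1 (𝟙 T - Q) := by
  apply biprod.hom_ext <;> simp [he, hQ, Preadditive.comp_sub, Preadditive.sub_comp]

lemma step_sq (a : T ⟶ D1) (Q : T ⟶ T) (e1 : D1 ⟶ D1) (b : D1 ⟶ D2)
    (hQ : Q ≫ Q = Q) (ha : a ≫ e1 = 0) (hab : a ≫ b = 0) :
    biprod.lift a Q ≫ biprod.lift (biprod.fst ≫ b) (biprod.map e1 (𝟙 T - Q)) = 0 := by
  apply biprod.hom_ext
  · simp [hab]
  · apply biprod.hom_ext <;> simp [ha, hQ, Preadditive.comp_sub]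

lemma step_htpy (a : T ⟶ D1) (a' : D1 ⊞ T ⟶ D2) (Q : T ⟶ T) (e1 : D1 ⟶ D1)
    (hQ : Q ≫ Q = Q) (he : e1 ≫ e1 = e1) (hQa : Q ≫ a = 0) :
    biprod.lift a' (biprod.map e1 (𝟙 T - Q)) ≫ (biprod.snd ≫ biprod.map e1 (𝟙 T - Q)) +
      (biprod.snd ≫ Q) ≫ biprod.lift a Q =
    𝟙 (D1 ⊞ T) - biprod.fst ≫ (𝟙 D1 - e1) ≫ biprod.inl := by
  apply biprod.hom_ext <;> apply biprod.hom_ext' <;>
    simp [hQ, he, hQa, Preadditive.comp_sub, Preadditive.sub_comp, Preadditive.comp_add,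
      Preadditive.add_comp, reassoc_of% hQ, reassoc_of% hQa]

end Step


section Build
variable (K : CochainComplex A ℕ) (D : ℕ → A) (ι : ∀ n, K.X n ⟶ D n) (ρ : ∀ n, D n ⟶ K.X n)

/-- growing sums -/
noncomputable def S : ℕ → A
  | 0 => D 0
  | (n + 1) => D (n + 1) ⊞ S n

/-- projection to the newest summand -/
noncomputable def pr : ∀ n, S D n ⟶ D n
  | 0 => 𝟙 (D 0)
  | (n + 1) => (biprod.fst : D (n + 1) ⊞ S D n ⟶ D (n + 1))

/-- inclusion of the newest summand -/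
noncomputable def inc : ∀ n, D n ⟶ S D n
  | 0 => 𝟙 (D 0)
  | (n + 1) => (biprod.inl : D (n + 1) ⟶ D (n + 1) ⊞ S D n)

/-- the complementary idempotent on `D n` -/
noncomputable def ec (n : ℕ) : D n ⟶ D n := 𝟙 _ - ρ n ≫ ι n

/-- the alternating idempotent -/
noncomputable def P : ∀ n, S D n ⟶ S D n
  | 0 => ec K D ι ρ 0
  | (n + 1) => biprod.map (ec K D ι ρ (n + 1)) (𝟙 (S D n) - P n)

omit K in
lemma inc_pr : ∀ n, inc D n ≫ pr D n = 𝟙 _
  | 0 => Category.id_comp _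
  | (_ + 1) => biprod.inl_fst

variable (h : ∀ n, ι n ≫ ρ n = 𝟙 _)
include h

lemma ec_idem (n : ℕ) : ec K D ι ρ n ≫ ec K D ι ρ n = ec K D ι ρ n := by
  simp [ec, Preadditive.sub_comp, Preadditive.comp_sub, reassoc_of% (h n)]

lemma ec_ρ (n : ℕ) : ec K D ι ρ n ≫ ρ n = 0 := by
  simp [ec, Preadditive.sub_comp, h n]

lemma ι_ec (n : ℕ) : ι n ≫ ec K D ι ρ n = 0 := by
  simp [ec, Preadditive.comp_sub, reassoc_of% (h n)]

lemma P_idem : ∀ n, P K D ι ρ n ≫ P K D ι ρ n = P K D ι ρ n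
  | 0 => ec_idem K D ι ρ h 0
  | (n + 1) => map_idem _ _ (ec_idem K D ι ρ h (n + 1)) (P_idem n)

lemma P_pr_ρ : ∀ n, P K D ι ρ n ≫ pr D n ≫ ρ n = 0
  | 0 => by
    show ec K D ι ρ 0 ≫ 𝟙 (D 0) ≫ ρ 0 = 0
    rw [Category.id_comp, ec_ρ K D ι ρ h]
  | (n + 1) => by
    show biprod.map (ec K D ι ρ (n + 1)) (𝟙 (S D n) - P K D ι ρ n) ≫ biprod.fst ≫ ρ (n + 1) = 0
    rw [biprod.map_fst_assoc, ec_ρ K D ι ρ h, comp_zero]

lemma ι_inc_P : ∀ n, ι n ≫ inc D n ≫ P K D ι ρ n = 0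
  | 0 => by
    show ι 0 ≫ 𝟙 (D 0) ≫ ec K D ι ρ 0 = 0
    rw [Category.id_comp, ι_ec K D ι ρ h]
  | (n + 1) => by
    show ι (n + 1) ≫ biprod.inl ≫
      biprod.map (ec K D ι ρ (n + 1)) (𝟙 (S D n) - P K D ι ρ n) = 0
    rw [biprod.inl_map, ← Category.assoc, ι_ec K D ι ρ h, zero_comp]

/-- the map `S n ⟶ D (n+1)` -/
noncomputable def al (n : ℕ) : S D n ⟶ D (n + 1) := pr D n ≫ ρ n ≫ K.d n (n + 1) ≫ ι (n + 1)

/-- the differential of the big complex -/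
noncomputable def dd (n : ℕ) : S D n ⟶ S D (n + 1) :=
  (biprod.lift (al K D ι ρ n) (P K D ι ρ n) : S D n ⟶ D (n + 1) ⊞ S D n)

lemma al_ec (n : ℕ) : al K D ι ρ n ≫ ec K D ι ρ (n + 1) = 0 := by
  simp [al, ι_ec K D ι ρ h]

lemma P_al (n : ℕ) : P K D ι ρ n ≫ al K D ι ρ n = 0 := by
  simp only [al]
  rw [← Category.assoc, ← Category.assoc]
  rw [Category.assoc (P K D ι ρ n), P_pr_ρ K D ι ρ h, zero_comp]

lemma dd_sq (n : ℕ) : dd K D ι ρ n ≫ dd K D ι ρ (n + 1) = 0 := by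
  have hab : al K D ι ρ n ≫ ρ (n + 1) ≫ K.d (n + 1) (n + 1 + 1) ≫ ι (n + 1 + 1) = 0 := by
    simp [al, reassoc_of% (h (n + 1))]
  exact step_sq (al K D ι ρ n) (P K D ι ρ n) (ec K D ι ρ (n + 1))
    (ρ (n + 1) ≫ K.d (n + 1) (n + 1 + 1) ≫ ι (n + 1 + 1)) (P_idem K D ι ρ h n)
    (al_ec K D ι ρ h n) hab

/-- the big complex -/
noncomputable def K' : CochainComplex A ℕ :=
  CochainComplex.of (S D) (dd K D ι ρ) (dd_sq K D ι ρ h)

lemma K'_d (n : ℕ) : (K' K D ι ρ h).d n (n + 1) = dd K D ι ρ n :=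
  CochainComplex.of_d (S D) (dd K D ι ρ) n


lemma i_comm (n : ℕ) :
    (ι n ≫ inc D n) ≫ dd K D ι ρ n = K.d n (n + 1) ≫ ι (n + 1) ≫ inc D (n + 1) := by
  show (ι n ≫ inc D n) ≫ biprod.lift (al K D ι ρ n) (P K D ι ρ n) =
    K.d n (n + 1) ≫ ι (n + 1) ≫ biprod.inl
  apply biprod.hom_ext
  · simp [al, reassoc_of% (inc_pr D n), reassoc_of% (h n)]
  · simp [ι_inc_P K D ι ρ h n]

lemma p_comm (n : ℕ) :
    (pr D n ≫ ρ n) ≫ K.d n (n + 1) = dd K D ι ρ n ≫ pr D (n + 1) ≫ ρ (n + 1) := by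
  show _ = biprod.lift (al K D ι ρ n) (P K D ι ρ n) ≫ biprod.fst ≫ ρ (n + 1)
  simp [al, h (n + 1)]

/-- inclusion of `K` -/
noncomputable def iK : K ⟶ K' K D ι ρ h where
  f n := ι n ≫ inc D n
  comm' := by
    intro i j hij
    obtain rfl : i + 1 = j := hij
    rw [K'_d]
    exact i_comm K D ι ρ h i

/-- retraction onto `K` -/
noncomputable def pK : K' K D ι ρ h ⟶ K where
  f n := pr D n ≫ ρ n
  comm' := by
    intro i j hij
    obtain rfl : i + 1 = j := hij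
    rw [K'_d]
    exact p_comm K D ι ρ h i

lemma iK_pK : iK K D ι ρ h ≫ pK K D ι ρ h = 𝟙 K := by
  ext n
  show (ι n ≫ inc D n) ≫ pr D n ≫ ρ n = 𝟙 _
  simp [reassoc_of% (inc_pr D n), h n]

/-- the contracting homotopy on the complement -/
noncomputable def hm (n : ℕ) : S D (n + 1) ⟶ S D n :=
  (biprod.snd : D (n + 1) ⊞ S D n ⟶ S D n) ≫ P K D ι ρ n

/-- homotopy data -/
noncomputable def hh : ∀ i j, (ComplexShape.up ℕ).Rel j i →
    ((K' K D ι ρ h).X i ⟶ (K' K D ι ρ h).X j) :=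
  fun i j hij => (show j + 1 = i from hij) ▸ (hm K D ι ρ j : (K' K D ι ρ h).X (j + 1) ⟶ (K' K D ι ρ h).X j)

omit h in
lemma lift_snd_idem {T D1 : A} (a : T ⟶ D1) (Q : T ⟶ T) (hQ : Q ≫ Q = Q) :
    biprod.lift a Q ≫ biprod.snd ≫ Q = Q := by
  rw [biprod.lift_snd_assoc, hQ]

lemma decomp_zero : 𝟙 (S D 0) =
    (pr D 0 ≫ ρ 0) ≫ (ι 0 ≫ inc D 0) + dd K D ι ρ 0 ≫ hm K D ι ρ 0 := by
  have h0 : dd K D ι ρ 0 ≫ hm K D ι ρ 0 = P K D ι ρ 0 :=
    lift_snd_idem (al K D ι ρ 0) (P K D ι ρ 0) (P_idem K D ι ρ h 0)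
  rw [h0]
  show 𝟙 (D 0) = (𝟙 (D 0) ≫ ρ 0) ≫ (ι 0 ≫ 𝟙 (D 0)) + (𝟙 (D 0) - ρ 0 ≫ ι 0)
  simp

lemma decomp_succ (n : ℕ) : 𝟙 (S D (n + 1)) =
    (pr D (n + 1) ≫ ρ (n + 1)) ≫ (ι (n + 1) ≫ inc D (n + 1)) +
      (dd K D ι ρ (n + 1) ≫ hm K D ι ρ (n + 1) + hm K D ι ρ n ≫ dd K D ι ρ n) := by
  have h2 : dd K D ι ρ (n + 1) ≫ hm K D ι ρ (n + 1) + hm K D ι ρ n ≫ dd K D ι ρ n =
      𝟙 (S D (n + 1)) - pr D (n + 1) ≫ (𝟙 _ - ec K D ι ρ (n + 1)) ≫ inc D (n + 1) :=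
    step_htpy (al K D ι ρ n) (al K D ι ρ (n + 1)) (P K D ι ρ n) (ec K D ι ρ (n + 1))
      (P_idem K D ι ρ h n) (ec_idem K D ι ρ h (n + 1)) (P_al K D ι ρ h n)
  rw [h2]
  simp [ec]

lemma decomp : 𝟙 (K' K D ι ρ h) =
    pK K D ι ρ h ≫ iK K D ι ρ h + Homotopy.nullHomotopicMap' (hh K D ι ρ h) := by
  ext n
  cases n with
  | zero =>
    rw [HomologicalComplex.add_f_apply,
      Homotopy.nullHomotopicMap'_f_of_not_rel_right (show (ComplexShape.up ℕ).Rel 0 1 from rfl)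
        (fun l hl => by simp at hl), K'_d]
    exact decomp_zero K D ι ρ h
  | succ n =>
    rw [HomologicalComplex.add_f_apply,
      Homotopy.nullHomotopicMap'_f (show (ComplexShape.up ℕ).Rel n (n + 1) from rfl)
        (show (ComplexShape.up ℕ).Rel (n + 1) (n + 1 + 1) from rfl), K'_d, K'_d]
    exact decomp_succ K D ι ρ h n

lemma K'_acyclic (hK : K.Acyclic) : (K' K D ι ρ h).Acyclic := by
  intro n
  rw [HomologicalComplex.exactAt_iff_isZero_homology, IsZero.iff_id_eq_zero,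
    ← HomologicalComplex.homologyMap_id, decomp K D ι ρ h, HomologicalComplex.homologyMap_add,
    HomologicalComplex.homologyMap_comp,
    (Homotopy.nullHomotopy' (hh K D ι ρ h)).homologyMap_eq, HomologicalComplex.homologyMap_zero,
    add_zero]
  have hz : IsZero (K.homology n) := (HomologicalComplex.exactAt_iff_isZero_homology _ _).1 (hK n)
  rw [hz.eq_of_tgt (HomologicalComplex.homologyMap (pK K D ι ρ h) n) 0, zero_comp]

end Build


section Retract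
variable {B : Type u'} [Category.{v'} B] [Abelian B]

lemma acyclic_of_retract {L L' : CochainComplex B ℕ} (i : L ⟶ L') (p : L' ⟶ L)
    (hip : i ≫ p = 𝟙 L) (h : L'.Acyclic) : L.Acyclic := by
  intro n
  rw [HomologicalComplex.exactAt_iff_isZero_homology, IsZero.iff_id_eq_zero,
    ← HomologicalComplex.homologyMap_id, ← hip, HomologicalComplex.homologyMap_comp]
  have hz : IsZero (L'.homology n) := (HomologicalComplex.exactAt_iff_isZero_homology _ _).1 (h n)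
  rw [hz.eq_of_tgt (HomologicalComplex.homologyMap i n) 0, zero_comp]

end Retract

section Aug
variable {X : A} (I : InjectiveResolution X)

/-- the augmented injective resolution `X → I⁰ → I¹ → ⋯` -/
noncomputable def Kaug : CochainComplex A ℕ :=
  I.cocomplex.augment (X := X) (I.ι.f 0) I.ι_f_zero_comp_complex_d

lemma Kaug_acyclic : (Kaug I).Acyclic := by
  intro n
  match n with
  | 0 =>
    rw [HomologicalComplex.exactAt_iff' _ 0 0 1 (by simp) (by simp)]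
    rw [ShortComplex.exact_iff_mono _ ((Kaug I).shape 0 0 (by simp))]
    show Mono (I.ι.f 0)
    infer_instance
  | 1 =>
    rw [HomologicalComplex.exactAt_iff' _ 0 1 2 (by simp) (by simp)]
    exact I.exact₀
  | (n + 2) =>
    rw [HomologicalComplex.exactAt_iff' _ (n + 1) (n + 2) (n + 3) (by simp) (by simp)]
    exact I.exact_succ n

end Aug


section Main
variable [EnoughInjectives A] {B : Type u'} [Category.{v'} B] [Abelian B]
  (f : A ⥤ B) [f.Additive] (𝒪 : ObjectProperty A)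

section Data
variable (h2 : ∀ X : A, ∃ (Y : A) (i : X ⟶ Y), 𝒪 Y ∧ Mono i) {X : A} (I : InjectiveResolution X)

/-- the chosen `𝒪`-envelopes -/
noncomputable def Dn : ℕ → A
  | 0 => X
  | (k + 1) => (h2 (I.cocomplex.X k)).choose

/-- the embeddings -/
noncomputable def jn (k : ℕ) : I.cocomplex.X k ⟶ Dn 𝒪 h2 I (k + 1) :=
  (h2 (I.cocomplex.X k)).choose_spec.choose

instance (k : ℕ) : Mono (jn 𝒪 h2 I k) := (h2 (I.cocomplex.X k)).choose_spec.choose_spec.2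

/-- the retractions -/
noncomputable def rn (k : ℕ) : Dn 𝒪 h2 I (k + 1) ⟶ I.cocomplex.X k :=
  Injective.factorThru (𝟙 (I.cocomplex.X k)) (jn 𝒪 h2 I k)

lemma jn_rn (k : ℕ) : jn 𝒪 h2 I k ≫ rn 𝒪 h2 I k = 𝟙 _ :=
  Injective.comp_factorThru (𝟙 (I.cocomplex.X k)) (jn 𝒪 h2 I k)

noncomputable def ιn : ∀ k, (Kaug I).X k ⟶ Dn 𝒪 h2 I k
  | 0 => 𝟙 X
  | (k + 1) => jn 𝒪 h2 I k

noncomputable def ρn : ∀ k, Dn 𝒪 h2 I k ⟶ (Kaug I).X k
  | 0 => 𝟙 X
  | (k + 1) => rn 𝒪 h2 I k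

lemma ιn_ρn : ∀ k, ιn 𝒪 h2 I k ≫ ρn 𝒪 h2 I k = 𝟙 _
  | 0 => Category.id_comp _
  | (k + 1) => jn_rn 𝒪 h2 I k

lemma hDn (hX : 𝒪 X) : ∀ k, 𝒪 (Dn 𝒪 h2 I k)
  | 0 => hX
  | (k + 1) => (h2 (I.cocomplex.X k)).choose_spec.choose_spec.1

end Data

theorem main (h0 : ∀ X Y : A, 𝒪 X → 𝒪 Y → 𝒪 (X ⊞ Y))
    (h1 : ∀ K : CochainComplex A ℕ, (∀ i, 𝒪 (K.X i)) → K.Acyclic →
      ((f.mapHomologicalComplex (ComplexShape.up ℕ)).obj K).Acyclic)
    (h2 : ∀ X : A, ∃ (Y : A) (i : X ⟶ Y), 𝒪 Y ∧ Mono i)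
    (X : A) (hX : 𝒪 X) (n : ℕ) (hn : 0 < n) :
    IsZero ((f.rightDerived n).obj X) := by
  obtain ⟨m, rfl⟩ : ∃ m, n = m + 1 := ⟨n - 1, by omega⟩
  let I : InjectiveResolution X := injectiveResolution X
  refine IsZero.of_iso ?_ (I.isoRightDerivedObj f (m + 1))
  have h := ιn_ρn 𝒪 h2 I
  have hS : ∀ k, 𝒪 (S (Dn 𝒪 h2 I) k) := by
    intro k
    induction k with
    | zero => exact hX
    | succ k ih => exact h0 _ _ (hDn 𝒪 h2 I hX (k + 1)) ih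
  have hK' := K'_acyclic (Kaug I) _ _ _ h (Kaug_acyclic I)
  have hfK' := h1 (K' (Kaug I) _ _ _ h) hS hK'
  have hfK : ((f.mapHomologicalComplex (ComplexShape.up ℕ)).obj (Kaug I)).Acyclic :=
    acyclic_of_retract ((f.mapHomologicalComplex _).map (iK (Kaug I) _ _ _ h))
      ((f.mapHomologicalComplex _).map (pK (Kaug I) _ _ _ h))
      (by rw [← CategoryTheory.Functor.map_comp, iK_pK, CategoryTheory.Functor.map_id]) hfK'
  have h3 := hfK (m + 2)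
  rw [HomologicalComplex.exactAt_iff' _ (m + 1) (m + 2) (m + 3) (by simp) (by simp)] at h3
  show IsZero (((f.mapHomologicalComplex (ComplexShape.up ℕ)).obj I.cocomplex).homology (m + 1))
  rw [← HomologicalComplex.exactAt_iff_isZero_homology,
    HomologicalComplex.exactAt_iff' _ m (m + 1) (m + 2) (by simp) (by simp)]
  exact h3

end Main

end Groth.Agent.Lib.Helper32.RetractAcyc
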