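import Mathlib

set_option autoImplicit false
open CategoryTheory Limits

universe u

namespace Groth.Agent.Lib.Helper32.SAbQis

/-- The test object `ℤ` (lifted). -/
noncomputable abbrev R : AddCommGrpCat.{u} := AddCommGrpCat.of (ULift.{u} ℤ)

/-- The generalized element attached to an element. -/
noncomputable def elt {A : AddCommGrpCat.{u}} (a : A) : R.{u} ⟶ A :=
  AddCommGrpCat.ofHom ((zmultiplesHom A a).comp AddEquiv.ulift.toAddMonoidHom)

/-- Evaluation of a generalized element. -/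
noncomputable def ev {A : AddCommGrpCat.{u}} (φ : R.{u} ⟶ A) : A := φ (ULift.up 1)

@[simp] lemma ulift_one : (AddEquiv.ulift : ULift.{u} ℤ ≃+ ℤ) (ULift.up 1) = 1 := rfl

lemma ev_elt {A : AddCommGrpCat.{u}} (a : A) : ev (elt a) = a := by
  simp [ev, elt]

lemma elt_ev {A : AddCommGrpCat.{u}} (φ : R.{u} ⟶ A) : elt (ev φ) = φ := by
  ext ⟨n⟩
  have h : (ULift.up n : ULift.{u} ℤ) = n • ULift.up 1 := by
    ext; simp
  rw [h, map_zsmul, map_zsmul]
  congr 1
  exact ev_elt _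

lemma ev_comp {A B : AddCommGrpCat.{u}} (φ : R.{u} ⟶ A) (ψ : A ⟶ B) : ev (φ ≫ ψ) = ψ (ev φ) := rfl

lemma elt_comp {A B : AddCommGrpCat.{u}} (a : A) (ψ : A ⟶ B) : elt a ≫ ψ = elt (ψ a) := by
  rw [← elt_ev (elt a ≫ ψ), ev_comp, ev_elt]

lemma ev_zero {A : AddCommGrpCat.{u}} : ev (0 : R.{u} ⟶ A) = 0 := rfl

lemma elt_zero {A : AddCommGrpCat.{u}} : elt (0 : A) = 0 := by
  rw [← elt_ev (0 : R.{u} ⟶ A), ev_zero]

lemma ev_add {A : AddCommGrpCat.{u}} (φ ψ : R.{u} ⟶ A) : ev (φ + ψ) = ev φ + ev ψ := rfl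

lemma ev_injective {A : AddCommGrpCat.{u}} {φ ψ : R.{u} ⟶ A} (h : ev φ = ev ψ) : φ = ψ := by
  rw [← elt_ev φ, ← elt_ev ψ, h]

/-- Quasi-isomorphism criterion for short complexes of abelian groups, in terms of generalized
elements. -/
theorem sc_quasiIso {S₁ S₂ : ShortComplex AddCommGrpCat.{u}} (φ : S₁ ⟶ S₂)
    (hs : ∀ y : R.{u} ⟶ S₂.X₂, y ≫ S₂.g = 0 → ∃ (x : R.{u} ⟶ S₁.X₂) (b : R.{u} ⟶ S₂.X₁),
      x ≫ S₁.g = 0 ∧ x ≫ φ.τ₂ = y + b ≫ S₂.f)
    (hi : ∀ x : R.{u} ⟶ S₁.X₂, x ≫ S₁.g = 0 → ∀ b : R.{u} ⟶ S₂.X₁, x ≫ φ.τ₂ = b ≫ S₂.f →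
      ∃ a : R.{u} ⟶ S₁.X₁, x = a ≫ S₁.f) :
    ShortComplex.QuasiIso φ := by
  let γ := ShortComplex.leftHomologyMapData φ S₁.abLeftHomologyData S₂.abLeftHomologyData
  rw [γ.quasiIso_iff, ConcreteCategory.isIso_iff_bijective]
  have hK : ∀ z : AddMonoidHom.ker S₁.g.hom,
      (AddMonoidHom.ker S₂.g.hom).subtype (γ.φK.hom z) = φ.τ₂ z.1 := by
    intro z
    exact ConcreteCategory.congr_hom γ.commi z
  have hH : ∀ z : AddMonoidHom.ker S₁.g.hom,
      γ.φH.hom (QuotientAddGroup.mk' (AddMonoidHom.range S₁.abToCycles) z) =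
      (QuotientAddGroup.mk' (AddMonoidHom.range S₂.abToCycles) (γ.φK.hom z)) := by
    intro z
    exact ConcreteCategory.congr_hom γ.commπ z
  constructor
  · rw [injective_iff_map_eq_zero]
    intro q
    obtain ⟨z, rfl⟩ := QuotientAddGroup.mk'_surjective (AddMonoidHom.range S₁.abToCycles) q
    intro hq
    have hq' : (QuotientAddGroup.mk' (AddMonoidHom.range S₂.abToCycles) (γ.φK.hom z)) = 0 := by
      rw [← hH]; exact hq
    rw [QuotientAddGroup.mk'_apply, QuotientAddGroup.eq_zero_iff] at hq'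
    obtain ⟨b, hb⟩ := hq'
    have hb' : S₂.f b = φ.τ₂ z.1 := by
      rw [← hK, ← hb]; rfl
    obtain ⟨a, ha⟩ := hi (elt z.1) (by
        rw [elt_comp]
        have : S₁.g z.1 = 0 := z.2
        rw [this, elt_zero]) (elt b) (by rw [elt_comp, elt_comp, hb'])
    refine (QuotientAddGroup.eq_zero_iff (N := AddMonoidHom.range S₁.abToCycles) z).2
      ⟨ev a, Subtype.ext ?_⟩
    have := congrArg ev ha
    rw [ev_elt, ev_comp] at this
    exact this.symm
  · intro q
    obtain ⟨z, rfl⟩ := QuotientAddGroup.mk'_surjective (AddMonoidHom.range S₂.abToCycles) q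
    obtain ⟨x, b, hx, hxb⟩ := hs (elt z.1) (by
        rw [elt_comp]
        have : S₂.g z.1 = 0 := z.2
        rw [this, elt_zero])
    have hx' : S₁.g (ev x) = 0 := by
      rw [← ev_comp, hx, ev_zero]
    refine ⟨QuotientAddGroup.mk' (AddMonoidHom.range S₁.abToCycles) ⟨ev x, hx'⟩, ?_⟩
    refine (hH _).trans ?_
    obtain ⟨k, hk⟩ : ∃ k : AddMonoidHom.ker S₂.g.hom, k = γ.φK.hom ⟨ev x, hx'⟩ := ⟨_, rfl⟩
    rw [← hk]
    have h1 : (k : S₂.X₂) = φ.τ₂ (ev x) := by rw [hk]; exact hK ⟨ev x, hx'⟩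
    refine (QuotientAddGroup.eq (s := AddMonoidHom.range S₂.abToCycles)).2
      ⟨- ev b, Subtype.ext ?_⟩
    have h2 := congrArg ev hxb
    rw [ev_comp, ev_add, ev_elt, ev_comp] at h2
    show S₂.f (- ev b) = (- k + z).1
    rw [AddSubgroup.coe_add, AddSubgroup.coe_neg, h1, h2, map_neg]
    abel

/-- Quasi-isomorphism criterion for chain complexes of abelian groups, in terms of generalized
elements. -/
theorem cc_quasiIso {K L : ChainComplex AddCommGrpCat.{u} ℕ} (φ : K ⟶ L)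
    (hs : ∀ (n : ℕ) (y : R.{u} ⟶ L.X n), y ≫ L.d n ((ComplexShape.down ℕ).next n) = 0 →
      ∃ (x : R.{u} ⟶ K.X n) (b : R.{u} ⟶ L.X (n + 1)),
        x ≫ K.d n ((ComplexShape.down ℕ).next n) = 0 ∧ x ≫ φ.f n = y + b ≫ L.d (n + 1) n)
    (hi : ∀ (n : ℕ) (x : R.{u} ⟶ K.X n), x ≫ K.d n ((ComplexShape.down ℕ).next n) = 0 →
      ∀ b : R.{u} ⟶ L.X (n + 1), x ≫ φ.f n = b ≫ L.d (n + 1) n →
      ∃ a : R.{u} ⟶ K.X (n + 1), x = a ≫ K.d (n + 1) n) :
    QuasiIso φ := by
  rw [quasiIso_iff]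
  intro n
  rw [quasiIsoAt_iff' φ (n + 1) n ((ComplexShape.down ℕ).next n) (by simp) rfl]
  exact sc_quasiIso _ (hs n) (hi n)

/-- A chain map homotopic to the identity moves cycles by boundaries. -/
lemma htpy_cycle {C : Type*} [Category C] [Preadditive C] {K : ChainComplex C ℕ} {Φ : K ⟶ K}
    (H : Homotopy Φ (𝟙 K)) {T : C} (n : ℕ) (z : T ⟶ K.X n)
    (hz : z ≫ K.d n ((ComplexShape.down ℕ).next n) = 0) :
    ∃ b : T ⟶ K.X (n + 1), z ≫ Φ.f n = z + b ≫ K.d (n + 1) n := by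
  refine ⟨z ≫ H.hom n (n + 1), ?_⟩
  have h1 : dNext n H.hom = K.d n ((ComplexShape.down ℕ).next n) ≫
      H.hom ((ComplexShape.down ℕ).next n) n := rfl
  rw [H.comm n, Homotopy.prevD_chainComplex, h1]
  simp only [Preadditive.comp_add, HomologicalComplex.id_f, Category.comp_id, Category.assoc]
  rw [reassoc_of% hz]
  simp [add_comm]

open AlgebraicTopology Simplicial

/-- The counit `ℤ[U X] ⟶ X`, as a morphism of simplicial abelian groups. -/
noncomputable def counit' (X : SimplicialObject AddCommGrpCat.{u}) :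
    ((SimplicialObject.whiskering _ _).obj (sigmaConst.obj R.{u})).obj
      (X ⋙ forget AddCommGrpCat.{u}) ⟶ X where
  app n := Sigma.desc (fun x : (X ⋙ forget AddCommGrpCat.{u}).obj n => elt x)
  naturality := by
    intro n m θ
    apply Sigma.hom_ext
    intro x
    show Sigma.ι (fun _ : (X ⋙ forget AddCommGrpCat.{u}).obj n => R.{u}) x ≫
      Limits.Sigma.map' ((X ⋙ forget AddCommGrpCat.{u}).map θ) (fun _ => 𝟙 R.{u}) ≫
        Limits.Sigma.desc (fun x : (X ⋙ forget AddCommGrpCat.{u}).obj m => elt x) =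
      Sigma.ι (fun _ : (X ⋙ forget AddCommGrpCat.{u}).obj n => R.{u}) x ≫
        Limits.Sigma.desc (fun x : (X ⋙ forget AddCommGrpCat.{u}).obj n => elt x) ≫ X.map θ
    rw [Sigma.ι_comp_map'_assoc, Category.id_comp, Sigma.ι_desc, Sigma.ι_desc_assoc, elt_comp]
    rfl

/-- The counit `ℤ[U X] ⟶ X` on chain complexes. -/
noncomputable def counit (X : SimplicialObject AddCommGrpCat.{u}) :
    SSet.chainComplex (X ⋙ forget AddCommGrpCat.{u}) R.{u} ⟶
      AlternatingFaceMapComplex.obj X :=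
  AlternatingFaceMapComplex.map (counit' X)

lemma ι_counit (X : SimplicialObject AddCommGrpCat.{u}) {n : ℕ}
    (a : (X ⋙ forget AddCommGrpCat.{u} : SSet.{u}) _⦋n⦌) :
    SSet.ιChainComplex (R := R.{u}) (X ⋙ forget AddCommGrpCat.{u} : SSet.{u}) a ≫ (counit X).f n
      = elt a := by
  show Sigma.ι (fun _ : (X ⋙ forget AddCommGrpCat.{u}).obj (Opposite.op ⦋n⦌) => R.{u}) a ≫
      Limits.Sigma.desc (fun x : (X ⋙ forget AddCommGrpCat.{u}).obj (Opposite.op ⦋n⦌) => elt x) = _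
  rw [Sigma.ι_desc]

lemma counit_naturality {X Y : SimplicialObject AddCommGrpCat.{u}} (f : X ⟶ Y) :
    counit X ≫ AlternatingFaceMapComplex.map f =
      SSet.chainComplexMap (Functor.whiskerRight f (forget AddCommGrpCat.{u})) R.{u} ≫ counit Y := by
  ext n : 1
  apply SSet.chainComplex_hom_ext
  intro a
  rw [HomologicalComplex.comp_f, HomologicalComplex.comp_f, reassoc_of% (ι_counit X a),
    SSet.ι_chainComplexMap_f_assoc, ι_counit]
  rw [AlternatingFaceMapComplex.map_f, elt_comp]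
  rfl

lemma cyc_succ {C : Type*} [Category C] [Preadditive C] (K : ChainComplex C ℕ) {T : C} (m : ℕ)
    (z : T ⟶ K.X (m + 1)) :
    z ≫ K.d (m + 1) ((ComplexShape.down ℕ).next (m + 1)) = 0 ↔ z ≫ K.d (m + 1) m = 0 := by
  have h : (ComplexShape.down ℕ).next (m + 1) = m := ChainComplex.next_nat_succ m
  rw [h]

lemma cyc_zero {C : Type*} [Category C] [Preadditive C] (K : ChainComplex C ℕ) {T : C}
    (z : T ⟶ K.X 0) : z ≫ K.d 0 ((ComplexShape.down ℕ).next 0) = 0 := by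
  rw [K.shape, comp_zero]
  simp

/-- The free chain complex on the underlying simplicial set. -/
noncomputable abbrev ZC (X : SimplicialObject AddCommGrpCat.{u}) : ChainComplex AddCommGrpCat.{u} ℕ :=
  SSet.chainComplex (X ⋙ forget AddCommGrpCat.{u}) R.{u}

/-- The generator attached to a generalized element. -/
noncomputable def br (X : SimplicialObject AddCommGrpCat.{u}) {n : ℕ} (x : R.{u} ⟶ X _⦋n⦌) :
    R.{u} ⟶ (ZC X).X n :=
  SSet.ιChainComplex (R := R.{u}) (X ⋙ forget AddCommGrpCat.{u} : SSet.{u})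
    (ev x : (X ⋙ forget AddCommGrpCat.{u} : SSet.{u}) _⦋n⦌)

lemma br_counit (X : SimplicialObject AddCommGrpCat.{u}) {n : ℕ} (x : R.{u} ⟶ X _⦋n⦌) :
    br X x ≫ (counit X).f n = x := by
  rw [br, ι_counit]
  exact elt_ev x

lemma br_d (X : SimplicialObject AddCommGrpCat.{u}) {n : ℕ} (x : R.{u} ⟶ X _⦋n + 1⦌) :
    br X x ≫ (ZC X).d (n + 1) n = ∑ i : Fin (n + 2), (-1 : ℤ) ^ (i : ℕ) • br X (x ≫ X.δ i) := by
  rw [br, SSet.ιChainComplex_d]
  rfl

lemma br_map {X Y : SimplicialObject AddCommGrpCat.{u}} (f : X ⟶ Y) {n : ℕ} (x : R.{u} ⟶ X _⦋n⦌) :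
    br X x ≫ (SSet.chainComplexMap (Functor.whiskerRight f (forget AddCommGrpCat.{u})) R.{u}).f n
      = br Y (x ≫ f.app _) := by
  rw [br, SSet.ι_chainComplexMap_f]
  rfl

/-- The difference `[x] - [0]`. -/
noncomputable def brr (X : SimplicialObject AddCommGrpCat.{u}) {n : ℕ} (x : R.{u} ⟶ X _⦋n⦌) :
    R.{u} ⟶ (ZC X).X n := br X x - br X 0

lemma brr_zero (X : SimplicialObject AddCommGrpCat.{u}) {n : ℕ} :
    brr X (0 : R.{u} ⟶ X _⦋n⦌) = 0 := sub_self _

lemma brr_counit (X : SimplicialObject AddCommGrpCat.{u}) {n : ℕ} (x : R.{u} ⟶ X _⦋n⦌) :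
    brr X x ≫ (counit X).f n = x := by
  rw [brr, Preadditive.sub_comp, br_counit, br_counit, sub_zero]

lemma brr_d (X : SimplicialObject AddCommGrpCat.{u}) {n : ℕ} (x : R.{u} ⟶ X _⦋n + 1⦌) :
    brr X x ≫ (ZC X).d (n + 1) n = ∑ i : Fin (n + 2), (-1 : ℤ) ^ (i : ℕ) • brr X (x ≫ X.δ i) := by
  rw [brr, Preadditive.sub_comp, br_d, br_d, ← Finset.sum_sub_distrib]
  refine Finset.sum_congr rfl (fun i _ => ?_)
  rw [← smul_sub, zero_comp, brr]

lemma brr_map {X Y : SimplicialObject AddCommGrpCat.{u}} (f : X ⟶ Y) {n : ℕ} (x : R.{u} ⟶ X _⦋n⦌) :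
    brr X x ≫ (SSet.chainComplexMap (Functor.whiskerRight f (forget AddCommGrpCat.{u})) R.{u}).f n
      = brr Y (x ≫ f.app _) := by
  rw [brr, Preadditive.sub_comp, br_map, br_map, zero_comp, brr]

/-- `[x] - [0]` is a cycle when all faces of `x` vanish. -/
lemma brr_d_of_faces (X : SimplicialObject AddCommGrpCat.{u}) {n : ℕ} (x : R.{u} ⟶ X _⦋n + 1⦌)
    (hx : ∀ i : Fin (n + 2), x ≫ X.δ i = 0) : brr X x ≫ (ZC X).d (n + 1) n = 0 := by
  rw [brr_d]
  refine Finset.sum_eq_zero (fun i _ => ?_)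
  rw [hx i, brr_zero, smul_zero]

/-- The boundary of `[w] - [0]` when the higher faces of `w` vanish. -/
lemma brr_d_of_higher (X : SimplicialObject AddCommGrpCat.{u}) {n : ℕ} (w : R.{u} ⟶ X _⦋n + 1⦌)
    (hw : ∀ j : Fin (n + 1), w ≫ X.δ j.succ = 0) :
    brr X w ≫ (ZC X).d (n + 1) n = brr X (w ≫ X.δ 0) := by
  rw [brr_d, Fin.sum_univ_succ]
  have : ∑ j : Fin (n + 1), (-1 : ℤ) ^ ((j.succ : Fin (n + 2)) : ℕ) • brr X (w ≫ X.δ j.succ) = 0 := by
    refine Finset.sum_eq_zero (fun j _ => ?_)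
    rw [hw j, brr_zero, smul_zero]
  rw [this, add_zero]
  simp

/-- The differential of the alternating face map complex on an element with vanishing higher
faces. -/
lemma afc_d_of_higher (X : SimplicialObject AddCommGrpCat.{u}) {n : ℕ} (w : R.{u} ⟶ X _⦋n + 1⦌)
    (hw : ∀ j : Fin (n + 1), w ≫ X.δ j.succ = 0) :
    w ≫ (AlternatingFaceMapComplex.obj X).d (n + 1) n = w ≫ X.δ 0 := by
  have h1 : (AlternatingFaceMapComplex.obj X).d (n + 1) n =
      ∑ i : Fin (n + 2), (-1 : ℤ) ^ (i : ℕ) • X.δ i := AlternatingFaceMapComplex.obj_d_eq X n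
  rw [h1, Preadditive.comp_sum, Fin.sum_univ_succ]
  have : ∑ j : Fin (n + 1), w ≫ ((-1 : ℤ) ^ ((j.succ : Fin (n + 2)) : ℕ) • X.δ j.succ) = 0 := by
    refine Finset.sum_eq_zero (fun j _ => ?_)
    rw [Preadditive.comp_zsmul, hw j, smul_zero]
  rw [this, add_zero]
  simp

open AlgebraicTopology.DoldKan DoldKan

/-- The alternating face map complex. -/
noncomputable abbrev KC (X : SimplicialObject AddCommGrpCat.{u}) :
    ChainComplex AddCommGrpCat.{u} ℕ := AlternatingFaceMapComplex.obj X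

lemma PInfty_higher (X : SimplicialObject AddCommGrpCat.{u}) {n : ℕ} (x : R.{u} ⟶ X _⦋n + 1⦌)
    (j : Fin (n + 1)) :
    (x ≫ (PInfty : K[X] ⟶ _).f (n + 1)) ≫ X.δ j.succ = 0 := by
  rw [PInfty_f]
  exact ((HigherFacesVanish.of_P (n + 1) n).of_comp x) j (by omega)

lemma PInfty_faces (X : SimplicialObject AddCommGrpCat.{u}) {n : ℕ} (x : R.{u} ⟶ X _⦋n + 1⦌)
    (hx : x ≫ (KC X).d (n + 1) n = 0) (i : Fin (n + 2)) :
    (x ≫ (PInfty : K[X] ⟶ _).f (n + 1)) ≫ X.δ i = 0 := by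
  have hc : (x ≫ (PInfty : K[X] ⟶ _).f (n + 1)) ≫ (KC X).d (n + 1) n = 0 := by
    rw [Category.assoc, (PInfty : K[X] ⟶ _).comm, reassoc_of% hx, zero_comp]
  rw [afc_d_of_higher X _ (PInfty_higher X x)] at hc
  exact Fin.cases hc (fun j => PInfty_higher X x j) i

/-- `[x'] - [0]` is a cycle for `x' = P∞ x`, `x` a cycle. -/
lemma brr_PInfty_cycle (X : SimplicialObject AddCommGrpCat.{u}) (n : ℕ) (x : R.{u} ⟶ X _⦋n⦌)
    (hx : x ≫ (KC X).d n ((ComplexShape.down ℕ).next n) = 0) :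
    brr X (x ≫ (PInfty : K[X] ⟶ _).f n) ≫ (ZC X).d n ((ComplexShape.down ℕ).next n) = 0 := by
  cases n with
  | zero => exact cyc_zero _ _
  | succ m =>
    rw [cyc_succ]
    exact brr_d_of_faces X _ (PInfty_faces X x ((cyc_succ (KC X) m x).1 hx))

/-- Main theorem: a homomorphism of simplicial abelian groups inducing a chain homotopy
equivalence on free chains of underlying simplicial sets is a quasi-isomorphism on alternating
face map complexes. -/
theorem quasiIso_of_htpy {X Y : SimplicialObject AddCommGrpCat.{u}} (f : X ⟶ Y)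
    (G : ZC Y ⟶ ZC X)
    (H₁ : Homotopy
      (SSet.chainComplexMap (Functor.whiskerRight f (forget AddCommGrpCat.{u})) R.{u} ≫ G)
      (𝟙 (ZC X)))
    (H₂ : Homotopy
      (G ≫ SSet.chainComplexMap (Functor.whiskerRight f (forget AddCommGrpCat.{u})) R.{u})
      (𝟙 (ZC Y))) :
    QuasiIso (AlternatingFaceMapComplex.map f) := by
  have hnat := counit_naturality f
  have hnatf : ∀ n, (counit X).f n ≫ (AlternatingFaceMapComplex.map f).f n =
      (SSet.chainComplexMap (Functor.whiskerRight f (forget AddCommGrpCat.{u})) R.{u}).f n ≫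
        (counit Y).f n := fun n => by
    rw [← HomologicalComplex.comp_f, hnat, HomologicalComplex.comp_f]
  apply cc_quasiIso
  · intro n y hy
    obtain ⟨c, hc⟩ := htpy_cycle (homotopyPInftyToId Y) n y hy
    have hz := brr_PInfty_cycle Y n y hy
    obtain ⟨b, hb⟩ := htpy_cycle H₂ n _ hz
    refine ⟨brr Y (y ≫ (PInfty : K[Y] ⟶ _).f n) ≫ G.f n ≫ (counit X).f n,
      c + b ≫ (counit Y).f (n + 1), ?_, ?_⟩
    · rw [Category.assoc, Category.assoc, (counit X).comm, G.comm_assoc, reassoc_of% hz, zero_comp]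
    · rw [Category.assoc, Category.assoc, hnatf n]
      have h1 := congrArg (· ≫ (counit Y).f n) hb
      simp only [HomologicalComplex.comp_f, Category.assoc, Preadditive.add_comp, brr_counit] at h1
      rw [h1, hc, Preadditive.add_comp, Category.assoc, (counit Y).comm (n + 1) n]
      abel
  · intro n x hx v hv
    obtain ⟨c, hc⟩ := htpy_cycle (homotopyPInftyToId X) n x hx
    have hz := brr_PInfty_cycle X n x hx
    obtain ⟨b, hb⟩ := htpy_cycle H₁ n _ hz
    have hw := PInfty_higher Y v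
    have hwd : (v ≫ (PInfty : K[Y] ⟶ _).f (n + 1)) ≫ Y.δ 0 =
        (x ≫ (PInfty : K[X] ⟶ _).f n) ≫ f.app _ := by
      rw [← afc_d_of_higher Y _ hw, Category.assoc, (PInfty : K[Y] ⟶ _).comm, ← Category.assoc,
        ← hv, Category.assoc, Category.assoc]
      congr 1
      exact PInfty_f_naturality n f
    have hF : brr X (x ≫ (PInfty : K[X] ⟶ _).f n) ≫
        (SSet.chainComplexMap (Functor.whiskerRight f (forget AddCommGrpCat.{u})) R.{u}).f n =
        brr Y (v ≫ (PInfty : K[Y] ⟶ _).f (n + 1)) ≫ (ZC Y).d (n + 1) n := by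
      rw [brr_map, brr_d_of_higher Y _ hw, hwd]
    refine ⟨(brr Y (v ≫ (PInfty : K[Y] ⟶ _).f (n + 1)) ≫ G.f (n + 1) - b) ≫
      (counit X).f (n + 1) - c, ?_⟩
    have h1 := congrArg (· ≫ (counit X).f n) hb
    simp only [HomologicalComplex.comp_f, Category.assoc, Preadditive.add_comp, brr_counit] at h1
    rw [reassoc_of% hF, hc] at h1
    simp only [Preadditive.sub_comp, Category.assoc, (counit X).comm (n + 1) n,
      G.comm_assoc (n + 1) n]
    rw [h1]
    abel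

end Groth.Agent.Lib.Helper32.SAbQis
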