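import Mathlib

set_option autoImplicit false
universe v v' u u'

namespace Groth.Agent.Lib.Helper32.SatLoc

open CategoryTheory CategoryTheory.Limits CategoryTheory.Pretriangulated

lemma isZero_of_equiv {C : Type*} [Category C] {E : Type*} [Category E] (e : C ≌ E) {X : C}
    (h : IsZero X) : IsZero (e.functor.obj X) := by
  refine ⟨fun Y => ?_, fun Y => ?_⟩
  · have : Unique (X ⟶ e.inverse.obj Y) := (h.unique_to _).some
    exact ⟨(e.toAdjunction.homEquiv X Y).unique⟩
  · have : Unique (e.symm.functor.obj Y ⟶ X) := (h.unique_from _).some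
    exact ⟨(e.symm.toAdjunction.homEquiv Y X).symm.unique⟩

theorem main {D : Type u} [Category.{v} D] [Preadditive D] [HasZeroObject D] [HasShift D ℤ]
    [∀ n : ℤ, (shiftFunctor D n).Additive] [Pretriangulated D] [IsTriangulated D]
    (S : MorphismProperty D) [S.HasLeftCalculusOfFractions] [S.HasRightCalculusOfFractions]
    [S.IsCompatibleWithTriangulation]
    {E : Type u'} [Category.{v'} E] (Q : D ⥤ E) [Q.IsLocalization S] {X Y : D} (f : X ⟶ Y) :
    ObjectProperty.trW (fun Z : D => IsZero (Q.obj Z)) f ↔ IsIso (Q.map f) := by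
  let e := Localization.uniq S.Q Q S
  let iso : S.Q ⋙ e.functor ≅ Q := Localization.compUniqFunctor S.Q Q S
  have hz : ∀ Z : D, IsZero (Q.obj Z) ↔ IsZero (S.Q.obj Z) := by
    intro Z
    rw [← (iso.app Z).isZero_iff]
    constructor
    · intro h
      exact IsZero.of_iso (isZero_of_equiv e.symm h) (e.unitIso.app _)
    · intro h
      exact isZero_of_equiv e h
  have hi : ∀ {X Y : D} (f : X ⟶ Y), IsIso (Q.map f) ↔ IsIso (S.Q.map f) := by
    intro X Y f
    rw [← NatIso.isIso_map_iff iso f]
    dsimp only [Functor.comp_map]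
    constructor
    · intro h
      exact isIso_of_reflects_iso _ e.functor
    · intro h
      infer_instance
  rw [hi, ObjectProperty.trW_iff]
  constructor
  · rintro ⟨Z, g, h, hT, hZ⟩
    have hT' := S.Q.map_distinguished _ hT
    exact (Triangle.isZero₃_iff_isIso₁ _ hT').1 ((hz Z).1 hZ)
  · intro hf
    obtain ⟨Z, g, h, hT⟩ := distinguished_cocone_triangle f
    refine ⟨Z, g, h, hT, (hz Z).2 ?_⟩
    have hT' := S.Q.map_distinguished _ hT
    exact (Triangle.isZero₃_iff_isIso₁ _ hT').2 hf

end Groth.Agent.Lib.Helper32.SatLoc
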