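import Mathlib
import Groth.Prelude.Def_ModSite
import Groth.Prelude.Def_AlgSpPerf

set_option autoImplicit false
universe u v

namespace Groth.Agent.Lib.Helper32.SectFree

open CategoryTheory CategoryTheory.Limits Opposite

section Abstract

variable {A : Type*} [Category A] [Preadditive A] {B : Type*} [Category B] [Preadditive B]
  (G : A ⥤ B) [G.Additive]

/-- `G` is fully faithful on maps out of `E`. -/
def FF (E : A) : Prop := ∀ E' : A, Function.Bijective (fun φ : E ⟶ E' => G.map φ)

variable {G}

lemma FF.of_retract {E F : A} (i : E ⟶ F) (p : F ⟶ E) (hip : i ≫ p = 𝟙 E) (hF : FF G F) :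
    FF G E := by
  intro E'
  constructor
  · intro φ ψ h
    dsimp at h
    have h1 : p ≫ φ = p ≫ ψ := (hF E').1 (by dsimp; rw [G.map_comp, G.map_comp, h])
    calc φ = (i ≫ p) ≫ φ := by rw [hip, Category.id_comp]
      _ = (i ≫ p) ≫ ψ := by rw [Category.assoc, h1, Category.assoc]
      _ = ψ := by rw [hip, Category.id_comp]
  · intro h
    obtain ⟨θ, hθ⟩ := (hF E').2 (G.map p ≫ h)
    dsimp at hθ
    refine ⟨i ≫ θ, ?_⟩
    dsimp
    rw [G.map_comp, hθ, ← Category.assoc, ← G.map_comp, hip, G.map_id, Category.id_comp]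

/-- projections from a finite coproduct -/
noncomputable def sigmaπ {ι : Type*} [DecidableEq ι] (f : ι → A) [HasCoproduct f] (k : ι) :
    ∐ f ⟶ f k :=
  Sigma.desc (fun j => if h : j = k then eqToHom (by rw [h]) else 0)

lemma ι_sigmaπ_self {ι : Type*} [DecidableEq ι] (f : ι → A) [HasCoproduct f] (k : ι) :
    Sigma.ι f k ≫ sigmaπ f k = 𝟙 _ := by
  simp [sigmaπ]

lemma ι_sigmaπ_ne {ι : Type*} [DecidableEq ι] (f : ι → A) [HasCoproduct f] (j k : ι) (h : j ≠ k) :
    Sigma.ι f j ≫ sigmaπ f k = 0 := by
  simp [sigmaπ, h]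

lemma sum_sigmaπ_ι {ι : Type*} [DecidableEq ι] [Fintype ι] (f : ι → A) [HasCoproduct f] :
    ∑ k, sigmaπ f k ≫ Sigma.ι f k = 𝟙 (∐ f) := by
  apply Sigma.hom_ext
  intro j
  rw [Preadditive.comp_sum, Category.comp_id]
  rw [Finset.sum_eq_single j]
  · rw [← Category.assoc, ι_sigmaπ_self, Category.id_comp]
  · intro k _ hk
    rw [← Category.assoc, ι_sigmaπ_ne f j k (Ne.symm hk), zero_comp]
  · intro h; exact absurd (Finset.mem_univ j) h

lemma FF.of_coproduct {ι : Type*} [Fintype ι] (f : ι → A) [HasCoproduct f]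
    (hf : ∀ k, FF G (f k)) : FF G (∐ f) := by
  classical
  intro E'
  constructor
  · intro φ ψ h
    dsimp at h
    apply Sigma.hom_ext
    intro k
    exact (hf k E').1 (by dsimp; rw [G.map_comp, G.map_comp, h])
  · intro h
    choose θ hθ using fun k => (hf k E').2 (G.map (Sigma.ι f k) ≫ h)
    dsimp at hθ
    refine ⟨Sigma.desc θ, ?_⟩
    dsimp
    have h1 : Sigma.desc θ = ∑ k, sigmaπ f k ≫ θ k := by
      apply Sigma.hom_ext
      intro j
      rw [Sigma.ι_desc, Preadditive.comp_sum, Finset.sum_eq_single j]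
      · rw [← Category.assoc, ι_sigmaπ_self, Category.id_comp]
      · intro k _ hk
        rw [← Category.assoc, ι_sigmaπ_ne f j k (Ne.symm hk), zero_comp]
      · intro h; exact absurd (Finset.mem_univ j) h
    have h2 : h = ∑ k, G.map (sigmaπ f k) ≫ G.map (Sigma.ι f k) ≫ h := by
      have : G.map (∑ k, sigmaπ f k ≫ Sigma.ι f k) ≫ h = G.map (𝟙 (∐ f)) ≫ h := by
        rw [sum_sigmaπ_ι f]
      rw [G.map_id, Category.id_comp, G.map_sum, Preadditive.sum_comp] at this
      refine this.symm.trans (Finset.sum_congr rfl ?_)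
      intro k _
      rw [G.map_comp, Category.assoc]
    rw [h1, G.map_sum]
    refine Eq.trans ?_ h2.symm
    apply Finset.sum_congr rfl
    intro k _
    rw [G.map_comp, hθ]

end Abstract


section Concrete

variable {C : Type u} [SmallCategory C] {J : GrothendieckTopology C} (R : Sheaf J RingCat.{u})
  (X : C) (hX : IsTerminal X)

/-- global sections functor (evaluation at the terminal object) -/
noncomputable abbrev Γ : SheafOfModules.{u} R ⥤ ModuleCat.{u} (R.obj.obj (op X)) :=
  SheafOfModules.evaluation R (op X)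

instance : (Γ R X).Additive := by
  unfold Γ SheafOfModules.evaluation
  infer_instance

variable {R X}

include hX in
lemma sections_bijective (M : SheafOfModules.{u} R) :
    Function.Bijective (fun s : M.sections => s.val (op X)) := by
  constructor
  · intro s t h
    dsimp at h
    apply PresheafOfModules.sections_ext
    intro Y
    have h1 := PresheafOfModules.sections_property s (hX.from Y.unop).op
    have h2 := PresheafOfModules.sections_property t (hX.from Y.unop).op
    rw [← h1, ← h2, h]
  · intro (x : M.val.obj (op X))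
    refine ⟨PresheafOfModules.sectionsMk (fun Y => M.val.map (hX.from Y.unop).op x) ?_, ?_⟩
    · intro Y Z f
      refine (PresheafOfModules.map_comp_apply M.val (hX.from Y.unop).op f x).symm.trans ?_
      apply PresheafOfModules.congr_map_apply
      apply Quiver.Hom.unop_inj
      exact hX.hom_ext _ _
    · have : (hX.from X).op = 𝟙 (op X) := by
        apply Quiver.Hom.unop_inj
        exact hX.hom_ext _ _
      show M.val.map (hX.from X).op x = x
      rw [PresheafOfModules.congr_map_apply M.val this x]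
      first
        | (simp; done)
        | (simp; rfl)

include hX in
lemma unit_ev_bijective (M : SheafOfModules.{u} R) :
    Function.Bijective (fun φ : SheafOfModules.unit R ⟶ M =>
      (φ.val.app (op X)) (1 : R.obj.obj (op X))) := by
  have := (sections_bijective hX M).comp M.unitHomEquiv.bijective
  exact this

include hX in
lemma ff_unit : FF (Γ R X) (SheafOfModules.unit R) := by
  intro M
  have h1 := unit_ev_bijective hX M
  -- evaluation at 1 is injective on linear maps out of R(X)
  have h2 : Function.Injective (fun h : (Γ R X).obj (SheafOfModules.unit R) ⟶ (Γ R X).obj M =>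
      h (1 : R.obj.obj (op X))) := by
    intro h h' e
    dsimp at e
    ext
    exact e
  constructor
  · intro φ ψ e
    exact h1.1 (congr_arg (fun h : (Γ R X).obj (SheafOfModules.unit R) ⟶ (Γ R X).obj M =>
      h (1 : R.obj.obj (op X))) e)
  · intro h
    obtain ⟨φ, hφ⟩ := h1.2 (h (1 : R.obj.obj (op X)))
    exact ⟨φ, h2 hφ⟩


include hX in
lemma ff_free (I : Type u) [Fintype I] : FF (Γ R X) (SheafOfModules.free (R := R) I) := by
  unfold SheafOfModules.free
  exact FF.of_coproduct _ (fun _ => ff_unit hX)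

include hX in
lemma ff_summand (E : SheafOfModules.{u} R) (hE : DCoh.IsFinFreeSummandMod R E) :
    FF (Γ R X) E := by
  obtain ⟨n, i, p, hip⟩ := hE
  exact FF.of_retract i p hip (ff_free hX _)

/-- projections of the free module -/
noncomputable def πFree (I : Type u) [DecidableEq I] (k : I) :
    SheafOfModules.free (R := R) I ⟶ SheafOfModules.unit R :=
  sigmaπ (fun _ : I => SheafOfModules.unit R) k

lemma ι_πFree_self (I : Type u) [DecidableEq I] (k : I) :
    SheafOfModules.ιFree (R := R) k ≫ πFree I k = 𝟙 _ :=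
  ι_sigmaπ_self (fun _ : I => SheafOfModules.unit R) k

lemma ι_πFree_ne (I : Type u) [DecidableEq I] (j k : I) (h : j ≠ k) :
    SheafOfModules.ιFree (R := R) j ≫ πFree I k = 0 :=
  ι_sigmaπ_ne (fun _ : I => SheafOfModules.unit R) j k h

lemma sum_πFree_ι (I : Type u) [DecidableEq I] [Fintype I] :
    ∑ k, πFree (R := R) I k ≫ SheafOfModules.ιFree k = 𝟙 (SheafOfModules.free (R := R) I) :=
  sum_sigmaπ_ι (fun _ : I => SheafOfModules.unit R)

/-- `Γ(free I) ≃ (I → Γ(unit))` for finite `I`. -/
noncomputable def freeEquiv (I : Type u) [Fintype I] [DecidableEq I] :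
    ((Γ R X).obj (SheafOfModules.free (R := R) I)) ≃ₗ[R.obj.obj (op X)]
      (I → ((Γ R X).obj (SheafOfModules.unit R))) where
  toFun := LinearMap.pi (fun k => ((Γ R X).map (πFree (R := R) I k)).hom)
  map_add' := map_add _
  map_smul' := map_smul _
  invFun r := ∑ k, ((Γ R X).map (SheafOfModules.ιFree (R := R) k)).hom (r k)
  left_inv x := by
    have h := sum_πFree_ι (R := R) I
    have h2 := congr_arg (fun t => ((Γ R X).map t).hom x) h
    simp only [Functor.map_sum, Functor.map_comp, Functor.map_id] at h2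
    simpa using h2
  right_inv r := by
    funext j
    simp only [LinearMap.pi_apply, map_sum]
    rw [Finset.sum_eq_single j]
    · have := ι_πFree_self (R := R) I j
      have h2 := congr_arg (fun t => ((Γ R X).map t).hom (r j)) this
      simp only [Functor.map_comp] at h2
      simpa using h2
    · intro k _ hk
      have := ι_πFree_ne (R := R) I k j hk
      have h2 := congr_arg (fun t => ((Γ R X).map t).hom (r k)) this
      simp only [Functor.map_comp, Functor.map_zero] at h2
      simpa using h2
    · intro h; exact absurd (Finset.mem_univ j) h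

lemma unit_finite_projective (I : Type u) [Fintype I] :
    Module.Finite (R.obj.obj (op X)) (I → ((Γ R X).obj (SheafOfModules.unit R))) ∧
    Module.Projective (R.obj.obj (op X)) (I → ((Γ R X).obj (SheafOfModules.unit R))) := by
  constructor
  · exact inferInstanceAs (Module.Finite (R.obj.obj (op X)) (I → R.obj.obj (op X)))
  · exact inferInstanceAs (Module.Projective (R.obj.obj (op X)) (I → R.obj.obj (op X)))

lemma part2 (E : SheafOfModules.{u} R) (hE : DCoh.IsFinFreeSummandMod R E) :
    Module.Finite (R.obj.obj (op X)) (E.val.obj (op X)) ∧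
    Module.Projective (R.obj.obj (op X)) (E.val.obj (op X)) := by
  classical
  obtain ⟨n, i, p, hip⟩ := hE
  obtain ⟨h1, h2⟩ := unit_finite_projective (R := R) (X := X) (ULift.{u} (Fin n))
  let e := freeEquiv (R := R) (X := X) (ULift.{u} (Fin n))
  have hF1 : Module.Finite (R.obj.obj (op X))
      ((Γ R X).obj (SheafOfModules.free (R := R) (ULift.{u} (Fin n)))) :=
    Module.Finite.equiv e.symm
  have hF2 : Module.Projective (R.obj.obj (op X))
      ((Γ R X).obj (SheafOfModules.free (R := R) (ULift.{u} (Fin n)))) :=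
    Module.Projective.of_equiv e.symm
  have hcomp : ((Γ R X).map p).hom ∘ₗ ((Γ R X).map i).hom = LinearMap.id := by
    have := congr_arg (fun t => ((Γ R X).map t).hom) hip
    simpa using this
  constructor
  · refine Module.Finite.of_surjective ((Γ R X).map p).hom ?_
    intro x
    exact ⟨((Γ R X).map i).hom x, LinearMap.congr_fun hcomp x⟩
  · exact Module.Projective.of_split ((Γ R X).map i).hom ((Γ R X).map p).hom hcomp

include hX in
lemma part3 (M : ModuleCat.{u} (R.obj.obj (op X)))
    (hM1 : Module.Finite (R.obj.obj (op X)) M) (hM2 : Module.Projective (R.obj.obj (op X)) M) :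
    ∃ E : SheafOfModules.{u} R, DCoh.IsFinFreeSummandMod R E ∧ Nonempty (E.val.obj (op X) ≅ M) := by
  classical
  obtain ⟨n, q, hq⟩ := Module.Finite.exists_fin' (R.obj.obj (op X)) M
  obtain ⟨σ, hσ⟩ := Module.projective_lifting_property q LinearMap.id hq
  let F : SheafOfModules.{u} R := SheafOfModules.free (R := R) (ULift.{u} (Fin n))
  let e : ((Γ R X).obj F) ≃ₗ[R.obj.obj (op X)] (ULift.{u} (Fin n) → R.obj.obj (op X)) :=
    freeEquiv (R := R) (X := X) (ULift.{u} (Fin n))
  let c : (ULift.{u} (Fin n) → R.obj.obj (op X)) ≃ₗ[R.obj.obj (op X)] (Fin n → R.obj.obj (op X)) :=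
    LinearEquiv.funCongrLeft (R.obj.obj (op X)) (R.obj.obj (op X)) Equiv.ulift.symm
  let a : M →ₗ[R.obj.obj (op X)] ((Γ R X).obj F) := e.symm.toLinearMap ∘ₗ c.symm.toLinearMap ∘ₗ σ
  let b : ((Γ R X).obj F) →ₗ[R.obj.obj (op X)] M := q ∘ₗ c.toLinearMap ∘ₗ e.toLinearMap
  have hba : b ∘ₗ a = LinearMap.id := by
    ext x
    simp [a, b]
    exact LinearMap.congr_fun hσ x
  let A : M ⟶ (Γ R X).obj F := ModuleCat.ofHom a
  let B : (Γ R X).obj F ⟶ M := ModuleCat.ofHom b
  have hAB : A ≫ B = 𝟙 M := by
    ext x
    exact LinearMap.congr_fun hba x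
  obtain ⟨ε, hε⟩ := (ff_free hX (ULift.{u} (Fin n)) (SheafOfModules.free (R := R) (ULift.{u} (Fin n)))).2 (B ≫ A)
  replace hε : (Γ R X).map ε = B ≫ A := hε
  have hεε : ε ≫ ε = ε := by
    apply (ff_free hX (ULift.{u} (Fin n)) (SheafOfModules.free (R := R) (ULift.{u} (Fin n)))).1
    show (Γ R X).map (ε ≫ ε) = (Γ R X).map ε
    rw [Functor.map_comp, hε, Category.assoc, reassoc_of% hAB]
  obtain ⟨E, i, p, hip, hpi⟩ := IsIdempotentComplete.idempotents_split _ ε hεε
  suffices iso : (Γ R X).obj E ≅ M from ⟨E, ⟨n, i, p, hip⟩, ⟨iso⟩⟩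
  refine ⟨(Γ R X).map i ≫ B, A ≫ (Γ R X).map p, ?_, ?_⟩
  · have h1 : B ≫ A = (Γ R X).map p ≫ (Γ R X).map i := by
      rw [← hε, ← hpi, Functor.map_comp]
    rw [Category.assoc, reassoc_of% h1, ← Functor.map_comp, ← Functor.map_comp_assoc, hip]
    simp
  · have h1 : (Γ R X).map p ≫ (Γ R X).map i = B ≫ A := by
      rw [← hε, ← hpi, Functor.map_comp]
    rw [Category.assoc, reassoc_of% h1, reassoc_of% hAB, hAB]

end Concrete

end Groth.Agent.Lib.Helper32.SectFree
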