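import Mathlib
import Groth.Agent.Lib.Helper32.DevissageDer

set_option autoImplicit false
universe w w' v v' u u'

namespace Groth.Agent.Lib.Helper32.SerreDer

open CategoryTheory CategoryTheory.Limits CategoryTheory.Pretriangulated DerivedCategory
open Groth.Agent.Lib.Helper32.Devissage

section Loc

variable {C₁ C₂ : Type*} [Category C₁] [Category C₂]
  {W₁ : MorphismProperty C₁} {W₂ : MorphismProperty C₂}

open Functor in
lemma isLocalizedEquivalence_of_counit_of_unit (Φ : LocalizerMorphism W₁ W₂)
    (Ψ : LocalizerMorphism W₂ W₁)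
    (ε₁ : Φ.functor ⋙ Ψ.functor ⟶ 𝟭 C₁) (ε₂ : 𝟭 C₂ ⟶ Ψ.functor ⋙ Φ.functor)
    (hε₁ : ∀ X₁, W₁ (ε₁.app X₁)) (hε₂ : ∀ X₂, W₂ (ε₂.app X₂)) :
    Φ.IsLocalizedEquivalence where
  isEquivalence := by
    have : IsIso (whiskerRight ε₁ W₁.Q) := by
      rw [NatTrans.isIso_iff_isIso_app]
      exact fun _ ↦ Localization.inverts W₁.Q W₁ _ (hε₁ _)
    have : IsIso (whiskerRight ε₂ W₂.Q) := by
      rw [NatTrans.isIso_iff_isIso_app]
      exact fun _ ↦ Localization.inverts W₂.Q W₂ _ (hε₂ _)
    refine (Localization.equivalence W₁.Q W₁ W₂.Q W₂ (Φ.functor ⋙ W₂.Q)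
      (Φ.localizedFunctor W₁.Q W₂.Q)
      (Ψ.functor ⋙ W₁.Q) (Ψ.localizedFunctor W₂.Q W₁.Q) ?_ ?_).isEquivalence_functor
    · exact Functor.associator _ _ _ ≪≫
        isoWhiskerLeft _ (CatCommSq.iso Ψ.functor W₂.Q W₁.Q _).symm ≪≫
        (Functor.associator _ _ _).symm ≪≫
        (asIso (whiskerRight ε₁ W₁.Q)) ≪≫ Functor.leftUnitor _
    · exact Functor.associator _ _ _ ≪≫
        isoWhiskerLeft _ (CatCommSq.iso Φ.functor W₁.Q W₂.Q _).symm ≪≫
        (Functor.associator _ _ _).symm ≪≫
        (asIso (whiskerRight ε₂ W₂.Q)).symm ≪≫ Functor.leftUnitor _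

end Loc

lemma isZero_of_homology {C : Type u} [Category.{v} C] [Abelian C] [HasDerivedCategory.{w} C]
    (X : DerivedCategory C) (h : ∀ n, IsZero ((homologyFunctor C n).obj X)) : IsZero X := by
  have : X.IsLE 0 := (isLE_iff X 0).2 (fun i _ => h i)
  have : X.IsGE 1 := (isGE_iff X 1).2 (fun i _ => h i)
  exact TStructure.t.isZero X 0 1 (by omega)

section Main

variable {A : Type u} [Category.{v} A] [Abelian A] [HasDerivedCategory.{w} A]
    (P : ObjectProperty A) [P.IsSerreClass]
    {Q : Type u'} [Category.{v'} Q] [Abelian Q] [HasDerivedCategory.{w'} Q]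
    (v : A ⥤ Q) [v.IsLocalization P.isoModSerre] [v.Additive] [PreservesFiniteLimits v]
    [PreservesFiniteColimits v]

/-- the subcategory `D_P(A)` -/
def S : ObjectProperty (DerivedCategory A) :=
  fun X => ∀ n : ℤ, P ((DerivedCategory.homologyFunctor A n).obj X)

lemma isZero_map_iff (Z : DerivedCategory A) : IsZero (v.mapDerivedCategory.obj Z) ↔ S P Z := by
  constructor
  · intro h n
    rw [← ObjectProperty.SerreClassLocalization.isZero_obj_iff v P]
    exact IsZero.of_iso ((homologyFunctor Q n).map_isZero h) (homologyMapIso v Z n).symm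
  · intro h
    apply isZero_of_homology
    intro n
    exact IsZero.of_iso ((ObjectProperty.SerreClassLocalization.isZero_obj_iff v P _).2 (h n))
      (homologyMapIso v Z n)

lemma inverts : (S P).trW.IsInvertedBy v.mapDerivedCategory := by
  intro X Y f hf
  rw [ObjectProperty.trW_iff] at hf
  obtain ⟨Z, g, h, hT, hZ⟩ := hf
  have hT' := v.mapDerivedCategory.map_distinguished _ hT
  exact (Triangle.isZero₃_iff_isIso₁ _ hT').1 ((isZero_map_iff P v Z).2 hZ)


/-- morphisms of complexes inverted up to quasi-iso by `v` -/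
def W' : MorphismProperty (CochainComplex A ℤ) :=
  (HomologicalComplex.quasiIso Q (ComplexShape.up ℤ)).inverseImage
    (v.mapHomologicalComplex (ComplexShape.up ℤ))

lemma quasiIso_le_W' : HomologicalComplex.quasiIso A (ComplexShape.up ℤ) ≤ W' v :=
  (v.mapHomologicalComplexUpToQuasiIsoLocalizerMorphism (ComplexShape.up ℤ)).map

lemma W'_trW {K L : CochainComplex A ℤ} (f : K ⟶ L) (hf : W' v f) :
    (S P).trW (DerivedCategory.Q.map f) := by
  have hT : DerivedCategory.Q.mapTriangle.obj (CochainComplex.mappingCone.triangle f) ∈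
      distTriang (DerivedCategory A) := by
    rw [DerivedCategory.mem_distTriang_iff]
    exact ⟨K, L, f, ⟨Iso.refl _⟩⟩
  refine ObjectProperty.trW.mk (P := S P) hT ?_
  rw [← isZero_map_iff P v]
  have hT' := v.mapDerivedCategory.map_distinguished _ hT
  refine (Triangle.isZero₃_iff_isIso₁ _ hT').2 ?_
  have h1 : IsIso ((v.mapHomologicalComplex (ComplexShape.up ℤ) ⋙ DerivedCategory.Q).map f) := by
    have : QuasiIso ((v.mapHomologicalComplex (ComplexShape.up ℤ)).map f) := hf
    dsimp only [Functor.comp_map]
    infer_instance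
  exact (NatIso.isIso_map_iff v.mapDerivedCategoryFactors f).2 h1

variable (u : Q ⥤ A) (adj : u ⊣ v) [IsIso adj.unit]

include adj in
lemma main : v.mapDerivedCategory.IsLocalization (S P).trW := by
  have : u.Additive := adj.left_adjoint_additive
  have hv : ∀ X : A, IsIso (v.map (adj.counit.app X)) := by
    intro X
    have h := adj.right_triangle_components X
    have : IsIso (adj.unit.app (v.obj X)) := inferInstance
    exact IsIso.of_isIso_fac_left h
  -- the localizer morphisms
  let Φ : LocalizerMorphism (W' v) (HomologicalComplex.quasiIso Q (ComplexShape.up ℤ)) :=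
    { functor := v.mapHomologicalComplex (ComplexShape.up ℤ)
      map := le_refl _ }
  -- unit and counit on complexes
  let ε₂ : 𝟭 (CochainComplex Q ℤ) ⟶ u.mapHomologicalComplex (ComplexShape.up ℤ) ⋙
      v.mapHomologicalComplex (ComplexShape.up ℤ) :=
    { app := fun K =>
        { f := fun n => adj.unit.app (K.X n)
          comm' := fun i j _ => by
            dsimp
            exact (adj.unit.naturality (K.d i j)).symm }
      naturality := fun K L f => by
        ext n
        dsimp
        exact adj.unit.naturality (f.f n) }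
  let ε₁ : v.mapHomologicalComplex (ComplexShape.up ℤ) ⋙
      u.mapHomologicalComplex (ComplexShape.up ℤ) ⟶ 𝟭 (CochainComplex A ℤ) :=
    { app := fun K =>
        { f := fun n => adj.counit.app (K.X n)
          comm' := fun i j _ => by
            dsimp
            exact (adj.counit.naturality (K.d i j)).symm }
      naturality := fun K L f => by
        ext n
        dsimp
        exact adj.counit.naturality (f.f n) }
  have hε₂iso : ∀ K, IsIso (ε₂.app K) := by
    intro K
    have : ∀ n, IsIso ((ε₂.app K).f n) := fun n => by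
      dsimp [ε₂]
      exact NatIso.isIso_app_of_isIso adj.unit (K.X n)
    exact HomologicalComplex.Hom.isIso_of_components _
  have hε₂ : ∀ K, HomologicalComplex.quasiIso Q (ComplexShape.up ℤ) (ε₂.app K) := by
    intro K
    have := hε₂iso K
    rw [HomologicalComplex.mem_quasiIso_iff]
    infer_instance
  have hε₁ : ∀ K, W' v (ε₁.app K) := by
    intro K
    show HomologicalComplex.quasiIso Q (ComplexShape.up ℤ)
      ((v.mapHomologicalComplex (ComplexShape.up ℤ)).map (ε₁.app K))
    have : ∀ n, IsIso (((v.mapHomologicalComplex (ComplexShape.up ℤ)).map (ε₁.app K)).f n) :=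
      fun n => by dsimp [ε₁]; exact hv _
    have : IsIso ((v.mapHomologicalComplex (ComplexShape.up ℤ)).map (ε₁.app K)) :=
      HomologicalComplex.Hom.isIso_of_components _
    rw [HomologicalComplex.mem_quasiIso_iff]
    infer_instance
  let Ψ : LocalizerMorphism (HomologicalComplex.quasiIso Q (ComplexShape.up ℤ)) (W' v) :=
    { functor := u.mapHomologicalComplex (ComplexShape.up ℤ)
      map := by
        intro K L f hf
        show HomologicalComplex.quasiIso Q (ComplexShape.up ℤ)
          ((v.mapHomologicalComplex (ComplexShape.up ℤ)).map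
            ((u.mapHomologicalComplex (ComplexShape.up ℤ)).map f))
        have nat := ε₂.naturality f
        have h1 : HomologicalComplex.quasiIso Q (ComplexShape.up ℤ)
            (ε₂.app K ≫ (v.mapHomologicalComplex (ComplexShape.up ℤ)).map
            ((u.mapHomologicalComplex (ComplexShape.up ℤ)).map f)) := by
          have : ε₂.app K ≫ (v.mapHomologicalComplex (ComplexShape.up ℤ)).map
              ((u.mapHomologicalComplex (ComplexShape.up ℤ)).map f) = f ≫ ε₂.app L := nat.symm
          rw [this]
          exact MorphismProperty.comp_mem _ _ _ hf (hε₂ L)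
        exact MorphismProperty.of_precomp _ _ _ (hε₂ K) h1 }
  have hΦ : Φ.IsLocalizedEquivalence :=
    isLocalizedEquivalence_of_counit_of_unit Φ Ψ ε₁ ε₂ hε₁ hε₂
  have h1 : (Φ.functor ⋙ DerivedCategory.Q).IsLocalization (W' v) :=
    LocalizerMorphism.IsLocalizedEquivalence.isLocalization Φ DerivedCategory.Q
  have h2 : (DerivedCategory.Q ⋙ v.mapDerivedCategory).IsLocalization (W' v) :=
    Functor.IsLocalization.of_iso (W' v) v.mapDerivedCategoryFactors.symm
  have h3 : v.mapDerivedCategory.IsLocalization ((W' v).map DerivedCategory.Q) :=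
    Functor.IsLocalization.of_comp DerivedCategory.Q v.mapDerivedCategory
      (HomologicalComplex.quasiIso A (ComplexShape.up ℤ)) _ (W' v) (quasiIso_le_W' v) rfl
  refine Functor.IsLocalization.of_equivalence_source v.mapDerivedCategory
    ((W' v).map DerivedCategory.Q) v.mapDerivedCategory (S P).trW (CategoryTheory.Equivalence.refl) ?_
    (inverts P v) (Functor.leftUnitor _)
  intro X Y g hg
  obtain ⟨K, L, f, hf, ⟨e⟩⟩ := hg
  show (S P).trW.isoClosure g
  apply MorphismProperty.le_isoClosure
  exact ((S P).trW.arrow_mk_iso_iff e).1 (W'_trW P v f hf)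

end Main

end Groth.Agent.Lib.Helper32.SerreDer
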