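import Mathlib

set_option autoImplicit false
set_option linter.unusedSectionVars false
universe v u v' u' v'' u''
open CategoryTheory CategoryTheory.Limits

namespace Groth.Agent.Lib.Helper32.SerreFF

variable {A A' : Type u} [Category.{v} A] [Abelian A] [Category.{v} A'] [Abelian A']
    (i : A' ⥤ A) [i.Full] [i.Faithful] [PreservesFiniteLimits i] [PreservesFiniteColimits i]
    (J : ObjectProperty A) [J.IsSerreClass] [(J.inverseImage i).IsSerreClass]

include i in
lemma additive : i.Additive := i.additive_of_preserves_binary_products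

lemma isoModSerre_iff {X Y : A'} (f : X ⟶ Y) :
    (J.inverseImage i).isoModSerre f ↔ J.isoModSerre (i.map f) := by
  have := additive i
  simp only [ObjectProperty.isoModSerre_iff, ObjectProperty.monoModSerre_iff,
    ObjectProperty.epiModSerre_iff, ObjectProperty.prop_inverseImage_iff]
  rw [J.prop_iff_of_iso (PreservesKernel.iso i f), J.prop_iff_of_iso (PreservesCokernel.iso i f)]

lemma lemmaB (hquot : ∀ (M : A') (N : A) (p : i.obj M ⟶ N), Epi p → J N → i.essImage N)
    {M : A'} {Z : A} (p : i.obj M ⟶ Z) [Epi p] (hZ : J Z) :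
    ∃ (C : A') (c : M ⟶ C) (α : i.obj C ≅ Z), Epi c ∧ i.map c ≫ α.hom = p := by
  obtain ⟨C, ⟨α⟩⟩ := hquot M Z p inferInstance hZ
  obtain ⟨c, hc⟩ := i.map_surjective (p ≫ α.inv)
  refine ⟨C, c, α, ?_, by simp [hc]⟩
  have : Epi (i.map c) := by rw [hc]; infer_instance
  exact i.epi_of_epi_map this

lemma lemmaA (hsub : ∀ (M : A') (N : A) (f : N ⟶ i.obj M), Mono f → J N → i.essImage N)
    {N : A'} {Y : A} (m : Y ⟶ i.obj N) [Mono m] (hY : J Y) :
    ∃ (N₀ : A') (j : N₀ ⟶ N) (α : i.obj N₀ ≅ Y), Mono j ∧ α.hom ≫ m = i.map j := by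
  obtain ⟨N₀, ⟨α⟩⟩ := hsub N Y m inferInstance hY
  obtain ⟨j, hj⟩ := i.map_surjective (α.hom ≫ m)
  refine ⟨N₀, j, α, ?_, hj.symm⟩
  have : Mono (i.map j) := by rw [hj]; infer_instance
  exact i.mono_of_mono_map this

lemma lemmaC (hquot : ∀ (M : A') (N : A) (p : i.obj M ⟶ N), Epi p → J N → i.essImage N)
    {M : A'} {Y : A} (m : Y ⟶ i.obj M) [Mono m] (hY : J (cokernel m)) :
    ∃ (K : A') (k : K ⟶ M) (κ : i.obj K ≅ Y), κ.hom ≫ m = i.map k := by
  have := additive i
  obtain ⟨C, c, α, hc, hcα⟩ := lemmaB i J hquot (cokernel.π m) hY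
  have h1 : m ≫ i.map c = 0 := by
    have : i.map c = cokernel.π m ≫ α.inv := by rw [← hcα]; simp
    rw [this, cokernel.condition_assoc, zero_comp]
  have h2 : i.map (kernel.ι c) ≫ cokernel.π m = 0 := by
    rw [← hcα, ← i.map_comp_assoc, kernel.condition, i.map_zero, zero_comp]
  refine ⟨kernel c, kernel.ι c,
    ⟨Abelian.monoLift m (i.map (kernel.ι c)) h2,
      kernel.lift (i.map c) m h1 ≫ (PreservesKernel.iso i c).inv, ?_, ?_⟩, ?_⟩
  · rw [← cancel_mono (i.map (kernel.ι c))]
    simp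
  · rw [← cancel_mono m]
    simp
  · simp

lemma image_iff {X Y : A'} (f : X ⟶ Y) :
    J (Abelian.image (i.map f)) ↔ J (i.obj (Abelian.image f)) := by
  have := additive i
  have h1 : StrongEpi (i.map (Abelian.factorThruImage f)) := strongEpi_of_epi _
  have h2 : Mono (i.map (Abelian.image.ι f)) := inferInstance
  exact J.prop_iff_of_iso (Abelian.imageIsoImage _ ≪≫
    (image.isoStrongEpiMono (i.map (Abelian.factorThruImage f)) (i.map (Abelian.image.ι f))
      (by rw [← i.map_comp, Abelian.image.fac])).symm)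

theorem faithful {Q : Type u'} [Category.{v'} Q] (L : A ⥤ Q) [L.IsLocalization J.isoModSerre]
    {Q' : Type u''} [Category.{v''} Q'] (L' : A' ⥤ Q')
    [L'.IsLocalization (J.inverseImage i).isoModSerre]
    (Φ : Q' ⥤ Q) (e : L' ⋙ Φ ≅ i ⋙ L) : Φ.Faithful := by
  have := additive i
  let := Localization.preadditive L J.isoModSerre
  let := Localization.preadditive L' (J.inverseImage i).isoModSerre
  have := Localization.functor_additive L J.isoModSerre
  have := Localization.functor_additive L' (J.inverseImage i).isoModSerre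
  have : Φ.Additive := by
    rw [Localization.functor_additive_iff L' (J.inverseImage i).isoModSerre]
    exact Functor.additive_of_iso e.symm
  refine Functor.faithful_of_comp_cancel_zero_of_hasLeftCalculusOfFractions L'
    (J.inverseImage i).isoModSerre Φ (fun X₁ X₂ f hf ↦ ?_)
  have hf' : L.map (i.map f) = 0 := by
    simp [← dsimp% NatIso.naturality_1 e f, hf]
  rw [ObjectProperty.SerreClassLocalization.map_eq_zero_iff L J, image_iff i J] at hf'
  rw [ObjectProperty.SerreClassLocalization.map_eq_zero_iff L' (J.inverseImage i)]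
  exact hf'


theorem full
    (hsub : ∀ (M : A') (N : A) (f : N ⟶ i.obj M), Mono f → J N → i.essImage N)
    (hquot : ∀ (M : A') (N : A) (p : i.obj M ⟶ N), Epi p → J N → i.essImage N)
    {Q : Type u'} [Category.{v'} Q] (L : A ⥤ Q) [L.IsLocalization J.isoModSerre]
    {Q' : Type u''} [Category.{v''} Q'] (L' : A' ⥤ Q')
    [L'.IsLocalization (J.inverseImage i).isoModSerre]
    (Φ : Q' ⥤ Q) (e : L' ⋙ Φ ≅ i ⋙ L) : Φ.Full := by
  have := additive i
  have : L'.EssSurj := Localization.essSurj L' (J.inverseImage i).isoModSerre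
  refine Φ.full_of_comp_essSurj L' (fun M N φ ↦ ?_)
  obtain ⟨φ', hφ'⟩ : ∃ φ' : L.obj (i.obj M) ⟶ L.obj (i.obj N),
      φ = e.hom.app M ≫ φ' ≫ e.inv.app N :=
    ⟨e.inv.app M ≫ φ ≫ e.hom.app N, by simp⟩
  obtain ⟨T, s, hs, g, hf⟩ : ∃ (T : A) (s : T ⟶ i.obj M) (_ : J.isoModSerre s)
      (g : T ⟶ i.obj N), L.map s ≫ φ' = L.map g := by
    obtain ⟨f, hf⟩ := Localization.exists_rightFraction L J.isoModSerre φ'
    refine ⟨f.X', f.s, f.hs, f.f, ?_⟩
    rw [hf]
    exact MorphismProperty.RightFraction.map_s_comp_map f L (Localization.inverts L _)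
  -- step 1
  have hs1 : J.isoModSerre (Abelian.image.ι s) :=
    ObjectProperty.epiModSerre.isoModSerre_image_ι hs.2
  have hs2 : J.isoModSerre (Abelian.factorThruImage s) :=
    ObjectProperty.monoModSerre.isoModSerre_factorThruImage hs.1
  obtain ⟨K₁, k₁, κ, hκ⟩ := lemmaC i J hquot (Abelian.image.ι s) hs1.2
  have hk₁ : J.isoModSerre (i.map k₁) := by
    rw [← hκ]
    exact J.isoModSerre.comp_mem _ _ (J.isoModSerre_of_isIso _) hs1
  have hk₁' : (J.inverseImage i).isoModSerre k₁ := (isoModSerre_iff i J k₁).2 hk₁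
  let t : T ⟶ i.obj K₁ := Abelian.factorThruImage s ≫ κ.inv
  have ht : J.isoModSerre t := J.isoModSerre.comp_mem _ _ hs2 (J.isoModSerre_of_isIso _)
  have hts : t ≫ i.map k₁ = s := by simp [t, ← hκ]
  have : Epi t := epi_comp _ _
  -- step 2
  have hker : J (kernel t) := ht.1
  let z : kernel t ⟶ i.obj N := kernel.ι t ≫ g
  have hz : J (Abelian.image z) := J.prop_of_epi (Abelian.factorThruImage z) hker
  obtain ⟨N₀, j, α, hj, hα⟩ := lemmaA i J hsub (Abelian.image.ι z) hz
  let q : N ⟶ cokernel j := cokernel.π j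
  have hq' : (J.inverseImage i).isoModSerre q := by
    rw [ObjectProperty.isoModSerre_iff_of_epi, ObjectProperty.monoModSerre_iff]
    let β : N₀ ≅ kernel q :=
      (Abelian.monoIsKernelOfCokernel _ (colimit.isColimit _)).conePointUniqueUpToIso
        (limit.isLimit _)
    refine (J.inverseImage i).prop_of_iso β ?_
    exact J.prop_of_iso α.symm hz
  have hq : J.isoModSerre (i.map q) := (isoModSerre_iff i J q).1 hq'
  have hzero : kernel.ι t ≫ g ≫ i.map q = 0 := by
    have h1 : kernel.ι t ≫ g = Abelian.factorThruImage z ≫ Abelian.image.ι z := by simp [z]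
    rw [reassoc_of% h1]
    have h2 : Abelian.image.ι z = α.inv ≫ i.map j := by rw [← hα]; simp
    rw [h2, Category.assoc, ← i.map_comp, cokernel.condition, i.map_zero, comp_zero, comp_zero]
  obtain ⟨g₁, hg₁⟩ := i.map_surjective (Abelian.epiDesc t (g ≫ i.map q) hzero)
  have hfac : t ≫ i.map g₁ = g ≫ i.map q := by rw [hg₁]; simp
  -- isos
  have := Localization.inverts L' (J.inverseImage i).isoModSerre k₁ hk₁'
  have := Localization.inverts L' (J.inverseImage i).isoModSerre q hq'
  have := Localization.inverts L J.isoModSerre t ht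
  have key : Φ.map (L'.map k₁) ≫ φ ≫ Φ.map (L'.map q) = Φ.map (L'.map g₁) := by
    have n1 : Φ.map (L'.map k₁) = e.hom.app K₁ ≫ L.map (i.map k₁) ≫ e.inv.app M := by
      simp [← dsimp% NatIso.naturality_2 e k₁]
    have n2 : Φ.map (L'.map q) = e.hom.app N ≫ L.map (i.map q) ≫ e.inv.app _ := by
      simp [← dsimp% NatIso.naturality_2 e q]
    have n3 : Φ.map (L'.map g₁) = e.hom.app K₁ ≫ L.map (i.map g₁) ≫ e.inv.app _ := by
      simp [← dsimp% NatIso.naturality_2 e g₁]
    have main : L.map (i.map k₁) ≫ φ' ≫ L.map (i.map q) = L.map (i.map g₁) := by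
      rw [← cancel_epi (L.map t), ← L.map_comp_assoc, hts]
      rw [reassoc_of% hf, ← L.map_comp, ← hfac, L.map_comp]
    rw [n1, n2, n3, hφ', ← main]
    simp
  refine ⟨inv (L'.map k₁) ≫ L'.map g₁ ≫ inv (L'.map q), ?_⟩
  rw [Functor.map_comp, Functor.map_comp, ← key]
  simp

theorem main
    (hsub : ∀ (M : A') (N : A) (f : N ⟶ i.obj M), Mono f → J N → i.essImage N)
    (hquot : ∀ (M : A') (N : A) (p : i.obj M ⟶ N), Epi p → J N → i.essImage N)
    {Q : Type u'} [Category.{v'} Q] (L : A ⥤ Q) [L.IsLocalization J.isoModSerre]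
    {Q' : Type u''} [Category.{v''} Q'] (L' : A' ⥤ Q')
    [L'.IsLocalization (J.inverseImage i).isoModSerre]
    (Φ : Q' ⥤ Q) (e : L' ⋙ Φ ≅ i ⋙ L) : Φ.Full ∧ Φ.Faithful :=
  ⟨full i J hsub hquot L L' Φ e, faithful i J L L' Φ e⟩

end Groth.Agent.Lib.Helper32.SerreFF
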