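import Mathlib

open CategoryTheory Simplicial Opposite

universe u

namespace Groth.Agent.Lib.Helper32.SkCounit

open SSet

variable (n : ℕ)

/-- truncation of the inclusion of the `(n+1)`-skeleton is an iso. -/
lemma isIso_truncation_skeleton_ι (Y : SSet.{u}) :
    IsIso ((SSet.truncation n).map (Y.skeleton (n + 1)).ι) := by
  haveI : ∀ k, IsIso (((SSet.truncation n).map (Y.skeleton (n + 1)).ι).app k) := by
    rintro ⟨⟨a, ha⟩⟩
    induction a using SimplexCategory.rec with
    | _ d =>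
      have hd : d < n + 1 := Nat.lt_succ_of_le ha
      have htop := Y.skeleton_obj_eq_top hd
      rw [isIso_iff_bijective]
      constructor
      · intro x y h
        exact Subtype.ext h
      · intro x
        exact ⟨⟨x, by change x ∈ (Y.skeleton (n + 1)).obj (op ⦋d⦌); rw [htop]; trivial⟩, rfl⟩
  exact NatIso.isIso_of_isIso_app _

lemma skeleton_eq_top_of_retract (Y : SSet.{u}) (T : SSet.Truncated.{u} n)
    (e : (SSet.Truncated.sk n).obj T ≅ Y) :
    Y.skeleton (n + 1) = ⊤ := by
  haveI := isIso_truncation_skeleton_ι n Y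
  let adj := SSet.skAdj.{u} n
  let g : (SSet.Truncated.sk n).obj T ⟶ (Y.skeleton (n + 1) : SSet) :=
    (adj.homEquiv _ _).symm (adj.homEquiv _ _ e.hom ≫
      inv ((SSet.truncation n).map (Y.skeleton (n + 1)).ι))
  have hg : g ≫ (Y.skeleton (n + 1)).ι = e.hom := by
    apply (adj.homEquiv _ _).injective
    rw [Adjunction.homEquiv_naturality_right, Equiv.apply_symm_apply, Category.assoc,
      IsIso.inv_hom_id, Category.comp_id]
  have hepi : Epi (Y.skeleton (n + 1)).ι := by
    have : Epi (g ≫ (Y.skeleton (n + 1)).ι) := by rw [hg]; infer_instance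
    exact epi_of_epi g _
  have := Subcomplex.range_eq_top (Y.skeleton (n + 1)).ι
  rwa [Subcomplex.range, Subfunctor.range_ι] at this

lemma skeleton_sk_eq_top (T : SSet.Truncated.{u} n) :
    ((SSet.Truncated.sk n).obj T).skeleton (n + 1) = ⊤ :=
  skeleton_eq_top_of_retract n _ T (Iso.refl _)

lemma isIso_truncation_counit (U : SSet.{u}) :
    IsIso ((SSet.truncation n).map ((SSet.skAdj.{u} n).counit.app U)) := by
  have h := (SSet.skAdj.{u} n).right_triangle_components U
  haveI : IsIso ((SSet.skAdj.{u} n).unit.app ((SSet.truncation n).obj U) ≫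
      (SSet.truncation n).map ((SSet.skAdj.{u} n).counit.app U)) := by
    rw [h]; exact IsIso.id _
  exact IsIso.of_isIso_comp_left ((SSet.skAdj.{u} n).unit.app ((SSet.truncation n).obj U)) _

lemma counit_app_bijective (U : SSet.{u}) (k : ℕ) (hk : k ≤ n) :
    Function.Bijective (((SSet.skAdj.{u} n).counit.app U).app (op ⦋k⦌)) := by
  haveI := isIso_truncation_counit n U
  have : IsIso (((SSet.truncation n).map ((SSet.skAdj.{u} n).counit.app U)).app
      (op ⟨⦋k⦌, hk⟩)) := inferInstance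
  rw [isIso_iff_bijective] at this
  exact this

section General

variable {n} {Y U : SSet.{u}} (f : Y ⟶ U) (hY : Y.skeleton (n + 1) = ⊤)
  (hf : ∀ k : ℕ, k ≤ n → Function.Bijective (f.app (op ⦋k⦌)))

include hf in
lemma nonDegenerate_map {k : ℕ} (hk : k ≤ n) (w : Y _⦋k⦌) (hw : w ∈ Y.nonDegenerate k) :
    f.app _ w ∈ U.nonDegenerate k := by
  rw [mem_nonDegenerate_iff_notMem_degenerate, mem_degenerate_iff]
  rintro ⟨m, hm, s, hs, v, hv⟩
  obtain ⟨v', rfl⟩ := (hf m (by omega)).2 v
  have h1 : f.app _ (Y.map s.op v') = f.app _ w := by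
    rw [← hv]
    exact NatTrans.naturality_apply f s.op v'
  have h2 := (hf k hk).1 h1
  rw [mem_nonDegenerate_iff_notMem_degenerate] at hw
  apply hw
  rw [mem_degenerate_iff]
  exact ⟨m, hm, s, hs, v', h2⟩

include hY in
lemma exists_decomp {m : ℕ} (y : Y _⦋m⦌) :
    ∃ (k : ℕ) (_ : k ≤ n) (s : ⦋m⦌ ⟶ ⦋k⦌) (_ : Epi s) (w : Y.nonDegenerate k),
      y = Y.map s.op w := by
  obtain ⟨k, s, hs, w, hw⟩ := Y.exists_nonDegenerate y
  refine ⟨k, ?_, s, hs, w, hw⟩
  have h1 : w.1 ∈ (Y.skeleton (n + 1)).obj _ := by rw [hY]; trivial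
  rw [mem_skeleton_obj_iff_of_nonDegenerate] at h1
  omega

include hY hf in
lemma app_injective (m : ℕ) : Function.Injective (f.app (op ⦋m⦌)) := by
  intro y y' h
  obtain ⟨k, hk, s, hs, w, rfl⟩ := exists_decomp hY y
  obtain ⟨k', hk', s', hs', w', rfl⟩ := exists_decomp hY y'
  have e1 : f.app _ (Y.map s.op w.1) = U.map s.op (f.app _ w.1) :=
    NatTrans.naturality_apply f s.op w.1
  have e2 : f.app _ (Y.map s'.op w'.1) = U.map s'.op (f.app _ w'.1) :=
    NatTrans.naturality_apply f s'.op w'.1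
  have nd := nonDegenerate_map f hf hk w.1 w.2
  have nd' := nonDegenerate_map f hf hk' w'.1 w'.2
  obtain rfl : k = k' := U.unique_nonDegenerate_dim _ s ⟨_, nd⟩ e1 s' ⟨_, nd'⟩ (h ▸ e2)
  obtain rfl : s = s' := U.unique_nonDegenerate_map _ s ⟨_, nd⟩ e1 s' ⟨_, nd'⟩ (h ▸ e2)
  have h3 := U.unique_nonDegenerate_simplex _ s ⟨_, nd⟩ e1 s ⟨_, nd'⟩ (h ▸ e2)
  have h4 : f.app _ w.1 = f.app _ w'.1 := congrArg Subtype.val h3
  rw [(hf k hk).1 h4]

include hY hf in
lemma range_eq_skeleton : Subcomplex.range f = U.skeleton (n + 1) := by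
  apply le_antisymm
  · rintro ⟨m⟩ x ⟨y, rfl⟩
    induction m using SimplexCategory.rec with
    | _ m =>
      obtain ⟨k, hk, s, hs, w, rfl⟩ := exists_decomp hY y
      have e1 : f.app _ (Y.map s.op w.1) = U.map s.op (f.app _ w.1) :=
        NatTrans.naturality_apply f s.op w.1
      rw [e1]
      exact (U.skeleton (n + 1)).map s.op (U.mem_skeleton _ (Nat.lt_succ_of_le hk))
  · rw [Subcomplex.le_iff_contains_nonDegenerate]
    intro k x hx
    have hk : k ≤ n := by
      have := (U.mem_skeleton_obj_iff_of_nonDegenerate x (n + 1)).1 hx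
      omega
    obtain ⟨w, hw⟩ := (hf k hk).2 x.1
    exact ⟨w, hw⟩

end General

theorem main (U : SSet.{u}) :
    Mono ((SSet.skAdj.{u} n).counit.app U) ∧
      SSet.Subcomplex.range ((SSet.skAdj.{u} n).counit.app U) = U.skeleton (n + 1) := by
  have hY := skeleton_sk_eq_top n ((SSet.truncation n).obj U)
  have hf := counit_app_bijective n U
  refine ⟨?_, range_eq_skeleton _ hY hf⟩
  rw [NatTrans.mono_iff_mono_app]
  rintro ⟨m⟩
  induction m using SimplexCategory.rec with
  | _ m =>
    rw [mono_iff_injective]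
    exact app_injective _ hY hf m

end Groth.Agent.Lib.Helper32.SkCounit
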