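import Mathlib

open CategoryTheory CategoryTheory.Limits Opposite Simplicial

universe v u

namespace Groth.Agent.Lib.Helper32.SkCounitAb

section Eval

universe v₁ v₂ u₁ u₂
variable {C : Type u₁} [Category.{v₁} C] {D : Type u₂} [Category.{v₂} D]
  [∀ a b : C, HasProductsOfShape (a ⟶ b) D]

lemma homEquiv_app_π (F : C ⥤ D) (c : C) (d : D) (a : F.obj c ⟶ d) (t : C) (g : t ⟶ c) :
    ((evaluationAdjunctionLeft D c).homEquiv F d a).app t ≫ Pi.π _ g = F.map g ≫ a := by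
  simp only [evaluationAdjunctionLeft, Adjunction.mkOfHomEquiv_homEquiv]
  exact Pi.lift_π _ g

end Eval

variable {A : Type u} [Category.{v} A] [Abelian A]

instance finHomOp (t Δ : SimplexCategoryᵒᵖ) : Finite (t ⟶ Δ) :=
  Finite.of_injective (fun f => f.unop) (fun _ _ h => Quiver.Hom.unop_inj h)

/-- Every simplicial object of an abelian category is split (Dold-Kan). -/
noncomputable def splitting (U : SimplicialObject A) : U.Splitting :=
  (AlgebraicTopology.DoldKan.Γ₀.splitting _).ofIso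
    ((Abelian.DoldKan.equivalence (A := A)).unitIso.app U).symm

variable (U : SimplicialObject A) (n : ℕ)
  [∀ F : (SimplexCategory.Truncated n)ᵒᵖ ⥤ A,
    (SimplexCategory.Truncated.inclusion n).op.HasLeftKanExtension F]

/-- `sk_n U`. -/
noncomputable abbrev Y : SimplicialObject A := (SimplicialObject.sk n).obj U

/-- the counit. -/
noncomputable abbrev ε : Y U n ⟶ U := (SimplicialObject.skAdj n).counit.app U

/-- the unit. -/
noncomputable abbrev η : (SimplicialObject.truncation n).obj U ⟶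
    (SimplicialObject.truncation n).obj (Y U n) :=
  (SimplicialObject.skAdj n).unit.app ((SimplicialObject.truncation n).obj U)

/-- components of the unit. -/
noncomputable def ηa (Δ' : SimplexCategory) (h : Δ'.len ≤ n) :
    U.obj (op Δ') ⟶ (Y U n).obj (op Δ') :=
  (η U n).app (op ⟨Δ', h⟩)

lemma ηa_ε (Δ' : SimplexCategory) (h : Δ'.len ≤ n) :
    ηa U n Δ' h ≫ (ε U n).app (op Δ') = 𝟙 _ :=
  congr_app ((SimplicialObject.skAdj (C := A) n).right_triangle_components U) (op ⟨Δ', h⟩)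

lemma ηa_naturality {Δ' Δ'' : SimplexCategory} (h' : Δ'.len ≤ n) (h'' : Δ''.len ≤ n)
    (j : Δ'' ⟶ Δ') :
    U.map j.op ≫ ηa U n Δ'' h'' = ηa U n Δ' h' ≫ (Y U n).map j.op :=
  (η U n).naturality (SimplexCategory.Truncated.Hom.tr j h'' h').op

lemma jointly_epi {Z : A} (Δ : SimplexCategoryᵒᵖ) (a b : (Y U n).obj Δ ⟶ Z)
    (h : ∀ (Δ' : SimplexCategory) (h' : Δ'.len ≤ n) (φ : Δ.unop ⟶ Δ'),
      ηa U n Δ' h' ≫ (Y U n).map φ.op ≫ a = ηa U n Δ' h' ≫ (Y U n).map φ.op ≫ b) : a = b := by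
  let adjE := evaluationAdjunctionLeft A Δ
  have key : adjE.homEquiv (Y U n) Z a = adjE.homEquiv (Y U n) Z b := by
    apply Functor.hom_ext_of_isLeftKanExtension (Y U n) (η U n)
    ext ⟨⟨Δ', h'⟩⟩
    dsimp
    apply Pi.hom_ext
    intro g
    have ha := homEquiv_app_π (Y U n) Δ Z a (op Δ') g
    have hb := homEquiv_app_π (Y U n) Δ Z b (op Δ') g
    refine (Category.assoc _ _ _).trans ?_
    refine Eq.trans ?_ (Category.assoc _ _ _).symm
    exact (congrArg (ηa U n Δ' h' ≫ ·) ha).trans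
      ((h Δ' h' g.unop).trans (congrArg (ηa U n Δ' h' ≫ ·) hb).symm)
  exact (adjE.homEquiv _ _).injective key

/-- The retraction of the counit in degree `Δ`. -/
noncomputable def r (Δ : SimplexCategoryᵒᵖ) : U.obj Δ ⟶ (Y U n).obj Δ :=
  (splitting U).desc Δ (fun B =>
    if h : B.1.unop.len ≤ n then
      (splitting U).ι B.1.unop.len ≫ ηa U n ⦋B.1.unop.len⦌ h ≫ (Y U n).map B.e.op
    else 0)

lemma r_epi {Δ₁ Δ₂ : SimplexCategoryᵒᵖ} (p : Δ₁ ⟶ Δ₂) [Epi p.unop] (h₁ : Δ₁.unop.len ≤ n) :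
    U.map p ≫ r U n Δ₂ = ηa U n Δ₁.unop h₁ ≫ (Y U n).map p := by
  apply (splitting U).hom_ext'
  intro C
  have hC : C.1.unop.len ≤ n := (SimplexCategory.len_le_of_epi C.e).trans h₁
  have hC' : (C.epiComp p).1.unop.len ≤ n := hC
  have e1 : ((splitting U).cofan Δ₁).inj C ≫ U.map p ≫ r U n Δ₂ =
      ((splitting U).cofan Δ₂).inj (C.epiComp p) ≫ r U n Δ₂ :=
    (splitting U).cofan_inj_epi_naturality_assoc C p _
  have e2 : ((splitting U).cofan Δ₂).inj (C.epiComp p) ≫ r U n Δ₂ =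
      (splitting U).ι (C.epiComp p).1.unop.len ≫ ηa U n ⦋(C.epiComp p).1.unop.len⦌ hC' ≫
        (Y U n).map (C.epiComp p).e.op := by
    refine ((splitting U).ι_desc _ _ _).trans ?_
    exact dif_pos hC'
  refine e1.trans (e2.trans ?_)
  have nat := ηa_naturality U n hC h₁ C.e
  have e3 : ((splitting U).cofan Δ₁).inj C ≫ ηa U n Δ₁.unop h₁ ≫ (Y U n).map p =
      (splitting U).ι C.1.unop.len ≫ ηa U n C.1.unop hC ≫ (Y U n).map C.e.op ≫ (Y U n).map p :=
    calc ((splitting U).cofan Δ₁).inj C ≫ ηa U n Δ₁.unop h₁ ≫ (Y U n).map p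
        = ((splitting U).ι C.1.unop.len ≫ U.map C.e.op) ≫ ηa U n Δ₁.unop h₁ ≫ (Y U n).map p := rfl
      _ = (splitting U).ι C.1.unop.len ≫ (U.map C.e.op ≫ ηa U n Δ₁.unop h₁) ≫ (Y U n).map p :=
        (Category.assoc _ _ _).trans (congrArg (_ ≫ ·) (Category.assoc _ _ _).symm)
      _ = (splitting U).ι C.1.unop.len ≫ (ηa U n C.1.unop hC ≫ (Y U n).map C.e.op) ≫ (Y U n).map p :=
        congrArg (fun z => (splitting U).ι C.1.unop.len ≫ z ≫ (Y U n).map p) nat
      _ = _ := congrArg (_ ≫ ·) (Category.assoc _ _ _)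
  refine Eq.trans ?_ e3.symm
  have e4 : (Y U n).map (C.epiComp p).e.op = (Y U n).map C.e.op ≫ (Y U n).map p := by
    rw [← Functor.map_comp]
    rfl
  exact congrArg (fun z => (splitting U).ι C.1.unop.len ≫ ηa U n C.1.unop hC ≫ z) e4

lemma r_map {Δ : SimplexCategoryᵒᵖ} {Δ' : SimplexCategory} (h' : Δ'.len ≤ n) (φ : Δ.unop ⟶ Δ') :
    U.map φ.op ≫ r U n Δ = ηa U n Δ' h' ≫ (Y U n).map φ.op := by
  have hi : (image φ).len ≤ n := (SimplexCategory.len_le_of_mono (image.ι φ)).trans h'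
  have hfac : φ.op = (image.ι φ).op ≫ (factorThruImage φ).op := by
    rw [← op_comp, image.fac]
  have hepi : Epi ((factorThruImage φ).op : op (image φ) ⟶ Δ).unop := by
    change Epi (factorThruImage φ)
    infer_instance
  have e1 := r_epi U n (factorThruImage φ).op hi
  have e2 := ηa_naturality U n h' hi (image.ι φ)
  calc U.map φ.op ≫ r U n Δ
      = (U.map (image.ι φ).op ≫ U.map (factorThruImage φ).op) ≫ r U n Δ := by
        rw [hfac, Functor.map_comp]
    _ = U.map (image.ι φ).op ≫ (U.map (factorThruImage φ).op ≫ r U n Δ) := Category.assoc _ _ _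
    _ = U.map (image.ι φ).op ≫ (ηa U n (image φ) hi ≫ (Y U n).map (factorThruImage φ).op) := by
        rw [e1]
    _ = (U.map (image.ι φ).op ≫ ηa U n (image φ) hi) ≫ (Y U n).map (factorThruImage φ).op :=
        (Category.assoc _ _ _).symm
    _ = (ηa U n Δ' h' ≫ (Y U n).map (image.ι φ).op) ≫ (Y U n).map (factorThruImage φ).op := by
        rw [e2]
    _ = ηa U n Δ' h' ≫ ((Y U n).map (image.ι φ).op ≫ (Y U n).map (factorThruImage φ).op) :=
        Category.assoc _ _ _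
    _ = ηa U n Δ' h' ≫ (Y U n).map φ.op := by
        rw [← Functor.map_comp, ← hfac]

lemma ε_naturality {Δ : SimplexCategoryᵒᵖ} {Δ' : SimplexCategory} (φ : Δ.unop ⟶ Δ') :
    (Y U n).map φ.op ≫ (ε U n).app Δ = (ε U n).app (op Δ') ≫ U.map φ.op :=
  (ε U n).naturality φ.op

lemma map_eq {Δ : SimplexCategoryᵒᵖ} {Δ' : SimplexCategory} (h' : Δ'.len ≤ n) (φ : Δ.unop ⟶ Δ') :
    U.map φ.op = (ηa U n Δ' h' ≫ (Y U n).map φ.op) ≫ (ε U n).app Δ :=
  calc U.map φ.op = (ηa U n Δ' h' ≫ (ε U n).app (op Δ')) ≫ U.map φ.op := by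
        rw [ηa_ε, Category.id_comp]
    _ = ηa U n Δ' h' ≫ ((ε U n).app (op Δ') ≫ U.map φ.op) := Category.assoc _ _ _
    _ = ηa U n Δ' h' ≫ ((Y U n).map φ.op ≫ (ε U n).app Δ) := by rw [ε_naturality]
    _ = _ := (Category.assoc _ _ _).symm

lemma ε_r (Δ : SimplexCategoryᵒᵖ) : (ε U n).app Δ ≫ r U n Δ = 𝟙 _ := by
  apply jointly_epi U n Δ
  intro Δ' h' φ
  calc ηa U n Δ' h' ≫ (Y U n).map φ.op ≫ (ε U n).app Δ ≫ r U n Δ
      = ((ηa U n Δ' h' ≫ (Y U n).map φ.op) ≫ (ε U n).app Δ) ≫ r U n Δ := by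
        simp only [Category.assoc]
    _ = U.map φ.op ≫ r U n Δ := by rw [← map_eq U n h' φ]
    _ = ηa U n Δ' h' ≫ (Y U n).map φ.op := r_map U n h' φ
    _ = ηa U n Δ' h' ≫ (Y U n).map φ.op ≫ 𝟙 _ := by rw [Category.comp_id]

instance mono_ε_app (Δ : SimplexCategoryᵒᵖ) : Mono ((ε U n).app Δ) :=
  mono_of_mono_fac (ε_r U n Δ)

lemma imageSubobject_map_le {Δ : SimplexCategoryᵒᵖ} {Δ' : SimplexCategory} (h' : Δ'.len ≤ n)
    (φ : Δ.unop ⟶ Δ') :
    imageSubobject (U.map φ.op) ≤ imageSubobject ((ε U n).app Δ) := by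
  rw [map_eq U n h' φ]
  exact imageSubobject_comp_le _ _

lemma imageSubobject_ε_le {Δ : SimplexCategoryᵒᵖ} (S : Subobject (U.obj Δ))
    (hS : ∀ (Δ' : SimplexCategory) (_ : Δ'.len ≤ n) (φ : Δ.unop ⟶ Δ'),
      imageSubobject (U.map φ.op) ≤ S) :
    imageSubobject ((ε U n).app Δ) ≤ S := by
  have h0 : (ε U n).app Δ ≫ cokernel.π S.arrow = 0 := by
    apply jointly_epi U n Δ
    intro Δ' h' φ
    have hle := hS Δ' h' φ
    have h1 : U.map φ.op =
        (factorThruImageSubobject (U.map φ.op) ≫ Subobject.ofLE _ _ hle) ≫ S.arrow := by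
      rw [Category.assoc, Subobject.ofLE_arrow, imageSubobject_arrow_comp]
    calc ηa U n Δ' h' ≫ (Y U n).map φ.op ≫ (ε U n).app Δ ≫ cokernel.π S.arrow
        = ((ηa U n Δ' h' ≫ (Y U n).map φ.op) ≫ (ε U n).app Δ) ≫ cokernel.π S.arrow := by
          simp only [Category.assoc]
      _ = U.map φ.op ≫ cokernel.π S.arrow := by rw [← map_eq U n h' φ]
      _ = 0 := by rw [h1, Category.assoc, cokernel.condition, comp_zero]
      _ = ηa U n Δ' h' ≫ (Y U n).map φ.op ≫ 0 := by rw [comp_zero, comp_zero]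
  exact imageSubobject_le _ (Abelian.monoLift S.arrow _ h0) (Abelian.monoLift_comp _ _ _)

theorem main (U' : ∀ m : ℕ, Subobject (U.obj (op (SimplexCategory.mk m))))
    (hU' : ∀ m : ℕ, IsLUB (Set.range (fun φ : Σ i : Fin (n + 1),
      (SimplexCategory.mk m ⟶ SimplexCategory.mk i) => imageSubobject (U.map φ.2.op))) (U' m))
    (m : ℕ) :
    Mono (((SimplicialObject.skAdj n).counit.app U).app (op (SimplexCategory.mk m))) ∧
      imageSubobject (((SimplicialObject.skAdj n).counit.app U).app (op (SimplexCategory.mk m))) =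
        U' m := by
  refine ⟨mono_ε_app U n _, ?_⟩
  apply IsLUB.unique _ (hU' m)
  constructor
  · rintro _ ⟨⟨i, φ⟩, rfl⟩
    exact imageSubobject_map_le U n (Δ := op ⦋m⦌) (Δ' := ⦋(i : ℕ)⦌)
      (by simpa using Nat.lt_succ_iff.mp i.2) φ
  · intro S hS
    apply imageSubobject_ε_le U n S
    intro Δ' h' φ
    induction Δ' using SimplexCategory.rec with
    | _ i =>
      exact hS ⟨⟨⟨i, Nat.lt_succ_of_le (by simpa using h')⟩, φ⟩, rfl⟩

end Groth.Agent.Lib.Helper32.SkCounitAb
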