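import Mathlib
import Groth.Statements.S6818
import Groth.Agent.Lib.Helper99.SubobjImage

set_option autoImplicit false
universe u v
open CategoryTheory CategoryTheory.Limits Opposite

namespace Groth.Agent.Lib.Helper32.SkelSub

variable {A : Type u} [Category.{v} A] [Abelian A]

theorem main (U : SimplicialObject A) (n : ℕ)
    (U' : ∀ m : ℕ, Subobject (U.obj (op (SimplexCategory.mk m))))
    (hU' : ∀ m : ℕ, IsLUB (Set.range (fun φ : Σ i : Fin (n + 1),
      (SimplexCategory.mk m ⟶ SimplexCategory.mk i) => imageSubobject (U.map φ.2.op))) (U' m)) :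
    (∀ (m m' : ℕ) (ψ : SimplexCategory.mk m' ⟶ SimplexCategory.mk m),
      imageSubobject ((U' m).arrow ≫ U.map ψ.op) ≤ U' m') ∧
    (∀ i : ℕ, i ≤ n → U' i = ⊤) ∧
    (∀ m : ℕ, n < m → U' m ⊓ AlgebraicTopology.NormalizedMooreComplex.objX U m = ⊥) := by
  refine ⟨?_, ?_, ?_⟩
  · intro m m' ψ
    rw [Groth.Agent.Lib.Helper99.imageSubobject_comp_le_iff,
      Groth.Agent.Lib.Helper99.imageSubobject_arrow_self]
    refine (hU' m).2 ?_
    rintro _ ⟨φ, rfl⟩
    dsimp only
    rw [← Groth.Agent.Lib.Helper99.imageSubobject_comp_le_iff, ← U.map_comp, ← op_comp]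
    exact (hU' m').1 ⟨⟨φ.1, ψ ≫ φ.2⟩, rfl⟩
  · intro i hi
    rw [eq_top_iff]
    refine le_trans ?_ ((hU' i).1 ⟨⟨⟨i, Nat.lt_succ_of_le hi⟩, 𝟙 _⟩, rfl⟩)
    dsimp only
    rw [op_id, U.map_id]
    exact (Groth.Agent.Lib.Helper99.imageSubobject_eq_top_of_epi _).ge
  · intro m hm
    let P : U.obj (op (SimplexCategory.mk m)) ⟶ U.obj (op (SimplexCategory.mk m)) :=
      (AlgebraicTopology.DoldKan.PInfty : AlgebraicTopology.AlternatingFaceMapComplex.obj U ⟶ _).f m
    have h1 : U' m ≤ kernelSubobject P := by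
      refine (hU' m).2 ?_
      rintro _ ⟨⟨i, θ⟩, rfl⟩
      dsimp only
      refine image_le_kernel _ _ ?_
      refine AlgebraicTopology.DoldKan.degeneracy_comp_PInfty U m θ ?_
      intro hθ
      have := SimplexCategory.len_le_of_mono θ
      change m ≤ (i : ℕ) at this
      have := i.2
      omega
    have h2 : (AlgebraicTopology.NormalizedMooreComplex.objX U m).arrow ≫ P =
        (AlgebraicTopology.NormalizedMooreComplex.objX U m).arrow := by
      have := HomologicalComplex.congr_hom
        (AlgebraicTopology.DoldKan.inclusionOfMooreComplexMap_comp_PInfty U) m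
      rw [HomologicalComplex.comp_f, AlgebraicTopology.inclusionOfMooreComplexMap_f] at this
      exact this
    set S := U' m ⊓ AlgebraicTopology.NormalizedMooreComplex.objX U m with hS
    have h3 : S.arrow ≫ P = 0 := by
      have hle : S ≤ kernelSubobject P := inf_le_left.trans h1
      rw [← Subobject.ofLE_arrow hle, Category.assoc, kernelSubobject_arrow_comp, comp_zero]
    have h4 : S.arrow ≫ P = S.arrow := by
      have hle : S ≤ AlgebraicTopology.NormalizedMooreComplex.objX U m := inf_le_right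
      rw [← Subobject.ofLE_arrow hle, Category.assoc, h2]
    rw [← Subobject.mk_arrow S, Subobject.mk_eq_bot_iff_zero, ← h4, h3]

end Groth.Agent.Lib.Helper32.SkelSub
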