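import Mathlib
import Groth.Prelude.Def_SpSeq
import Groth.Agent.Lib.Helper32.SpSeqConv

set_option autoImplicit false
open CategoryTheory CategoryTheory.Limits
universe v u

namespace Groth.Agent.Lib.Helper32.SpSeqSerre

open SpSeq SpSeq.FilCx
open Groth.Agent.Lib.Helper32.SpSeqConv

variable {A : Type u} [Category.{v} A] [Abelian A]

section SubQuot

variable {X : A}

/-- the projection `Z ⟶ Z / B` -/
noncomputable def qπ (Z B : Subobject X) (h : B ≤ Z) : (Z : A) ⟶ subquot Z B h :=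
  cokernel.π (B.ofLE Z h)

instance (Z B : Subobject X) (h : B ≤ Z) : Epi (qπ Z B h) := by
  unfold qπ
  exact inferInstanceAs (Epi (cokernel.π (B.ofLE Z h)))

theorem ofLE_qπ (Z B : Subobject X) (h : B ≤ Z) : B.ofLE Z h ≫ qπ Z B h = 0 :=
  cokernel.condition _

theorem qπ_exact (Z B : Subobject X) (h : B ≤ Z) :
    (ShortComplex.mk (B.ofLE Z h) (qπ Z B h) (ofLE_qπ Z B h)).Exact :=
  ShortComplex.exact_cokernel _

noncomputable def qdesc (Z B : Subobject X) (h : B ≤ Z) {Y : A} (g : (Z : A) ⟶ Y)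
    (hg : B.ofLE Z h ≫ g = 0) : subquot Z B h ⟶ Y :=
  cokernel.desc _ g hg

theorem qπ_qdesc (Z B : Subobject X) (h : B ≤ Z) {Y : A} (g : (Z : A) ⟶ Y)
    (hg : B.ofLE Z h ≫ g = 0) : qπ Z B h ≫ qdesc Z B h g hg = g :=
  cokernel.π_desc _ _ _

/-- the class of an "element" `z` of `Z` in `Z / B` -/
noncomputable def cls (Z B : Subobject X) (h : B ≤ Z) {T : A} (z : T ⟶ X) (hz : Z.Factors z) :
    T ⟶ subquot Z B h :=
  Z.factorThru z hz ≫ qπ Z B h

theorem cls_congr (Z B : Subobject X) (h : B ≤ Z) {T : A} {z z' : T ⟶ X} (e : z = z')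
    (hz : Z.Factors z) (hz' : Z.Factors z') : cls Z B h z hz = cls Z B h z' hz' := by
  subst e
  rfl

theorem comp_cls (Z B : Subobject X) (h : B ≤ Z) {T T' : A} (π : T' ⟶ T) (z : T ⟶ X)
    (hz : Z.Factors z) :
    π ≫ cls Z B h z hz = cls Z B h (π ≫ z) (Subobject.factors_of_factors_right π hz) := by
  unfold cls
  rw [← Category.assoc, Subobject.factorThru_right]

theorem cls_add (Z B : Subobject X) (h : B ≤ Z) {T : A} (z z' : T ⟶ X)
    (hz : Z.Factors z) (hz' : Z.Factors z') :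
    cls Z B h (z + z') (Subobject.factors_add _ _ hz hz') = cls Z B h z hz + cls Z B h z' hz' := by
  unfold cls
  rw [Subobject.factorThru_add _ _ (Subobject.factors_add _ _ hz hz') hz hz', Preadditive.add_comp]

theorem cls_eq_zero_iff (Z B : Subobject X) (h : B ≤ Z) {T : A} (z : T ⟶ X)
    (hz : Z.Factors z) : cls Z B h z hz = 0 ↔ B.Factors z := by
  constructor
  · intro e
    have hex := qπ_exact Z B h
    haveI : Mono (ShortComplex.mk (B.ofLE Z h) (qπ Z B h) (ofLE_qπ Z B h)).f := by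
      dsimp
      infer_instance
    have hl := hex.lift_f (Z.factorThru z hz) e
    refine (Subobject.factors_iff _ _).mpr ⟨hex.lift (Z.factorThru z hz) e, ?_⟩
    have := congrArg (fun t => t ≫ Z.arrow) hl
    simpa using this
  · intro hb
    unfold cls
    have : Z.factorThru z hz = B.factorThru z hb ≫ B.ofLE Z h := by
      apply (cancel_mono Z.arrow).mp
      simp
    rw [this, Category.assoc, ofLE_qπ, comp_zero]

theorem exists_cls (Z B : Subobject X) (h : B ≤ Z) {T : A} (y : T ⟶ subquot Z B h) :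
    ∃ (T' : A) (π : T' ⟶ T) (_ : Epi π) (z : T' ⟶ X) (hz : Z.Factors z),
      π ≫ y = cls Z B h z hz := by
  obtain ⟨T', π, hπ, w, hw⟩ := surjective_up_to_refinements_of_epi (qπ Z B h) y
  refine ⟨T', π, hπ, w ≫ Z.arrow, (Subobject.factors_iff _ _).mpr ⟨w, rfl⟩, ?_⟩
  rw [hw]
  unfold cls
  congr 1
  apply (cancel_mono Z.arrow).mp
  simp

theorem cls_sub_eq_zero (Z B : Subobject X) (h : B ≤ Z) {T : A} (z z' : T ⟶ X)
    (hz : Z.Factors z) (hz' : Z.Factors z') (hb : B.Factors (z - z')) :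
    cls Z B h z hz = cls Z B h z' hz' := by
  have e : z = (z - z') + z' := by abel
  have hd : Z.Factors (z - z') := Subobject.factors_of_le _ h hb
  rw [cls_congr Z B h e hz (Subobject.factors_add _ _ hd hz'), cls_add Z B h _ _ hd hz',
    (cls_eq_zero_iff Z B h _ hd).mpr hb, zero_add]

theorem cls_arrow (Z B : Subobject X) (h : B ≤ Z) :
    cls Z B h Z.arrow (Subobject.factors_self Z) = qπ Z B h := by
  unfold cls
  have : Z.factorThru Z.arrow (Subobject.factors_self Z) = 𝟙 _ := by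
    apply (cancel_mono Z.arrow).mp
    simp
  rw [this, Category.id_comp]

theorem hom_ext_cls (Z B : Subobject X) (h : B ≤ Z) {Y : A} (a b : subquot Z B h ⟶ Y)
    (hab : cls Z B h Z.arrow (Subobject.factors_self Z) ≫ a =
      cls Z B h Z.arrow (Subobject.factors_self Z) ≫ b) : a = b := by
  rw [cls_arrow] at hab
  exact (cancel_epi _).mp hab

end SubQuot

section Ind

variable {X X' : A}

/-- `φ` is induced by `f` on classes -/
def IsInd {Z B : Subobject X} {h : B ≤ Z} {Z' B' : Subobject X'} {h' : B' ≤ Z'}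
    (φ : subquot Z B h ⟶ subquot Z' B' h') (f : X ⟶ X') : Prop :=
  ∀ ⦃T : A⦄ (z : T ⟶ X) (hz : Z.Factors z), ∃ hz' : Z'.Factors (z ≫ f),
    cls Z B h z hz ≫ φ = cls Z' B' h' (z ≫ f) hz'

theorem factors_comp_of_arrow (Z : Subobject X) (Z' : Subobject X') (f : X ⟶ X')
    (hZ : Z'.Factors (Z.arrow ≫ f)) {T : A} (z : T ⟶ X) (hz : Z.Factors z) :
    Z'.Factors (z ≫ f) := by
  have : z ≫ f = Z.factorThru z hz ≫ Z.arrow ≫ f := by
    rw [← Category.assoc, Subobject.factorThru_arrow]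
  rw [this]
  exact Subobject.factors_of_factors_right _ hZ

/-- the map induced by `f` -/
noncomputable def ind (Z B : Subobject X) (h : B ≤ Z) (Z' B' : Subobject X') (h' : B' ≤ Z')
    (f : X ⟶ X') (hZ : Z'.Factors (Z.arrow ≫ f)) (hB : B'.Factors (B.arrow ≫ f)) :
    subquot Z B h ⟶ subquot Z' B' h' :=
  qdesc Z B h (cls Z' B' h' (Z.arrow ≫ f) hZ) (by
    rw [comp_cls, cls_eq_zero_iff]
    have : B.ofLE Z h ≫ Z.arrow ≫ f = B.arrow ≫ f := by
      rw [← Category.assoc, Subobject.ofLE_arrow]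
    rw [this]
    exact hB)

theorem isInd_ind (Z B : Subobject X) (h : B ≤ Z) (Z' B' : Subobject X') (h' : B' ≤ Z')
    (f : X ⟶ X') (hZ : Z'.Factors (Z.arrow ≫ f)) (hB : B'.Factors (B.arrow ≫ f)) :
    IsInd (ind Z B h Z' B' h' f hZ hB) f := by
  intro T z hz
  refine ⟨factors_comp_of_arrow Z Z' f hZ z hz, ?_⟩
  unfold ind
  have e1 : cls Z B h z hz = Z.factorThru z hz ≫ qπ Z B h := rfl
  rw [e1, Category.assoc, qπ_qdesc, comp_cls]
  apply cls_congr
  rw [← Category.assoc, Subobject.factorThru_arrow]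

variable {Z B : Subobject X} {h : B ≤ Z} {Z' B' : Subobject X'} {h' : B' ≤ Z'}

theorem IsInd.mono {φ : subquot Z B h ⟶ subquot Z' B' h'} {f : X ⟶ X'} (hφ : IsInd φ f)
    (hm : ∀ ⦃T : A⦄ (z : T ⟶ X), Z.Factors z → B'.Factors (z ≫ f) → B.Factors z) : Mono φ := by
  apply Preadditive.mono_of_cancel_zero
  intro T y hy
  obtain ⟨T', π, hπ, z, hz, e⟩ := exists_cls Z B h y
  obtain ⟨hz', e'⟩ := hφ z hz
  have h0 : cls Z' B' h' (z ≫ f) hz' = 0 := by
    rw [← e', ← e, Category.assoc, hy, comp_zero]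
  have hb := hm z hz ((cls_eq_zero_iff _ _ _ _ _).mp h0)
  have : π ≫ y = 0 := by
    rw [e]
    exact (cls_eq_zero_iff _ _ _ _ _).mpr hb
  exact (cancel_epi π).mp (by rw [this, comp_zero])

theorem IsInd.epi {φ : subquot Z B h ⟶ subquot Z' B' h'} {f : X ⟶ X'} (hφ : IsInd φ f)
    (he : ∀ ⦃T : A⦄ (z' : T ⟶ X'), Z'.Factors z' →
      ∃ (T' : A) (π : T' ⟶ T) (_ : Epi π) (z : T' ⟶ X), Z.Factors z ∧
        B'.Factors (π ≫ z' - z ≫ f)) : Epi φ := by
  rw [epi_iff_surjective_up_to_refinements]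
  intro T y'
  obtain ⟨T₁, π₁, hπ₁, z', hz', e⟩ := exists_cls Z' B' h' y'
  obtain ⟨T₂, π₂, hπ₂, z, hz, hb⟩ := he z' hz'
  obtain ⟨hzf, e'⟩ := hφ z hz
  haveI : Epi (π₂ ≫ π₁) := epi_comp π₂ π₁
  refine ⟨T₂, π₂ ≫ π₁, inferInstance, cls Z B h z hz, ?_⟩
  rw [e', Category.assoc, e, comp_cls]
  exact cls_sub_eq_zero _ _ _ _ _ _ _ hb

end Ind

section Exact

variable {X₁ X₂ X₃ : A} {Z₁ B₁ : Subobject X₁} {h₁ : B₁ ≤ Z₁} {Z₂ B₂ : Subobject X₂}
  {h₂ : B₂ ≤ Z₂} {Z₃ B₃ : Subobject X₃} {h₃ : B₃ ≤ Z₃}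

theorem IsInd.comp_eq_zero {φ : subquot Z₁ B₁ h₁ ⟶ subquot Z₂ B₂ h₂}
    {ψ : subquot Z₂ B₂ h₂ ⟶ subquot Z₃ B₃ h₃} {f : X₁ ⟶ X₂} {g : X₂ ⟶ X₃}
    (hφ : IsInd φ f) (hψ : IsInd ψ g)
    (hz : ∀ ⦃T : A⦄ (z : T ⟶ X₁), Z₁.Factors z → B₃.Factors ((z ≫ f) ≫ g)) : φ ≫ ψ = 0 := by
  apply hom_ext_cls
  rw [comp_zero]
  obtain ⟨hz1, e1⟩ := hφ Z₁.arrow (Subobject.factors_self _)
  obtain ⟨hz2, e2⟩ := hψ (Z₁.arrow ≫ f) hz1
  rw [← Category.assoc, e1, e2, cls_eq_zero_iff]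
  exact hz _ (Subobject.factors_self _)

theorem IsInd.exact {φ : subquot Z₁ B₁ h₁ ⟶ subquot Z₂ B₂ h₂}
    {ψ : subquot Z₂ B₂ h₂ ⟶ subquot Z₃ B₃ h₃} {f : X₁ ⟶ X₂} {g : X₂ ⟶ X₃}
    (hφ : IsInd φ f) (hψ : IsInd ψ g) (w : φ ≫ ψ = 0)
    (hex : ∀ ⦃T : A⦄ (z₂ : T ⟶ X₂), Z₂.Factors z₂ → B₃.Factors (z₂ ≫ g) →
      ∃ (T' : A) (π : T' ⟶ T) (_ : Epi π) (z₁ : T' ⟶ X₁), Z₁.Factors z₁ ∧
        B₂.Factors (π ≫ z₂ - z₁ ≫ f)) : (ShortComplex.mk φ ψ w).Exact := by
  rw [ShortComplex.exact_iff_exact_up_to_refinements]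
  intro T y hy
  dsimp at y hy ⊢
  obtain ⟨T₁, π₁, hπ₁, z₂, hz₂, e⟩ := exists_cls Z₂ B₂ h₂ y
  obtain ⟨hz₂g, e'⟩ := hψ z₂ hz₂
  have h0 : cls Z₃ B₃ h₃ (z₂ ≫ g) hz₂g = 0 := by
    rw [← e', ← e, Category.assoc, hy, comp_zero]
  obtain ⟨T₂, π₂, hπ₂, z₁, hz₁, hb⟩ := hex z₂ hz₂ ((cls_eq_zero_iff _ _ _ _ _).mp h0)
  obtain ⟨hz₁f, e''⟩ := hφ z₁ hz₁
  haveI : Epi (π₂ ≫ π₁) := epi_comp π₂ π₁
  refine ⟨T₂, π₂ ≫ π₁, inferInstance, cls Z₁ B₁ h₁ z₁ hz₁, ?_⟩
  rw [e'', Category.assoc, e, comp_cls]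
  exact cls_sub_eq_zero _ _ _ _ _ _ _ hb

end Exact

section Nat

variable {X : A}

theorem factors_sub {T : A} {P : Subobject X} (f g : T ⟶ X) (wf : P.Factors f)
    (wg : P.Factors g) : P.Factors (f - g) :=
  (Subobject.factors_iff _ _).mpr ⟨P.factorThru f wf - P.factorThru g wg, by simp⟩

/-- the natural map `Z₁ / B₁ ⟶ Z₂ / B₂` for `Z₁ ≤ Z₂`, `B₁ ≤ B₂` -/
noncomputable def nat (Z₁ B₁ : Subobject X) (h₁ : B₁ ≤ Z₁) (Z₂ B₂ : Subobject X) (h₂ : B₂ ≤ Z₂)
    (hZ : Z₁ ≤ Z₂) (hB : B₁ ≤ B₂) : subquot Z₁ B₁ h₁ ⟶ subquot Z₂ B₂ h₂ :=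
  ind Z₁ B₁ h₁ Z₂ B₂ h₂ (𝟙 X)
    (by rw [Category.comp_id]; exact Subobject.factors_of_le _ hZ (Subobject.factors_self _))
    (by rw [Category.comp_id]; exact Subobject.factors_of_le _ hB (Subobject.factors_self _))

theorem isInd_nat (Z₁ B₁ : Subobject X) (h₁ : B₁ ≤ Z₁) (Z₂ B₂ : Subobject X) (h₂ : B₂ ≤ Z₂)
    (hZ : Z₁ ≤ Z₂) (hB : B₁ ≤ B₂) : IsInd (nat Z₁ B₁ h₁ Z₂ B₂ h₂ hZ hB) (𝟙 X) :=
  isInd_ind _ _ _ _ _ _ _ _ _

theorem nat_mono (Z₁ B₁ : Subobject X) (h₁ : B₁ ≤ Z₁) (Z₂ B₂ : Subobject X) (h₂ : B₂ ≤ Z₂)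
    (hZ : Z₁ ≤ Z₂) (hB : B₁ ≤ B₂)
    (hm : ∀ ⦃T : A⦄ (z : T ⟶ X), Z₁.Factors z → B₂.Factors z → B₁.Factors z) :
    Mono (nat Z₁ B₁ h₁ Z₂ B₂ h₂ hZ hB) := by
  apply (isInd_nat Z₁ B₁ h₁ Z₂ B₂ h₂ hZ hB).mono
  intro T z hz hb
  rw [Category.comp_id] at hb
  exact hm z hz hb

theorem nat_epi (Z₁ B₁ : Subobject X) (h₁ : B₁ ≤ Z₁) (Z₂ B₂ : Subobject X) (h₂ : B₂ ≤ Z₂)
    (hZ : Z₁ ≤ Z₂) (hB : B₁ ≤ B₂)
    (he : ∀ ⦃T : A⦄ (z' : T ⟶ X), Z₂.Factors z' →
      ∃ (T' : A) (π : T' ⟶ T) (_ : Epi π) (z : T' ⟶ X), Z₁.Factors z ∧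
        B₂.Factors (π ≫ z' - z)) :
    Epi (nat Z₁ B₁ h₁ Z₂ B₂ h₂ hZ hB) := by
  apply (isInd_nat Z₁ B₁ h₁ Z₂ B₂ h₂ hZ hB).epi
  intro T z' hz'
  obtain ⟨T', π, hπ, z, hz, hb⟩ := he z' hz'
  refine ⟨T', π, hπ, z, hz, ?_⟩
  rw [Category.comp_id]
  exact hb

theorem nat_epi_of_eq (Z B₁ : Subobject X) (h₁ : B₁ ≤ Z) (B₂ : Subobject X) (h₂ : B₂ ≤ Z)
    (hB : B₁ ≤ B₂) : Epi (nat Z B₁ h₁ Z B₂ h₂ le_rfl hB) := by
  apply nat_epi
  intro T z' hz'
  refine ⟨T, 𝟙 T, inferInstance, z', hz', ?_⟩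
  rw [Category.id_comp, sub_self]
  exact Subobject.factors_zero

theorem nat_mono_of_eq (Z₁ B : Subobject X) (h₁ : B ≤ Z₁) (Z₂ : Subobject X) (h₂ : B ≤ Z₂)
    (hZ : Z₁ ≤ Z₂) : Mono (nat Z₁ B h₁ Z₂ B h₂ hZ le_rfl) := by
  apply nat_mono
  intro T z _ hb
  exact hb

/-- `Z₁/B₁ ⟶ Z₂/B₂ ⟶ Z₂/Z₁` is exact for `B₁ ≤ B₂ ≤ Z₁ ≤ Z₂` -/
theorem nat_exact (Z₁ B₁ : Subobject X) (h₁ : B₁ ≤ Z₁) (Z₂ B₂ : Subobject X) (h₂ : B₂ ≤ Z₂)
    (hZ : Z₁ ≤ Z₂) (hB : B₁ ≤ B₂) (h₂₁ : B₂ ≤ Z₁) :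
    ∃ w : nat Z₁ B₁ h₁ Z₂ B₂ h₂ hZ hB ≫ nat Z₂ B₂ h₂ Z₂ Z₁ hZ le_rfl h₂₁ = 0,
      (ShortComplex.mk _ _ w).Exact := by
  have w : nat Z₁ B₁ h₁ Z₂ B₂ h₂ hZ hB ≫ nat Z₂ B₂ h₂ Z₂ Z₁ hZ le_rfl h₂₁ = 0 := by
    apply (isInd_nat _ _ _ _ _ _ _ _).comp_eq_zero (isInd_nat _ _ _ _ _ _ _ _)
    intro T z hz
    rw [Category.comp_id, Category.comp_id]
    exact hz
  refine ⟨w, ?_⟩
  apply (isInd_nat _ _ _ _ _ _ _ _).exact (isInd_nat _ _ _ _ _ _ _ _)
  intro T z₂ _ hz₁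
  rw [Category.comp_id] at hz₁
  refine ⟨T, 𝟙 T, inferInstance, z₂, hz₁, ?_⟩
  rw [Category.id_comp, Category.comp_id, sub_self]
  exact Subobject.factors_zero

/-- elements of a sup -/
theorem exists_of_sup_factors (S S' : Subobject X) {T : A} (x : T ⟶ X)
    (hx : (S ⊔ S').Factors x) :
    ∃ (T' : A) (π : T' ⟶ T) (_ : Epi π) (s s' : T' ⟶ X), S.Factors s ∧ S'.Factors s' ∧
      π ≫ x = s + s' := by
  have hle : S ⊔ S' ≤ imageSubobject (biprod.desc S.arrow S'.arrow) := by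
    apply sup_le
    · apply le_of_forall_factors
      intro T z hz
      have : z = (S.factorThru z hz ≫ biprod.inl) ≫ biprod.desc S.arrow S'.arrow := by simp
      rw [this]
      exact imageSubobject_factors_comp_self _ _
    · apply le_of_forall_factors
      intro T z hz
      have : z = (S'.factorThru z hz ≫ biprod.inr) ≫ biprod.desc S.arrow S'.arrow := by simp
      rw [this]
      exact imageSubobject_factors_comp_self _ _
  obtain ⟨T', π, hπ, w, hw⟩ := exists_of_image_factors _ _ (Subobject.factors_of_le _ hle hx)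
  refine ⟨T', π, hπ, (w ≫ biprod.fst) ≫ S.arrow, (w ≫ biprod.snd) ≫ S'.arrow,
    (Subobject.factors_iff _ _).mpr ⟨_, rfl⟩, (Subobject.factors_iff _ _).mpr ⟨_, rfl⟩, ?_⟩
  rw [hw]
  have : biprod.desc S.arrow S'.arrow = biprod.fst ≫ S.arrow + biprod.snd ≫ S'.arrow := by
    apply biprod.hom_ext' <;> simp
  rw [this, Preadditive.comp_add, Category.assoc, Category.assoc]

/-- second isomorphism theorem: `W / (W ⊓ B) ≅ Z / B` when `W ≤ Z ≤ W ⊔ B` -/
theorem nat_isIso_of_sup (W Z B : Subobject X) (h : B ≤ Z) (hW : W ≤ Z) (hZ : Z ≤ W ⊔ B) :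
    IsIso (nat W (W ⊓ B) inf_le_left Z B h hW inf_le_right) := by
  haveI : Mono (nat W (W ⊓ B) inf_le_left Z B h hW inf_le_right) := by
    apply nat_mono
    intro T z hz hb
    rw [Subobject.inf_factors]
    exact ⟨hz, hb⟩
  haveI : Epi (nat W (W ⊓ B) inf_le_left Z B h hW inf_le_right) := by
    apply nat_epi
    intro T z' hz'
    obtain ⟨T', π, hπ, s, s', hs, hs', e⟩ :=
      exists_of_sup_factors W B _ (Subobject.factors_of_le _ hZ hz')
    refine ⟨T', π, hπ, s, hs, ?_⟩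
    rw [e, add_sub_cancel_left]
    exact hs'
  exact isIso_of_mono_of_epi _

end Nat

section Serre

open ComposableArrows ZeroObject

variable (P : ObjectProperty A)

/-- the weak Serre hypotheses -/
structure WS : Prop where
  iso : ∀ {M N : A}, (M ≅ N) → P M → P N
  zero : ∀ M : A, IsZero M → P M
  five : ∀ S : ComposableArrows A 4, S.Exact → P (S.obj 0) → P (S.obj 1) → P (S.obj 3) →
    P (S.obj 4) → P (S.obj 2)

variable {P}

theorem WS.ker (hP : WS P) {K X Y : A} (i : K ⟶ X) (d : X ⟶ Y) (w : i ≫ d = 0) [Mono i]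
    (hex : (ShortComplex.mk i d w).Exact) (hX : P X) (hY : P Y) : P K := by
  have := hP.five (mk₄ (0 : (0 : A) ⟶ 0) (0 : (0 : A) ⟶ K) i d) ?_ (hP.zero _ (isZero_zero _))
    (hP.zero _ (isZero_zero _)) hX hY
  · exact this
  · refine exact_of_δ₀ (ShortComplex.Exact.exact_toComposableArrows
        (S := ShortComplex.mk (0 : (0 : A) ⟶ 0) (0 : (0 : A) ⟶ K) comp_zero) ?_)
      (exact_of_δ₀ (ShortComplex.Exact.exact_toComposableArrows
        (S := ShortComplex.mk (0 : (0 : A) ⟶ K) i zero_comp) ?_) hex.exact_toComposableArrows)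
    · exact ShortComplex.exact_of_isZero_X₂ _ (isZero_zero _)
    · exact (ShortComplex.exact_iff_mono _ rfl).mpr (inferInstanceAs (Mono i))

theorem WS.coker (hP : WS P) {X Y C : A} (d : X ⟶ Y) (q : Y ⟶ C) (w : d ≫ q = 0) [Epi q]
    (hex : (ShortComplex.mk d q w).Exact) (hX : P X) (hY : P Y) : P C := by
  have := hP.five (mk₄ d q (0 : C ⟶ (0 : A)) (0 : (0 : A) ⟶ 0)) ?_ hX hY
    (hP.zero _ (isZero_zero _)) (hP.zero _ (isZero_zero _))
  · exact this
  · refine exact_of_δ₀ hex.exact_toComposableArrows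
      (exact_of_δ₀ (ShortComplex.Exact.exact_toComposableArrows
        (S := ShortComplex.mk q (0 : C ⟶ (0 : A)) comp_zero) ?_)
        (ShortComplex.Exact.exact_toComposableArrows
        (S := ShortComplex.mk (0 : C ⟶ (0 : A)) (0 : (0 : A) ⟶ 0) comp_zero) ?_))
    · exact (ShortComplex.exact_iff_epi _ rfl).mpr (inferInstanceAs (Epi q))
    · exact ShortComplex.exact_of_isZero_X₂ _ (isZero_zero _)

theorem WS.ext (hP : WS P) {X₁ X₂ X₃ : A} (a : X₁ ⟶ X₂) (b : X₂ ⟶ X₃) (w : a ≫ b = 0)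
    [Mono a] [Epi b] (hex : (ShortComplex.mk a b w).Exact) (h₁ : P X₁) (h₃ : P X₃) : P X₂ := by
  have := hP.five (mk₄ (0 : (0 : A) ⟶ X₁) a b (0 : X₃ ⟶ (0 : A))) ?_
    (hP.zero _ (isZero_zero _)) h₁ h₃ (hP.zero _ (isZero_zero _))
  · exact this
  · refine exact_of_δ₀ (ShortComplex.Exact.exact_toComposableArrows
        (S := ShortComplex.mk (0 : (0 : A) ⟶ X₁) a zero_comp) ?_)
      (exact_of_δ₀ hex.exact_toComposableArrows
        (ShortComplex.Exact.exact_toComposableArrows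
        (S := ShortComplex.mk b (0 : X₃ ⟶ (0 : A)) comp_zero) ?_))
    · exact (ShortComplex.exact_iff_mono _ rfl).mpr (inferInstanceAs (Mono a))
    · exact (ShortComplex.exact_iff_epi _ rfl).mpr (inferInstanceAs (Epi b))

/-- kernel and cokernel of `X ↠ I ≅ J ↪ Y` -/
theorem WS.ker_coker (hP : WS P) {K X I J Y C : A} (i : K ⟶ X) (π : X ⟶ I) (w₁ : i ≫ π = 0)
    [Mono i] [Epi π] (hex₁ : (ShortComplex.mk i π w₁).Exact) (g : J ⟶ I) [IsIso g]
    (δ : J ⟶ Y) (q : Y ⟶ C) (w₂ : δ ≫ q = 0) [Mono δ] [Epi q]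
    (hex₂ : (ShortComplex.mk δ q w₂).Exact) (hX : P X) (hY : P Y) : P K ∧ P C := by
  have wa : i ≫ (π ≫ inv g ≫ δ) = 0 := by rw [← Category.assoc, w₁, zero_comp]
  have wb : (π ≫ inv g ≫ δ) ≫ q = 0 := by simp [w₂]
  constructor
  · refine hP.ker i (π ≫ inv g ≫ δ) wa ?_ hX hY
    rw [ShortComplex.exact_iff_exact_up_to_refinements]
    intro T x hx
    dsimp at x hx ⊢
    have hx' : x ≫ π = 0 := by
      apply (cancel_mono (inv g ≫ δ)).mp
      rw [Category.assoc, hx, zero_comp]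
    exact hex₁.exact_up_to_refinements x hx'
  · refine hP.coker (π ≫ inv g ≫ δ) q wb ?_ hX hY
    rw [ShortComplex.exact_iff_exact_up_to_refinements]
    intro T y hy
    dsimp at y hy ⊢
    obtain ⟨T₁, π₁, hπ₁, j, hj⟩ := hex₂.exact_up_to_refinements y hy
    dsimp at j hj
    obtain ⟨T₂, π₂, hπ₂, x, hx⟩ := surjective_up_to_refinements_of_epi π (j ≫ g)
    haveI : Epi (π₂ ≫ π₁) := epi_comp π₂ π₁
    refine ⟨T₂, π₂ ≫ π₁, inferInstance, x, ?_⟩
    rw [← Category.assoc x, ← hx, Category.assoc, hj]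
    simp

end Serre

section DR

variable {P : ObjectProperty A} {X X' : A}

theorem WS.mid (hP : WS P) (B Bp Zp Z : Subobject X) (h1 : B ≤ Bp) (h2 : Bp ≤ Zp) (h3 : Zp ≤ Z)
    (hU : P (subquot Zp B (h1.trans h2))) (hV : P (subquot Z Bp (h2.trans h3))) :
    P (subquot Zp Bp h2) := by
  obtain ⟨w, hex⟩ := nat_exact Zp B (h1.trans h2) Z Bp (h2.trans h3) h3 h1 h2
  haveI := nat_epi_of_eq Z Bp (h2.trans h3) Zp h3 h2
  have hQ : P (subquot Z Zp h3) := hP.coker _ _ w hex hU hV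
  obtain ⟨w', hex'⟩ := nat_exact Zp Bp h2 Z Bp (h2.trans h3) h3 le_rfl h2
  haveI := nat_mono_of_eq Zp Bp h2 Z (h2.trans h3) h3
  exact hP.ker _ _ w' hex' hV hQ

theorem WS.dr (hP : WS P) (f : X ⟶ X') (B Zp Z W : Subobject X) (B' Bp' Z' : Subobject X')
    (h1 : B ≤ Zp) (h2 : Zp ≤ Z) (h1' : B' ≤ Bp') (h2' : Bp' ≤ Z')
    (hWZ : W ≤ Z) (hZW : Z ≤ W ⊔ Zp)
    (wd1 : ∀ ⦃T : A⦄ (w : T ⟶ X), W.Factors w → Bp'.Factors (w ≫ f))
    (wd2 : ∀ ⦃T : A⦄ (w : T ⟶ X), W.Factors w → Zp.Factors w → B'.Factors (w ≫ f))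
    (hmono : ∀ ⦃T : A⦄ (w : T ⟶ X), W.Factors w → B'.Factors (w ≫ f) → Zp.Factors w)
    (hepi : ∀ ⦃T : A⦄ (z' : T ⟶ X'), Bp'.Factors z' →
      ∃ (T' : A) (π : T' ⟶ T) (_ : Epi π) (w : T' ⟶ X), W.Factors w ∧
        B'.Factors (π ≫ z' - w ≫ f))
    (hS : P (subquot Z B (h1.trans h2))) (hT : P (subquot Z' B' (h1'.trans h2'))) :
    P (subquot Zp B h1) ∧ P (subquot Z' Bp' h2') := by
  obtain ⟨w₁, hex₁⟩ := nat_exact Zp B h1 Z B (h1.trans h2) h2 le_rfl h1
  haveI := nat_mono_of_eq Zp B h1 Z (h1.trans h2) h2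
  haveI := nat_epi_of_eq Z B (h1.trans h2) Zp h2 h1
  haveI := nat_isIso_of_sup W Z Zp h2 hWZ hZW
  have hδ := isInd_ind W (W ⊓ Zp) inf_le_left Z' B' (h1'.trans h2') f
    (Subobject.factors_of_le _ h2' (wd1 _ (Subobject.factors_self _)))
    (wd2 _ (Subobject.factors_of_le _ inf_le_left (Subobject.factors_self _))
      (Subobject.factors_of_le _ inf_le_right (Subobject.factors_self _)))
  haveI := hδ.mono (fun T w hw hb => by
    rw [Subobject.inf_factors]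
    exact ⟨hw, hmono w hw hb⟩)
  haveI := nat_epi_of_eq Z' B' (h1'.trans h2') Bp' h2' h1'
  have w₂ := hδ.comp_eq_zero (isInd_nat Z' B' (h1'.trans h2') Z' Bp' h2' le_rfl h1')
    (fun T z hz => by
      rw [Category.comp_id]
      exact wd1 z hz)
  have hex₂ := hδ.exact (isInd_nat Z' B' (h1'.trans h2') Z' Bp' h2' le_rfl h1') w₂
    (fun T z₂ hz₂ hb => by
      rw [Category.comp_id] at hb
      exact hepi z₂ hb)
  exact hP.ker_coker _ _ w₁ hex₁ (nat W (W ⊓ Zp) inf_le_left Z Zp h2 hWZ inf_le_right) _ _ w₂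
    hex₂ hS hT

end DR

section Fil

variable (K : SpSeq.FilCx A)

/-- generalized `ZSub` -/
noncomputable def Zg (p s n : ℤ) : Subobject (K.obj.X n) :=
  (K.filX p n ⊓ (Subobject.pullback (K.obj.d n (n + 1))).obj (K.filX s (n + 1))) ⊔
    K.filX (p + 1) n

/-- generalized `BSub` -/
noncomputable def Bg (p t n : ℤ) : Subobject (K.obj.X n) :=
  (K.filX p n ⊓ imageSubobject ((K.filX t (n - 1)).arrow ≫ K.obj.d (n - 1) n)) ⊔
    K.filX (p + 1) n

theorem Bg_le_Zg (p s t n : ℤ) : Bg K p t n ≤ Zg K p s n :=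
  sup_le_sup_right (inf_le_inf_left _ (K.image_d_le_pullback n _ _)) _

/-- generalized page term -/
noncomputable def Eg (p s t n : ℤ) : A :=
  subquot (Zg K p s n) (Bg K p t n) (Bg_le_Zg K p s t n)

theorem E_eq (r : ℕ) (p n : ℤ) : K.E r p n = Eg K p (p + r) (p - r + 1) n := rfl

theorem Zg_anti (p n : ℤ) {s s' : ℤ} (h : s ≤ s') : Zg K p s' n ≤ Zg K p s n :=
  sup_le_sup_right (inf_le_inf_left _
    ((Subobject.pullback (K.obj.d n (n + 1))).monotone (K.filX_anti (n + 1) h))) _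

theorem Bg_anti (p n : ℤ) {t t' : ℤ} (h : t ≤ t') : Bg K p t' n ≤ Bg K p t n := by
  refine sup_le_sup_right (inf_le_inf_left _ ?_) _
  refine imageSubobject_le_of_fac ((K.filX t' (n - 1)).ofLE (K.filX t (n - 1))
    (K.filX_anti (n - 1) h)) ?_
  rw [← Category.assoc, Subobject.ofLE_arrow]

theorem image_factors_iff (t m n' : ℤ) (hm : m + 1 = n') {T : A} (x : T ⟶ K.obj.X n') :
    (imageSubobject ((K.filX t (n' - 1)).arrow ≫ K.obj.d (n' - 1) n')).Factors x ↔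
      ∃ (T' : A) (π : T' ⟶ T) (_ : Epi π) (y : T' ⟶ K.obj.X m),
        (K.filX t m).Factors y ∧ π ≫ x = y ≫ K.obj.d m n' := by
  obtain rfl : m = n' - 1 := by omega
  constructor
  · intro h
    obtain ⟨T', π, hπ, w, hw⟩ := exists_of_image_factors _ _ h
    exact ⟨T', π, hπ, w ≫ (K.filX t (n' - 1)).arrow, (Subobject.factors_iff _ _).mpr ⟨w, rfl⟩,
      by rw [hw, Category.assoc]⟩
  · rintro ⟨T', π, hπ, y, hy, e⟩
    apply factors_of_epi_comp π
    rw [e]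
    have := imageSubobject_factors_comp_self
      ((K.filX t (n' - 1)).arrow ≫ K.obj.d (n' - 1) n') ((K.filX t (n' - 1)).factorThru y hy)
    rwa [← Category.assoc, Subobject.factorThru_arrow] at this

theorem Zg_factors_of (p s n : ℤ) {T : A} (a u : T ⟶ K.obj.X n)
    (ha : (K.filX p n).Factors a) (had : (K.filX s (n + 1)).Factors (a ≫ K.obj.d n (n + 1)))
    (hu : (K.filX (p + 1) n).Factors u) : (Zg K p s n).Factors (a + u) := by
  apply Subobject.factors_add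
  · apply Subobject.sup_factors_of_factors_left
    rw [Subobject.inf_factors, pullback_factors_iff]
    exact ⟨ha, had⟩
  · exact Subobject.sup_factors_of_factors_right hu

theorem exists_of_Zg_factors (p s n : ℤ) {T : A} (x : T ⟶ K.obj.X n)
    (hx : (Zg K p s n).Factors x) :
    ∃ (T' : A) (π : T' ⟶ T) (_ : Epi π) (a u : T' ⟶ K.obj.X n),
      (K.filX p n).Factors a ∧ (K.filX s (n + 1)).Factors (a ≫ K.obj.d n (n + 1)) ∧
      (K.filX (p + 1) n).Factors u ∧ π ≫ x = a + u := by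
  obtain ⟨T', π, hπ, a, u, ha, hu, e⟩ := exists_of_sup_factors _ _ x hx
  rw [Subobject.inf_factors, pullback_factors_iff] at ha
  exact ⟨T', π, hπ, a, u, ha.1, ha.2, hu, e⟩

theorem Bg_factors_of (p t m n' : ℤ) (hm : m + 1 = n') {T : A} (y : T ⟶ K.obj.X m)
    (u : T ⟶ K.obj.X n') (hy : (K.filX t m).Factors y)
    (hyd : (K.filX p n').Factors (y ≫ K.obj.d m n')) (hu : (K.filX (p + 1) n').Factors u) :
    (Bg K p t n').Factors (y ≫ K.obj.d m n' + u) := by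
  apply Subobject.factors_add
  · apply Subobject.sup_factors_of_factors_left
    rw [Subobject.inf_factors]
    refine ⟨hyd, ?_⟩
    rw [image_factors_iff K t m n' hm]
    exact ⟨T, 𝟙 T, inferInstance, y, hy, by rw [Category.id_comp]⟩
  · exact Subobject.sup_factors_of_factors_right hu

theorem exists_of_Bg_factors (p t m n' : ℤ) (hm : m + 1 = n') {T : A} (x : T ⟶ K.obj.X n')
    (hx : (Bg K p t n').Factors x) :
    ∃ (T' : A) (π : T' ⟶ T) (_ : Epi π) (y : T' ⟶ K.obj.X m) (u : T' ⟶ K.obj.X n'),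
      (K.filX t m).Factors y ∧ (K.filX p n').Factors (y ≫ K.obj.d m n') ∧
      (K.filX (p + 1) n').Factors u ∧ π ≫ x = y ≫ K.obj.d m n' + u := by
  obtain ⟨T₁, π₁, hπ₁, c, u, hc, hu, e⟩ := exists_of_sup_factors _ _ x hx
  rw [Subobject.inf_factors, image_factors_iff K t m n' hm] at hc
  obtain ⟨hc1, T₂, π₂, hπ₂, y, hy, e₂⟩ := hc
  haveI : Epi (π₂ ≫ π₁) := epi_comp π₂ π₁
  refine ⟨T₂, π₂ ≫ π₁, inferInstance, y, π₂ ≫ u, hy, ?_, Subobject.factors_of_factors_right _ hu,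
    ?_⟩
  · rw [← e₂]
    exact Subobject.factors_of_factors_right _ hc1
  · rw [Category.assoc, e, Preadditive.comp_add, e₂]

variable {P : ObjectProperty A}

theorem P_Eg_congr {p s t n p' s' t' n' : ℤ} (hp : p = p') (hs : s = s') (ht : t = t')
    (hn : n = n') (h : P (Eg K p s t n)) : P (Eg K p' s' t' n') := by
  subst hp hs ht hn
  exact h

theorem P_subquot_congr {X : A} {Z B Z' B' : Subobject X} (h : B ≤ Z) (h' : B' ≤ Z')
    (hZ : Z = Z') (hB : B = B') (hP : P (subquot Z B h)) : P (subquot Z' B' h') := by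
  subst hZ hB
  exact hP

theorem dr_inst (hP : WS P) (p s t s'' t' t'' n : ℤ) (ht' : t' = p + 1) (ht'' : p = t'')
    (hS : P (Eg K p s t n)) (hT : P (Eg K s s'' t' (n + 1))) :
    P (Eg K p (s + 1) t n) ∧ P (Eg K s s'' t'' (n + 1)) := by
  subst ht' ht''
  have hps1 : (K.filX (s + 1) (n + 1)) ≤ K.filX s (n + 1) := K.filX_anti (n + 1) (by omega)
  have hpp1 : (K.filX (p + 1) n) ≤ K.filX p n := K.filX_anti n (by omega)
  refine hP.dr (K.obj.d n (n + 1)) (Bg K p t n) (Zg K p (s + 1) n) (Zg K p s n)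
    (K.filX p n ⊓ (Subobject.pullback (K.obj.d n (n + 1))).obj (K.filX s (n + 1)))
    (Bg K s (p + 1) (n + 1)) (Bg K s p (n + 1)) (Zg K s s'' (n + 1))
    (Bg_le_Zg K p (s + 1) t n) (Zg_anti K p n (by omega)) (Bg_anti K s (n + 1) (by omega))
    (Bg_le_Zg K s s'' p (n + 1)) le_sup_left ?_ ?_ ?_ ?_ ?_ hS hT
  · exact sup_le le_sup_left (le_sup_of_le_right le_sup_right)
  · -- wd1
    intro T w hw
    rw [Subobject.inf_factors, pullback_factors_iff] at hw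
    have := Bg_factors_of K s p n (n + 1) rfl w 0 hw.1 hw.2 Subobject.factors_zero
    rwa [add_zero] at this
  · -- wd2
    intro T w hw hz
    rw [Subobject.inf_factors, pullback_factors_iff] at hw
    obtain ⟨T', π, hπ, a, u, ha, had, hu, e⟩ := exists_of_Zg_factors K p (s + 1) n w hz
    apply factors_of_epi_comp π
    have e' : π ≫ w ≫ K.obj.d n (n + 1) = u ≫ K.obj.d n (n + 1) + a ≫ K.obj.d n (n + 1) := by
      rw [← Category.assoc, e, Preadditive.add_comp]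
      abel
    rw [e']
    refine Bg_factors_of K s (p + 1) n (n + 1) rfl u _ hu ?_ had
    have : u ≫ K.obj.d n (n + 1) = π ≫ w ≫ K.obj.d n (n + 1) - a ≫ K.obj.d n (n + 1) := by
      rw [e']
      abel
    rw [this]
    exact factors_sub _ _ (Subobject.factors_of_factors_right _ hw.2)
      (Subobject.factors_of_le _ hps1 had)
  · -- mono
    intro T w hw hb
    rw [Subobject.inf_factors, pullback_factors_iff] at hw
    obtain ⟨T', π, hπ, y, u', hy, hyd, hu', e⟩ :=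
      exists_of_Bg_factors K s (p + 1) n (n + 1) rfl _ hb
    apply factors_of_epi_comp π
    have e' : π ≫ w = (π ≫ w - y) + y := by abel
    rw [e']
    refine Zg_factors_of K p (s + 1) n _ _ ?_ ?_ hy
    · exact factors_sub _ _ (Subobject.factors_of_factors_right _ hw.1)
        (Subobject.factors_of_le _ hpp1 hy)
    · have : (π ≫ w - y) ≫ K.obj.d n (n + 1) = u' := by
        rw [Preadditive.sub_comp, Category.assoc, e]
        abel
      rw [this]
      exact hu'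
  · -- epi
    intro T z' hz'
    obtain ⟨T', π, hπ, y, u', hy, hyd, hu', e⟩ :=
      exists_of_Bg_factors K s p n (n + 1) rfl _ hz'
    refine ⟨T', π, hπ, y, ?_, ?_⟩
    · rw [Subobject.inf_factors, pullback_factors_iff]
      exact ⟨hy, hyd⟩
    · have : π ≫ z' - y ≫ K.obj.d n (n + 1) = u' := by
        rw [e]
        abel
      rw [this]
      exact Subobject.sup_factors_of_factors_right hu'

theorem mid_inst (hP : WS P) (p s t t₂ n : ℤ) (ht : t₂ ≤ t)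
    (hU : P (Eg K p (s + 1) t n)) (hV : P (Eg K p s t₂ n)) : P (Eg K p (s + 1) t₂ n) :=
  hP.mid (Bg K p t n) (Bg K p t₂ n) (Zg K p (s + 1) n) (Zg K p s n) (Bg_anti K p n ht)
    (Bg_le_Zg K p (s + 1) t₂ n) (Zg_anti K p n (by omega)) hU hV

theorem page_succ (hP : WS P) (R : ℕ) (h : ∀ p n : ℤ, P (K.E R p n)) (p n : ℤ) :
    P (K.E (R + 1) p n) := by
  have key : ∀ p n : ℤ, P (Eg K p (p + R + 1) (p - R + 1) n) ∧
      P (Eg K (p + R) (p + R + R) p (n + 1)) := by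
    intro p n
    exact dr_inst K hP p (p + R) (p - R + 1) (p + R + R) (p + R - R + 1) p n (by ring) rfl
      (h p n) (h (p + R) (n + 1))
  have hV : P (Eg K p (p + R) (p - R) n) :=
    P_Eg_congr K (by ring) (by ring) rfl (by ring) (key (p - R) (n - 1)).2
  have := mid_inst K hP p (p + R) (p - R + 1) (p - R) n (by omega) (key p n).1 hV
  rw [E_eq]
  exact P_Eg_congr K rfl (by push_cast; ring) (by push_cast; ring) rfl this

theorem page_add (hP : WS P) (r : ℕ) (h : ∀ p n : ℤ, P (K.E r p n)) (k : ℕ) :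
    ∀ p n : ℤ, P (K.E (r + k) p n) := by
  induction k with
  | zero => exact h
  | succ k ih => exact fun p n => page_succ K hP (r + k) ih p n

end Fil

section FinFil

variable {P : ObjectProperty A} {X : A} (F : ℤ → Subobject X) (hF : Antitone F)
  (Kr I : Subobject X) (hIK : I ≤ Kr)

/-- the filtration induced on `Kr / I` -/
noncomputable def Φ (p : ℤ) : Subobject X := (F p ⊓ Kr) ⊔ I

include hF in
theorem Φ_anti : Antitone (Φ F Kr I) := fun _ _ h =>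
  sup_le_sup_right (inf_le_inf_right _ (hF h)) _

include hF in
theorem inf_Φ_eq (p : ℤ) (hIK : I ≤ Kr) :
    (F p ⊓ Kr) ⊓ Φ F Kr I (p + 1) = (F p ⊓ Kr) ⊓ ((F p ⊓ I) ⊔ F (p + 1)) := by
  have hpp : F (p + 1) ≤ F p := hF (by omega)
  apply le_antisymm
  · apply le_of_forall_factors
    intro T x hx
    rw [Subobject.inf_factors] at hx
    obtain ⟨hxW, hxΦ⟩ := hx
    obtain ⟨T', π, hπ, u, i, hu, hi, e⟩ := exists_of_sup_factors _ _ x hxΦ
    rw [Subobject.inf_factors] at hu hxW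
    rw [Subobject.inf_factors, Subobject.inf_factors]
    refine ⟨hxW, ?_⟩
    apply factors_of_epi_comp π
    rw [e, add_comm u i]
    apply Subobject.factors_add
    · apply Subobject.sup_factors_of_factors_left
      rw [Subobject.inf_factors]
      refine ⟨?_, hi⟩
      have : i = π ≫ x - u := by
        rw [e]
        abel
      rw [this]
      exact factors_sub _ _ (Subobject.factors_of_factors_right _ hxW.1)
        (Subobject.factors_of_le _ hpp hu.1)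
    · exact Subobject.sup_factors_of_factors_right hu.1
  · apply le_of_forall_factors
    intro T x hx
    rw [Subobject.inf_factors] at hx
    obtain ⟨hxW, hxB⟩ := hx
    obtain ⟨T', π, hπ, i, u, hi, hu, e⟩ := exists_of_sup_factors _ _ x hxB
    rw [Subobject.inf_factors] at hi hxW
    rw [Subobject.inf_factors, Subobject.inf_factors]
    refine ⟨hxW, ?_⟩
    apply factors_of_epi_comp π
    rw [e, add_comm i u]
    apply Subobject.factors_add
    · apply Subobject.sup_factors_of_factors_left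
      rw [Subobject.inf_factors]
      refine ⟨hu, ?_⟩
      have : u = π ≫ x - i := by
        rw [e]
        abel
      rw [this]
      exact factors_sub _ _ (Subobject.factors_of_factors_right _ hxW.2)
        (Subobject.factors_of_le _ hIK hi.2)
    · exact Subobject.sup_factors_of_factors_right hi.2

include hF in
theorem gr_iso (hP : WS P) (p : ℤ) (hIK : I ≤ Kr)
    (h : P (subquot ((F p ⊓ Kr) ⊔ F (p + 1)) ((F p ⊓ I) ⊔ F (p + 1))
      (sup_le_sup_right (inf_le_inf_left _ hIK) _))) :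
    P (subquot (Φ F Kr I p) (Φ F Kr I (p + 1)) (Φ_anti F hF Kr I (by omega))) := by
  haveI i1 := nat_isIso_of_sup (F p ⊓ Kr) (Φ F Kr I p) (Φ F Kr I (p + 1))
    (Φ_anti F hF Kr I (by omega)) le_sup_left (sup_le le_sup_left (le_sup_of_le_right le_sup_right))
  haveI i2 := nat_isIso_of_sup (F p ⊓ Kr) ((F p ⊓ Kr) ⊔ F (p + 1)) ((F p ⊓ I) ⊔ F (p + 1))
    (sup_le_sup_right (inf_le_inf_left _ hIK) _) le_sup_left
    (sup_le le_sup_left (le_sup_of_le_right le_sup_right))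
  have h1 := hP.iso (asIso (nat (F p ⊓ Kr) ((F p ⊓ Kr) ⊓ ((F p ⊓ I) ⊔ F (p + 1))) inf_le_left
    ((F p ⊓ Kr) ⊔ F (p + 1)) ((F p ⊓ I) ⊔ F (p + 1))
    (sup_le_sup_right (inf_le_inf_left _ hIK) _) le_sup_left inf_le_right)).symm h
  have h2 : P (subquot (F p ⊓ Kr) ((F p ⊓ Kr) ⊓ Φ F Kr I (p + 1)) inf_le_left) :=
    P_subquot_congr _ _ rfl (inf_Φ_eq F hF Kr I p hIK).symm h1
  exact hP.iso (asIso (nat (F p ⊓ Kr) ((F p ⊓ Kr) ⊓ Φ F Kr I (p + 1)) inf_le_left
    (Φ F Kr I p) (Φ F Kr I (p + 1)) (Φ_anti F hF Kr I (by omega)) le_sup_left inf_le_right)) h2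

include hF in
theorem fin_main (hP : WS P) (hIK : I ≤ Kr) (a b : ℤ) (ha : F a = ⊤) (hb : F b = ⊥)
    (hgr : ∀ p : ℤ, P (subquot ((F p ⊓ Kr) ⊔ F (p + 1)) ((F p ⊓ I) ⊔ F (p + 1))
      (sup_le_sup_right (inf_le_inf_left _ hIK) _))) : P (subquot Kr I hIK) := by
  have step : ∀ k : ℕ, P (subquot (Φ F Kr I (b - k)) I le_sup_right) := by
    intro k
    induction k with
    | zero =>
      apply hP.zero
      apply isZero_subquot_of_eq
      unfold Φ
      simp [hb]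
    | succ k ih =>
      have e1 : Φ F Kr I (b - k) = Φ F Kr I (b - (k + 1 : ℕ) + 1) := by
        congr 1
        push_cast
        ring
      have ih' : P (subquot (Φ F Kr I (b - (k + 1 : ℕ) + 1)) I le_sup_right) :=
        P_subquot_congr _ _ e1 rfl ih
      have hgr' := gr_iso F hF Kr I hP (b - (k + 1 : ℕ)) hIK (hgr _)
      obtain ⟨w, hex⟩ := nat_exact (Φ F Kr I (b - (k + 1 : ℕ) + 1)) I le_sup_right
        (Φ F Kr I (b - (k + 1 : ℕ))) I le_sup_right (Φ_anti F hF Kr I (by omega)) le_rfl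
        le_sup_right
      haveI := nat_mono_of_eq (Φ F Kr I (b - (k + 1 : ℕ) + 1)) I le_sup_right
        (Φ F Kr I (b - (k + 1 : ℕ))) le_sup_right (Φ_anti F hF Kr I (by omega))
      haveI := nat_epi_of_eq (Φ F Kr I (b - (k + 1 : ℕ))) I le_sup_right
        (Φ F Kr I (b - (k + 1 : ℕ) + 1)) (Φ_anti F hF Kr I (by omega)) le_sup_right
      exact hP.ext _ _ w hex ih' hgr'
  have htop : F (b - ((b - a).toNat : ℕ)) = ⊤ :=
    top_le_iff.mp (ha ▸ hF (by omega))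
  have e2 : Φ F Kr I (b - ((b - a).toNat : ℕ)) = Kr := by
    unfold Φ
    rw [htop, top_inf_eq]
    exact sup_eq_left.mpr hIK
  exact P_subquot_congr _ _ e2 rfl (step (b - a).toNat)

end FinFil

section Homology

variable (C : CochainComplex A ℤ) (n : ℤ)

theorem image_le_kernel :
    imageSubobject (C.d (n - 1) n) ≤ kernelSubobject (C.d n (n + 1)) :=
  le_kernelSubobject _ _ (imageSubobject_arrow_comp_eq_zero (by simp))

/-- the comparison `Ker d / Im d ⟶ Hⁿ` -/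
noncomputable def θ : subquot (kernelSubobject (C.d n (n + 1))) (imageSubobject (C.d (n - 1) n))
    (image_le_kernel C n) ⟶ C.homology n :=
  qdesc _ _ _ (C.liftCycles (kernelSubobject (C.d n (n + 1))).arrow (n + 1) (by simp)
    (kernelSubobject_arrow_comp _) ≫ C.homologyπ n) (by
    rw [← Category.assoc, HomologicalComplex.comp_liftCycles]
    rw [C.liftCycles_comp_homologyπ_eq_zero_iff_up_to_refinements (n - 1) n (n + 1)
      (by simp) (by simp)]
    obtain ⟨T', π, hπ, w, hw⟩ := exists_of_image_factors (C.d (n - 1) n)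
      (imageSubobject (C.d (n - 1) n)).arrow (Subobject.factors_self _)
    refine ⟨T', π, hπ, w, ?_⟩
    rw [Subobject.ofLE_arrow]
    exact hw)

theorem cls_θ {T : A} (z : T ⟶ C.X n) (hz : z ≫ C.d n (n + 1) = 0) :
    cls _ _ (image_le_kernel C n) z (kernelSubobject_factors _ _ hz) ≫ θ C n =
      C.liftCycles z (n + 1) (by simp) hz ≫ C.homologyπ n := by
  unfold θ
  have e1 : cls _ _ (image_le_kernel C n) z (kernelSubobject_factors _ _ hz) =
      (kernelSubobject (C.d n (n + 1))).factorThru z (kernelSubobject_factors _ _ hz) ≫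
        qπ _ _ (image_le_kernel C n) := rfl
  rw [e1, Category.assoc, qπ_qdesc, ← Category.assoc, HomologicalComplex.comp_liftCycles]
  congr 1
  congr 1
  exact Subobject.factorThru_arrow _ _ _

theorem θ_isIso : IsIso (θ C n) := by
  haveI : Mono (θ C n) := by
    apply Preadditive.mono_of_cancel_zero
    intro T y hy
    obtain ⟨T', π, hπ, z, hz, e⟩ := exists_cls _ _ (image_le_kernel C n) y
    have hzd : z ≫ C.d n (n + 1) = 0 := by
      rw [← Subobject.factorThru_arrow _ _ hz, Category.assoc, kernelSubobject_arrow_comp,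
        comp_zero]
    have h0 : C.liftCycles z (n + 1) (by simp) hzd ≫ C.homologyπ n = 0 := by
      rw [← cls_θ C n z hzd, ← e, Category.assoc, hy, comp_zero]
    rw [C.liftCycles_comp_homologyπ_eq_zero_iff_up_to_refinements (n - 1) n (n + 1)
      (by simp) (by simp)] at h0
    obtain ⟨T₂, π₂, hπ₂, x₁, hx₁⟩ := h0
    have hb : (imageSubobject (C.d (n - 1) n)).Factors z := by
      apply factors_of_epi_comp π₂
      rw [hx₁]
      exact imageSubobject_factors_comp_self _ _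
    have : π ≫ y = 0 := by
      rw [e]
      exact (cls_eq_zero_iff _ _ _ _ _).mpr hb
    exact (cancel_epi π).mp (by rw [this, comp_zero])
  haveI : Epi (θ C n) := by
    rw [epi_iff_surjective_up_to_refinements]
    intro T γ
    obtain ⟨T', π, hπ, z, hz, e⟩ := C.eq_liftCycles_homologyπ_up_to_refinements γ (n + 1)
      (by simp)
    exact ⟨T', π, hπ, cls _ _ (image_le_kernel C n) z (kernelSubobject_factors _ _ hz),
      by rw [e, cls_θ]⟩
  exact isIso_of_mono_of_epi _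

end Homology

section Main

variable {P : ObjectProperty A} (K : SpSeq.FilCx A)

theorem pullback_bot_eq_kernel {X Y : A} (f : X ⟶ Y) :
    (Subobject.pullback f).obj ⊥ = kernelSubobject f := by
  apply le_antisymm
  · apply le_of_forall_factors
    intro T x hx
    rw [pullback_factors_iff] at hx
    apply kernelSubobject_factors
    exact (Subobject.bot_factors_iff_zero _).mp hx
  · exact SpSeq.FilCx.kernelSubobject_le_pullback f ⊥

theorem page_infty (hK : ∀ n : ℤ, (K.XFil n).IsFinite) (p n : ℤ) :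
    ∃ R₀ : ℕ, ∀ R : ℕ, R₀ ≤ R → K.ZSub R p n = K.ZTop p n ∧ K.BSub R p n = K.BBot p n := by
  obtain ⟨b, hb⟩ : ∃ b : ℤ, K.filX b (n + 1) = ⊥ := (hK (n + 1)).2
  obtain ⟨a, ha⟩ : ∃ a : ℤ, K.filX a (n - 1) = ⊤ := (hK (n - 1)).1
  refine ⟨max (b - p).toNat (p + 1 - a).toNat, fun R hR => ⟨?_, ?_⟩⟩
  · have h1 : K.filX (p + R) (n + 1) = ⊥ :=
      le_bot_iff.mp (hb ▸ K.filX_anti (n + 1) (by omega))
    unfold SpSeq.FilCx.ZSub SpSeq.FilCx.ZTop
    rw [h1, pullback_bot_eq_kernel]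
  · have h1 : K.filX (p - R + 1) (n - 1) = ⊤ :=
      top_le_iff.mp (ha ▸ K.filX_anti (n - 1) (by omega))
    haveI h2 : IsIso (K.filX (p - R + 1) (n - 1)).arrow :=
      (Subobject.isIso_arrow_iff_eq_top _).mpr h1
    unfold SpSeq.FilCx.BSub SpSeq.FilCx.BBot
    rw [imageSubobject_iso_comp]

theorem main (hK : ∀ n : ℤ, (K.XFil n).IsFinite) (hP : WS P) (r : ℕ)
    (hr : ∀ p n : ℤ, P (K.E r p n)) (n : ℤ) : P (K.obj.homology n) := by
  have hgr : ∀ p : ℤ, P (subquot (K.ZTop p n) (K.BBot p n)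
      (sup_le_sup_right (inf_le_inf_left _ (image_le_kernel K.obj n)) _)) := by
    intro p
    obtain ⟨R₀, hR₀⟩ := page_infty K hK p n
    have h1 := page_add K hP r hr R₀ p n
    obtain ⟨hZ, hB⟩ := hR₀ (r + R₀) (by omega)
    exact P_subquot_congr _ _ hZ hB h1
  obtain ⟨a, ha⟩ : ∃ a : ℤ, K.filX a n = ⊤ := (hK n).1
  obtain ⟨b, hb⟩ : ∃ b : ℤ, K.filX b n = ⊥ := (hK n).2
  have h2 := fin_main (fun p => K.filX p n) (K.filX_anti n) _ _ hP (image_le_kernel K.obj n) a b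
    ha hb hgr
  haveI := θ_isIso K.obj n
  exact hP.iso (asIso (θ K.obj n)) h2

end Main

end Groth.Agent.Lib.Helper32.SpSeqSerre
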