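import Mathlib
import Groth.Statements.S12900

set_option autoImplicit false
universe v₁ v₂ u₁ u₂
open CategoryTheory CategoryTheory.Functor Opposite

namespace Groth.Agent.Lib.Helper32.SplitFib

variable {𝒮 : Type u₁} [Category.{v₁} 𝒮] {𝒳 : Type u₂} [Category.{v₂} 𝒳]
  {p : 𝒳 ⥤ 𝒮} (K : FibCat.Cleavage p)

/-- `eqToHom` between objects of `𝒳` over `S` lifts the identity. -/
lemma eqToHom_lift {S : 𝒮} {z z' : 𝒳} (h : z = z') (hz : p.obj z = S) :
    p.IsHomLift (𝟙 S) (eqToHom h) :=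
  IsHomLift.eqToHom_domain_lift_id h hz

lemma fiber_eqToHom {S : 𝒮} {a b : p.Fiber S} (h : a = b) :
    Fiber.fiberInclusion.map (eqToHom h) = eqToHom (congrArg Subtype.val h) := by
  subst h; rfl

lemma aux1 {x y z w : 𝒳} (h : x = y) (m : y ⟶ z) (h' : z = w) :
    eqToHom h ≫ m = (eqToHom h ≫ m ≫ eqToHom h') ≫ eqToHom h'.symm := by
  subst h'; simp

lemma aux2 {P P' Q Q' M N a b : 𝒳} (ea : P = P') (eb : Q' = Q)
    (A : P' ⟶ Q') (B : M ⟶ N) (φ₀ : a ⟶ b) (la : P ⟶ a) (lb : Q ⟶ b) (ga : P' ⟶ M) (gb : Q' ⟶ N)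
    (fa : M ⟶ a) (fb : N ⟶ b) (h1 : A ≫ gb = ga ≫ B) (h2 : B ≫ fb = fa ≫ φ₀)
    (h3 : gb ≫ fb = eqToHom eb ≫ lb) (h4 : ga ≫ fa = eqToHom ea.symm ≫ la) :
    la ≫ φ₀ = (eqToHom ea ≫ A ≫ eqToHom eb) ≫ lb := by
  subst ea eb
  simp only [eqToHom_refl, Category.id_comp, Category.comp_id] at h3 h4 ⊢
  rw [← h4, Category.assoc, ← h2, ← Category.assoc, ← h1, Category.assoc, h3]

lemma aux3 {x y z : 𝒳} (h : x = y) (h' : y = z) (l : z ⟶ x) (hl : l = eqToHom (h.trans h').symm) :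
    (eqToHom h ≫ eqToHom h') ≫ l = 𝟙 x := by
  subst h h'; simp [hl]

lemma aux5 {x y : 𝒳} (m : x ⟶ y) (h : x = x) (h' : y = y) : m = eqToHom h ≫ m ≫ eqToHom h' := by
  simp

lemma aux4 {x P Q Q' y R c : 𝒳} (F : x ⟶ P) (A : P ⟶ Q) (e : Q = Q') (L : Q' ⟶ c) (lf : P ⟶ y)
    (Gm : y ⟶ R) (lf' : Q ⟶ R) (lg : R ⟶ c) (h1 : A ≫ lf' = lf ≫ Gm)
    (h2 : lf' ≫ lg = eqToHom e ≫ L) :
    F ≫ A ≫ eqToHom e ≫ L = F ≫ lf ≫ Gm ≫ lg := by
  subst e
  simp only [eqToHom_refl, Category.id_comp] at h2 ⊢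
  rw [← h2, ← Category.assoc A, h1, Category.assoc]

/-- uniqueness of maps into a chosen inverse image, inside the fibre. -/
lemma fiber_ext_cart {R S : 𝒮} (f : R ⟶ S) {x : p.Fiber R} {b : 𝒳} (hb : p.obj b = S)
    (χ χ' : x ⟶ (⟨K.obj hb f, K.obj_proj hb f⟩ : p.Fiber R))
    (h : Fiber.fiberInclusion.map χ ≫ K.lift hb f = Fiber.fiberInclusion.map χ' ≫ K.lift hb f) :
    χ = χ' := by
  have h1 : p.IsHomLift (𝟙 R) χ.1 := χ.2
  have h2 : p.IsHomLift (𝟙 R) χ'.1 := χ'.2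
  exact Subtype.ext (IsCartesian.ext p f (K.lift hb f) χ.1 χ'.1 h)

lemma inverseImage_map_fac {R S : 𝒮} (f : R ⟶ S) {a b : p.Fiber S} (φ : a ⟶ b) :
    Fiber.fiberInclusion.map ((K.inverseImage f).map φ) ≫ K.lift b.2 f =
      K.lift a.2 f ≫ Fiber.fiberInclusion.map φ :=
  (K.transport f).naturality φ

variable {K} (hK : K.IsSplitting)
include hK

lemma obj_id {S : 𝒮} {a : 𝒳} (ha : p.obj a = S) : K.obj ha (𝟙 S) = a := (hK.1 ha).1

lemma lift_id {S : 𝒮} {a : 𝒳} (ha : p.obj a = S) : K.lift ha (𝟙 S) = eqToHom (obj_id hK ha) :=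
  (hK.1 ha).2

lemma obj_comp {S T U : 𝒮} (f : T ⟶ S) (g : U ⟶ T) {a : 𝒳} (ha : p.obj a = S) :
    K.obj (K.obj_proj ha f) g = K.obj ha (g ≫ f) := (hK.2 f g ha).1

lemma lift_comp {S T U : 𝒮} (f : T ⟶ S) (g : U ⟶ T) {a : 𝒳} (ha : p.obj a = S) :
    K.lift (K.obj_proj ha f) g ≫ K.lift ha f = eqToHom (obj_comp hK f g ha) ≫ K.lift ha (g ≫ f) :=
  (hK.2 f g ha).2

lemma inverseImage_id_obj {S : 𝒮} (a : p.Fiber S) : (K.inverseImage (𝟙 S)).obj a = a :=
  Subtype.ext (obj_id hK a.2)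

lemma inverseImage_comp_obj {S T U : 𝒮} (f : T ⟶ S) (g : U ⟶ T) (a : p.Fiber S) :
    (K.inverseImage (g ≫ f)).obj a = (K.inverseImage g).obj ((K.inverseImage f).obj a) :=
  Subtype.ext (obj_comp hK f g a.2).symm

lemma inverseImage_id_map {S : 𝒮} {a b : p.Fiber S} (φ : a ⟶ b) :
    (K.inverseImage (𝟙 S)).map φ = eqToHom (inverseImage_id_obj hK a) ≫ φ ≫
      eqToHom (inverseImage_id_obj hK b).symm := by
  have key : Fiber.fiberInclusion.map ((K.inverseImage (𝟙 S)).map φ) ≫ K.lift b.2 (𝟙 S) =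
      Fiber.fiberInclusion.map (eqToHom (inverseImage_id_obj hK a) ≫ φ ≫
      eqToHom (inverseImage_id_obj hK b).symm) ≫ K.lift b.2 (𝟙 S) := by
    rw [inverseImage_map_fac, Functor.map_comp, Functor.map_comp, fiber_eqToHom, fiber_eqToHom,
      lift_id hK, lift_id hK]
    exact aux1 _ _ _
  exact fiber_ext_cart K (𝟙 S) b.2 _ _ key

lemma inverseImage_comp_map {S T U : 𝒮} (f : T ⟶ S) (g : U ⟶ T) {a b : p.Fiber S} (φ : a ⟶ b) :
    (K.inverseImage (g ≫ f)).map φ = eqToHom (inverseImage_comp_obj hK f g a) ≫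
      (K.inverseImage g).map ((K.inverseImage f).map φ) ≫
      eqToHom (inverseImage_comp_obj hK f g b).symm := by
  have key : Fiber.fiberInclusion.map ((K.inverseImage (g ≫ f)).map φ) ≫ K.lift b.2 (g ≫ f) =
      Fiber.fiberInclusion.map (eqToHom (inverseImage_comp_obj hK f g a) ≫
      (K.inverseImage g).map ((K.inverseImage f).map φ) ≫
      eqToHom (inverseImage_comp_obj hK f g b).symm) ≫ K.lift b.2 (g ≫ f) := by
    rw [inverseImage_map_fac, Functor.map_comp, Functor.map_comp, fiber_eqToHom, fiber_eqToHom]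
    exact aux2 _ _ _ _ _ _ _ _ _ _ _ (inverseImage_map_fac K g ((K.inverseImage f).map φ))
      (inverseImage_map_fac K f φ) (lift_comp hK f g b.2) (lift_comp hK f g a.2)
  exact fiber_ext_cart K (g ≫ f) b.2 _ _ key

/-- the strict functor of fibres. -/
noncomputable def strictF : 𝒮ᵒᵖ ⥤ Cat.{v₂, u₂} where
  obj S := Cat.of (p.Fiber S.unop)
  map k := (K.inverseImage k.unop).toCatHom
  map_id S := by
    apply Cat.Hom.ext
    refine CategoryTheory.Functor.ext (fun a => inverseImage_id_obj hK a) ?_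
    intro a b φ
    exact inverseImage_id_map hK φ
  map_comp k k' := by
    apply Cat.Hom.ext
    refine CategoryTheory.Functor.ext (fun a => inverseImage_comp_obj hK k.unop k'.unop a) ?_
    intro a b φ
    exact inverseImage_comp_map hK k.unop k'.unop φ

section Total

open Pseudofunctor.CoGrothendieck Pseudofunctor

/-- The total category. -/
abbrev Tot : Type (max u₁ u₂) := ∫ᶜ (strictF hK).toPseudofunctor'

variable {hK}

def fib (X : Tot hK) : p.Fiber X.base := X.fiber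

def homFib {X Y : Tot hK} (f : X ⟶ Y) : fib X ⟶ (K.inverseImage f.base).obj (fib Y) := f.fiber

lemma id_homFib (X : Tot hK) :
    homFib (𝟙 X) = eqToHom (inverseImage_id_obj hK (fib X)).symm := by
  show ((strictF hK).toPseudofunctor'.mapId ⟨op X.base⟩).inv.toNatTrans.app X.fiber = _
  simp [Functor.toPseudofunctor'_mapId, Cat.Hom₂.eqToHom_toNatTrans, eqToHom_app]
  rfl

lemma comp_homFib {X Y Z : Tot hK} (f : X ⟶ Y) (g : Y ⟶ Z) :
    homFib (f ≫ g) = homFib f ≫ (K.inverseImage f.base).map (homFib g) ≫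
      eqToHom (inverseImage_comp_obj hK g.base f.base (fib Z)).symm := by
  show f.fiber ≫ ((strictF hK).toPseudofunctor'.map f.base.op.toLoc).toFunctor.map g.fiber ≫
    ((strictF hK).toPseudofunctor'.mapComp g.base.op.toLoc f.base.op.toLoc).inv.toNatTrans.app
      Z.fiber = _
  simp [Functor.toPseudofunctor'_mapComp, Cat.Hom₂.eqToHom_toNatTrans, eqToHom_app]
  rfl

noncomputable def Ψ : Tot hK ⥤ 𝒳 where
  obj X := (fib X).1
  map {X Y} f := Fiber.fiberInclusion.map (homFib f) ≫ K.lift (fib Y).2 f.base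
  map_id X := by
    rw [id_homFib, fiber_eqToHom]
    show eqToHom _ ≫ K.lift (fib X).2 (𝟙 X.base) = 𝟙 _
    rw [lift_id hK, eqToHom_trans, eqToHom_refl]
  map_comp {X Y Z} f g := by
    rw [comp_homFib, Functor.map_comp, Functor.map_comp, fiber_eqToHom]
    show (_ ≫ _ ≫ eqToHom _) ≫ K.lift (fib Z).2 (f.base ≫ g.base) = _
    have h1 := inverseImage_map_fac K f.base (homFib g)
    have h2 := lift_comp hK g.base f.base (fib Z).2
    simp only [Category.assoc]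
    exact aux4 _ _ _ _ _ _ _ _ h1 h2

instance Ψ_map_lift {X Y : Tot hK} (f : X ⟶ Y) : p.IsHomLift f.base ((Ψ (hK := hK)).map f) := by
  have h1 : @IsHomLift _ _ _ _ p X.base X.base (fib X).1 (K.obj (fib Y).2 f.base) (𝟙 X.base)
    (homFib f).1 := (homFib f).2
  exact @IsHomLift.comp_lift_id_left _ _ _ _ p _ _ _ _ _ f.base (K.lift (fib Y).2 f.base)
    inferInstance (homFib f).1 h1

lemma Ψ_map_base_eq {X Y : Tot hK} (f g : X ⟶ Y) (h : (Ψ (hK := hK)).map f = Ψ.map g) :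
    f.base = g.base := by
  have h1 := IsHomLift.fac p f.base (Ψ.map f)
  have h2 := IsHomLift.fac p g.base (Ψ.map g)
  rw [h1, h2]
  simp [h]

instance Ψ_faithful : (Ψ (hK := hK)).Faithful where
  map_injective {X Y} f g h := by
    have hb := Ψ_map_base_eq f g h
    obtain ⟨fb, ff⟩ := f
    obtain ⟨gb, gf⟩ := g
    dsimp at hb
    subst hb
    congr 1
    have h' : Fiber.fiberInclusion.map (homFib (⟨fb, ff⟩ : X ⟶ Y)) ≫ K.lift (fib Y).2 fb =
      Fiber.fiberInclusion.map (homFib (⟨fb, gf⟩ : X ⟶ Y)) ≫ K.lift (fib Y).2 fb := h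
    exact fiber_ext_cart K fb (fib Y).2 _ _ h'

instance Ψ_full : (Ψ (hK := hK)).Full where
  map_surjective {X Y} φ := by
    change (fib X).1 ⟶ (fib Y).1 at φ
    let k : X.base ⟶ Y.base := eqToHom (fib X).2.symm ≫ p.map φ ≫ eqToHom (fib Y).2
    have hφ : p.IsHomLift k φ := by
      show p.IsHomLift (eqToHom _ ≫ p.map φ ≫ eqToHom _) φ
      infer_instance
    let ψ : fib X ⟶ (K.inverseImage k).obj (fib Y) :=
      ⟨IsCartesian.map p k (K.lift (fib Y).2 k) φ,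
        IsCartesian.map_isHomLift p k (K.lift (fib Y).2 k) φ⟩
    refine ⟨⟨k, ψ⟩, ?_⟩
    show IsCartesian.map p k (K.lift (fib Y).2 k) φ ≫ K.lift (fib Y).2 k = φ
    exact IsCartesian.fac p k (K.lift (fib Y).2 k) φ

def ΦObj (a : 𝒳) : Tot hK := ⟨p.obj a, (⟨a, rfl⟩ : p.Fiber (p.obj a))⟩

lemma Ψ_ΦObj (a : 𝒳) : (Ψ (hK := hK)).obj (ΦObj a) = a := rfl

noncomputable def Φ : 𝒳 ⥤ Tot hK where
  obj a := ΦObj a
  map {a b} φ := (Ψ (hK := hK)).preimage (X := ΦObj a) (Y := ΦObj b) φ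
  map_id a := (Ψ (hK := hK)).map_injective (by
    rw [Functor.map_preimage, CategoryTheory.Functor.map_id]; rfl)
  map_comp φ ψ := (Ψ (hK := hK)).map_injective (by
    rw [Functor.map_preimage, Functor.map_comp, Functor.map_preimage, Functor.map_preimage]
    rfl)

lemma Ψ_Φ_map {a b : 𝒳} (φ : a ⟶ b) : (Ψ (hK := hK)).map ((Φ (hK := hK)).map φ) = φ :=
  Functor.map_preimage _ _

lemma ΦObj_Ψ (X : Tot hK) : ΦObj ((Ψ (hK := hK)).obj X) = X := by
  obtain ⟨S, x⟩ := X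
  change p.Fiber S at x
  obtain ⟨a, ha⟩ := x
  subst ha
  rfl

theorem main_aux : (Φ (hK := hK)) ⋙ Ψ = 𝟭 𝒳 ∧ (Ψ (hK := hK)) ⋙ Φ = 𝟭 _ ∧
    (Φ (hK := hK)) ⋙ Pseudofunctor.CoGrothendieck.forget (strictF hK).toPseudofunctor' = p := by
  refine ⟨?_, ?_, ?_⟩
  · refine CategoryTheory.Functor.ext (fun a => rfl) (fun a b φ => ?_)
    simp only [Functor.comp_map, Functor.id_map]
    exact (Ψ_Φ_map (hK := hK) φ).trans (aux5 _ _ _)
  · refine CategoryTheory.Functor.ext (fun X => ΦObj_Ψ X) (fun X Y f => ?_)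
    apply (Ψ (hK := hK)).map_injective
    rw [Functor.comp_map, Ψ_Φ_map, Functor.map_comp, Functor.map_comp, eqToHom_map, eqToHom_map]
    exact aux5 _ _ _
  · refine CategoryTheory.Functor.ext (fun a => rfl) (fun a b φ => ?_)
    simp only [Functor.comp_map]
    have h0 : p.IsHomLift ((Φ (hK := hK)).map φ).base φ := by
      have := Ψ_map_lift ((Φ (hK := hK)).map φ)
      rwa [Ψ_Φ_map] at this
    exact IsHomLift.fac p ((Φ (hK := hK)).map φ).base φ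

end Total


omit hK in
theorem main (p : 𝒳 ⥤ 𝒮) (K : FibCat.Cleavage p) (hK : K.IsSplitting) :
    ∃ (F : 𝒮ᵒᵖ ⥤ Cat.{v₂, u₂})
      (Φ : 𝒳 ⥤ Pseudofunctor.CoGrothendieck F.toPseudofunctor')
      (Ψ : Pseudofunctor.CoGrothendieck F.toPseudofunctor' ⥤ 𝒳),
      Φ ⋙ Ψ = 𝟭 𝒳 ∧ Ψ ⋙ Φ = 𝟭 _ ∧
        Φ ⋙ Pseudofunctor.CoGrothendieck.forget F.toPseudofunctor' = p :=
  ⟨strictF hK, Φ (hK := hK), Ψ (hK := hK), main_aux (hK := hK)⟩

end Groth.Agent.Lib.Helper32.SplitFib
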