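import Mathlib
import Groth.Statements.S15302

set_option autoImplicit false
universe u v
open CategoryTheory CategoryTheory.Limits ZeroObject

namespace Groth.Agent.Lib.Helper32.SplitInjRes

variable {C : Type u} [Category.{v} C] [Abelian C]

/-- a split epi is a projection from a biproduct. -/
lemma exists_biprod_of_section {A B : C} (β : A ⟶ B) (s : B ⟶ A) (h : s ≫ β = 𝟙 B) :
    ∃ (K : C) (e : A ≅ B ⊞ K), β = e.hom ≫ biprod.fst := by
  have h0 : (𝟙 A - β ≫ s) ≫ β = 0 := by
    rw [Preadditive.sub_comp, Category.id_comp, Category.assoc, h, Category.comp_id, sub_self]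
  let r : A ⟶ kernel β := kernel.lift β (𝟙 A - β ≫ s) h0
  have hr : r ≫ kernel.ι β = 𝟙 A - β ≫ s := kernel.lift_ι _ _ _
  have hsr : s ≫ r = 0 := by
    rw [← cancel_mono (kernel.ι β), Category.assoc, hr, zero_comp, Preadditive.comp_sub,
      Category.comp_id, ← Category.assoc, h, Category.id_comp, sub_self]
  have hιr : kernel.ι β ≫ r = 𝟙 _ := by
    rw [← cancel_mono (kernel.ι β), Category.assoc, hr, Preadditive.comp_sub, Category.comp_id,
      ← Category.assoc, kernel.condition, zero_comp, sub_zero, Category.id_comp]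
  refine ⟨kernel β, ⟨biprod.lift β r, biprod.desc s (kernel.ι β), ?_, ?_⟩, ?_⟩
  · rw [biprod.lift_desc, hr]; abel
  · ext
    · simp [h]
    · simp [hsr]
    · simp
    · simp [hιr]
  · simp

variable (I : CochainComplex C ℕ)

/-- `I` shifted by one, with zero in degree zero. -/
noncomputable def Y : ℕ → C
  | 0 => 0
  | (p+1) => I.X p

noncomputable def toY (p : ℕ) : I.X p ⟶ Y I (p+1) := 𝟙 (I.X p)
noncomputable def fromY (p : ℕ) : Y I (p+1) ⟶ I.X p := 𝟙 (I.X p)

@[reassoc (attr := simp)]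
lemma toY_fromY (p : ℕ) : toY I p ≫ fromY I p = 𝟙 _ := Category.id_comp (𝟙 (I.X p))

@[reassoc (attr := simp)]
lemma fromY_toY (p : ℕ) : fromY I p ≫ toY I p = 𝟙 _ := Category.id_comp (𝟙 (I.X p))

lemma isZero_Y0 : IsZero (Y I 0) := isZero_zero C

noncomputable def dY : ∀ p, Y I p ⟶ I.X p
  | 0 => 0
  | (p+1) => fromY I p ≫ I.d p (p+1)

lemma dY_succ (p : ℕ) : dY I (p+1) = fromY I p ≫ I.d p (p+1) := rfl
lemma dY_zero : dY I 0 = 0 := rfl

/-- the sum of the disks on `I^p`. -/
noncomputable def E : CochainComplex C ℕ :=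
  CochainComplex.of (fun p => I.X p ⊞ Y I p)
    (fun p => biprod.fst ≫ toY I p ≫ biprod.inr)
    (by intro p; simp)

noncomputable def inlE (p : ℕ) : I.X p ⟶ (E I).X p := (biprod.inl : I.X p ⟶ I.X p ⊞ Y I p)
noncomputable def inrE (p : ℕ) : Y I p ⟶ (E I).X p := (biprod.inr : Y I p ⟶ I.X p ⊞ Y I p)
noncomputable def fstE (p : ℕ) : (E I).X p ⟶ I.X p := (biprod.fst : I.X p ⊞ Y I p ⟶ I.X p)
noncomputable def sndE (p : ℕ) : (E I).X p ⟶ Y I p := (biprod.snd : I.X p ⊞ Y I p ⟶ Y I p)

@[reassoc (attr := simp)]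
lemma inlE_fstE (p : ℕ) : inlE I p ≫ fstE I p = 𝟙 _ := biprod.inl_fst
@[reassoc (attr := simp)]
lemma inlE_sndE (p : ℕ) : inlE I p ≫ sndE I p = 0 := biprod.inl_snd
@[reassoc (attr := simp)]
lemma inrE_fstE (p : ℕ) : inrE I p ≫ fstE I p = 0 := biprod.inr_fst
@[reassoc (attr := simp)]
lemma inrE_sndE (p : ℕ) : inrE I p ≫ sndE I p = 𝟙 _ := biprod.inr_snd
lemma totalE (p : ℕ) : fstE I p ≫ inlE I p + sndE I p ≫ inrE I p = 𝟙 _ := biprod.total

lemma hom_extE {p : ℕ} {Z : C} {f g : (E I).X p ⟶ Z} (h₁ : inlE I p ≫ f = inlE I p ≫ g)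
    (h₂ : inrE I p ≫ f = inrE I p ≫ g) : f = g :=
  biprod.hom_ext' (X := I.X p) (Y := Y I p) f g h₁ h₂

lemma E_d (p : ℕ) : (E I).d p (p+1) = fstE I p ≫ toY I p ≫ inrE I (p+1) :=
  CochainComplex.of_d (fun p => I.X p ⊞ Y I p) (fun p => biprod.fst ≫ toY I p ≫ biprod.inr) p

noncomputable def π : E I ⟶ I where
  f p := fstE I p + sndE I p ≫ dY I p
  comm' i j hij := by
    obtain rfl : i + 1 = j := hij
    rw [E_d]
    apply hom_extE
    · simp [dY_succ]
    · cases i with
      | zero => simp [dY_zero]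
      | succ i => simp [dY_succ]

lemma inl_π (p : ℕ) : inlE I p ≫ (π I).f p = 𝟙 _ := by
  simp [π]

noncomputable def hE : Homotopy (𝟙 (E I)) 0 where
  hom i j := if h : j + 1 = i then
      eqToHom (by rw [h]) ≫ (sndE I (j+1) ≫ fromY I j ≫ inlE I j) else 0
  zero i j hij := by
    rw [dif_neg]
    exact hij
  comm i := by
    rw [Homotopy.dNext_cochainComplex, HomologicalComplex.zero_f, add_zero, HomologicalComplex.id_f]
    cases i with
    | zero =>
      rw [Homotopy.prevD_zero_cochainComplex, add_zero, E_d, dif_pos rfl, eqToHom_refl,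
        Category.id_comp]
      apply hom_extE
      · simp
      · exact (isZero_Y0 I).eq_of_src _ _
    | succ i =>
      rw [Homotopy.prevD_succ_cochainComplex, E_d, E_d, dif_pos rfl, dif_pos rfl, eqToHom_refl,
        eqToHom_refl, Category.id_comp, Category.id_comp]
      apply hom_extE
      · simp
      · simp

lemma injective_Y (hI : ∀ n, Injective (I.X n)) : ∀ n, Injective (Y I n)
  | 0 => (inferInstance : Injective (0 : C))
  | (p+1) => hI p

lemma injective_E (hI : ∀ n, Injective (I.X n)) (n : ℕ) : Injective ((E I).X n) := by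
  have := hI n
  have := injective_Y I hI n
  exact (inferInstance : Injective (I.X n ⊞ Y I n))

/-- `inl : K ⟶ K ⊞ E` is a homotopy equivalence. -/
noncomputable def inlHomotopyEquiv (K : CochainComplex C ℕ) :
    HomotopyEquiv K (K ⊞ E I) where
  hom := biprod.inl
  inv := biprod.fst
  homotopyHomInvId := Homotopy.ofEq (by simp)
  homotopyInvHomId := by
    let ir : E I ⟶ K ⊞ E I := biprod.inr
    let sn : K ⊞ E I ⟶ E I := biprod.snd
    have h1 : Homotopy (sn ≫ 𝟙 (E I) ≫ ir) (sn ≫ 0 ≫ ir) :=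
      ((hE I).compRight ir).compLeft sn
    have h2 : Homotopy ((biprod.fst : K ⊞ E I ⟶ K) ≫ biprod.inl + sn ≫ 0 ≫ ir)
        ((biprod.fst : K ⊞ E I ⟶ K) ≫ biprod.inl + sn ≫ 𝟙 (E I) ≫ ir) :=
      (Homotopy.refl _).add h1.symm
    exact (Homotopy.ofEq (by simp)).trans (h2.trans (Homotopy.ofEq (by simp [sn, ir, biprod.total])))

variable [EnoughInjectives C]

theorem main {G F : C} (α : G ⟶ F) (I : InjectiveResolution F) :
    ∃ (J : InjectiveResolution G) (β : J.cocomplex ⟶ I.cocomplex),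
      J.ι ≫ β = (CochainComplex.single₀ C).map α ≫ I.ι ∧
      ∀ p : ℕ, ∃ (K : C) (e : J.cocomplex.X p ≅ I.cocomplex.X p ⊞ K),
        β.f p = e.hom ≫ biprod.fst := by
  let J' : InjectiveResolution G := injectiveResolution G
  let β' := InjectiveResolution.desc α I J'
  have hq : QuasiIso (biprod.inl : J'.cocomplex ⟶ J'.cocomplex ⊞ E I.cocomplex) :=
    (inlHomotopyEquiv I.cocomplex J'.cocomplex).quasiIso_hom
  let J : InjectiveResolution G :=
    { cocomplex := J'.cocomplex ⊞ E I.cocomplex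
      injective := fun n => by
        have := injective_E I.cocomplex I.injective n
        exact Injective.of_iso (HomologicalComplex.biprodXIso J'.cocomplex (E I.cocomplex) n).symm
          (inferInstance : Injective (J'.cocomplex.X n ⊞ (E I.cocomplex).X n))
      ι := J'.ι ≫ biprod.inl
      quasiIso := inferInstance }
  let β : J.cocomplex ⟶ I.cocomplex := biprod.desc β' (π I.cocomplex)
  refine ⟨J, β, ?_, ?_⟩
  · show (J'.ι ≫ biprod.inl) ≫ biprod.desc β' (π I.cocomplex) = _
    rw [Category.assoc, biprod.inl_desc, InjectiveResolution.desc_commutes]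
  · intro p
    refine exists_biprod_of_section (β.f p)
      (inlE I.cocomplex p ≫ (biprod.inr : E I.cocomplex ⟶ J'.cocomplex ⊞ E I.cocomplex).f p) ?_
    show (inlE I.cocomplex p ≫ (biprod.inr : E I.cocomplex ⟶ J'.cocomplex ⊞ E I.cocomplex).f p) ≫
      (biprod.desc β' (π I.cocomplex)).f p = _
    rw [Category.assoc, ← HomologicalComplex.comp_f, biprod.inr_desc, inl_π]

end Groth.Agent.Lib.Helper32.SplitInjRes
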