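import Mathlib

/-!
# termwise split ladders (S6617)
-/

set_option autoImplicit false
set_option linter.unusedSectionVars false
set_option linter.unusedSimpArgs false
universe v u
open CategoryTheory CategoryTheory.Limits CochainComplex

namespace Groth.Agent.Lib.Helper32.SplitLadder

variable {V : Type u} [Category.{v} V] [Preadditive V] [HasBinaryBiproducts V] [HasZeroObject V]

section General

/-- shear: a section whose first coordinate is the identity can be straightened to `inl` -/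
lemma split_of_iso {A C M : V} (φ : M ≅ A ⊞ C) (s : A ⟶ M)
    (hs : s ≫ φ.hom ≫ biprod.fst = 𝟙 A) : ∃ ε : M ≅ A ⊞ C, s ≫ ε.hom = biprod.inl := by
  let g : A ⟶ C := s ≫ φ.hom ≫ biprod.snd
  let ψ : A ⊞ C ≅ A ⊞ C :=
    { hom := biprod.lift biprod.fst (biprod.snd - biprod.fst ≫ g)
      inv := biprod.lift biprod.fst (biprod.snd + biprod.fst ≫ g)
      hom_inv_id := by
        apply biprod.hom_ext <;> simp
      inv_hom_id := by
        apply biprod.hom_ext <;> simp }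
  refine ⟨φ ≪≫ ψ, ?_⟩
  apply biprod.hom_ext
  · simp [ψ, hs]
  · simp [ψ, g, reassoc_of% hs]

end General

section Step
variable (K L : CochainComplex V ℤ)

/-- the second projection is a homotopy equivalence (the cone of the identity is contractible) -/
noncomputable def heq : HomotopyEquiv (mappingCone (𝟙 K) ⊞ L) L where
  hom := biprod.snd
  inv := biprod.inr
  homotopyHomInvId :=
    let h₀ : Homotopy (𝟙 (mappingCone (𝟙 K))) 0 :=
      mappingCone.liftHomotopy _ _ _ (mappingCone.snd _) 0 (by simp) (by simp)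
    let h₁ := (h₀.compRight (biprod.inl : _ ⟶ mappingCone (𝟙 K) ⊞ L)).compLeft
        (biprod.fst : mappingCone (𝟙 K) ⊞ L ⟶ _)
    let h₂ := Homotopy.add h₁ (Homotopy.refl (biprod.snd ≫ biprod.inr))
    (Homotopy.ofEq (by simp)).trans (h₂.symm.trans (Homotopy.ofEq (by simp)))
  homotopyInvHomId := Homotopy.ofEq (by simp)


/-- evaluation of a biproduct of complexes -/
noncomputable def evalBiprodIso (K' L' : CochainComplex V ℤ) (n : ℤ) :
    (K' ⊞ L').X n ≅ K'.X n ⊞ L'.X n where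
  hom := biprod.lift ((biprod.fst : K' ⊞ L' ⟶ K').f n) ((biprod.snd : K' ⊞ L' ⟶ L').f n)
  inv := biprod.desc ((biprod.inl : K' ⟶ K' ⊞ L').f n) ((biprod.inr : L' ⟶ K' ⊞ L').f n)
  hom_inv_id := by
    rw [biprod.lift_desc, ← HomologicalComplex.comp_f, ← HomologicalComplex.comp_f,
      ← HomologicalComplex.add_f_apply, biprod.total, HomologicalComplex.id_f]
  inv_hom_id := by
    apply biprod.hom_ext' <;> apply biprod.hom_ext <;>
      simp [← HomologicalComplex.comp_f]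

/-- the termwise decomposition of `mappingCone (𝟙 K) ⊞ L` -/
noncomputable def termIso (n : ℤ) :
    (mappingCone (𝟙 K) ⊞ L).X n ≅ K.X n ⊞ (K.X (n + 1) ⊞ L.X n) :=
  evalBiprodIso (mappingCone (𝟙 K)) L n ≪≫
    biprod.mapIso (HomologicalComplex.homotopyCofiber.XIsoBiprod (𝟙 K) n (n + 1) rfl) (Iso.refl _) ≪≫
    biprod.mapIso (biprod.braiding _ _) (Iso.refl _) ≪≫ biprod.associator _ _ _

lemma split_step (f : K ⟶ L) (n : ℤ) :
    ∃ (C : V) (ε : (mappingCone (𝟙 K) ⊞ L).X n ≅ K.X n ⊞ C),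
      (biprod.lift (mappingCone.inr (𝟙 K)) f : K ⟶ mappingCone (𝟙 K) ⊞ L).f n ≫ ε.hom =
        biprod.inl := by
  refine ⟨K.X (n + 1) ⊞ L.X n, split_of_iso (termIso K L n) _ ?_⟩
  have h := HomologicalComplex.homotopyCofiber.inrX_XIsoBiprod_hom (𝟙 K) (n + 1) n rfl
  have h' : (mappingCone.inr (𝟙 K)).f n = HomologicalComplex.homotopyCofiber.inrX (𝟙 K) n := rfl
  simp only [termIso, evalBiprodIso, Iso.trans_hom, biprod.mapIso_hom, biprod.associator_hom,
    biprod.braiding_hom, Iso.refl_hom, Category.assoc, biprod.lift_fst, biprod.map_fst_assoc,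
    biprod.lift_fst_assoc, biprod.lift_snd]
  rw [← HomologicalComplex.comp_f_assoc, biprod.lift_fst, h']
  have h2 := congrArg (fun t => t ≫ (biprod.snd : K.X (n + 1) ⊞ K.X n ⟶ _)) h
  simp only [Category.assoc, biprod.inr_snd] at h2
  exact h2


lemma ge_step (n : ℤ) [K.IsStrictlyGE (n + 1)] [L.IsStrictlyGE n] :
    (mappingCone (𝟙 K) ⊞ L).IsStrictlyGE n := by
  rw [isStrictlyGE_iff]
  intro i hi
  refine IsZero.of_iso ?_ (evalBiprodIso _ _ i)
  simp only [biprod_isZero_iff, mappingCone.isZero_X_iff]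
  exact ⟨⟨K.isZero_of_isStrictlyGE (n + 1) _ (by omega), K.isZero_of_isStrictlyGE (n + 1) _ (by omega)⟩,
    L.isZero_of_isStrictlyGE n i hi⟩

lemma le_step (n : ℤ) [K.IsStrictlyLE n] [L.IsStrictlyLE n] :
    (mappingCone (𝟙 K) ⊞ L).IsStrictlyLE n := by
  rw [isStrictlyLE_iff]
  intro i hi
  refine IsZero.of_iso ?_ (evalBiprodIso _ _ i)
  simp only [biprod_isZero_iff, mappingCone.isZero_X_iff]
  exact ⟨⟨K.isZero_of_isStrictlyLE n _ (by omega), K.isZero_of_isStrictlyLE n _ (by omega)⟩,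
    L.isZero_of_isStrictlyLE n i hi⟩

end Step


section Seq
variable (X : ℕ → CochainComplex V ℤ) (a : ∀ i, X i ⟶ X (i + 1))

/-- the replacement complexes -/
noncomputable def B : ℕ → CochainComplex V ℤ
  | 0 => X 0
  | (i + 1) => mappingCone (𝟙 (B i)) ⊞ X (i + 1)

/-- the homotopy equivalences -/
noncomputable def e : ∀ i, HomotopyEquiv (B X i) (X i)
  | 0 => HomotopyEquiv.refl _
  | (i + 1) => heq (B X i) (X (i + 1))

/-- the transition maps -/
noncomputable def b (i : ℕ) : B X i ⟶ B X (i + 1) :=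
  biprod.lift (mappingCone.inr (𝟙 (B X i))) ((e X i).hom ≫ a i)

lemma b_e (i : ℕ) : b X a i ≫ (e X (i + 1)).hom = (e X i).hom ≫ a i := by
  show biprod.lift _ _ ≫ biprod.snd = _
  rw [biprod.lift_snd]

lemma B_ge (h : ∀ i, ∃ m : ℤ, (X i).IsStrictlyGE m) : ∀ i, ∃ m : ℤ, (B X i).IsStrictlyGE m
  | 0 => h 0
  | (i + 1) => by
    obtain ⟨m, hm⟩ := B_ge h i
    obtain ⟨m', hm'⟩ := h (i + 1)
    haveI : (B X i).IsStrictlyGE (min (m - 1) m' + 1) :=
      CochainComplex.isStrictlyGE_of_ge _ _ m (by omega)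
    haveI : (X (i + 1)).IsStrictlyGE (min (m - 1) m') :=
      CochainComplex.isStrictlyGE_of_ge _ _ m' (by omega)
    exact ⟨min (m - 1) m', ge_step (B X i) (X (i + 1)) _⟩

lemma B_le (h : ∀ i, ∃ m : ℤ, (X i).IsStrictlyLE m) : ∀ i, ∃ m : ℤ, (B X i).IsStrictlyLE m
  | 0 => h 0
  | (i + 1) => by
    obtain ⟨m, hm⟩ := B_le h i
    obtain ⟨m', hm'⟩ := h (i + 1)
    haveI : (B X i).IsStrictlyLE (max m m') :=
      CochainComplex.isStrictlyLE_of_le _ m _ (by omega)
    haveI : (X (i + 1)).IsStrictlyLE (max m m') :=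
      CochainComplex.isStrictlyLE_of_le _ m' _ (by omega)
    exact ⟨max m m', le_step (B X i) (X (i + 1)) _⟩

theorem main :
    ∃ (B : ℕ → CochainComplex V ℤ) (b : ∀ i, B i ⟶ B (i + 1)) (e : ∀ i, HomotopyEquiv (B i) (X i)),
      (∀ i, b i ≫ (e (i + 1)).hom = (e i).hom ≫ a i) ∧
      (∀ (i : ℕ) (n : ℤ), ∃ (C : V) (ε : (B (i + 1)).X n ≅ (B i).X n ⊞ C),
        (b i).f n ≫ ε.hom = biprod.inl) ∧
      ((∀ i, ∃ m : ℤ, (X i).IsStrictlyGE m) → ∀ i, ∃ m : ℤ, (B i).IsStrictlyGE m) ∧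
      ((∀ i, ∃ m : ℤ, (X i).IsStrictlyLE m) → ∀ i, ∃ m : ℤ, (B i).IsStrictlyLE m) :=
  ⟨B X, b X a, e X, b_e X a, fun i n => split_step (B X i) (X (i + 1)) _ n, B_ge X, B_le X⟩

end Seq

end Groth.Agent.Lib.Helper32.SplitLadder
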