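import Mathlib

set_option autoImplicit false
open CategoryTheory Opposite Simplicial SimplexCategory
universe u

namespace Groth.Agent.Lib.Helper32.StdCosk

open SSet Functor

/-- criterion: coskeletal if restriction of maps to truncations is bijective. -/
lemma isCoskeletal_of_bijective {X : SSet.{u}} (n : ℕ)
    (h : ∀ Z : SSet.{u}, Function.Bijective
      (fun g : Z ⟶ X => whiskerLeft (Truncated.inclusion n).op g)) :
    SimplicialObject.IsCoskeletal X n := by
  constructor
  constructor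
  refine ⟨Limits.IsTerminal.ofUniqueHom
    (fun Y => CostructuredArrow.homMk ((h Y.left).2 Y.hom).choose ?_) ?_⟩
  · have := ((h Y.left).2 Y.hom).choose_spec
    dsimp at this ⊢
    exact (Category.comp_id _).trans this
  · intro Y m
    ext1
    apply (h Y.left).1
    have h1 := ((h Y.left).2 Y.hom).choose_spec
    have h2 := CostructuredArrow.w m
    dsimp at h1 h2 ⊢
    have h3 := (Category.comp_id _).symm.trans h2
    exact h3.trans h1.symm

variable (N : ℕ)

/-- the `i`-th vertex of a simplex. -/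
abbrev vtx (Z : SSet.{u}) (m : SimplexCategoryᵒᵖ) (z : Z.obj m) (i : Fin (m.unop.len + 1)) :
    Z.obj (op ⦋0⦌) :=
  Z.map (SimplexCategory.const ⦋0⦌ m.unop i).op z

lemma vtx_map (Z : SSet.{u}) {m m' : SimplexCategoryᵒᵖ} (θ : m ⟶ m') (z : Z.obj m)
    (i : Fin (m'.unop.len + 1)) :
    vtx Z m' (Z.map θ z) i = vtx Z m z (θ.unop.toOrderHom i) := by
  dsimp only [vtx]
  have : θ ≫ (SimplexCategory.const ⦋0⦌ m'.unop i).op =
      (SimplexCategory.const ⦋0⦌ m.unop (θ.unop.toOrderHom i)).op := by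
    rw [← SimplexCategory.const_comp]; rfl
  rw [← Functor.map_comp_apply, this]

lemma std_apply (m : SimplexCategoryᵒᵖ) (x : (Δ[N] : SSet.{u}).obj m) (i : Fin (m.unop.len + 1)) :
    (stdSimplex.objEquiv x).toOrderHom i = (vtx Δ[N] m x i : Δ[N] _⦋0⦌) 0 := rfl

lemma app_vtx {Z W : SSet.{u}} (g : Z ⟶ W) (m : SimplexCategoryᵒᵖ) (z : Z.obj m)
    (i : Fin (m.unop.len + 1)) : vtx W m (g.app m z) i = g.app (op ⦋0⦌) (vtx Z m z i) :=
  (NatTrans.naturality_apply g (SimplexCategory.const ⦋0⦌ m.unop i).op z).symm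

lemma restr_injective (Z : SSet.{u}) : Function.Injective
    (fun g : Z ⟶ (Δ[N] : SSet.{u}) => whiskerLeft (Truncated.inclusion 1).op g) := by
  intro g g' h
  have h0 : g.app (op ⦋0⦌) = g'.app (op ⦋0⦌) :=
    congrArg (fun t => t.app (op (⟨⦋0⦌, by simp⟩ : SimplexCategory.Truncated 1))) h
  ext m z
  apply stdSimplex.objEquiv.injective
  ext i : 3
  have e1 := std_apply N m (g.app m z) i
  have e2 := std_apply N m (g'.app m z) i
  rw [app_vtx] at e1 e2
  rw [h0] at e1
  exact e1.trans e2.symm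

section Surj

variable {N} {Z : SSet.{u}}
  (τ : (Truncated.inclusion 1).op ⋙ Z ⟶ (Truncated.inclusion 1).op ⋙ (Δ[N] : SSet.{u}))

abbrev t0 : SimplexCategory.Truncated 1 := ⟨⦋0⦌, by simp⟩

lemma tau_vtx (a : (SimplexCategory.Truncated 1)ᵒᵖ) (z : Z.obj (op a.unop.obj))
    (i : Fin (a.unop.obj.len + 1)) :
    vtx Δ[N] (op a.unop.obj) (τ.app a z) i = τ.app (op t0) (vtx Z (op a.unop.obj) z i) :=
  (NatTrans.naturality_apply τ
    (ObjectProperty.homMk (SimplexCategory.const ⦋0⦌ a.unop.obj i) : t0 ⟶ a.unop).op z).symm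

/-- the vertex values of the would-be extension. -/
def val (m : SimplexCategoryᵒᵖ) (z : Z.obj m) (i : Fin (m.unop.len + 1)) : Fin (N + 1) :=
  (stdSimplex.objEquiv (τ.app (op t0) (vtx Z m z i))).toOrderHom 0

abbrev t1 : SimplexCategory.Truncated 1 := ⟨⦋1⦌, by simp⟩

lemma val_mono (k : ℕ) (z : Z.obj (op ⦋k⦌)) : Monotone (val τ (op ⦋k⦌) z) := by
  intro i j hij
  have key : ∀ k' : Fin 2,
      (stdSimplex.objEquiv (τ.app (op t1) (Z.map (mkOfLe i j hij).op z))).toOrderHom k' =
        val τ (op ⦋k⦌) z ((mkOfLe i j hij).toOrderHom k') := by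
    intro k'
    refine (std_apply N (op ⦋1⦌) _ k').trans ?_
    have h1 := tau_vtx τ (op t1) (Z.map (mkOfLe i j hij).op z) k'
    have h2 := vtx_map Z (mkOfLe i j hij).op z k'
    rw [h2] at h1
    exact congrArg (fun t : Δ[N] _⦋0⦌ => (stdSimplex.objEquiv t).toOrderHom 0) h1
  have h01 : (0 : Fin 2) ≤ 1 := by decide
  have := (stdSimplex.objEquiv (τ.app (op t1) (Z.map (mkOfLe i j hij).op z))).toOrderHom.monotone h01
  rw [key, key] at this
  exact this

lemma val_mono' (m : SimplexCategoryᵒᵖ) (z : Z.obj m) : Monotone (val τ m z) := by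
  obtain ⟨m⟩ := m
  induction m using SimplexCategory.rec with | _ k => exact val_mono τ k z

/-- the extension. -/
def ext1 : Z ⟶ (Δ[N] : SSet.{u}) where
  app m := ↾(fun z => stdSimplex.objMk (n := ⦋N⦌) (m := m) ⟨val τ m z, val_mono' τ m z⟩)
  naturality m m' θ := by
    ext z
    apply stdSimplex.objEquiv.injective
    ext i : 3
    show val τ m' (Z.map θ z) i = val τ m z (θ.unop.toOrderHom i)
    dsimp only [val]
    rw [vtx_map]

lemma ext1_fac : whiskerLeft (Truncated.inclusion 1).op (ext1 τ) = τ := by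
  ext a z
  apply stdSimplex.objEquiv.injective
  ext i : 3
  show val τ (op a.unop.obj) z i = _
  have h1 := std_apply N (op a.unop.obj) (τ.app a z) i
  rw [tau_vtx] at h1
  exact h1.symm

end Surj

theorem main : SimplicialObject.IsCoskeletal (SSet.stdSimplex.{u}.obj (SimplexCategory.mk N)) 1 :=
  isCoskeletal_of_bijective 1 (fun Z => ⟨restr_injective N Z, fun τ => ⟨ext1 τ, ext1_fac τ⟩⟩)

end Groth.Agent.Lib.Helper32.StdCosk
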