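import Groth.Prelude.Def_AlgSt
import Groth.Agent.Lib.Helper43.StkGlue2
import Groth.Agent.Lib.Helper45.FpFib

/-!
# Local vanishing of vertical automorphisms in a stack (helper32)

If every object of `𝒮₁` is locally in the essential image of `F : 𝒮₂ ⥤ᵇ 𝒮₁`, a vertical
endomorphism `χ` of an object of the stack `𝒯₁` (with `G : 𝒯₁ ⥤ᵇ 𝒮₁`) is the identity as soon as
all its restrictions to objects `z` admitting an isomorphism `F x ≅ G z` over the identity are.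
-/

set_option autoImplicit false

universe v u

open CategoryTheory CategoryTheory.Functor

namespace Groth.Agent.Lib.Helper32.StkLoc

open Groth.Agent.Lib.Helper80 Groth.Agent.Lib.Helper43.StkGlue2 Groth.Agent.Lib.Helper45

variable {C : Type u} [Category.{v} C] (J : GrothendieckTopology C)
  {𝒮₁ 𝒮₂ 𝒯₁ : BasedCategory.{v, max u v} C}

theorem loc (h₁ : FibCat.IsFibGrpd 𝒮₁.p) (h₃ : Stk.IsStack J 𝒯₁) (F : 𝒮₂ ⥤ᵇ 𝒮₁) (G : 𝒯₁ ⥤ᵇ 𝒮₁)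
    (hF : ∀ y : 𝒮₁.obj, ∃ R ∈ J (𝒮₁.p.obj y), ∀ ⦃V : C⦄ (f : V ⟶ 𝒮₁.p.obj y), R f →
      ∃ (x : 𝒮₂.obj) (φ : F.obj x ⟶ y), 𝒮₁.p.IsHomLift f φ)
    (Q : ∀ z : 𝒯₁.obj, (z ⟶ z) → Prop)
    (hQ : ∀ {z t : 𝒯₁.obj} (φ : z ⟶ t) (γ : z ⟶ z) (χ : t ⟶ t), γ ≫ φ = φ ≫ χ →
      𝒯₁.p.IsHomLift (𝟙 (𝒯₁.p.obj z)) γ → Q t χ → Q z γ)
    (hloc : ∀ (x : 𝒮₂.obj) (z : 𝒯₁.obj) (θ : F.obj x ≅ G.obj z),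
      𝒮₁.p.IsHomLift (𝟙 (𝒮₂.p.obj x)) θ.hom → ∀ γ : z ⟶ z,
      𝒯₁.p.IsHomLift (𝟙 (𝒯₁.p.obj z)) γ → Q z γ → γ = 𝟙 z)
    (t : 𝒯₁.obj) (χ : t ⟶ t) (hχ : 𝒯₁.p.IsHomLift (𝟙 (𝒯₁.p.obj t)) χ) (hQχ : Q t χ) : χ = 𝟙 t := by
  obtain ⟨R, hR, hRx⟩ := hF (G.obj t)
  have hy : 𝒯₁.p.obj t = 𝒮₁.p.obj (G.obj t) := (G.w_obj t).symm
  haveI : (Stk.resSieve R 𝒯₁).IsEquivalence := h₃.2 R hR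
  haveI : (Stk.resSieve R 𝒯₁).Faithful := inferInstance
  haveI i1 : 𝒯₁.p.IsHomLift (𝟙 (𝒮₁.p.obj (G.obj t))) χ := isHomLift_id_of_eq 𝒯₁.p hy χ
  haveI i2 : 𝒯₁.p.IsHomLift (𝟙 (𝒮₁.p.obj (G.obj t))) (𝟙 t) := IsHomLift.id hy
  refine sep₂ h₃.1 hy hy R χ (𝟙 t) ?_
  intro z φ hφ
  obtain ⟨x, ψ, hψ⟩ := hRx _ hφ
  haveI hGφ : 𝒮₁.p.IsHomLift (𝒯₁.p.map φ ≫ eqToHom hy) (G.map φ) := inferInstance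
  haveI sc : 𝒮₁.p.IsStronglyCartesian (𝒯₁.p.map φ ≫ eqToHom hy) (G.map φ) :=
    IsFibGrpd.isStronglyCartesian' 𝒮₁.p h₁ _ (G.map φ)
  have hf' : 𝒯₁.p.map φ ≫ eqToHom hy = 𝟙 _ ≫ (𝒯₁.p.map φ ≫ eqToHom hy) := (Category.id_comp _).symm
  let θ₀ : F.obj x ⟶ G.obj z := IsStronglyCartesian.map 𝒮₁.p _ (G.map φ) hf' ψ
  haveI hθ₀ : 𝒮₁.p.IsHomLift (𝟙 (𝒯₁.p.obj z)) θ₀ := IsStronglyCartesian.map_isHomLift 𝒮₁.p _ (G.map φ) hf' ψ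
  haveI : IsIso θ₀ := IsFibGrpd.isIso_of_base_isIso 𝒮₁.p h₁ (𝟙 (𝒯₁.p.obj z)) θ₀
  have hxz : 𝒯₁.p.obj z = 𝒮₂.p.obj x :=
    (IsHomLift.domain_eq 𝒮₁.p (𝟙 (𝒯₁.p.obj z)) θ₀).symm.trans (F.w_obj x)
  have hθ₀' : 𝒮₁.p.IsHomLift (𝟙 (𝒮₂.p.obj x)) (asIso θ₀).hom := isHomLift_id_of_eq 𝒮₁.p hxz θ₀
  haveI scφ : 𝒯₁.p.IsStronglyCartesian (𝒯₁.p.map φ) φ := h₃.1.isStronglyCartesian φ
  haveI : 𝒯₁.p.IsHomLift (𝒯₁.p.map φ) (φ ≫ χ) := inferInstance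
  have hg : 𝒯₁.p.map φ = 𝟙 _ ≫ 𝒯₁.p.map φ := (Category.id_comp _).symm
  let γ : z ⟶ z := IsStronglyCartesian.map 𝒯₁.p _ φ hg (φ ≫ χ)
  have hγl : 𝒯₁.p.IsHomLift (𝟙 (𝒯₁.p.obj z)) γ := IsStronglyCartesian.map_isHomLift 𝒯₁.p _ φ hg (φ ≫ χ)
  have hγ : γ ≫ φ = φ ≫ χ := IsStronglyCartesian.fac 𝒯₁.p _ φ hg (φ ≫ χ)
  have h1 := hloc x z (asIso θ₀) hθ₀' γ hγl (hQ φ γ χ hγ hγl hQχ)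
  rw [← hγ, h1, Category.id_comp, Category.comp_id]

end Groth.Agent.Lib.Helper32.StkLoc
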