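import Mathlib
import Groth.Statements.S6431
import Groth.Agent.Lib.Helper80.FibCat6

set_option autoImplicit false
universe v u
open CategoryTheory Functor Opposite

namespace Groth.Agent.Lib.Helper32.Strictify

variable {C : Type u} [Category.{v} C] {𝒳 : Type (max u v)} [Category.{v} 𝒳] (p : 𝒳 ⥤ C)

/-- objects of the strictified fibre over `U`. -/
@[ext]
structure Obj (U : C) where
  x : 𝒳
  f : U ⟶ p.obj x

variable {p} [p.IsFibered]

noncomputable def tot {U : C} (a : Obj p U) : 𝒳 := IsPreFibered.pullbackObj (p := p) rfl a.f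

noncomputable def π {U : C} (a : Obj p U) : tot a ⟶ a.x := IsPreFibered.pullbackMap (p := p) rfl a.f

instance {U : C} (a : Obj p U) : p.IsCartesian a.f (π a) := by
  unfold π tot; infer_instance

instance instSC {U : C} (a : Obj p U) : p.IsStronglyCartesian a.f (π a) := inferInstance

instance instHL {U : C} (a : Obj p U) : p.IsHomLift a.f (π a) := inferInstance

lemma tot_proj {U : C} (a : Obj p U) : p.obj (tot a) = U := IsHomLift.domain_eq p a.f (π a)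

lemma hom_ext_π {U V : C} {z : 𝒳} (g : V ⟶ U) (b : Obj p U) {ψ ψ' : z ⟶ tot b}
    [p.IsHomLift g ψ] [p.IsHomLift g ψ'] (h : ψ ≫ π b = ψ' ≫ π b) : ψ = ψ' :=
  IsStronglyCartesian.ext p b.f (π b) g h

lemma eqToHom_π {U : C} {a a' : Obj p U} (h : a = a') (h' : tot a = tot a') (hx : a.x = a'.x) :
    eqToHom h' ≫ π a' = π a ≫ eqToHom hx := by
  subst h; simp

lemma eqToHom_π' {U : C} {a a' : Obj p U} (h : a = a') (h' : tot a = tot a') (hx : a.x = a'.x)
    {z : 𝒳} (ψ : a'.x ⟶ z) :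
    eqToHom h' ≫ π a' ≫ ψ = π a ≫ eqToHom hx ≫ ψ := by
  subst h; simp

noncomputable instance catObj (U : C) : Category.{v} (Obj p U) where
  Hom a b := {φ : tot a ⟶ tot b // p.IsHomLift (𝟙 U) φ}
  id a := ⟨𝟙 _, IsHomLift.id (tot_proj a)⟩
  comp φ ψ := ⟨φ.1 ≫ ψ.1, by have := φ.2; have := ψ.2; infer_instance⟩
  id_comp _ := Subtype.ext (Category.id_comp _)
  comp_id _ := Subtype.ext (Category.comp_id _)
  assoc _ _ _ := Subtype.ext (Category.assoc _ _ _)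

instance {U : C} {a b : Obj p U} (φ : a ⟶ b) : p.IsHomLift (𝟙 U) φ.1 := φ.2

@[simp] lemma id_val {U : C} (a : Obj p U) : (𝟙 a : a ⟶ a).1 = 𝟙 (tot a) := rfl
@[simp] lemma comp_val {U : C} {a b c : Obj p U} (φ : a ⟶ b) (ψ : b ⟶ c) :
    (φ ≫ ψ).1 = φ.1 ≫ ψ.1 := rfl

@[ext] lemma obj_hom_ext {U : C} {a b : Obj p U} {φ ψ : a ⟶ b} (h : φ.1 = ψ.1) : φ = ψ :=
  Subtype.ext h

lemma eqToHom_val {U : C} {a a' : Obj p U} (h : a = a') :
    (eqToHom h : a ⟶ a').1 = eqToHom (congrArg tot h) := by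
  subst h; rfl

/-- restriction of objects -/
abbrev restr {U V : C} (k : V ⟶ U) (a : Obj p U) : Obj p V := ⟨a.x, k ≫ a.f⟩

instance instSC' {U V : C} (k : V ⟶ U) (a : Obj p U) :
    p.IsStronglyCartesian (k ≫ a.f) (π (restr k a)) := instSC (restr k a)

instance instHL' {U V : C} (k : V ⟶ U) (a : Obj p U) :
    p.IsHomLift (k ≫ a.f) (π (restr k a)) := instHL (restr k a)

/-- the canonical lift `tot (restr k a) ⟶ tot a` over `k`. -/
noncomputable def ℓ {U V : C} (k : V ⟶ U) (a : Obj p U) : tot (restr k a) ⟶ tot a :=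
  IsStronglyCartesian.map p a.f (π a) (rfl : k ≫ a.f = k ≫ a.f) (π (restr k a))

instance {U V : C} (k : V ⟶ U) (a : Obj p U) : p.IsHomLift k (ℓ k a) := by
  unfold ℓ; infer_instance

@[reassoc (attr := simp)]
lemma ℓ_π {U V : C} (k : V ⟶ U) (a : Obj p U) : ℓ k a ≫ π a = π (restr k a) := by
  unfold ℓ; simp

/-- restriction of morphisms -/
noncomputable def restrMap {U V : C} (k : V ⟶ U) {a b : Obj p U} (φ : a ⟶ b) :
    restr k a ⟶ restr k b :=
  ⟨IsStronglyCartesian.map p (restr k b).f (π (restr k b))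
    (Category.id_comp _).symm (ℓ k a ≫ φ.1 ≫ π b), inferInstance⟩

@[reassoc (attr := simp)]
lemma restrMap_π {U V : C} (k : V ⟶ U) {a b : Obj p U} (φ : a ⟶ b) :
    (restrMap k φ).1 ≫ π (restr k b) = ℓ k a ≫ φ.1 ≫ π b := by
  unfold restrMap; simp

@[reassoc (attr := simp)]
lemma restrMap_ℓ {U V : C} (k : V ⟶ U) {a b : Obj p U} (φ : a ⟶ b) :
    (restrMap k φ).1 ≫ ℓ k b = ℓ k a ≫ φ.1 := by
  apply hom_ext_π k b
  simp

noncomputable def restrFunctor {U V : C} (k : V ⟶ U) : Obj p U ⥤ Obj p V where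
  obj := restr k
  map φ := restrMap k φ
  map_id a := by
    ext
    apply hom_ext_π (𝟙 V) (restr k a)
    simp
  map_comp φ ψ := by
    ext
    apply hom_ext_π (𝟙 V) (restr k _)
    simp

lemma restr_id {U : C} (a : Obj p U) : restr (𝟙 U) a = a := by
  ext
  · rfl
  · simp

lemma restr_comp {U V W : C} (k : V ⟶ U) (k' : W ⟶ V) (a : Obj p U) :
    restr (k' ≫ k) a = restr k' (restr k a) := by
  ext
  · rfl
  · simp

lemma eqToHom_lift {U : C} {z z' : 𝒳} (h : z = z') (hz : p.obj z = U) :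
    p.IsHomLift (𝟙 U) (eqToHom h) :=
  IsHomLift.eqToHom_domain_lift_id h hz

lemma ℓ_id {U : C} (a : Obj p U) :
    ℓ (𝟙 U) a = eqToHom (congrArg tot (restr_id a)) := by
  have := eqToHom_lift (p := p) (congrArg tot (restr_id a)) (tot_proj _)
  apply hom_ext_π (𝟙 U) a
  rw [ℓ_π, eqToHom_π (restr_id a) _ rfl]
  simp

lemma ℓ_comp {U V W : C} (k : V ⟶ U) (k' : W ⟶ V) (a : Obj p U) :
    ℓ (k' ≫ k) a = eqToHom (congrArg tot (restr_comp k k' a)) ≫ ℓ k' (restr k a) ≫ ℓ k a := by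
  apply hom_ext_π (k' ≫ k) a
  rw [ℓ_π]
  simp only [Category.assoc, ℓ_π]
  rw [eqToHom_π (restr_comp k k' a) _ rfl]
  simp

lemma restrMap_id {U : C} {a b : Obj p U} (φ : a ⟶ b) :
    restrMap (𝟙 U) φ = eqToHom (restr_id a) ≫ φ ≫ eqToHom (restr_id b).symm := by
  apply Subtype.ext
  rw [comp_val, comp_val, eqToHom_val, eqToHom_val]
  apply hom_ext_π (𝟙 U) (restr (𝟙 U) b)
  rw [restrMap_π, ℓ_id]
  simp only [Category.assoc]
  rw [eqToHom_π (restr_id b).symm _ rfl]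
  simp

lemma restrMap_comp {U V W : C} (k : V ⟶ U) (k' : W ⟶ V) {a b : Obj p U} (φ : a ⟶ b) :
    restrMap (k' ≫ k) φ = eqToHom (restr_comp k k' a) ≫ restrMap k' (restrMap k φ) ≫
      eqToHom (restr_comp k k' b).symm := by
  apply Subtype.ext
  rw [comp_val, comp_val, eqToHom_val, eqToHom_val]
  apply hom_ext_π (𝟙 W) (restr (k' ≫ k) b)
  rw [restrMap_π, ℓ_comp]
  simp only [Category.assoc]
  rw [eqToHom_π (restr_comp k k' b).symm _ rfl]
  simp

noncomputable def strictF (p : 𝒳 ⥤ C) [p.IsFibered] : Cᵒᵖ ⥤ Cat.{v, max u v} where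
  obj U := Cat.of (Obj p U.unop)
  map k := (restrFunctor k.unop).toCatHom
  map_id U := by
    apply Cat.Hom.ext
    refine CategoryTheory.Functor.ext (fun a => restr_id a) ?_
    intro a b φ
    exact restrMap_id φ
  map_comp k k' := by
    apply Cat.Hom.ext
    refine CategoryTheory.Functor.ext (fun a => restr_comp k.unop k'.unop a) ?_
    intro a b φ
    exact restrMap_comp k.unop k'.unop φ

section Total

open Pseudofunctor.CoGrothendieck Pseudofunctor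

variable (p)

/-- The total category. -/
abbrev Tot : Type (max u v) := ∫ᶜ (strictF p).toPseudofunctor'

variable {p}

def fib (X : Tot p) : Obj p X.base := X.fiber

def homFib {X Y : Tot p} (f : X ⟶ Y) : fib X ⟶ restr f.base (fib Y) := f.fiber

lemma id_homFib (X : Tot p) : homFib (𝟙 X) = eqToHom (restr_id (fib X)).symm := by
  show ((strictF p).toPseudofunctor'.mapId ⟨op X.base⟩).inv.toNatTrans.app X.fiber = _
  simp [Functor.toPseudofunctor'_mapId, Cat.Hom₂.eqToHom_toNatTrans, eqToHom_app]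
  rfl

lemma comp_homFib {X Y Z : Tot p} (f : X ⟶ Y) (g : Y ⟶ Z) :
    homFib (f ≫ g) = homFib f ≫ restrMap f.base (homFib g) ≫
      eqToHom (restr_comp g.base f.base (fib Z)).symm := by
  show f.fiber ≫ ((strictF p).toPseudofunctor'.map f.base.op.toLoc).toFunctor.map g.fiber ≫
    ((strictF p).toPseudofunctor'.mapComp g.base.op.toLoc f.base.op.toLoc).inv.toNatTrans.app Z.fiber = _
  simp [Functor.toPseudofunctor'_mapComp, Cat.Hom₂.eqToHom_toNatTrans, eqToHom_app]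
  rfl

noncomputable def G : Tot p ⥤ 𝒳 where
  obj X := tot (fib X)
  map {X Y} f := (homFib f).1 ≫ ℓ f.base (fib Y)
  map_id X := by
    rw [id_homFib, eqToHom_val]
    show eqToHom _ ≫ ℓ (𝟙 X.base) (fib X) = 𝟙 _
    rw [ℓ_id]; simp
  map_comp {X Y Z} f g := by
    rw [comp_homFib]
    simp only [comp_val, eqToHom_val, Category.assoc]
    show _ ≫ _ ≫ eqToHom _ ≫ ℓ (f.base ≫ g.base) (fib Z) = _
    rw [ℓ_comp]
    simp

instance G_map_lift {X Y : Tot p} (f : X ⟶ Y) : p.IsHomLift f.base (G.map f) := by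
  show p.IsHomLift f.base ((homFib f).1 ≫ ℓ f.base (fib Y))
  infer_instance

lemma G_map_base_eq {X Y : Tot p} (f g : X ⟶ Y) (h : G.map f = G.map g) : f.base = g.base := by
  have h1 := IsHomLift.fac p f.base (G.map f)
  have h2 := IsHomLift.fac p g.base (G.map g)
  rw [h1, h2]
  simp [h]

instance G_faithful : (G (p := p)).Faithful where
  map_injective {X Y} f g h := by
    have hb := G_map_base_eq f g h
    obtain ⟨fb, ff⟩ := f
    obtain ⟨gb, gf⟩ := g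
    dsimp at hb
    subst hb
    congr 1
    have h' : (homFib ⟨fb, ff⟩ : fib X ⟶ restr fb (fib Y)).1 ≫ ℓ fb (fib Y) =
      (homFib ⟨fb, gf⟩ : fib X ⟶ restr fb (fib Y)).1 ≫ ℓ fb (fib Y) := h
    have h'' := congrArg (fun t => t ≫ π (fib Y)) h'
    simp only [Category.assoc, ℓ_π] at h''
    have := hom_ext_π (𝟙 X.base) (restr fb (fib Y)) h''
    exact Subtype.ext this

instance G_full : (G (p := p)).Full where
  map_surjective {X Y} φ := by
    change tot (fib X) ⟶ tot (fib Y) at φ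
    let k : X.base ⟶ Y.base := eqToHom (tot_proj (fib X)).symm ≫ p.map φ ≫ eqToHom (tot_proj (fib Y))
    have hφ : p.IsHomLift k φ := by
      show p.IsHomLift (eqToHom _ ≫ p.map φ ≫ eqToHom _) φ
      infer_instance
    let ψ : fib X ⟶ restr k (fib Y) :=
      ⟨IsStronglyCartesian.map p (k ≫ (fib Y).f) (π (restr k (fib Y)))
        (Category.id_comp _).symm (φ ≫ π (fib Y)), inferInstance⟩
    refine ⟨⟨k, ψ⟩, ?_⟩
    show ψ.1 ≫ ℓ k (fib Y) = φ
    apply hom_ext_π k (fib Y)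
    simp [ψ]

end Total

section Main

open Pseudofunctor.CoGrothendieck

variable {C : Type u} [Category.{v} C]

noncomputable def Gb (𝒳 : BasedCategory.{v, max u v} C) [𝒳.p.IsFibered] :
    BasedCategory.ofFunctor
      (Pseudofunctor.CoGrothendieck.forget (strictF 𝒳.p).toPseudofunctor') ⥤ᵇ 𝒳 where
  toFunctor := G (p := 𝒳.p)
  w := CategoryTheory.Functor.ext (fun X => tot_proj (fib X))
    (fun X Y f => IsHomLift.fac' 𝒳.p f.base (G.map f))

instance (𝒳 : BasedCategory.{v, max u v} C) [𝒳.p.IsFibered] : (Gb 𝒳).toFunctor.Full :=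
  G_full (p := 𝒳.p)

instance (𝒳 : BasedCategory.{v, max u v} C) [𝒳.p.IsFibered] : (Gb 𝒳).toFunctor.Faithful :=
  G_faithful (p := 𝒳.p)

theorem exists_strict (𝒳 : BasedCategory.{v, max u v} C) [𝒳.p.IsFibered] :
    ∃ (E : 𝒳 ⥤ᵇ BasedCategory.ofFunctor
      (Pseudofunctor.CoGrothendieck.forget (strictF 𝒳.p).toPseudofunctor')),
      FibCat.IsEquivOver E := by
  have hiso : ∀ x : 𝒳.obj, IsIso (π (p := 𝒳.p) ⟨x, 𝟙 _⟩) := fun x =>
    haveI : 𝒳.p.IsStronglyCartesian (𝟙 (𝒳.p.obj x)) (π (p := 𝒳.p) ⟨x, 𝟙 _⟩) :=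
      instSC (p := 𝒳.p) ⟨x, 𝟙 _⟩
    IsStronglyCartesian.isIso_of_base_isIso 𝒳.p (𝟙 (𝒳.p.obj x)) (π (p := 𝒳.p) ⟨x, 𝟙 _⟩)
  obtain ⟨E, ⟨e1⟩, ⟨e2⟩⟩ := Groth.Agent.Lib.Helper80.isEquivOver_of_choice (Gb 𝒳)
    (fun x => ⟨𝒳.p.obj x, (⟨x, 𝟙 _⟩ : Obj 𝒳.p (𝒳.p.obj x))⟩)
    (fun x => @asIso _ _ _ _ (π (p := 𝒳.p) ⟨x, 𝟙 _⟩) (hiso x))
    (fun x => instHL (p := 𝒳.p) ⟨x, 𝟙 _⟩)
  exact ⟨E, Gb 𝒳, ⟨e2⟩, ⟨e1⟩⟩

theorem main (𝒳 : BasedCategory.{v, max u v} C) [𝒳.p.IsFibered] :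
    ∃ (F : Cᵒᵖ ⥤ Cat.{v, max u v}) (E : 𝒳 ⥤ᵇ BasedCategory.ofFunctor
      (Pseudofunctor.CoGrothendieck.forget F.toPseudofunctor')),
      FibCat.IsEquivOver E :=
  ⟨strictF 𝒳.p, exists_strict 𝒳⟩

theorem main_grpd (𝒳 : BasedCategory.{v, max u v} C) (h𝒳 : FibCat.IsFibGrpd 𝒳.p) :
    ∃ (F : Cᵒᵖ ⥤ Cat.{v, max u v}) (_ : ∀ U : Cᵒᵖ, IsGroupoid (F.obj U))
      (E : 𝒳 ⥤ᵇ BasedCategory.ofFunctor
        (Pseudofunctor.CoGrothendieck.forget F.toPseudofunctor')),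
      FibCat.IsEquivOver E := by
  haveI : 𝒳.p.IsFibered := Groth.Agent.Lib.Helper80.IsFibGrpd.isFibered 𝒳.p h𝒳
  refine ⟨strictF 𝒳.p, ?_, exists_strict 𝒳⟩
  intro U
  constructor
  intro a b φ
  change (a : Obj 𝒳.p U.unop) ⟶ (b : Obj 𝒳.p U.unop) at φ
  have h1 : IsIso φ.1 :=
    Groth.Agent.Lib.Helper80.IsFibGrpd.isIso_of_base_isIso 𝒳.p h𝒳 (𝟙 U.unop) φ.1
  refine ⟨⟨⟨inv φ.1, ?_⟩, Subtype.ext (IsIso.hom_inv_id φ.1), Subtype.ext (IsIso.inv_hom_id φ.1)⟩⟩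
  infer_instance

end Main

end Groth.Agent.Lib.Helper32.Strictify
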