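import Mathlib

set_option autoImplicit false
universe v u

namespace Groth.Agent.Lib.Helper32.SumTri

open CategoryTheory CategoryTheory.Limits CategoryTheory.Pretriangulated

variable {D : Type u} [Category.{v} D] [Preadditive D] [HasZeroObject D] [HasShift D ℤ]
    [∀ n : ℤ, (shiftFunctor D n).Additive] [Pretriangulated D]

/-- a product indexed by `WalkingPair` is the binary biproduct -/
noncomputable def piWalkingPairIsoBiprod (f : WalkingPair → D) :
    ∏ᶜ f ≅ f .left ⊞ f .right where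
  hom := biprod.lift (Pi.π f .left) (Pi.π f .right)
  inv := Pi.lift (fun j => match j with
    | .left => biprod.fst
    | .right => biprod.snd)
  hom_inv_id := by
    apply Pi.hom_ext
    rintro (_ | _) <;> simp
  inv_hom_id := by
    apply biprod.hom_ext <;> simp

/-- the direct sum triangle -/
noncomputable abbrev sumTriangle (T T' : Triangle D) : Triangle D :=
  Triangle.mk (biprod.map T.mor₁ T'.mor₁) (biprod.map T.mor₂ T'.mor₂)
    (biprod.desc (T.mor₃ ≫ (shiftFunctor D (1 : ℤ)).map biprod.inl)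
      (T'.mor₃ ≫ (shiftFunctor D (1 : ℤ)).map biprod.inr))

/-- the family -/
def fam (T T' : Triangle D) : WalkingPair → Triangle D
  | .left => T
  | .right => T'

lemma shift_hom_ext {A X Y : D} (a b : A ⟶ (X ⊞ Y)⟦(1 : ℤ)⟧)
    (h1 : a ≫ (biprod.fst : X ⊞ Y ⟶ X)⟦(1 : ℤ)⟧' = b ≫ (biprod.fst : X ⊞ Y ⟶ X)⟦(1 : ℤ)⟧')
    (h2 : a ≫ (biprod.snd : X ⊞ Y ⟶ Y)⟦(1 : ℤ)⟧' = b ≫ (biprod.snd : X ⊞ Y ⟶ Y)⟦(1 : ℤ)⟧') :
    a = b := by
  have : 𝟙 ((X ⊞ Y)⟦(1 : ℤ)⟧) = (biprod.fst : X ⊞ Y ⟶ X)⟦(1 : ℤ)⟧' ≫ (biprod.inl : X ⟶ X ⊞ Y)⟦(1 : ℤ)⟧' +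
      (biprod.snd : X ⊞ Y ⟶ Y)⟦(1 : ℤ)⟧' ≫ (biprod.inr : Y ⟶ X ⊞ Y)⟦(1 : ℤ)⟧' := by
    rw [← Functor.map_comp, ← Functor.map_comp, ← Functor.map_add, biprod.total,
      CategoryTheory.Functor.map_id]
  rw [← Category.comp_id a, ← Category.comp_id b, this, Preadditive.comp_add, Preadditive.comp_add,
    reassoc_of% h1, reassoc_of% h2]

lemma comm_aux {f g : WalkingPair → D} (p : ∀ j, f j ⟶ g j) :
    Limits.Pi.map p ≫ (piWalkingPairIsoBiprod g).hom =
      (piWalkingPairIsoBiprod f).hom ≫ biprod.map (p .left) (p .right) := by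
  apply biprod.hom_ext
  · simp [piWalkingPairIsoBiprod]
  · simp [piWalkingPairIsoBiprod]

lemma comm_aux₃ (f : WalkingPair → D) :
    inv (piComparison (shiftFunctor D (1 : ℤ)) f) ≫ ((piWalkingPairIsoBiprod f).hom)⟦(1 : ℤ)⟧' =
    (piWalkingPairIsoBiprod (fun j => (f j)⟦(1 : ℤ)⟧)).hom ≫
      biprod.desc ((biprod.inl : f .left ⟶ f .left ⊞ f .right)⟦(1 : ℤ)⟧')
        ((biprod.inr : f .right ⟶ f .left ⊞ f .right)⟦(1 : ℤ)⟧') := by
  rw [IsIso.inv_comp_eq]
  apply shift_hom_ext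
  · simp only [Category.assoc, ← Functor.map_comp, piWalkingPairIsoBiprod, biprod.lift_fst]
    have e : biprod.desc ((shiftFunctor D (1 : ℤ)).map (biprod.inl : f .left ⟶ f .left ⊞ f .right))
        ((shiftFunctor D (1 : ℤ)).map (biprod.inr : f .right ⟶ f .left ⊞ f .right)) ≫
        (shiftFunctor D (1 : ℤ)).map biprod.fst = biprod.fst := by
      apply biprod.hom_ext' <;> simp [← Functor.map_comp]
    rw [e, biprod.lift_fst, piComparison_comp_π]
  · simp only [Category.assoc, ← Functor.map_comp, piWalkingPairIsoBiprod, biprod.lift_snd]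
    have e : biprod.desc ((shiftFunctor D (1 : ℤ)).map (biprod.inl : f .left ⟶ f .left ⊞ f .right))
        ((shiftFunctor D (1 : ℤ)).map (biprod.inr : f .right ⟶ f .left ⊞ f .right)) ≫
        (shiftFunctor D (1 : ℤ)).map biprod.snd = biprod.snd := by
      apply biprod.hom_ext' <;> simp [← Functor.map_comp]
    rw [e, biprod.lift_snd, piComparison_comp_π]

noncomputable def sumIso (F : WalkingPair → Triangle D) :
    productTriangle F ≅ sumTriangle (F .left) (F .right) :=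
  Triangle.isoMk _ _ (piWalkingPairIsoBiprod (fun j => (F j).obj₁))
    (piWalkingPairIsoBiprod (fun j => (F j).obj₂))
    (piWalkingPairIsoBiprod (fun j => (F j).obj₃))
    (comm_aux (fun j => (F j).mor₁))
    (comm_aux (fun j => (F j).mor₂))
    (by
      have h1 := comm_aux (fun j => (F j).mor₃)
      have h2 := comm_aux₃ (fun j => (F j).obj₁)
      show (Limits.Pi.map (fun j => (F j).mor₃) ≫ inv (piComparison _ _)) ≫ _ = _ ≫ biprod.desc _ _
      refine (Category.assoc _ _ _).trans ?_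
      refine (congrArg (fun t => Limits.Pi.map (fun j => (F j).mor₃) ≫ t) h2).trans ?_
      refine (Category.assoc _ _ _).symm.trans ?_
      refine (congrArg (fun t => t ≫ biprod.desc _ _) h1).trans ?_
      refine (Category.assoc _ _ _).trans ?_
      congr 1
      apply biprod.hom_ext'
      · simp only [biprod.inl_map_assoc, biprod.inl_desc]
        exact (biprod.inl_desc _ _).symm
      · simp only [biprod.inr_map_assoc, biprod.inr_desc]
        exact (biprod.inr_desc _ _).symm)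

lemma sum_distinguished (T T' : Triangle D) (hT : T ∈ distTriang D) (hT' : T' ∈ distTriang D) :
    sumTriangle T T' ∈ distTriang D := by
  have h : ∀ j, fam T T' j ∈ distTriang D := by
    rintro (_ | _)
    · exact hT
    · exact hT'
  exact isomorphic_distinguished _ (productTriangle_distinguished (fam T T') h) _
    (sumIso (fam T T')).symm

lemma fst_comp (X X' : D) {Z Z' : D} (h : Z ⟶ X⟦(1 : ℤ)⟧) (h' : Z' ⟶ X'⟦(1 : ℤ)⟧) :
    biprod.desc (h ≫ (shiftFunctor D (1 : ℤ)).map (biprod.inl : X ⟶ X ⊞ X'))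
      (h' ≫ (shiftFunctor D (1 : ℤ)).map (biprod.inr : X' ⟶ X ⊞ X')) ≫
      (shiftFunctor D (1 : ℤ)).map biprod.fst = biprod.fst ≫ h := by
  apply biprod.hom_ext' <;> simp [← Functor.map_comp]

lemma snd_comp (X X' : D) {Z Z' : D} (h : Z ⟶ X⟦(1 : ℤ)⟧) (h' : Z' ⟶ X'⟦(1 : ℤ)⟧) :
    biprod.desc (h ≫ (shiftFunctor D (1 : ℤ)).map (biprod.inl : X ⟶ X ⊞ X'))
      (h' ≫ (shiftFunctor D (1 : ℤ)).map (biprod.inr : X' ⟶ X ⊞ X')) ≫
      (shiftFunctor D (1 : ℤ)).map biprod.snd = biprod.snd ≫ h' := by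
  apply biprod.hom_ext' <;> simp [← Functor.map_comp]

/-- a summand of a distinguished triangle is distinguished (both summands) -/
lemma both_distinguished (T T' : Triangle D) (hS : sumTriangle T T' ∈ distTriang D) :
    T ∈ distTriang D ∧ T' ∈ distTriang D := by
  obtain ⟨Z₀, g₀, h₀, hT₀⟩ := distinguished_cocone_triangle T.mor₁
  obtain ⟨Z₀', g₀', h₀', hT₀'⟩ := distinguished_cocone_triangle T'.mor₁
  have hS₀ := sum_distinguished (Triangle.mk T.mor₁ g₀ h₀) (Triangle.mk T'.mor₁ g₀' h₀') hT₀ hT₀'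
  obtain ⟨c, c₂, c₃⟩ : ∃ c : T.obj₃ ⊞ T'.obj₃ ⟶ Z₀ ⊞ Z₀',
      biprod.map T.mor₂ T'.mor₂ ≫ c = biprod.map g₀ g₀' ∧
      biprod.desc (T.mor₃ ≫ (shiftFunctor D (1 : ℤ)).map biprod.inl)
        (T'.mor₃ ≫ (shiftFunctor D (1 : ℤ)).map biprod.inr) =
      c ≫ biprod.desc (h₀ ≫ (shiftFunctor D (1 : ℤ)).map biprod.inl)
        (h₀' ≫ (shiftFunctor D (1 : ℤ)).map biprod.inr) := by
    obtain ⟨c, h2, h3⟩ := complete_distinguished_triangle_morphism _ _ hS hS₀
      (𝟙 (T.obj₁ ⊞ T'.obj₁)) (𝟙 (T.obj₂ ⊞ T'.obj₂))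
      ((Category.comp_id _).trans (Category.id_comp _).symm)
    refine ⟨c, ?_, ?_⟩
    · exact h2.trans (Category.id_comp _)
    · have e : (shiftFunctor D (1 : ℤ)).map (𝟙 (T.obj₁ ⊞ T'.obj₁)) = 𝟙 _ :=
        (shiftFunctor D (1 : ℤ)).map_id _
      have h3'' : (sumTriangle T T').mor₃ ≫ 𝟙 _ = c ≫ _ :=
        (congrArg (fun t => (sumTriangle T T').mor₃ ≫ t) e).symm.trans h3
      exact (Category.comp_id _).symm.trans h3''
  -- the comparison maps
  let θ : T.obj₃ ⟶ Z₀ := biprod.inl ≫ c ≫ biprod.fst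
  let θ' : T'.obj₃ ⟶ Z₀' := biprod.inr ≫ c ≫ biprod.snd
  have hθ₂ : T.mor₂ ≫ θ = g₀ := by
    calc T.mor₂ ≫ θ = biprod.inl ≫ (biprod.map T.mor₂ T'.mor₂ ≫ c) ≫ biprod.fst := by
          simp [θ]
      _ = g₀ := by rw [c₂]; simp
  have hθ₂' : T'.mor₂ ≫ θ' = g₀' := by
    calc T'.mor₂ ≫ θ' = biprod.inr ≫ (biprod.map T.mor₂ T'.mor₂ ≫ c) ≫ biprod.snd := by
          simp [θ']
      _ = g₀' := by rw [c₂]; simp
  have hθ₃ : θ ≫ h₀ = T.mor₃ := by
    calc θ ≫ h₀ = biprod.inl ≫ (c ≫ biprod.desc (h₀ ≫ (shiftFunctor D (1 : ℤ)).map biprod.inl)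
        (h₀' ≫ (shiftFunctor D (1 : ℤ)).map biprod.inr)) ≫ (shiftFunctor D (1 : ℤ)).map biprod.fst := by
          simp only [θ, Category.assoc, fst_comp]
      _ = T.mor₃ := by
          rw [← c₃, fst_comp]; simp
  have hθ₃' : θ' ≫ h₀' = T'.mor₃ := by
    calc θ' ≫ h₀' = biprod.inr ≫ (c ≫ biprod.desc (h₀ ≫ (shiftFunctor D (1 : ℤ)).map biprod.inl)
        (h₀' ≫ (shiftFunctor D (1 : ℤ)).map biprod.inr)) ≫ (shiftFunctor D (1 : ℤ)).map biprod.snd := by
          simp only [θ', Category.assoc, snd_comp]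
      _ = T'.mor₃ := by
          rw [← c₃, snd_comp]; simp
  -- the diagonal morphism of triangles
  let Ψ : sumTriangle T T' ⟶ sumTriangle (Triangle.mk T.mor₁ g₀ h₀) (Triangle.mk T'.mor₁ g₀' h₀') :=
    { hom₁ := 𝟙 _
      hom₂ := 𝟙 _
      hom₃ := biprod.map θ θ'
      comm₁ := (Category.comp_id _).trans (Category.id_comp _).symm
      comm₂ := by
        refine Eq.trans ?_ (Category.id_comp _).symm
        show biprod.map T.mor₂ T'.mor₂ ≫ biprod.map θ θ' = biprod.map g₀ g₀'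
        apply biprod.hom_ext' <;> simp [reassoc_of% hθ₂, reassoc_of% hθ₂']
      comm₃ := by
        refine (congrArg (fun t => (sumTriangle T T').mor₃ ≫ t)
          ((shiftFunctor D (1 : ℤ)).map_id _)).trans ?_
        refine (Category.comp_id _).trans ?_
        show biprod.desc (T.mor₃ ≫ (shiftFunctor D (1 : ℤ)).map biprod.inl)
          (T'.mor₃ ≫ (shiftFunctor D (1 : ℤ)).map biprod.inr) = biprod.map θ θ' ≫
          biprod.desc (h₀ ≫ (shiftFunctor D (1 : ℤ)).map biprod.inl)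
            (h₀' ≫ (shiftFunctor D (1 : ℤ)).map biprod.inr)
        apply biprod.hom_ext'
        · simp [reassoc_of% hθ₃]
        · simp [reassoc_of% hθ₃'] }
  have hΘ : IsIso (biprod.map θ θ') :=
    isIso₃_of_isIso₁₂ Ψ hS hS₀ (IsIso.id _) (IsIso.id _)
  have hθ : IsIso θ := by
    refine ⟨biprod.inl ≫ inv (biprod.map θ θ') ≫ biprod.fst, ?_, ?_⟩
    · rw [← biprod.inl_map_assoc (f := θ) (g := θ'), IsIso.hom_inv_id_assoc, biprod.inl_fst]
    · rw [Category.assoc, Category.assoc, ← biprod.map_fst (f := θ) (g := θ'),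
        IsIso.inv_hom_id_assoc, biprod.inl_fst]
  have hθ' : IsIso θ' := by
    refine ⟨biprod.inr ≫ inv (biprod.map θ θ') ≫ biprod.snd, ?_, ?_⟩
    · rw [← biprod.inr_map_assoc (f := θ) (g := θ'), IsIso.hom_inv_id_assoc, biprod.inr_snd]
    · rw [Category.assoc, Category.assoc, ← biprod.map_snd (f := θ) (g := θ'),
        IsIso.inv_hom_id_assoc, biprod.inr_snd]
  constructor
  · refine isomorphic_distinguished _ hT₀ _ (Triangle.isoMk T _ (Iso.refl _) (Iso.refl _)
      (@asIso _ _ _ _ θ hθ) ?_ ?_ ?_)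
    · exact (Category.comp_id _).trans (Category.id_comp _).symm
    · exact hθ₂.trans (Category.id_comp _).symm
    · refine (congrArg (fun t => T.mor₃ ≫ t) ((shiftFunctor D (1 : ℤ)).map_id _)).trans ?_
      exact (Category.comp_id _).trans hθ₃.symm
  · refine isomorphic_distinguished _ hT₀' _ (Triangle.isoMk T' _ (Iso.refl _) (Iso.refl _)
      (@asIso _ _ _ _ θ' hθ') ?_ ?_ ?_)
    · exact (Category.comp_id _).trans (Category.id_comp _).symm
    · exact hθ₂'.trans (Category.id_comp _).symm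
    · refine (congrArg (fun t => T'.mor₃ ≫ t) ((shiftFunctor D (1 : ℤ)).map_id _)).trans ?_
      exact (Category.comp_id _).trans hθ₃'.symm

theorem main (T T' : Triangle D) :
    Triangle.mk (biprod.map T.mor₁ T'.mor₁) (biprod.map T.mor₂ T'.mor₂)
        (biprod.desc (T.mor₃ ≫ (shiftFunctor D (1 : ℤ)).map biprod.inl)
          (T'.mor₃ ≫ (shiftFunctor D (1 : ℤ)).map biprod.inr)) ∈ distinguishedTriangles ↔
      (T ∈ distinguishedTriangles ∧ T' ∈ distinguishedTriangles) :=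
  ⟨fun h => both_distinguished T T' h, fun h => sum_distinguished T T' h.1 h.2⟩

end Groth.Agent.Lib.Helper32.SumTri
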