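import Mathlib

/-!
Element-level lemmas on `(B ⧸ 𝔮) ⊗[B] P`: Artin–Rees annihilation of the homology of a reduction,
annihilation by null-homotopic elements.
-/

set_option autoImplicit false
universe u
open TensorProduct

namespace Groth.Agent.Lib.Helper32.TensorKill

variable {B : Type u} [CommRing B]

section Elements

variable (𝔮 : Ideal B) {P : Type u} [AddCommGroup P] [Module B P]

lemma exists_one_tmul (z : (B ⧸ 𝔮) ⊗[B] P) : ∃ p : P, z = (1 : B ⧸ 𝔮) ⊗ₜ[B] p := by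
  obtain ⟨p, hp⟩ := Submodule.Quotient.mk_surjective _ (quotTensorEquivQuotSMul P 𝔮 z)
  refine ⟨p, ?_⟩
  rw [← quotTensorEquivQuotSMul_symm_mk, hp, LinearEquiv.symm_apply_apply]

lemma one_tmul_eq_zero_iff (p : P) :
    (1 : B ⧸ 𝔮) ⊗ₜ[B] p = 0 ↔ p ∈ 𝔮 • (⊤ : Submodule B P) := by
  rw [← quotTensorEquivQuotSMul_symm_mk, LinearEquiv.map_eq_zero_iff,
    Submodule.Quotient.mk_eq_zero]

end Elements

section Kill

variable {P₀ P₁ P₂ : Type u} [AddCommGroup P₀] [Module B P₀] [AddCommGroup P₁] [Module B P₁]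
  [AddCommGroup P₂] [Module B P₂] (δ₁ : P₁ →ₗ[B] P₀) (δ₂ : P₂ →ₗ[B] P₁)

/-- `b` kills the homology of the reduction modulo `𝔮` -/
def Kill (𝔮 : Ideal B) (b : B) : Prop :=
  ∀ z : (B ⧸ 𝔮) ⊗[B] P₁, LinearMap.lTensor (B ⧸ 𝔮) δ₁ z = 0 →
    ∃ y : (B ⧸ 𝔮) ⊗[B] P₂, LinearMap.lTensor (B ⧸ 𝔮) δ₂ y = b • z

variable {δ₁ δ₂}

lemma Kill.add {𝔮 : Ideal B} {b b' : B} (h : Kill δ₁ δ₂ 𝔮 b) (h' : Kill δ₁ δ₂ 𝔮 b') :
    Kill δ₁ δ₂ 𝔮 (b + b') := by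
  intro z hz
  obtain ⟨y, hy⟩ := h z hz
  obtain ⟨y', hy'⟩ := h' z hz
  exact ⟨y + y', by rw [map_add, hy, hy', add_smul]⟩

lemma Kill.mul {𝔮 : Ideal B} {b : B} (r : B) (h : Kill δ₁ δ₂ 𝔮 b) : Kill δ₁ δ₂ 𝔮 (r * b) := by
  intro z hz
  obtain ⟨y, hy⟩ := h z hz
  exact ⟨r • y, by rw [map_smul, hy, mul_smul]⟩

lemma Kill.zero {𝔮 : Ideal B} : Kill δ₁ δ₂ 𝔮 0 := by
  intro z _
  exact ⟨0, by rw [map_zero, zero_smul]⟩

lemma kill_of_mem_span {𝔮 : Ideal B} {S : Set B} (hS : ∀ g ∈ S, Kill δ₁ δ₂ 𝔮 g) :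
    ∀ b ∈ Ideal.span S, Kill δ₁ δ₂ 𝔮 b := by
  intro b hb
  induction hb using Submodule.span_induction with
  | mem g hg => exact hS g hg
  | zero => exact Kill.zero
  | add x y _ _ hx hy => exact hx.add hy
  | smul r x _ hx => exact hx.mul r

/-- a null-homotopic element kills -/
lemma kill_of_homotopy {𝔮 : Ideal B} (g : B) (h₀ : P₀ →ₗ[B] P₁) (h₁ : P₁ →ₗ[B] P₂)
    (hg : ∀ x : P₁, g • x = h₀ (δ₁ x) + δ₂ (h₁ x)) : Kill δ₁ δ₂ 𝔮 g := by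
  intro z hz
  refine ⟨LinearMap.lTensor (B ⧸ 𝔮) h₁ z, ?_⟩
  have h1 : g • (LinearMap.id : P₁ →ₗ[B] P₁) = h₀ ∘ₗ δ₁ + δ₂ ∘ₗ h₁ := by
    apply LinearMap.ext
    intro x
    exact hg x
  have h2 := congr_arg (fun φ => LinearMap.lTensor (B ⧸ 𝔮) φ z) h1
  simp only [LinearMap.lTensor_smul, LinearMap.lTensor_id, LinearMap.lTensor_add,
    LinearMap.lTensor_comp, LinearMap.smul_apply, LinearMap.id_apply, LinearMap.add_apply,
    LinearMap.comp_apply, hz, map_zero, zero_add] at h2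
  exact h2.symm

/-- Artin–Rees: the `c`-th power of `𝔍` kills, uniformly in `q` -/
lemma kill_of_artinRees (𝔍 : Ideal B) (c : ℕ)
    (hex : ∀ x : P₁, δ₁ x = 0 → ∃ y : P₂, δ₂ y = x)
    (hAR : ∀ q, c ≤ q → 𝔍 ^ q • (⊤ : Submodule B P₀) ⊓ LinearMap.range δ₁ ≤
      𝔍 ^ (q - c) • LinearMap.range δ₁) (q : ℕ) :
    ∀ a ∈ 𝔍 ^ c, Kill δ₁ δ₂ (𝔍 ^ q) a := by
  intro a ha z hz
  obtain ⟨p, rfl⟩ := exists_one_tmul (𝔍 ^ q) z
  rw [LinearMap.lTensor_tmul, one_tmul_eq_zero_iff] at hz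
  by_cases hq : c ≤ q
  · have h1 : δ₁ p ∈ 𝔍 ^ (q - c) • LinearMap.range δ₁ := hAR q hq ⟨hz, ⟨p, rfl⟩⟩
    have h2 : 𝔍 ^ (q - c) • LinearMap.range δ₁ =
        Submodule.map δ₁ (𝔍 ^ (q - c) • (⊤ : Submodule B P₁)) := by
      rw [Submodule.map_smul'', Submodule.map_top]
    rw [h2] at h1
    obtain ⟨w, hw, hwp⟩ := h1
    obtain ⟨v, hv⟩ := hex (p - w) (by rw [map_sub, hwp, sub_self])
    refine ⟨(1 : B ⧸ 𝔍 ^ q) ⊗ₜ[B] (a • v), ?_⟩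
    rw [LinearMap.lTensor_tmul, map_smul, hv, smul_sub, tmul_sub, ← tmul_smul]
    have h3 : a • w ∈ 𝔍 ^ q • (⊤ : Submodule B P₁) := by
      have : a • w ∈ 𝔍 ^ c • (𝔍 ^ (q - c) • (⊤ : Submodule B P₁)) :=
        Submodule.smul_mem_smul ha hw
      rwa [← Submodule.mul_smul, ← pow_add, Nat.add_sub_cancel' hq] at this
    rw [(one_tmul_eq_zero_iff (𝔍 ^ q) (a • w)).2 h3, sub_zero, tmul_smul]
  · refine ⟨0, ?_⟩
    rw [map_zero, ← tmul_smul, eq_comm, one_tmul_eq_zero_iff]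
    exact Submodule.smul_mem_smul (Ideal.pow_le_pow_right (by omega) ha) Submodule.mem_top

end Kill

end Groth.Agent.Lib.Helper32.TensorKill
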