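import Mathlib
import Groth.Agent.Lib.Helper29.TorKill
import Groth.Agent.Lib.Helper46.TorPrime

/-!
Dimension shifting for annihilators of `Tor`: if `X_t → ⋯ → X_1 → X_0` is a complex of flat
modules whose homology in positive degrees is killed by an ideal `𝔟`, then `𝔟 ^ t` kills
`Tor_j (coker (X_1 → X_0), N)` for all `j > t`.
-/

set_option autoImplicit false
universe u
open CategoryTheory

namespace Groth.Agent.Lib.Helper32.TorCxKill

open Groth.Agent.Lib.Helper29.TorKill Groth.Agent.Lib.Helper46 Groth.Agent.Lib.Helper46.TorShift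

variable {A : Type u} [CommRing A]

lemma killsAt_add {r s : A} {i : ℕ} {X N : Type u} [AddCommGroup X] [Module A X] [AddCommGroup N]
    [Module A N] (hr : KillsAt r i X N) (hs : KillsAt s i X N) : KillsAt (r + s) i X N := by
  intro y
  rw [add_smul, hr y, hs y, add_zero]

lemma killsAt_of_subsingleton (r : A) (i : ℕ) (X N : Type u) [AddCommGroup X] [Module A X]
    [AddCommGroup N] [Module A N] [Subsingleton X] : KillsAt r i X N :=
  killsAt_of_smul_eq_zero X N r (fun _ => Subsingleton.elim _ _) i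

lemma killsAt_mul_of_mem {𝔠 𝔡 : Ideal A} {i : ℕ} {X N : Type u} [AddCommGroup X] [Module A X]
    [AddCommGroup N] [Module A N]
    (h : ∀ r ∈ 𝔠, ∀ s ∈ 𝔡, KillsAt (r * s) i X N) : ∀ a ∈ 𝔠 * 𝔡, KillsAt a i X N := by
  intro a ha
  refine Submodule.mul_induction_on ha (fun r hr s hs => h r hr s hs) (fun x y hx hy => ?_)
  exact killsAt_add hx hy

section Main

variable (X : ℕ → Type u) [∀ n, AddCommGroup (X n)] [∀ n, Module A (X n)]
  (hflat : ∀ n, Module.Flat A (X n))
  (d : ∀ n, X (n+1) →ₗ[A] X n) (hd : ∀ n (x : X (n+1+1)), d n (d (n+1) x) = 0)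
  (t : ℕ) (hX : ∀ n, t < n → Subsingleton (X n))
  (𝔟 : Ideal A)
  (hH : ∀ n (z : X (n+1)), d n z = 0 → ∀ a ∈ 𝔟, ∃ y : X (n+1+1), d (n+1) y = a • z)
  (N : Type u) [AddCommGroup N] [Module A N]

include hflat hd hH in
theorem killsAt_range_step (n k : ℕ)
    (h : ∀ j, k ≤ j → ∀ a ∈ 𝔟 ^ k, KillsAt a j (LinearMap.range (d (n+1))) N) :
    ∀ j, k + 1 ≤ j → ∀ a ∈ 𝔟 ^ (k+1), KillsAt a j (LinearMap.range (d n)) N := by
  intro j hj
  obtain ⟨j', rfl⟩ : ∃ j', j = j' + 1 := ⟨j - 1, by omega⟩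
  have hj' : k ≤ j' := by omega
  rw [pow_succ]
  refine killsAt_mul_of_mem (fun r hr s hs => ?_)
  -- the cycles
  have hle : LinearMap.range (d (n+1)) ≤ LinearMap.ker (d n) := by
    rintro _ ⟨x, rfl⟩
    exact hd n x
  let W : Submodule A (LinearMap.ker (d n)) :=
    (LinearMap.range (d (n+1))).comap (LinearMap.ker (d n)).subtype
  have hW : KillsAt r j' W N :=
    (h j' hj' r hr).congr N (Submodule.comapSubtypeEquivOfLe hle).symm
  have hHq : KillsAt s j' (LinearMap.ker (d n) ⧸ W) N := by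
    refine killsAt_of_smul_eq_zero _ N s (fun x => ?_) j'
    obtain ⟨z, rfl⟩ := Submodule.Quotient.mk_surjective W x
    rw [← Submodule.Quotient.mk_smul, Submodule.Quotient.mk_eq_zero]
    obtain ⟨y, hy⟩ := hH n z.1 z.2 s hs
    exact ⟨y, hy⟩
  have hZ : KillsAt (r * s) j' (LinearMap.ker (d n)) N :=
    killsAt_mid W.subtype W.mkQ (Submodule.subtype_injective _) (LinearMap.exact_subtype_mkQ W)
      (Submodule.mkQ_surjective W) j' r s hW hHq
  have hex : Function.Exact (LinearMap.ker (d n)).subtype (d n).rangeRestrict := by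
    intro x
    constructor
    · intro hx
      have : d n x = 0 := congr_arg Subtype.val hx
      exact ⟨⟨x, this⟩, rfl⟩
    · rintro ⟨z, rfl⟩
      exact Subtype.ext z.2
  haveI := hflat (n+1)
  have h1 : KillsAt (1 : A) (j'+1) (X (n+1)) N :=
    killsAt_of_isZero _ N (isZero_of_flat_left (X (n+1)) N j') 1
  have := killsAt_right (LinearMap.ker (d n)).subtype (d n).rangeRestrict
    (Submodule.subtype_injective _) hex (LinearMap.surjective_rangeRestrict _) j' 1 (r * s) h1 hZ
  rwa [one_mul] at this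

include hflat hd hH hX in
theorem killsAt_range (k : ℕ) : ∀ n, n + k = t → ∀ j, k ≤ j → ∀ a ∈ 𝔟 ^ k,
    KillsAt a j (LinearMap.range (d n)) N := by
  induction k with
  | zero =>
    intro n hn j _ a _
    haveI : Subsingleton (X (n+1)) := hX (n+1) (by omega)
    haveI : Subsingleton (LinearMap.range (d n)) := by
      refine ⟨fun x y => ?_⟩
      obtain ⟨x', hx'⟩ := x.2
      obtain ⟨y', hy'⟩ := y.2
      apply Subtype.ext
      rw [← hx', ← hy', Subsingleton.elim x' y']
    exact killsAt_of_subsingleton a j _ N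
  | succ k ih =>
    intro n hn
    exact killsAt_range_step X hflat d hd 𝔟 hH N n k (ih (n+1) (by omega))

include hflat hd hH hX in
/-- **Dimension shifting**: `𝔟 ^ t` kills `Tor_j (Q, N)` for `j > t`, where `Q = coker (X 1 → X 0)`. -/
theorem killsAt_coker (Q : Type u) [AddCommGroup Q] [Module A Q] (ε : X 0 →ₗ[A] Q)
    (hε : Function.Surjective ε) (hker : ∀ x, ε x = 0 ↔ ∃ y, d 0 y = x) :
    ∀ j, t < j → ∀ a ∈ 𝔟 ^ t, KillsAt a j Q N := by
  intro j hj a ha
  obtain ⟨j', rfl⟩ : ∃ j', j = j' + 1 := ⟨j - 1, by omega⟩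
  have h0 := killsAt_range X hflat d hd t hX 𝔟 hH N t 0 (by omega) j' (by omega) a ha
  have hex : Function.Exact (LinearMap.range (d 0)).subtype ε := by
    intro x
    rw [hker]
    constructor
    · rintro ⟨y, rfl⟩
      exact ⟨⟨d 0 y, ⟨y, rfl⟩⟩, rfl⟩
    · rintro ⟨⟨_, ⟨y, rfl⟩⟩, rfl⟩
      exact ⟨y, rfl⟩
  haveI := hflat 0
  have h1 : KillsAt (1 : A) (j'+1) (X 0) N :=
    killsAt_of_isZero _ N (isZero_of_flat_left (X 0) N j') 1
  have := killsAt_right (LinearMap.range (d 0)).subtype ε (Submodule.subtype_injective _) hex hε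
    j' 1 a h1 h0
  rwa [one_mul] at this

end Main

/-- symmetry: transfer to the other variable -/
theorem smul_eq_zero_of_killsAt_symm {a : A} {i : ℕ} {X M : Type u} [AddCommGroup X] [Module A X]
    [AddCommGroup M] [Module A M] (h : KillsAt a i X M) (x : T A i M X) : a • x = 0 := by
  let φ := TorPrime.torSymm (ModuleCat.of A M) (ModuleCat.of A X) i
  have h1 : x = φ.inv.hom (φ.hom.hom x) := by
    change x = (φ.hom ≫ φ.inv).hom x
    rw [Iso.hom_inv_id]; rfl
  rw [h1, ← map_smul, h (φ.hom.hom x), map_zero]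

end Groth.Agent.Lib.Helper32.TorCxKill
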