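import Mathlib
import Groth.Agent.Lib.Helper32.KzCn
import Groth.Agent.Lib.Helper32.TorCxKill
import Groth.Agent.Lib.Helper32.PolyRegular
import Groth.Agent.Lib.Helper32.TensorKill

/-!
Uniform annihilation of `Tor_i (M, A ⧸ I ^ q)` for `i` larger than the number of generators of `I`.
-/

set_option autoImplicit false
universe u
open CategoryTheory TensorProduct

namespace Groth.Agent.Lib.Helper32.TorUniform

open Groth.Agent.Lib.Helper32.KzCn Groth.Agent.Lib.Helper32.TensorKill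
  Groth.Agent.Lib.Helper32.PolyRegular Groth.Agent.Lib.Helper32.TorCxKill
  Groth.Agent.Lib.Helper29.TorKill Groth.Agent.Lib.Helper46.TorShift

section Extract

variable {B : Type u} [CommRing B] (K : CochainComplex (ModuleCat.{u} B) ℤ)

/-- the term in degree `-n` -/
abbrev PX (n : ℕ) : Type u := K.X (-(n : ℤ))

/-- the differential `K^{-(n+1)} → K^{-n}` -/
noncomputable def pd (n : ℕ) : PX K (n+1) →ₗ[B] PX K n :=
  (K.d (-((n+1 : ℕ) : ℤ)) (-(n : ℤ))).hom

lemma pd_pd (n : ℕ) (x : PX K (n+1+1)) : pd K n (pd K (n+1) x) = 0 :=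
  congr_arg (fun f => f.hom x) (K.d_comp_d (-((n+1+1 : ℕ) : ℤ)) (-((n+1 : ℕ) : ℤ)) (-(n : ℤ)))

variable {K} {𝔞 : Ideal B}

lemma isRes_ex' (h : IsRes K 𝔞) (i j k : ℤ) (hij : i + 1 = j) (hjk : j + 1 = k) (hj : j < 0)
    (x : K.X j) (hx : (K.d j k).hom x = 0) : ∃ y : K.X i, (K.d i j).hom y = x := by
  subst hij hjk
  exact h.ex i hj x hx

lemma isRes_aug' (h : IsRes K 𝔞) (i j : ℤ) (hij : i + 1 = j) (hj : j = 0) :
    ∃ ε : K.X j →ₗ[B] (B ⧸ 𝔞), Function.Surjective ε ∧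
      ∀ x, ε x = 0 ↔ ∃ y : K.X i, (K.d i j).hom y = x := by
  subst hij
  exact h.aug i hj

lemma htpy_rel' {g : B} (s : Homotopy (g • 𝟙 K) 0) (i j k : ℤ) (hij : i + 1 = j) (hjk : j + 1 = k)
    (y : K.X j) :
    g • y = (s.hom k j).hom ((K.d j k).hom y) + (K.d i j).hom ((s.hom j i).hom y) := by
  subst hij hjk
  exact htpy_rel s i y

lemma px_ex (h : IsRes K 𝔞) (n : ℕ) (x : PX K (n+1)) (hx : pd K n x = 0) :
    ∃ y : PX K (n+1+1), pd K (n+1) y = x :=
  isRes_ex' h (-((n+1+1 : ℕ) : ℤ)) (-((n+1 : ℕ) : ℤ)) (-(n : ℤ)) (by omega) (by omega) (by omega) x hx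

lemma px_aug (h : IsRes K 𝔞) : ∃ ε : PX K 0 →ₗ[B] (B ⧸ 𝔞), Function.Surjective ε ∧
    ∀ x, ε x = 0 ↔ ∃ y : PX K (0+1), pd K 0 y = x :=
  isRes_aug' h (-((0+1 : ℕ) : ℤ)) (-((0 : ℕ) : ℤ)) (by omega) (by simp)

/-- the homotopy in degree `-n` -/
noncomputable def ph {g : B} (s : Homotopy (g • 𝟙 K) 0) (n : ℕ) : PX K n →ₗ[B] PX K (n+1) :=
  (s.hom (-(n : ℤ)) (-((n+1 : ℕ) : ℤ))).hom

lemma px_htpy {g : B} (s : Homotopy (g • 𝟙 K) 0) (n : ℕ) (x : PX K (n+1)) :
    g • x = ph s n (pd K n x) + pd K (n+1) (ph s (n+1) x) :=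
  htpy_rel' s (-((n+1+1 : ℕ) : ℤ)) (-((n+1 : ℕ) : ℤ)) (-(n : ℤ)) (by omega) (by omega) x

end Extract

section Tensor

variable {A B : Type u} [CommRing A] [CommRing B] [Algebra A B]
  (K : CochainComplex (ModuleCat.{u} B) ℤ) (𝔮 : Ideal B)

/-- the reduction of the term in degree `-n` -/
abbrev TX (n : ℕ) : Type u := (B ⧸ 𝔮) ⊗[B] PX K n

/-- the reduced differential, `A`-linear -/
noncomputable def td (n : ℕ) : TX K 𝔮 (n+1) →ₗ[A] TX K 𝔮 n :=
  (LinearMap.lTensor (B ⧸ 𝔮) (pd K n)).restrictScalars A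

lemma td_apply (n : ℕ) (z : TX K 𝔮 (n+1)) :
    td (A := A) K 𝔮 n z = LinearMap.lTensor (B ⧸ 𝔮) (pd K n) z := rfl

lemma td_td (n : ℕ) (z : TX K 𝔮 (n+1+1)) : td (A := A) K 𝔮 n (td (A := A) K 𝔮 (n+1) z) = 0 := by
  rw [td_apply, td_apply, ← LinearMap.comp_apply, ← LinearMap.lTensor_comp]
  have : pd K n ∘ₗ pd K (n+1) = 0 := by
    apply LinearMap.ext
    intro x
    exact pd_pd K n x
  rw [this, LinearMap.lTensor_zero, LinearMap.zero_apply]

lemma tx_flat [Module.Flat A (B ⧸ 𝔮)] (n : ℕ) [Module.Free B (PX K n)] :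
    Module.Flat A (TX K 𝔮 n) :=
  Module.Flat.trans A (B ⧸ 𝔮) (TX K 𝔮 n)

lemma tx_subsingleton (n : ℕ) [Subsingleton (PX K n)] : Subsingleton (TX K 𝔮 n) := by
  refine ⟨fun x y => ?_⟩
  obtain ⟨p, rfl⟩ := exists_one_tmul 𝔮 x
  obtain ⟨p', rfl⟩ := exists_one_tmul 𝔮 y
  rw [Subsingleton.elim p p']

lemma algebraMap_smul_tx (n : ℕ) (a : A) (z : TX K 𝔮 n) : algebraMap A B a • z = a • z :=
  algebraMap_smul B a z

end Tensor

section AR

variable {B : Type u} [CommRing B] [IsNoetherianRing B] (K : CochainComplex (ModuleCat.{u} B) ℤ)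
  (𝔍 : Ideal B)

theorem exists_AR (hfin : ∀ n, Module.Finite B (PX K n)) (t : ℕ)
    (hbdd : ∀ n, t < n → Subsingleton (PX K n)) :
    ∃ c : ℕ, ∀ n q, c ≤ q → 𝔍 ^ q • (⊤ : Submodule B (PX K n)) ⊓ LinearMap.range (pd K n) ≤
      𝔍 ^ (q - c) • LinearMap.range (pd K n) := by
  have h : ∀ n, ∃ k : ℕ, ∀ q ≥ k, 𝔍 ^ q • (⊤ : Submodule B (PX K n)) ⊓ LinearMap.range (pd K n) =
      𝔍 ^ (q - k) • (𝔍 ^ k • (⊤ : Submodule B (PX K n)) ⊓ LinearMap.range (pd K n)) := fun n => by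
    haveI := hfin n
    exact Ideal.exists_pow_inf_eq_pow_smul 𝔍 _
  choose kf hkf using h
  refine ⟨(Finset.range (t+1)).sup kf, fun n q hq => ?_⟩
  by_cases hn : n ≤ t
  · have hk : kf n ≤ (Finset.range (t+1)).sup kf :=
      Finset.le_sup (f := kf) (Finset.mem_range.2 (by omega))
    rw [hkf n q (by omega)]
    calc 𝔍 ^ (q - kf n) • (𝔍 ^ kf n • (⊤ : Submodule B (PX K n)) ⊓ LinearMap.range (pd K n))
        ≤ 𝔍 ^ (q - kf n) • LinearMap.range (pd K n) := Submodule.smul_mono le_rfl inf_le_right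
      _ ≤ 𝔍 ^ (q - (Finset.range (t+1)).sup kf) • LinearMap.range (pd K n) :=
          Submodule.smul_mono (Ideal.pow_le_pow_right (by omega)) le_rfl
  · haveI := hbdd (n+1) (by omega)
    have : LinearMap.range (pd K n) = ⊥ := by
      rw [LinearMap.range_eq_bot]
      apply LinearMap.ext
      intro x
      rw [Subsingleton.elim x 0, map_zero]
      rfl
    rw [this, inf_bot_eq]
    exact bot_le

end AR

section Main

open MvPolynomial

variable {A : Type u} [CommRing A] [IsNoetherianRing A] {σ : Type u} [Fintype σ] (v : σ → A)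

/-- the list of the `X j - C (v j)` -/
noncomputable def lst : List (MvPolynomial σ A) := (Finset.univ : Finset σ).toList.map (yy v)

lemma span_lst : Ideal.span {x | x ∈ lst v} = Ideal.span (Set.range (yy v)) := by
  rw [lst, setOf_mem_map]
  congr 1
  ext x
  simp

lemma lst_length : (lst v).length = Fintype.card σ := by
  simp [lst]

lemma mem_lst (j : σ) : yy v j ∈ lst v :=
  List.mem_map.2 ⟨j, Finset.mem_toList.2 (Finset.mem_univ j), rfl⟩

lemma isRes_lst : IsRes (Kz (lst v)) (Ideal.span (Set.range (yy v))) := by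
  rw [← span_lst]
  exact isRes_Kz _ (regOn_map v _ (Finset.nodup_toList _))

theorem exists_c : ∃ c : ℕ, ∀ (q n : ℕ) (z : TX (Kz (lst v)) ((idealOfVars σ A) ^ q) (n+1)),
    td (A := A) (Kz (lst v)) ((idealOfVars σ A) ^ q) n z = 0 →
    ∀ a ∈ (Ideal.span (Set.range v)) ^ c,
      ∃ y, td (A := A) (Kz (lst v)) ((idealOfVars σ A) ^ q) (n+1) y = a • z := by
  obtain ⟨c, hc⟩ := exists_AR (Kz (lst v)) (idealOfVars σ A) (fun n => (Kz_ff _ _).1)
    (lst v).length (fun n hn => Kz_bdd _ _ (by omega))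
  refine ⟨c, fun q n z hz a ha => ?_⟩
  have h1 : C a ∈ Ideal.span (Set.range (yy v)) ⊔ (idealOfVars σ A) ^ c :=
    (C_mem_sup_iff v a c).2 ha
  have hk : ∀ b ∈ Ideal.span (Set.range (yy v)) ⊔ (idealOfVars σ A) ^ c,
      Kill (pd (Kz (lst v)) n) (pd (Kz (lst v)) (n+1)) ((idealOfVars σ A) ^ q) b := by
    intro b hb
    obtain ⟨b₁, hb₁, b₂, hb₂, rfl⟩ := Submodule.mem_sup.1 hb
    refine Kill.add ?_ ?_
    · refine kill_of_mem_span (S := Set.range (yy v)) ?_ b₁ hb₁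
      rintro _ ⟨j, rfl⟩
      obtain ⟨s⟩ := Kz_homotopy (lst v) (yy v j) (mem_lst v j)
      exact kill_of_homotopy (yy v j) (ph s n) (ph s (n+1)) (px_htpy s n)
    · exact kill_of_artinRees (idealOfVars σ A) c (px_ex (isRes_lst v) n) (hc n) q b₂ hb₂
  obtain ⟨y, hy⟩ := hk (C a) h1 z hz
  refine ⟨y, ?_⟩
  rw [td_apply, hy]
  exact algebraMap_smul_tx (Kz (lst v)) ((idealOfVars σ A) ^ q) (n+1) a z

/-- the cokernel of the reduced complex -/
abbrev QQ (q : ℕ) : Type u :=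
  (MvPolynomial σ A ⧸ (idealOfVars σ A) ^ q) ⊗[MvPolynomial σ A]
    (MvPolynomial σ A ⧸ Ideal.span (Set.range (yy v)))

lemma smul_one_tmul_one (q : ℕ) (a : A) :
    a • ((1 : MvPolynomial σ A ⧸ (idealOfVars σ A) ^ q) ⊗ₜ[MvPolynomial σ A]
      (1 : MvPolynomial σ A ⧸ Ideal.span (Set.range (yy v)))) =
    (1 : MvPolynomial σ A ⧸ (idealOfVars σ A) ^ q) ⊗ₜ[MvPolynomial σ A]
      (Ideal.Quotient.mk (Ideal.span (Set.range (yy v))) (C a)) := by
  rw [← algebraMap_smul (MvPolynomial σ A) a, ← tmul_smul]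
  congr 1
  show algebraMap A (MvPolynomial σ A) a •
    (Submodule.Quotient.mk (1 : MvPolynomial σ A) :
      MvPolynomial σ A ⧸ Ideal.span (Set.range (yy v))) = _
  rw [← Submodule.Quotient.mk_smul, smul_eq_mul, mul_one]
  rfl

/-- the generator map -/
noncomputable def gen (q : ℕ) : A →ₗ[A] QQ v q :=
  LinearMap.toSpanSingleton A _ ((1 : MvPolynomial σ A ⧸ (idealOfVars σ A) ^ q) ⊗ₜ[MvPolynomial σ A]
      (1 : MvPolynomial σ A ⧸ Ideal.span (Set.range (yy v))))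

lemma gen_apply (q : ℕ) (a : A) : gen v q a =
    (1 : MvPolynomial σ A ⧸ (idealOfVars σ A) ^ q) ⊗ₜ[MvPolynomial σ A]
      (Ideal.Quotient.mk (Ideal.span (Set.range (yy v))) (C a)) := by
  rw [gen, LinearMap.toSpanSingleton_apply, smul_one_tmul_one]

lemma gen_surjective (q : ℕ) : Function.Surjective (gen v q) := by
  intro x
  obtain ⟨p, rfl⟩ := exists_one_tmul ((idealOfVars σ A) ^ q) x
  obtain ⟨b, rfl⟩ := Ideal.Quotient.mk_surjective p
  refine ⟨aeval v b, ?_⟩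
  rw [gen_apply]
  congr 1
  rw [eq_comm, Ideal.Quotient.eq]
  exact sub_C_mem v b

lemma ker_gen (q : ℕ) : LinearMap.ker (gen v q) = (Ideal.span (Set.range v)) ^ q := by
  ext a
  rw [LinearMap.mem_ker, gen_apply, one_tmul_eq_zero_iff, Ideal.smul_top_eq_map,
    Submodule.restrictScalars_mem, Ideal.Quotient.algebraMap_eq, Ideal.mem_quotient_iff_mem_sup,
    sup_comm, C_mem_sup_iff]

/-- the cokernel is `A ⧸ I ^ q` -/
noncomputable def qqEquiv (q : ℕ) : (A ⧸ (Ideal.span (Set.range v)) ^ q) ≃ₗ[A] QQ v q :=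
  (Submodule.quotEquivOfEq _ _ (ker_gen v q)).symm ≪≫ₗ
    LinearMap.quotKerEquivOfSurjective (gen v q) (gen_surjective v q)

theorem main : ∃ c : ℕ, ∀ (N : Type u) [AddCommGroup N] [Module A N] (j q : ℕ),
    Fintype.card σ < j → ∀ a ∈ (Ideal.span (Set.range v)) ^ c,
      KillsAt a j (A ⧸ (Ideal.span (Set.range v)) ^ q) N := by
  obtain ⟨c, hc⟩ := exists_c v
  refine ⟨c * Fintype.card σ, fun N _ _ j q hj a ha => ?_⟩
  obtain ⟨ε, hε, hker⟩ := px_aug (isRes_lst v)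
  have hfg : Function.Exact (pd (Kz (lst v)) 0) ε := fun x => hker x
  have hEx := lTensor_exact (MvPolynomial σ A ⧸ (idealOfVars σ A) ^ q) hfg hε
  have hflat : ∀ n, Module.Flat A (TX (Kz (lst v)) ((idealOfVars σ A) ^ q) n) := fun n => by
    haveI := (Kz_ff (lst v) (-(n : ℤ))).2
    exact tx_flat (Kz (lst v)) ((idealOfVars σ A) ^ q) n
  have hX : ∀ n, Fintype.card σ < n →
      Subsingleton (TX (Kz (lst v)) ((idealOfVars σ A) ^ q) n) := fun n hn => by
    haveI := Kz_bdd (lst v) (-(n : ℤ)) (by rw [lst_length]; omega)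
    exact tx_subsingleton (Kz (lst v)) ((idealOfVars σ A) ^ q) n
  have key := killsAt_coker (fun n => TX (Kz (lst v)) ((idealOfVars σ A) ^ q) n) hflat
    (fun n => td (A := A) (Kz (lst v)) ((idealOfVars σ A) ^ q) n)
    (fun n x => td_td (Kz (lst v)) ((idealOfVars σ A) ^ q) n x) (Fintype.card σ) hX
    ((Ideal.span (Set.range v)) ^ c) (fun n z hz a ha => hc q n z hz a ha) N (QQ v q)
    ((LinearMap.lTensor (MvPolynomial σ A ⧸ (idealOfVars σ A) ^ q) ε).restrictScalars A)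
    (LinearMap.lTensor_surjective _ hε) (fun x => hEx x) j hj a (by rwa [← pow_mul])
  exact key.congr N (qqEquiv v q).symm

end Main

/-- **Uniform annihilation of Tor above the number of generators.** -/
theorem tor_annihilated (A : Type u) [CommRing A] [IsNoetherianRing A] (s : Finset A) :
    ∃ c : ℕ, ∀ (M : Type u) [AddCommGroup M] [Module A M] (i q : ℕ), s.card < i →
      ∀ a ∈ (Ideal.span (s : Set A)) ^ c,
        ∀ x : T A i M (A ⧸ (Ideal.span (s : Set A)) ^ q), a • x = 0 := by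
  have hr : Set.range (Subtype.val : (↥s) → A) = (s : Set A) := by
    ext x
    simp
  obtain ⟨c, hc⟩ := main (Subtype.val : (↥s) → A)
  rw [hr] at hc
  refine ⟨c, fun M _ _ i q hi a ha x => ?_⟩
  exact smul_eq_zero_of_killsAt_symm (hc M i q (by rwa [Fintype.card_coe]) a ha) x

end Groth.Agent.Lib.Helper32.TorUniform
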