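import Mathlib
import Groth.Statements.S19244

set_option autoImplicit false
universe u v u' v'
open CategoryTheory CategoryTheory.Limits

namespace Groth.Agent.Lib.Helper32.TorsLoc

variable {A : Type u} [Category.{v} A] [Abelian A]

lemma zsmul_id_comp {X Y : A} (n : ℤ) (f : X ⟶ Y) : (n • 𝟙 X) ≫ f = n • f := by
  rw [Preadditive.zsmul_comp, Category.id_comp]

lemma comp_zsmul_id {X Y : A} (n : ℤ) (f : X ⟶ Y) : f ≫ (n • 𝟙 Y) = n • f := by
  rw [Preadditive.comp_zsmul, Category.comp_id]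

/-- a morphism with torsion kernel and cokernel has a quasi-inverse. -/
theorem exists_quasi_inverse {X Y : A} (s : X ⟶ Y) (m n : ℤ) (hm : m • 𝟙 (kernel s) = 0)
    (hn : n • 𝟙 (cokernel s) = 0) : ∃ t : Y ⟶ X, s ≫ t = (n * m) • 𝟙 X := by
  -- u : Y ⟶ image
  have h1 : (n • 𝟙 Y) ≫ cokernel.π s = 0 := by
    rw [zsmul_id_comp, ← comp_zsmul_id, hn, comp_zero]
  let u : Y ⟶ Abelian.image s := kernel.lift (cokernel.π s) (n • 𝟙 Y) h1
  have hu : u ≫ Abelian.image.ι s = n • 𝟙 Y := kernel.lift_ι _ _ _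
  -- w : image ⟶ X
  have h2 : kernel.ι s ≫ (m • 𝟙 X) = 0 := by
    rw [comp_zsmul_id, ← zsmul_id_comp, hm, zero_comp]
  let w₀ : Abelian.coimage s ⟶ X := cokernel.desc (kernel.ι s) (m • 𝟙 X) h2
  have hw₀ : Abelian.coimage.π s ≫ w₀ = m • 𝟙 X := cokernel.π_desc _ _ _
  let w : Abelian.image s ⟶ X := (Abelian.coimageIsoImage s).inv ≫ w₀
  have hfac : Abelian.coimage.π s ≫ (Abelian.coimageIsoImage s).hom = Abelian.factorThruImage s := by
    rw [← cancel_mono (Abelian.image.ι s), Category.assoc]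
    have := Abelian.coimage_image_factorisation s
    rw [Abelian.image.fac]
    exact this
  have hw : Abelian.factorThruImage s ≫ w = m • 𝟙 X := by
    rw [← hfac]
    simp only [w, Category.assoc, Iso.hom_inv_id_assoc]
    exact hw₀
  have hsu : s ≫ u = n • Abelian.factorThruImage s := by
    rw [← cancel_mono (Abelian.image.ι s), Category.assoc, hu, comp_zsmul_id,
      Preadditive.zsmul_comp, Abelian.image.fac]
  refine ⟨u ≫ w, ?_⟩
  rw [← Category.assoc, hsu, Preadditive.zsmul_comp, hw, mul_smul]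

variable {D : Type u'} [Category.{v'} D] [Preadditive D]
  (P : ObjectProperty A) (hP : ∀ X : A, P X ↔ ∃ n : ℤ, n ≠ 0 ∧ n • (𝟙 X) = 0) [P.IsSerreClass]
  (L : A ⥤ D) [L.Additive] [L.IsLocalization P.isoModSerre]

include hP in
lemma zsmul_id_mem (X : A) (n : ℤ) (hn : n ≠ 0) : P.isoModSerre (n • 𝟙 X) := by
  rw [ObjectProperty.isoModSerre_iff]
  constructor
  · rw [ObjectProperty.monoModSerre_iff, hP]
    refine ⟨n, hn, ?_⟩
    have h0 : kernel.ι (n • 𝟙 X) ≫ (n • 𝟙 X) = 0 := kernel.condition (n • 𝟙 X)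
    rw [← cancel_mono (kernel.ι (n • 𝟙 X)), zero_comp, zsmul_id_comp]
    rw [comp_zsmul_id] at h0
    exact h0
  · rw [ObjectProperty.epiModSerre_iff, hP]
    refine ⟨n, hn, ?_⟩
    have h0 : (n • 𝟙 X) ≫ cokernel.π (n • 𝟙 X) = 0 := cokernel.condition (n • 𝟙 X)
    rw [← cancel_epi (cokernel.π (n • 𝟙 X)), comp_zero, comp_zsmul_id]
    rw [zsmul_id_comp] at h0
    exact h0

include hP in
lemma isIso_zsmul (X : A) (n : ℤ) (hn : n ≠ 0) : IsIso (n • 𝟙 (L.obj X)) := by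
  have := Localization.inverts L P.isoModSerre _ (zsmul_id_mem P hP X n hn)
  rwa [L.map_zsmul, L.map_id] at this

include hP in
theorem main (X Y : A) :
    (∀ n : ℤ, n ≠ 0 → Function.Bijective (fun g : L.obj X ⟶ L.obj Y => n • g)) ∧
    (∀ f : X ⟶ Y, L.map f = 0 ↔ ∃ n : ℤ, n ≠ 0 ∧ n • f = 0) ∧
    (∀ g : L.obj X ⟶ L.obj Y, ∃ (n : ℤ) (f : X ⟶ Y), n ≠ 0 ∧ n • g = L.map f) := by
  have hbij : ∀ n : ℤ, n ≠ 0 → Function.Bijective (fun g : L.obj X ⟶ L.obj Y => n • g) := by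
    intro n hn
    have := isIso_zsmul P hP L Y n hn
    have e : (fun g : L.obj X ⟶ L.obj Y => n • g) = fun g => g ≫ (n • 𝟙 (L.obj Y)) := by
      funext g
      rw [Preadditive.comp_zsmul, Category.comp_id]
    rw [e]
    constructor
    · intro g g' h
      exact (cancel_mono (n • 𝟙 (L.obj Y))).1 h
    · intro g
      exact ⟨g ≫ inv (n • 𝟙 (L.obj Y)), by
        show (g ≫ inv (n • 𝟙 (L.obj Y))) ≫ (n • 𝟙 (L.obj Y)) = g
        rw [Category.assoc, IsIso.inv_hom_id, Category.comp_id]⟩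
  refine ⟨hbij, ?_, ?_⟩
  · intro f
    rw [ObjectProperty.SerreClassLocalization.map_eq_zero_iff L P, hP]
    constructor
    · rintro ⟨n, hn, h⟩
      refine ⟨n, hn, ?_⟩
      have h1 : n • f = Abelian.factorThruImage f ≫ (n • 𝟙 (Abelian.image f)) ≫ Abelian.image.ι f := by
        rw [zsmul_id_comp, Preadditive.comp_zsmul, Abelian.image.fac]
      rw [h1, h, zero_comp, comp_zero]
    · rintro ⟨n, hn, h⟩
      refine ⟨n, hn, ?_⟩
      rw [← cancel_mono (Abelian.image.ι f), ← cancel_epi (Abelian.factorThruImage f), zero_comp,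
        comp_zero, zsmul_id_comp, Preadditive.comp_zsmul, Abelian.image.fac, h]
  · intro g
    obtain ⟨φ, rfl⟩ := Localization.exists_leftFraction L P.isoModSerre g
    obtain ⟨hk, hc⟩ := (ObjectProperty.isoModSerre_iff P φ.s).1 φ.hs
    rw [ObjectProperty.monoModSerre_iff, hP] at hk
    rw [ObjectProperty.epiModSerre_iff, hP] at hc
    obtain ⟨m, hm0, hm⟩ := hk
    obtain ⟨n, hn0, hn⟩ := hc
    obtain ⟨t, ht⟩ := exists_quasi_inverse φ.s m n hm hn
    refine ⟨n * m, φ.f ≫ t, mul_ne_zero hn0 hm0, ?_⟩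
    have : IsIso (L.map φ.s) := Localization.inverts L P.isoModSerre _ φ.hs
    have h1 : L.map φ.s ≫ L.map t = (n * m) • 𝟙 _ := by
      rw [← L.map_comp, ht, L.map_zsmul, L.map_id]
    have h2 : inv (L.map φ.s) ≫ ((n * m) • 𝟙 _) = L.map t := by
      rw [← h1, IsIso.inv_hom_id_assoc]
    show (n * m) • (L.map φ.f ≫ inv (L.map φ.s)) = _
    rw [L.map_comp, ← h2, Preadditive.comp_zsmul, Preadditive.comp_zsmul, Category.comp_id]

end Groth.Agent.Lib.Helper32.TorsLoc
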