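import Mathlib
import Groth.Prelude.Def_Formal

set_option autoImplicit false
universe u

namespace Groth.Agent.Lib.Helper32.TorsSys

open CategoryTheory CategoryTheory.Limits AlgebraicGeometry Opposite Formal

variable {A : Type u} [CommRing A] {X : Scheme.{u}} [X.Over (Spec (CommRingCat.of A))]

lemma smulModΓ_naturality {P Q : X.Modules} (f : P ⟶ Q) (r : Coh.Γtop X) :
    smulModΓ P r ≫ f = f ≫ smulModΓ Q r := by
  apply SheafOfModules.hom_ext
  apply PresheafOfModules.hom_ext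
  intro U
  ext m
  change f.val.app U (Coh.resTop X U r • m) = Coh.resTop X U r • f.val.app U m
  exact map_smul (f.val.app U).hom _ _

lemma smulMod_naturality {P Q : X.Modules} (f : P ⟶ Q) (a : A) :
    smulMod A P a ≫ f = f ≫ smulMod A Q a :=
  smulModΓ_naturality f _


/-- `f : P ⟶ Q` exhibits `Q` as `P/JP`. -/
def IsQuot (J : Ideal A) {P Q : X.Modules} (f : P ⟶ Q) : Prop :=
  Epi f ∧ (∀ a ∈ J, smulMod A P a ≫ f = 0) ∧
    ∀ (T : X.Modules) (k : P ⟶ T), (∀ a ∈ J, smulMod A P a ≫ k = 0) → ∃ k' : Q ⟶ T, f ≫ k' = k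

lemma smulFamily_comp_eq_zero_iff (J : Ideal A) {P T : X.Modules} (k : P ⟶ T) :
    smulFamily J P ≫ k = 0 ↔ ∀ a ∈ J, smulMod A P a ≫ k = 0 := by
  constructor
  · intro h a ha
    have := congr_arg (fun t => Sigma.ι (fun _ : J => P) ⟨a, ha⟩ ≫ t) h
    simpa [smulFamily] using this
  · intro h
    apply Sigma.hom_ext
    intro a
    rw [comp_zero, ← Category.assoc]
    simp only [smulFamily, colimit.ι_desc, Cofan.mk_ι_app]
    exact h a a.2

lemma isQuot_of_isIso (J : Ideal A) {P Q : X.Modules} (f : P ⟶ Q)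
    (h : smulFamily J P ≫ f = 0) (hiso : IsIso (cokernel.desc _ f h)) : IsQuot J f := by
  have hf : f = cokernel.π (smulFamily J P) ≫ cokernel.desc _ f h := (cokernel.π_desc _ _ _).symm
  refine ⟨?_, (smulFamily_comp_eq_zero_iff J f).1 h, ?_⟩
  · rw [hf]; infer_instance
  · intro T k hk
    have hk' := (smulFamily_comp_eq_zero_iff J k).2 hk
    refine ⟨inv (cokernel.desc _ f h) ≫ cokernel.desc _ k hk', ?_⟩
    have h1 : f ≫ inv (cokernel.desc _ f h) = cokernel.π (smulFamily J P) := by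
      rw [IsIso.comp_inv_eq, cokernel.π_desc]
    rw [reassoc_of% h1, cokernel.π_desc]

lemma IsQuot.exists_isIso {J : Ideal A} {P Q : X.Modules} {f : P ⟶ Q} (hf : IsQuot J f) :
    ∃ h : smulFamily J P ≫ f = 0, IsIso (cokernel.desc _ f h) := by
  obtain ⟨h1, h2, h3⟩ := hf
  have h := (smulFamily_comp_eq_zero_iff J f).2 h2
  refine ⟨h, ?_⟩
  obtain ⟨k', hk'⟩ := h3 _ (cokernel.π (smulFamily J P))
    ((smulFamily_comp_eq_zero_iff J _).1 (cokernel.condition _))
  refine ⟨k', ?_, ?_⟩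
  · rw [← cancel_epi (cokernel.π (smulFamily J P)), cokernel.π_desc_assoc, hk', Category.comp_id]
  · rw [← cancel_epi f, reassoc_of% hk', cokernel.π_desc, Category.comp_id]

lemma IsQuot.comp {J' J : Ideal A} (hJ : J' ≤ J) {P Q S : X.Modules} {f : P ⟶ Q} {g : Q ⟶ S}
    (hf : IsQuot J' f) (hg : IsQuot J g) : IsQuot J (f ≫ g) := by
  obtain ⟨f1, f2, f3⟩ := hf
  obtain ⟨g1, g2, g3⟩ := hg
  refine ⟨epi_comp f g, ?_, ?_⟩
  · intro a ha
    rw [← Category.assoc, smulMod_naturality, Category.assoc, g2 a ha, comp_zero]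
  · intro T k hk
    obtain ⟨k₁, hk₁⟩ := f3 T k (fun a ha => hk a (hJ ha))
    obtain ⟨k₂, hk₂⟩ := g3 T k₁ (by
      intro a ha
      rw [← cancel_epi f, comp_zero, ← Category.assoc, ← smulMod_naturality, Category.assoc, hk₁]
      exact hk a ha)
    exact ⟨k₂, by rw [Category.assoc, hk₂, hk₁]⟩

lemma IsQuot.of_iso_comp {J : Ideal A} {P' P Q : X.Modules} (e : P' ⟶ P) [IsIso e] {f : P ⟶ Q}
    (hf : IsQuot J f) : IsQuot J (e ≫ f) := by
  obtain ⟨f1, f2, f3⟩ := hf
  refine ⟨epi_comp e f, ?_, ?_⟩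
  · intro a ha
    rw [← Category.assoc, smulMod_naturality, Category.assoc, f2 a ha, comp_zero]
  · intro T k hk
    obtain ⟨k', hk'⟩ := f3 T (inv e ≫ k) (by
      intro a ha
      rw [← Category.assoc, smulMod_naturality, Category.assoc, hk a ha, comp_zero])
    exact ⟨k', by rw [Category.assoc, hk', IsIso.hom_inv_id_assoc]⟩

lemma isQuot_id {J : Ideal A} {P : X.Modules} (h : KilledBy J P) : IsQuot J (𝟙 P) := by
  refine ⟨inferInstance, ?_, ?_⟩
  · intro a ha; rw [h a ha, zero_comp]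
  · intro T k _; exact ⟨k, Category.id_comp k⟩

lemma IsQuot.isIso_of_killedBy {J : Ideal A} {P Q : X.Modules} {f : P ⟶ Q} (hf : IsQuot J f)
    (h : KilledBy J P) : IsIso f := by
  obtain ⟨f1, f2, f3⟩ := hf
  obtain ⟨k', hk'⟩ := f3 P (𝟙 P) (by intro a ha; rw [h a ha, zero_comp])
  have : IsSplitMono f := ⟨⟨k', hk'⟩⟩
  exact isIso_of_epi_of_isSplitMono f

lemma KilledBy.mono {J' J : Ideal A} (hJ : J' ≤ J) {P : X.Modules} (h : KilledBy J P) :
    KilledBy J' P := fun a ha => h a (hJ ha)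

instance epi_modPowπ (I : Ideal A) (n : ℕ) (M : X.Modules) : Epi (modPowπ I n M) := by
  unfold modPowπ; exact coequalizer.π_epi

@[reassoc]
lemma modPowπ_trans' (I : Ideal A) (n : ℕ) (M : X.Modules) :
    modPowπ I (n + 1) M ≫ modPowTrans I n M = modPowπ I n M := modPowπ_trans I n M

section Main

variable (I : Ideal A) (F : ℕᵒᵖ ⥤ X.Modules) (hF : Formal.IsCohFormal I F)

include hF in
lemma isQuot_map {n m : ℕ} (h : n ≤ m) : IsQuot (I ^ (n + 1)) (F.map (homOfLE h).op) := by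
  induction m, h using Nat.le_induction with
  | base =>
    have : (homOfLE (le_refl n)).op = 𝟙 (op n) := rfl
    rw [this, F.map_id]
    exact isQuot_id (hF.2.1 n)
  | succ m h ih =>
    have : (homOfLE (h.trans (Nat.le_succ m))).op = (homOfLE (Nat.le_succ m)).op ≫ (homOfLE h).op := rfl
    rw [this, F.map_comp]
    obtain ⟨h0, hiso⟩ := hF.2.2 m
    exact IsQuot.comp (Ideal.pow_le_pow_right (by omega)) (isQuot_of_isIso _ _ h0 hiso) ih


include hF in
theorem main (hc : ∃ c : ℕ, ∀ n : ℕ, KilledBy (I ^ c) (F.obj (op n))) :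
    ∃ M : X.Modules, Coh.IsCoh M ∧ Nonempty (Formal.completion I M ≅ F) := by
  obtain ⟨c, hc⟩ := hc
  have hiso : ∀ m (h : c ≤ m), IsIso (F.map (homOfLE h).op) := fun m h =>
    (isQuot_map I F hF h).isIso_of_killedBy (KilledBy.mono (Ideal.pow_le_pow_right (by omega)) (hc m))
  let M := F.obj (op c)
  let ψ : ∀ n, M ⟶ F.obj (op n) := fun n =>
    have := hiso (max n c) (le_max_right _ _)
    inv (F.map (homOfLE (le_max_right n c)).op) ≫ F.map (homOfLE (le_max_left n c)).op
  have hψ : ∀ n, IsQuot (I ^ (n+1)) (ψ n) := fun n => by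
    have := hiso (max n c) (le_max_right _ _)
    exact IsQuot.of_iso_comp _ (isQuot_map I F hF (le_max_left n c))
  have hψ_succ : ∀ n, ψ (n+1) ≫ F.map (homOfLE (n.le_add_right 1)).op = ψ n := by
    intro n
    have := hiso (max n c) (le_max_right _ _)
    have := hiso (max (n+1) c) (le_max_right _ _)
    dsimp only [ψ]
    rw [Category.assoc, IsIso.inv_comp_eq]
    have hmm : max n c ≤ max (n+1) c := max_le_max (Nat.le_succ n) le_rfl
    have e1 : F.map (homOfLE (le_max_right (n+1) c)).op =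
        F.map (homOfLE hmm).op ≫ F.map (homOfLE (le_max_right n c)).op := by
      rw [← F.map_comp]; rfl
    rw [e1, Category.assoc, IsIso.hom_inv_id_assoc, ← F.map_comp, ← F.map_comp]
    rfl
  let app : ∀ n : ℕ, modPow I (n+1) M ⟶ F.obj ⟨n⟩ := fun n =>
    cokernel.desc (smulFamily (I ^ (n+1)) M) (ψ n) (hψ n).exists_isIso.choose
  have happ : ∀ n, modPowπ I (n+1) M ≫ app n = ψ n := fun n => cokernel.π_desc _ _ _
  have happ_iso : ∀ n, IsIso (app n) := fun n => (hψ n).exists_isIso.choose_spec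
  have nat : ∀ n, modPowTrans I (n+1) M ≫ app n = app (n+1) ≫ F.map (homOfLE (n.le_add_right 1)).op := by
    intro n
    rw [← cancel_epi (modPowπ I (n+1+1) M), modPowπ_trans'_assoc, happ, reassoc_of% (happ (n+1)),
      hψ_succ]
  let φ : Formal.completion I M ⟶ F := NatTrans.ofOpSequence (F := Formal.completion I M) (G := F) app (by
    intro n
    have e : (Formal.completion I M).map (homOfLE (n.le_add_right 1)).op = modPowTrans I (n+1) M :=
      Functor.ofOpSequence_map_homOfLE_succ _ n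
    exact (congrArg (fun t => t ≫ app n) e).trans (nat n))
  have : IsIso φ := by
    have : ∀ k : ℕᵒᵖ, IsIso (φ.app k) := fun k => happ_iso k.unop
    exact NatIso.isIso_of_isIso_app φ
  exact ⟨M, hF.1 c, ⟨asIso φ⟩⟩

end Main

end Groth.Agent.Lib.Helper32.TorsSys
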