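import Mathlib
/-!
# Transfinite inverse limits of acyclic complexes of abelian groups are acyclic

Elementwise transfinite recursion (`onestep`, `step`, `sol`, `acyc_of_lt`, `acyc_univ`) and the
translation to `(limit K).ExactAt n` (`pr`, `pr_ext`, `pr_glue`, `main` = S0992).
-/

set_option autoImplicit false
set_option linter.unusedSectionVars false
universe w
open CategoryTheory CategoryTheory.Limits Opposite

namespace Groth.Agent.Lib.Helper32.TransLim

variable {I : Type w} [LinearOrder I] [WellFoundedLT I]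
  (K : Iᵒᵖ ⥤ CochainComplex AddCommGrpCat.{w} ℤ)

/-- restriction maps -/
def res {γ γ' : I} (h : γ ≤ γ') (n : ℤ) : (K.obj (op γ')).X n →+ (K.obj (op γ)).X n :=
  ((K.map (homOfLE h).op).f n).hom

/-- differential -/
def dd (γ : I) (m n : ℤ) : (K.obj (op γ)).X m →+ (K.obj (op γ)).X n :=
  ((K.obj (op γ)).d m n).hom

lemma res_refl (γ : I) (n : ℤ) (x : (K.obj (op γ)).X n) : res K (le_refl γ) n x = x := by
  have : (homOfLE (le_refl γ)).op = 𝟙 (op γ) := rfl
  simp [res, this]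

lemma res_res {a b c : I} (h1 : a ≤ b) (h2 : b ≤ c) (n : ℤ) (x : (K.obj (op c)).X n) :
    res K h1 n (res K h2 n x) = res K (h1.trans h2) n x := by
  have : (homOfLE (h1.trans h2)).op = (homOfLE h2).op ≫ (homOfLE h1).op := rfl
  simp [res, this]

lemma res_dd {a b : I} (h : a ≤ b) (m n : ℤ) (x : (K.obj (op b)).X m) :
    dd K a m n (res K h m x) = res K h n (dd K b m n x) := by
  have := (K.map (homOfLE h).op).comm m n
  have h2 := congr_arg (fun f => f.hom x) this
  simp only [AddCommGrpCat.hom_comp, AddMonoidHom.comp_apply] at h2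
  exact h2

lemma dd_dd (γ : I) (l m n : ℤ) (x : (K.obj (op γ)).X l) : dd K γ m n (dd K γ l m x) = 0 := by
  have := (K.obj (op γ)).d_comp_d l m n
  have h2 := congr_arg (fun f => f.hom x) this
  simp only [AddCommGrpCat.hom_comp, AddMonoidHom.comp_apply] at h2
  exact h2

/-- compatibility of a total family on a set `S` -/
def Compat (S : Set I) (n : ℤ) (x : ∀ γ : I, (K.obj (op γ)).X n) : Prop :=
  ∀ (γ γ' : I) (h : γ ≤ γ'), γ' ∈ S → res K h n (x γ') = x γ

/-- acyclicity of the limit over `S`, elementwise -/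
def Acyc (S : Set I) : Prop :=
  ∀ (m n : ℤ) (_ : m + 1 = n) (z : ∀ γ : I, (K.obj (op γ)).X n), Compat K S n z →
    (∀ γ ∈ S, dd K γ n (n + 1) (z γ) = 0) →
    ∃ y : ∀ γ : I, (K.obj (op γ)).X m, Compat K S m y ∧ ∀ γ ∈ S, dd K γ m n (y γ) = z γ

section
variable (hac : ∀ (β : I) (m n : ℤ), m + 1 = n → ∀ x : (K.obj (op β)).X n,
    dd K β n (n + 1) x = 0 → ∃ w : (K.obj (op β)).X m, dd K β m n w = x)
variable (hsurj : ∀ (β : I) (n : ℤ) (x : ∀ γ : I, (K.obj (op γ)).X n),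
    Compat K {γ | γ < β} n x → ∃ y : (K.obj (op β)).X n, ∀ γ (h : γ < β), res K h.le n y = x γ)
include hac hsurj

lemma onestep (γ : I) (hγ : Acyc K {δ | δ < γ}) (m n : ℤ) (hmn : m + 1 = n)
    (zγ : (K.obj (op γ)).X n) (hz : dd K γ n (n + 1) zγ = 0)
    (y : ∀ δ : I, (K.obj (op δ)).X m) (hy : Compat K {δ | δ < γ} m y)
    (hyz : ∀ δ (h : δ < γ), dd K δ m n (y δ) = res K h.le n zγ) :
    ∃ v : (K.obj (op γ)).X m, (∀ δ (h : δ < γ), res K h.le m v = y δ) ∧ dd K γ m n v = zγ := by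
  subst hmn
  obtain ⟨y', hy'⟩ := hsurj γ m y hy
  obtain ⟨c, hcdef⟩ : ∃ c, c = zγ - dd K γ m (m + 1) y' := ⟨_, rfl⟩
  have hc : dd K γ (m + 1) (m + 1 + 1) c = 0 := by rw [hcdef, map_sub, hz, dd_dd, sub_zero]
  have hc0 : ∀ δ (h : δ < γ), res K h.le (m + 1) c = 0 := by
    intro δ h
    rw [hcdef, map_sub, ← res_dd, hy' δ h, hyz δ h, sub_self]
  obtain ⟨w₀, hw₀⟩ := hac γ m (m + 1) rfl c hc
  let wbar : ∀ δ : I, (K.obj (op δ)).X m := fun δ => if h : δ < γ then res K h.le m w₀ else 0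
  have hwbar : ∀ δ (h : δ < γ), wbar δ = res K h.le m w₀ := fun δ h => dif_pos h
  have hwc : Compat K {δ | δ < γ} m wbar := by
    intro δ δ' h hδ'
    rw [hwbar δ' hδ', hwbar δ (lt_of_le_of_lt h hδ'), res_res]
  have hwz : ∀ δ ∈ {δ | δ < γ}, dd K δ m (m + 1) (wbar δ) = 0 := by
    intro δ hδ
    rw [hwbar δ hδ, res_dd, hw₀, hc0 δ hδ]
  obtain ⟨vbar, hvc, hvd⟩ := hγ (m - 1) m (by omega) wbar hwc hwz
  obtain ⟨v, hv⟩ := hsurj γ (m - 1) vbar hvc
  refine ⟨y' + (w₀ - dd K γ (m - 1) m v), ?_, ?_⟩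
  · intro δ h
    rw [map_add, map_sub, hy' δ h, ← res_dd, hv δ h, hvd δ h, hwbar δ h, sub_self, add_zero]
  · rw [map_add, map_sub, dd_dd, sub_zero, hw₀, hcdef]
    abel

open Classical in
/-- one step of the transfinite recursion -/
noncomputable def step (S : Set I) (hS : ∀ γ ∈ S, Acyc K {δ | δ < γ}) (m n : ℤ) (hmn : m + 1 = n)
    (z : ∀ γ : I, (K.obj (op γ)).X n) (γ : I) (y : ∀ δ : I, (K.obj (op δ)).X m) :
    (K.obj (op γ)).X m :=
  if h : γ ∈ S ∧ dd K γ n (n + 1) (z γ) = 0 ∧ Compat K {δ | δ < γ} m y ∧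
      ∀ δ (h : δ < γ), dd K δ m n (y δ) = res K h.le n (z γ)
  then Classical.choose (onestep K hac hsurj γ (hS γ h.1) m n hmn (z γ) h.2.1 y h.2.2.1 h.2.2.2)
  else 0

open Classical in
/-- the solution built by transfinite recursion -/
noncomputable def sol (S : Set I) (hS : ∀ γ ∈ S, Acyc K {δ | δ < γ}) (m n : ℤ) (hmn : m + 1 = n)
    (z : ∀ γ : I, (K.obj (op γ)).X n) : ∀ γ : I, (K.obj (op γ)).X m :=
  WellFounded.fix (wellFounded_lt (α := I)) (fun γ prev =>
    step K hac hsurj S hS m n hmn z γ (fun δ => if h : δ < γ then prev δ h else 0))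

open Classical in
lemma sol_eq (S : Set I) (hS : ∀ γ ∈ S, Acyc K {δ | δ < γ}) (m n : ℤ) (hmn : m + 1 = n)
    (z : ∀ γ : I, (K.obj (op γ)).X n) (γ : I) :
    sol K hac hsurj S hS m n hmn z γ = step K hac hsurj S hS m n hmn z γ
      (fun δ => if _ : δ < γ then sol K hac hsurj S hS m n hmn z δ else 0) :=
  WellFounded.fix_eq _ _ γ

theorem acyc_of_lt (S : Set I) (hdown : ∀ γ ∈ S, ∀ δ ≤ γ, δ ∈ S)
    (hS : ∀ γ ∈ S, Acyc K {δ | δ < γ}) : Acyc K S := by
  classical
  intro m n hmn z hzc hzd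
  have hY := sol_eq K hac hsurj S hS m n hmn z
  generalize sol K hac hsurj S hS m n hmn z = Y at hY
  have key : ∀ γ, γ ∈ S →
      (∀ δ (h : δ < γ), res K h.le m (Y γ) = Y δ) ∧ dd K γ m n (Y γ) = z γ := by
    intro γ
    induction γ using WellFoundedLT.induction with
    | ind γ ih =>
    intro hγS
    obtain ⟨T, hTdef⟩ : ∃ T : ∀ δ : I, (K.obj (op δ)).X m,
        T = fun δ => if _ : δ < γ then Y δ else 0 := ⟨_, rfl⟩
    have hT : ∀ δ (h : δ < γ), T δ = Y δ := fun δ h => by rw [hTdef]; exact dif_pos h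
    have c1 : Compat K {δ | δ < γ} m T := by
      intro δ δ' h hδ'
      rw [hT δ' hδ', hT δ (lt_of_le_of_lt h hδ')]
      rcases h.lt_or_eq with h' | rfl
      · exact (ih δ' hδ' (hdown γ hγS δ' hδ'.le)).1 δ h'
      · exact res_refl K _ _ _
    have c2 : ∀ δ (h : δ < γ), dd K δ m n (T δ) = res K h.le n (z γ) := by
      intro δ h
      rw [hT δ h, (ih δ h (hdown γ hγS δ h.le)).2, hzc δ γ h.le hγS]
    have hcond : γ ∈ S ∧ dd K γ n (n + 1) (z γ) = 0 ∧ Compat K {δ | δ < γ} m T ∧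
        ∀ δ (h : δ < γ), dd K δ m n (T δ) = res K h.le n (z γ) := ⟨hγS, hzd γ hγS, c1, c2⟩
    have hspec := Classical.choose_spec
      (onestep K hac hsurj γ (hS γ hγS) m n hmn (z γ) hcond.2.1 T c1 c2)
    have hYγ : Y γ = Classical.choose
        (onestep K hac hsurj γ (hS γ hγS) m n hmn (z γ) hcond.2.1 T c1 c2) := by
      rw [hY γ, ← hTdef]
      unfold step
      rw [dif_pos hcond]
    rw [hYγ]
    exact ⟨fun δ h => by rw [hspec.1 δ h, hT δ h], hspec.2⟩
  refine ⟨Y, ?_, fun γ hγ => (key γ hγ).2⟩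
  intro δ δ' h hδ'
  rcases h.lt_or_eq with h' | rfl
  · exact (key δ' hδ').1 δ h'
  · exact res_refl K _ _ _

theorem acyc_lt (β : I) : Acyc K {δ | δ < β} := by
  induction β using WellFoundedLT.induction with
  | ind β ih =>
  exact acyc_of_lt K hac hsurj _ (fun γ hγ δ hδ => lt_of_le_of_lt hδ hγ) (fun γ hγ => ih γ hγ)

theorem acyc_univ : Acyc K Set.univ :=
  acyc_of_lt K hac hsurj Set.univ (fun _ _ _ _ => trivial) (fun γ _ => acyc_lt K hac hsurj γ)

end

section Final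

/-- projection from the limit complex -/
noncomputable def pr (γ : I) (n : ℤ) : (limit K).X n →+ (K.obj (op γ)).X n :=
  ((limit.π K (op γ)).f n).hom

lemma res_pr {γ γ' : I} (h : γ ≤ γ') (n : ℤ) (x : (limit K).X n) :
    res K h n (pr K γ' n x) = pr K γ n x := by
  have := limit.w K (homOfLE h).op
  have h1 := congr_arg (fun f => (f.f n).hom x) this
  simp only [HomologicalComplex.comp_f, AddCommGrpCat.hom_comp, AddMonoidHom.comp_apply] at h1
  exact h1

lemma dd_pr (γ : I) (m n : ℤ) (x : (limit K).X m) :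
    dd K γ m n (pr K γ m x) = pr K γ n (((limit K).d m n).hom x) := by
  have := (limit.π K (op γ)).comm m n
  have h2 := congr_arg (fun f => f.hom x) this
  simp only [AddCommGrpCat.hom_comp, AddMonoidHom.comp_apply] at h2
  exact h2

lemma pr_ext (n : ℤ) (x x' : (limit K).X n) (h : ∀ γ, pr K γ n x = pr K γ n x') : x = x' := by
  have hl := isLimitOfPreserves (HomologicalComplex.eval _ _ n ⋙ forget AddCommGrpCat)
    (limit.isLimit K)
  have key : ∀ (a b : ((HomologicalComplex.eval _ _ n ⋙ forget AddCommGrpCat).mapCone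
      (limit.cone K)).pt), (∀ j, ((HomologicalComplex.eval _ _ n ⋙ forget AddCommGrpCat).mapCone
      (limit.cone K)).π.app j a = ((HomologicalComplex.eval _ _ n ⋙ forget AddCommGrpCat).mapCone
      (limit.cone K)).π.app j b) → a = b := by
    intro a b hab
    apply (Types.isLimitEquivSections hl).injective
    ext j
    rw [Types.isLimitEquivSections_apply, Types.isLimitEquivSections_apply]
    exact hab j
  exact key x x' (fun j => h j.unop)

lemma pr_glue (n : ℤ) (y : ∀ γ : I, (K.obj (op γ)).X n) (hy : Compat K Set.univ n y) :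
    ∃ x : (limit K).X n, ∀ γ, pr K γ n x = y γ := by
  have hl := isLimitOfPreserves (HomologicalComplex.eval _ _ n ⋙ forget AddCommGrpCat)
    (limit.isLimit K)
  let s : (K ⋙ HomologicalComplex.eval _ _ n ⋙ forget AddCommGrpCat).sections :=
    ⟨fun j => y j.unop, by
      intro j j' f
      exact hy j'.unop j.unop (leOfHom f.unop) trivial⟩
  refine ⟨(Types.isLimitEquivSections hl).symm s, fun γ => ?_⟩
  exact Types.isLimitEquivSections_symm_apply hl s (op γ)

theorem main (hac : ∀ (β : I) (n : ℤ), (K.obj (op β)).ExactAt n)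
    (hsurj : ∀ (β : I) (n : ℤ) (x : ∀ γ : {γ : I // γ < β}, (K.obj (op γ.1)).X n),
      (∀ (γ γ' : {γ : I // γ < β}) (h : γ.1 ≤ γ'.1),
        ((K.map (homOfLE h).op).f n).hom (x γ') = x γ) →
      ∃ y : (K.obj (op β)).X n, ∀ γ : {γ : I // γ < β},
        ((K.map (homOfLE γ.2.le).op).f n).hom y = x γ)
    (n : ℤ) : (limit K).ExactAt n := by
  have hac' : ∀ (β : I) (m n : ℤ), m + 1 = n → ∀ x : (K.obj (op β)).X n,
      dd K β n (n + 1) x = 0 → ∃ w : (K.obj (op β)).X m, dd K β m n w = x := by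
    intro β m n hmn x hx
    have h1 := (HomologicalComplex.exactAt_iff' _ m n (n + 1) (by simp; omega) (by simp)).1
      (hac β n)
    rw [ShortComplex.ab_exact_iff] at h1
    exact h1 x hx
  have hsurj' : ∀ (β : I) (n : ℤ) (x : ∀ γ : I, (K.obj (op γ)).X n),
      Compat K {γ | γ < β} n x →
      ∃ y : (K.obj (op β)).X n, ∀ γ (h : γ < β), res K h.le n y = x γ := by
    intro β n x hx
    obtain ⟨y, hy⟩ := hsurj β n (fun γ => x γ.1) (fun γ γ' h => hx γ.1 γ'.1 h γ'.2)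
    exact ⟨y, fun γ h => hy ⟨γ, h⟩⟩
  have hU := acyc_univ K hac' hsurj'
  rw [HomologicalComplex.exactAt_iff' _ (n - 1) n (n + 1) (by simp) (by simp),
    ShortComplex.ab_exact_iff]
  suffices hh : ∀ x₂ : (limit K).X n, ((limit K).d n (n + 1)).hom x₂ = 0 →
      ∃ x₁ : (limit K).X (n - 1), ((limit K).d (n - 1) n).hom x₁ = x₂ from
    fun x₂ hx₂ => hh x₂ hx₂
  intro x₂ hx₂'
  obtain ⟨y, hyc, hyd⟩ := hU (n - 1) n (by omega) (fun γ => pr K γ n x₂)
    (fun γ γ' h _ => res_pr K h n x₂)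
    (fun γ _ => by rw [dd_pr, hx₂', map_zero])
  obtain ⟨x₁, hx₁⟩ := pr_glue K (n - 1) y hyc
  refine ⟨x₁, ?_⟩
  apply pr_ext K n
  intro γ
  rw [← dd_pr, hx₁, hyd γ trivial]

end Final

end Groth.Agent.Lib.Helper32.TransLim
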