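import Mathlib
import Groth.Prelude.Def_W4c5modbuncurvesppStab
import Groth.Agent.Lib.Helper72.GraphTreeA

set_option autoImplicit false
universe u
open PhiStab LabGraph Finset
open Groth.Agent.Lib.Helper72.GraphCyc

namespace Groth.Agent.Lib.Helper32.TreeSide

variable {V E : Type u} [Fintype V] [Fintype E] [DecidableEq V] [DecidableEq E]

lemma adj_span_iff (ends : E → V × V) (T : Finset E) (v w : V) :
    LabGraph.Adj (spanEnds ends T) v w ↔ AdjIn ends T v w := by
  constructor
  · rintro ⟨⟨e, he⟩, h⟩
    exact ⟨e, he, h⟩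
  · rintro ⟨e, he, h⟩
    exact ⟨⟨e, he⟩, h⟩

lemma mem_side_iff (ends : E → V × V) (e : E) (v : V) :
    v ∈ side ends e ↔ Relation.ReflTransGen (AdjIn ends (univ.erase e)) (ends e).1 v := by
  simp only [side, Finset.mem_filter, Finset.mem_univ, true_and]
  constructor
  · intro h
    exact Relation.ReflTransGen.mono (fun a b hab => (adj_span_iff ends _ a b).1 hab) _ _ h
  · intro h
    exact Relation.ReflTransGen.mono (fun a b hab => (adj_span_iff ends _ a b).2 hab) _ _ h

lemma circFree_univ (ends : E → V × V) (hT : DualGr.IsTree ends) : CircFree ends univ :=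
  fun C _ => hT.2 C

lemma fst_mem_side (ends : E → V × V) (e : E) : (ends e).1 ∈ side ends e :=
  (mem_side_iff ends e _).2 Relation.ReflTransGen.refl

lemma snd_not_mem_side (ends : E → V × V) (hT : DualGr.IsTree ends) (e : E) :
    (ends e).2 ∉ side ends e := by
  rw [mem_side_iff]
  exact not_reach_erase ends univ (circFree_univ ends hT) e (Finset.mem_univ e)

lemma mem_side_of_ne (ends : E → V × V) (e e₀ : E) (h : e₀ ≠ e) :
    (ends e₀).1 ∈ side ends e ↔ (ends e₀).2 ∈ side ends e := by
  rw [mem_side_iff, mem_side_iff]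
  have hadj : AdjIn ends (univ.erase e) (ends e₀).1 (ends e₀).2 :=
    ⟨e₀, Finset.mem_erase.2 ⟨h, Finset.mem_univ _⟩, Or.inl rfl⟩
  constructor
  · intro h1
    exact h1.tail hadj
  · intro h1
    exact h1.tail hadj.symm

/-- `#V = #E + 1` for a tree. -/
lemma card_tree (ends : E → V × V) (hT : DualGr.IsTree ends) :
    Fintype.card V = Fintype.card E + 1 := by
  obtain ⟨⟨v₀⟩, hconn⟩ := hT.1
  have hreach : ∀ v w, Relation.ReflTransGen (AdjIn ends univ) v w := by
    intro v w
    refine Relation.ReflTransGen.mono (fun a b hab => ?_) _ _ (hconn v w)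
    obtain ⟨e, he⟩ := hab
    exact ⟨e, Finset.mem_univ _, he⟩
  obtain ⟨r, hr, hre⟩ := exists_rooted ends univ v₀ hreach (circFree_univ ends hT)
  -- `r : V → Option E` is a bijection
  have hinj : Function.Injective r := by
    intro v v' h
    cases hv : r v with
    | none =>
      have h1 : v = v₀ := by
        by_contra hne
        obtain ⟨e, he, -⟩ := hr.2.1 v hne
        rw [hv] at he; cases he
      have h2 : v' = v₀ := by
        by_contra hne
        obtain ⟨e, he, -⟩ := hr.2.1 v' hne
        rw [← h, hv] at he; cases he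
      rw [h1, h2]
    | some e =>
      exact hr.injective hv (h ▸ hv)
  have hsurj : Function.Surjective r := by
    intro o
    cases o with
    | none => exact ⟨v₀, hr.1⟩
    | some e =>
      have : e ∈ edgesOf r := hre ▸ Finset.mem_univ e
      exact mem_edgesOf.1 this
  have := Fintype.card_of_bijective ⟨hinj, hsurj⟩
  rw [this, Fintype.card_option]

/-- the rows of the system -/
noncomputable def row (ends : E → V × V) : Option E → (V → ℝ)
  | none => fun _ => 1
  | some e => fun v => if v ∈ side ends e then 1 else 0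

lemma row_linearIndependent (ends : E → V × V) (hT : DualGr.IsTree ends) :
    LinearIndependent ℝ (row ends) := by
  rw [Fintype.linearIndependent_iff]
  intro g hg
  rw [Fintype.sum_option] at hg
  have hv : ∀ v : V, g none + ∑ e, g (some e) * (if v ∈ side ends e then 1 else 0) = 0 := by
    intro v
    have := congrFun hg v
    simpa [row, Finset.sum_apply] using this
  have hsome : ∀ e₀ : E, g (some e₀) = 0 := by
    intro e₀
    have h1 := hv (ends e₀).1
    have h2 := hv (ends e₀).2
    have h3 : ∑ e, g (some e) * ((if (ends e₀).1 ∈ side ends e then (1:ℝ) else 0) -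
        (if (ends e₀).2 ∈ side ends e then 1 else 0)) = 0 := by
      simp only [mul_sub, Finset.sum_sub_distrib]
      linarith
    rw [Finset.sum_eq_single e₀] at h3
    · rw [if_pos (fst_mem_side ends e₀), if_neg (snd_not_mem_side ends hT e₀)] at h3
      simpa using h3
    · intro e _ hne
      have := mem_side_of_ne ends e e₀ (Ne.symm hne)
      by_cases hm : (ends e₀).1 ∈ side ends e
      · rw [if_pos hm, if_pos (this.1 hm)]; simp
      · rw [if_neg hm, if_neg (fun h => hm (this.2 h))]; simp
    · intro h; exact absurd (Finset.mem_univ _) h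
  intro o
  cases o with
  | some e => exact hsome e
  | none =>
    obtain ⟨⟨v₀⟩, -⟩ := hT.1
    have := hv v₀
    simpa [hsome] using this

/-- the linear map of the system -/
noncomputable def Φ (ends : E → V × V) : (V → ℝ) →ₗ[ℝ] (Option E → ℝ) where
  toFun φ o := ∑ v, row ends o v * φ v
  map_add' φ ψ := by
    funext o
    simp [mul_add, Finset.sum_add_distrib]
  map_smul' a φ := by
    funext o
    simp [Finset.mul_sum, mul_left_comm]

lemma sum_ite_mul (S : Finset V) (φ : V → ℝ) :
    ∑ v, (if v ∈ S then (1:ℝ) else 0) * φ v = ∑ v ∈ S, φ v := by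
  simp [ite_mul, Finset.sum_ite_mem]

lemma Φ_injective (ends : E → V × V) (hT : DualGr.IsTree ends) : Function.Injective (Φ ends) := by
  rw [← LinearMap.ker_eq_bot, LinearMap.ker_eq_bot']
  intro φ hφ
  have hspan := (row_linearIndependent ends hT).span_eq_top_of_card_eq_finrank'
    (by rw [Fintype.card_option, Module.finrank_pi, card_tree ends hT])
  let L : (V → ℝ) →ₗ[ℝ] ℝ :=
    { toFun := fun ψ => ∑ v, ψ v * φ v
      map_add' := fun a b => by simp [add_mul, Finset.sum_add_distrib]
      map_smul' := fun a b => by simp [Finset.mul_sum, mul_assoc] }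
  have hL : Submodule.span ℝ (Set.range (row ends)) ≤ LinearMap.ker L := by
    rw [Submodule.span_le]
    rintro _ ⟨o, rfl⟩
    exact congrFun hφ o
  rw [hspan] at hL
  funext v
  have : L (Pi.single v 1) = 0 := hL Submodule.mem_top
  simpa [L, Pi.single_apply] using this

theorem main (ends : E → V × V) (hT : DualGr.IsTree ends) (c : E → ℝ) (c₀ : ℝ) :
    ∃! φ : V → ℝ, (∀ e : E, (∑ v ∈ side ends e, φ v) = c e) ∧ (∑ v : V, φ v) = c₀ := by
  have hinj := Φ_injective ends hT
  have hsurj : Function.Surjective (Φ ends) :=
    (LinearMap.injective_iff_surjective_of_finrank_eq_finrank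
      (by rw [Module.finrank_pi, Module.finrank_pi, Fintype.card_option, card_tree ends hT])).1 hinj
  have key : ∀ φ : V → ℝ, ((∀ e : E, (∑ v ∈ side ends e, φ v) = c e) ∧ (∑ v : V, φ v) = c₀) ↔
      Φ ends φ = fun o => o.elim c₀ c := by
    intro φ
    constructor
    · rintro ⟨h1, h2⟩
      funext o
      cases o with
      | none => simpa [Φ, row] using h2
      | some e =>
        have := h1 e
        simp only [Φ, row, LinearMap.coe_mk, AddHom.coe_mk, Option.elim]
        rw [← this, sum_ite_mul]
    · intro h
      refine ⟨fun e => ?_, ?_⟩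
      · have := congrFun h (some e)
        simp only [Φ, row, LinearMap.coe_mk, AddHom.coe_mk, Option.elim] at this
        rw [← this, sum_ite_mul]
      · have := congrFun h none
        simpa [Φ, row] using this
  obtain ⟨φ, hφ⟩ := hsurj (fun o => o.elim c₀ c)
  refine ⟨φ, (key φ).2 hφ, fun ψ hψ => hinj (((key ψ).1 hψ).trans hφ.symm)⟩

end Groth.Agent.Lib.Helper32.TreeSide
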