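import Mathlib

open CategoryTheory CategoryTheory.Limits Opposite Simplicial SimplexCategory

universe v u

namespace Groth.Agent.Lib.Helper32.TruncRKE

variable {C : Type u} [Category.{v} C] {n : ℕ} (U : (SimplexCategory.Truncated (n + 1))ᵒᵖ ⥤ C)
  (T : C)
  (π : Fin (n + 3) → (T ⟶ U.obj (op ⟨SimplexCategory.mk (n + 1), (SimplexCategory.len_mk (n + 1)).le⟩)))

/-- candidate leg. -/
def legAux (b : SimplexCategory) (hb : b.len ≤ n + 1) (i : Fin (n + 3)) (φ' : b ⟶ ⦋n + 1⦌) :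
    T ⟶ U.obj (op ⟨b, hb⟩) :=
  π i ≫ U.map (SimplexCategory.Truncated.Hom.tr φ' hb (SimplexCategory.len_mk (n + 1)).le).op

variable (hπ : ∀ i j : Fin (n + 2), i ≤ j → π (Fin.castSucc i) ≫ U.map (SimplexCategory.Truncated.δ (n + 1) j ((SimplexCategory.len_mk n).trans_le (Nat.le_succ n)) (SimplexCategory.len_mk (n + 1)).le).op = π j.succ ≫ U.map (SimplexCategory.Truncated.δ (n + 1) i ((SimplexCategory.len_mk n).trans_le (Nat.le_succ n)) (SimplexCategory.len_mk (n + 1)).le).op)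

include hπ in
lemma legAux_wd_lt (b : SimplexCategory) (hb : b.len ≤ n + 1) (i : Fin (n + 2)) (j : Fin (n + 2))
    (hij : i ≤ j) (φ₁ φ₂ : b ⟶ ⦋n + 1⦌)
    (h : φ₁ ≫ SimplexCategory.δ (Fin.castSucc i) = φ₂ ≫ SimplexCategory.δ j.succ) :
    legAux U T π b hb (Fin.castSucc i) φ₁ = legAux U T π b hb j.succ φ₂ := by
  have hmiss : ∀ x, φ₂.toOrderHom x ≠ i := by
    intro x hx
    have h1 := congrArg (fun f => f.toOrderHom x) h
    simp only [SimplexCategory.comp_toOrderHom, OrderHom.comp_coe, Function.comp_apply] at h1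
    rw [hx] at h1
    have h2 : (SimplexCategory.δ j.succ).toOrderHom i = Fin.castSucc i := by
      change j.succ.succAbove i = _
      exact Fin.succAbove_of_castSucc_lt _ _ (Fin.castSucc_lt_succ_iff.mpr hij)
    rw [h2] at h1
    exact Fin.succAbove_ne _ _ h1
  obtain ⟨ψ, hψ⟩ := SimplexCategory.eq_comp_δ_of_not_surjective' φ₂ i hmiss
  have h3 : φ₁ = ψ ≫ SimplexCategory.δ j := by
    rw [← cancel_mono (SimplexCategory.δ (Fin.castSucc i)), h, hψ, Category.assoc, Category.assoc,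
      SimplexCategory.δ_comp_δ hij]
  subst h3 hψ
  have hb' : b.len ≤ n + 1 := hb
  have hn : (⦋n⦌ : SimplexCategory).len ≤ n + 1 := (SimplexCategory.len_mk n).trans_le (Nat.le_succ n)
  have e1 : SimplexCategory.Truncated.Hom.tr (ψ ≫ SimplexCategory.δ j) hb (SimplexCategory.len_mk (n + 1)).le =
      SimplexCategory.Truncated.Hom.tr ψ hb hn ≫ SimplexCategory.Truncated.δ (n + 1) j hn (SimplexCategory.len_mk (n + 1)).le := rfl
  have e2 : SimplexCategory.Truncated.Hom.tr (ψ ≫ SimplexCategory.δ i) hb (SimplexCategory.len_mk (n + 1)).le =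
      SimplexCategory.Truncated.Hom.tr ψ hb hn ≫ SimplexCategory.Truncated.δ (n + 1) i hn (SimplexCategory.len_mk (n + 1)).le := rfl
  unfold legAux
  rw [e1, e2, op_comp, op_comp, Functor.map_comp, Functor.map_comp, ← Category.assoc,
    ← Category.assoc, hπ i j hij]

include hπ in
lemma legAux_wd_lt' (b : SimplexCategory) (hb : b.len ≤ n + 1) (i₁ i₂ : Fin (n + 3)) (hlt : i₁ < i₂)
    (φ₁ φ₂ : b ⟶ ⦋n + 1⦌)
    (h : φ₁ ≫ SimplexCategory.δ i₁ = φ₂ ≫ SimplexCategory.δ i₂) :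
    legAux U T π b hb i₁ φ₁ = legAux U T π b hb i₂ φ₂ := by
  have h1 : i₁ ≠ Fin.last (n + 2) := Fin.ne_last_of_lt hlt
  have h2 : i₂ ≠ 0 := Fin.ne_zero_of_lt hlt
  obtain ⟨i, rfl⟩ : ∃ i : Fin (n + 2), i₁ = Fin.castSucc i := ⟨i₁.castPred h1, by simp⟩
  obtain ⟨j, rfl⟩ : ∃ j : Fin (n + 2), i₂ = j.succ := ⟨i₂.pred h2, by simp⟩
  exact legAux_wd_lt U T π hπ b hb i j (Fin.castSucc_lt_succ_iff.mp hlt) φ₁ φ₂ h

include hπ in
lemma legAux_wd (b : SimplexCategory) (hb : b.len ≤ n + 1) (i₁ i₂ : Fin (n + 3))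
    (φ₁ φ₂ : b ⟶ ⦋n + 1⦌)
    (h : φ₁ ≫ SimplexCategory.δ i₁ = φ₂ ≫ SimplexCategory.δ i₂) :
    legAux U T π b hb i₁ φ₁ = legAux U T π b hb i₂ φ₂ := by
  rcases lt_trichotomy i₁ i₂ with hlt | rfl | hgt
  · exact legAux_wd_lt' U T π hπ b hb i₁ i₂ hlt φ₁ φ₂ h
  · rw [cancel_mono] at h
    rw [h]
  · exact (legAux_wd_lt' U T π hπ b hb i₂ i₁ hgt φ₂ φ₁ h.symm).symm

lemma exists_fac (b : SimplexCategory) (hb : b.len ≤ n + 1) (φ : b ⟶ ⦋n + 2⦌) :
    ∃ (i : Fin (n + 3)) (φ' : b ⟶ ⦋n + 1⦌), φ = φ' ≫ SimplexCategory.δ i := by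
  apply SimplexCategory.eq_comp_δ_of_not_surjective
  intro hsurj
  have := Fintype.card_le_of_surjective _ hsurj
  simp at this
  omega

/-- the leg of the cone at `φ`. -/
noncomputable def leg (b : SimplexCategory) (hb : b.len ≤ n + 1) (φ : b ⟶ ⦋n + 2⦌) :
    T ⟶ U.obj (op ⟨b, hb⟩) :=
  legAux U T π b hb (exists_fac b hb φ).choose (exists_fac b hb φ).choose_spec.choose

include hπ in
lemma leg_eq (b : SimplexCategory) (hb : b.len ≤ n + 1) (φ : b ⟶ ⦋n + 2⦌) (i : Fin (n + 3))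
    (φ' : b ⟶ ⦋n + 1⦌) (h : φ = φ' ≫ SimplexCategory.δ i) :
    leg U T π b hb φ = legAux U T π b hb i φ' := by
  unfold leg
  apply legAux_wd U T π hπ
  rw [← (exists_fac b hb φ).choose_spec.choose_spec, h]

include hπ in
lemma leg_comp (b b' : SimplexCategory) (hb : b.len ≤ n + 1) (hb' : b'.len ≤ n + 1) (ψ : b' ⟶ b)
    (φ : b ⟶ ⦋n + 2⦌) :
    leg U T π b hb φ ≫ U.map (SimplexCategory.Truncated.Hom.tr ψ hb' hb).op =
      leg U T π b' hb' (ψ ≫ φ) := by
  obtain ⟨i, φ₁, h⟩ := exists_fac b hb φ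
  rw [leg_eq U T π hπ b hb φ i φ₁ h,
    leg_eq U T π hπ b' hb' (ψ ≫ φ) i (ψ ≫ φ₁) (by rw [h, Category.assoc])]
  unfold legAux
  rw [Category.assoc, ← Functor.map_comp, ← op_comp]
  rfl

include hπ in
lemma leg_δ (k : Fin (n + 3)) :
    leg U T π ⦋n + 1⦌ (SimplexCategory.len_mk (n + 1)).le (SimplexCategory.δ k) = π k := by
  rw [leg_eq U T π hπ _ _ _ k (𝟙 _) (Category.id_comp _).symm]
  unfold legAux
  have : SimplexCategory.Truncated.Hom.tr (𝟙 (⦋n + 1⦌ : SimplexCategory))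
      (SimplexCategory.len_mk (n + 1)).le (SimplexCategory.len_mk (n + 1)).le = 𝟙 _ := rfl
  rw [this, op_id, CategoryTheory.Functor.map_id, Category.comp_id]

variable (n) in
/-- the top object. -/
abbrev Xtop : (SimplexCategory.Truncated (n + 2))ᵒᵖ :=
  op ⟨SimplexCategory.mk (n + 2), (SimplexCategory.len_mk (n + 2)).le⟩

variable (n) in
/-- the inclusion. -/
abbrev Lf : (SimplexCategory.Truncated (n + 1))ᵒᵖ ⥤ (SimplexCategory.Truncated (n + 2))ᵒᵖ :=
  (SimplexCategory.Truncated.incl (n + 1) (n + 2) (Nat.le_succ _)).op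

/-- The cone with point `T`. -/
noncomputable def cone : Cone (StructuredArrow.proj (Xtop n) (Lf n) ⋙ U) where
  pt := T
  π :=
    { app := fun A => leg U T π A.right.unop.obj A.right.unop.property A.hom.unop.hom
      naturality := fun A A' f => by
        have hw := StructuredArrow.w f
        have hw' : A'.hom.unop.hom = f.right.unop.hom ≫ A.hom.unop.hom := by
          rw [← hw]
          rfl
        dsimp
        rw [Category.id_comp, hw']
        exact (leg_comp U T π hπ _ _ _ _ f.right.unop.hom A.hom.unop.hom).symm }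

variable (n) in
/-- objects of the structured arrow category. -/
abbrev objOf (b : SimplexCategory) (hb : b.len ≤ n + 1) (φ : b ⟶ ⦋n + 2⦌) :
    StructuredArrow (Xtop n) (Lf n) :=
  StructuredArrow.mk (Y := op ⟨b, hb⟩)
    (SimplexCategory.Truncated.Hom.tr φ (hb.trans (Nat.le_succ _))
      (SimplexCategory.len_mk (n + 2)).le).op

lemma cone_w (s : Cone (StructuredArrow.proj (Xtop n) (Lf n) ⋙ U)) (b b' : SimplexCategory)
    (hb : b.len ≤ n + 1) (hb' : b'.len ≤ n + 1) (ψ : b' ⟶ b) (φ : b ⟶ ⦋n + 2⦌) :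
    s.π.app (objOf n b hb φ) ≫ U.map (SimplexCategory.Truncated.Hom.tr ψ hb' hb).op =
      s.π.app (objOf n b' hb' (ψ ≫ φ)) :=
  s.w (StructuredArrow.homMk (f := objOf n b hb φ) (f' := objOf n b' hb' (ψ ≫ φ))
    (SimplexCategory.Truncated.Hom.tr ψ hb' hb).op rfl)

lemma cone_app_objOf (s : Cone (StructuredArrow.proj (Xtop n) (Lf n) ⋙ U))
    (A : StructuredArrow (Xtop n) (Lf n)) (φ : A.right.unop.obj ⟶ ⦋n + 2⦌)
    (h : A.hom.unop.hom = φ) :
    s.π.app (objOf n A.right.unop.obj A.right.unop.property φ) = s.π.app A := by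
  subst h
  rfl

variable (huniv : ∀ (S : C) (g : Fin (n + 3) → (S ⟶ U.obj (op ⟨SimplexCategory.mk (n + 1), (SimplexCategory.len_mk (n + 1)).le⟩))), (∀ i j : Fin (n + 2), i ≤ j → g (Fin.castSucc i) ≫ U.map (SimplexCategory.Truncated.δ (n + 1) j ((SimplexCategory.len_mk n).trans_le (Nat.le_succ n)) (SimplexCategory.len_mk (n + 1)).le).op = g j.succ ≫ U.map (SimplexCategory.Truncated.δ (n + 1) i ((SimplexCategory.len_mk n).trans_le (Nat.le_succ n)) (SimplexCategory.len_mk (n + 1)).le).op) → ∃! t : S ⟶ T, ∀ k : Fin (n + 3), t ≫ π k = g k)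

/-- the face components of a cone. -/
def gOf (s : Cone (StructuredArrow.proj (Xtop n) (Lf n) ⋙ U)) (k : Fin (n + 3)) :
    s.pt ⟶ U.obj (op ⟨SimplexCategory.mk (n + 1), (SimplexCategory.len_mk (n + 1)).le⟩) :=
  s.π.app (objOf n ⦋n + 1⦌ (SimplexCategory.len_mk (n + 1)).le (SimplexCategory.δ k))

lemma gOf_faces (s : Cone (StructuredArrow.proj (Xtop n) (Lf n) ⋙ U)) (i j : Fin (n + 2))
    (hij : i ≤ j) :
    gOf U s (Fin.castSucc i) ≫ U.map (SimplexCategory.Truncated.δ (n + 1) j ((SimplexCategory.len_mk n).trans_le (Nat.le_succ n)) (SimplexCategory.len_mk (n + 1)).le).op = gOf U s j.succ ≫ U.map (SimplexCategory.Truncated.δ (n + 1) i ((SimplexCategory.len_mk n).trans_le (Nat.le_succ n)) (SimplexCategory.len_mk (n + 1)).le).op := by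
  have h1 := cone_w U s ⦋n + 1⦌ ⦋n⦌ (SimplexCategory.len_mk (n + 1)).le
    ((SimplexCategory.len_mk n).trans_le (Nat.le_succ n)) (SimplexCategory.δ j)
    (SimplexCategory.δ (Fin.castSucc i))
  have h2 := cone_w U s ⦋n + 1⦌ ⦋n⦌ (SimplexCategory.len_mk (n + 1)).le
    ((SimplexCategory.len_mk n).trans_le (Nat.le_succ n)) (SimplexCategory.δ i)
    (SimplexCategory.δ j.succ)
  unfold gOf
  refine h1.trans (Eq.trans ?_ h2.symm)
  rw [SimplexCategory.δ_comp_δ hij]

include hπ huniv in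
/-- The cone is a limit cone. -/
noncomputable def isLimitCone : IsLimit (cone U T π hπ) where
  lift s := (huniv s.pt (gOf U s) (gOf_faces U s)).exists.choose
  fac s A := by
    have hl0 := (huniv s.pt (gOf U s) (gOf_faces U s)).exists.choose_spec
    suffices key : ∀ t : s.pt ⟶ T, (∀ k, t ≫ π k = gOf U s k) →
        t ≫ (cone U T π hπ).π.app A = s.π.app A from key _ hl0
    intro t hl
    obtain ⟨i, φ₁, h⟩ := exists_fac A.right.unop.obj A.right.unop.property A.hom.unop.hom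
    have e1 : (cone U T π hπ).π.app A =
        π i ≫ U.map (SimplexCategory.Truncated.Hom.tr φ₁ A.right.unop.property
          (SimplexCategory.len_mk (n + 1)).le).op :=
      leg_eq U T π hπ _ _ _ i φ₁ h
    have e2 := cone_w U s ⦋n + 1⦌ A.right.unop.obj (SimplexCategory.len_mk (n + 1)).le
      A.right.unop.property φ₁ (SimplexCategory.δ i)
    refine (congrArg (t ≫ ·) e1).trans ?_
    refine (Category.assoc _ _ _).symm.trans ?_
    rw [hl i]
    refine e2.trans ?_
    exact cone_app_objOf U s A _ h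
  uniq s m hm := by
    apply (huniv s.pt (gOf U s) (gOf_faces U s)).unique _
      (huniv s.pt (gOf U s) (gOf_faces U s)).exists.choose_spec
    intro k
    have := hm (objOf n ⦋n + 1⦌ (SimplexCategory.len_mk (n + 1)).le (SimplexCategory.δ k))
    rw [← leg_δ U T π hπ k]
    exact this

include hπ huniv in
theorem hasPointwise : (Lf n).HasPointwiseRightKanExtension U := by
  rintro ⟨⟨a, ha⟩⟩
  by_cases h : a.len ≤ n + 1
  · change HasLimit (StructuredArrow.proj ((Lf n).obj (op ⟨a, h⟩)) (Lf n) ⋙ U)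
    exact ⟨⟨⟨_, limitOfDiagramInitial
      (StructuredArrow.mkIdInitial (T := Lf n) (Y := op ⟨a, h⟩)) _⟩⟩⟩
  · have ha' : a.len ≤ n + 2 := ha
    have : a = ⦋n + 2⦌ := by
      apply SimplexCategory.ext
      change a.len = n + 2
      omega
    subst this
    exact ⟨⟨⟨_, isLimitCone U T π hπ huniv⟩⟩⟩

lemma hom_eq (A : StructuredArrow (Xtop n) (Lf n)) (i : Fin (n + 3))
    (φ₁ : A.right.unop.obj ⟶ ⦋n + 1⦌) (h : A.hom.unop.hom = φ₁ ≫ SimplexCategory.δ i) :
    (SimplexCategory.Truncated.δ (n + 2) i ((SimplexCategory.len_mk (n + 1)).trans_le (Nat.le_succ (n + 1))) (SimplexCategory.len_mk (n + 2)).le).op ≫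
      (Lf n).map (SimplexCategory.Truncated.Hom.tr φ₁ A.right.unop.property
        (SimplexCategory.len_mk (n + 1)).le).op = A.hom := by
  apply Quiver.Hom.unop_inj
  apply ObjectProperty.hom_ext
  exact h.symm

include hπ huniv in
theorem isIso_of_faces (V : (SimplexCategory.Truncated (n + 2))ᵒᵖ ⥤ C) (α : Lf n ⋙ V ⟶ U)
    [V.IsRightKanExtension α] (t : V.obj (Xtop n) ⟶ T)
    (ht : ∀ k : Fin (n + 3), t ≫ π k = V.map (SimplexCategory.Truncated.δ (n + 2) k ((SimplexCategory.len_mk (n + 1)).trans_le (Nat.le_succ (n + 1))) (SimplexCategory.len_mk (n + 2)).le).op ≫ α.app (op ⟨SimplexCategory.mk (n + 1), (SimplexCategory.len_mk (n + 1)).le⟩)) :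
    IsIso t := by
  haveI := hasPointwise U T π hπ huniv
  have hV : IsLimit ((Functor.RightExtension.mk V α).coneAt (Xtop n)) :=
    Functor.isPointwiseRightKanExtensionOfIsRightKanExtension V α (Xtop n)
  have hT := isLimitCone U T π hπ huniv
  have key : t = (IsLimit.conePointUniqueUpToIso hV hT).hom := by
    apply hT.hom_ext
    intro A
    have e0 : (IsLimit.conePointUniqueUpToIso hV hT).hom ≫ (cone U T π hπ).π.app A =
        ((Functor.RightExtension.mk V α).coneAt (Xtop n)).π.app A :=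
      IsLimit.conePointUniqueUpToIso_hom_comp hV hT A
    refine Eq.trans ?_ e0.symm
    obtain ⟨i, φ₁, h⟩ := exists_fac A.right.unop.obj A.right.unop.property A.hom.unop.hom
    have e1 : (cone U T π hπ).π.app A =
        π i ≫ U.map (SimplexCategory.Truncated.Hom.tr φ₁ A.right.unop.property
          (SimplexCategory.len_mk (n + 1)).le).op :=
      leg_eq U T π hπ _ _ _ i φ₁ h
    refine (congrArg (t ≫ ·) e1).trans ?_
    refine (Category.assoc _ _ _).symm.trans ?_
    rw [ht i]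
    have nat := α.naturality (SimplexCategory.Truncated.Hom.tr φ₁ A.right.unop.property
          (SimplexCategory.len_mk (n + 1)).le).op
    refine (Category.assoc _ _ _).trans ?_
    refine (congrArg (V.map (SimplexCategory.Truncated.δ (n + 2) i ((SimplexCategory.len_mk (n + 1)).trans_le (Nat.le_succ (n + 1))) (SimplexCategory.len_mk (n + 2)).le).op ≫ ·) nat.symm).trans ?_
    refine (Category.assoc _ _ _).symm.trans ?_
    change _ = V.map A.hom ≫ α.app A.right
    refine congrArg (· ≫ α.app A.right) ?_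
    refine (V.map_comp _ _).symm.trans ?_
    exact congrArg V.map (hom_eq A i φ₁ h)
  rw [key]
  infer_instance

end Groth.Agent.Lib.Helper32.TruncRKE
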