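import Mathlib
import Groth.Agent.Lib.Helper32.TwoTermRep
import Groth.Agent.Lib.Helper36.HomologyLinear

/-!
# `Ext¹` of two-term complexes in `D(R)` (helper32)

* `hom_to_single_injective_eq_zero`: `Hom(Y, J[-n]) = 0` for `J` injective and `Y ∈ D^{≥ n+1}`.
* `smul_id_eq_zero_of_homology`, `nonempty_truncGE_zero_iso`
* `smul_H_neg_one_eq_zero`, `smul_ext_H0_eq_zero`, `smul_mul_ext_eq_zero`: annihilators of
  `Ext¹(K, -)` versus `H^{-1}(K)` and `Ext¹(H^0 K, -)` for `K ∈ D^{[-1,0]}`.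
-/

set_option autoImplicit false
set_option linter.unusedSectionVars false
universe u
open CategoryTheory CategoryTheory.Limits

namespace Groth.Agent.Lib.Helper32.TwoTermExt
open Pretriangulated DerivedCategory DRing
open Groth.Agent.S14388 (tt)
open Groth.Agent.Lib.Helper12 Groth.Agent.Lib.Helper32.TwoTermRep

attribute [local instance] HasDerivedCategory.standard

variable {R : Type u} [CommRing R]

lemma injective_singleCx_X (J : ModuleCat.{u} R) [Injective J] (n i : ℤ) :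
    Injective ((singleCx n J).X i) := by
  by_cases hi : i = n
  · subst hi
    exact Injective.of_iso (HomologicalComplex.singleObjXSelf (ComplexShape.up ℤ) i J).symm inferInstance
  · exact (isZero_singleCx_X n J i hi).injective

/-- Lemma A-dual: no maps from `D^{≥ n+1}` to an injective module placed in degree `n`. -/
lemma hom_to_single_injective_eq_zero (J : ModuleCat.{u} R) [Injective J] (n : ℤ)
    (Y : Dual.D R) [Y.IsGE (n + 1)] (f : Y ⟶ (singleFunctor (ModuleCat.{u} R) n).obj J) : f = 0 := by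
  obtain ⟨L, hL, ⟨e⟩⟩ := exists_iso_Q_obj_of_isGE Y (n + 1)
  have : ∀ i, Injective ((singleCx n J).X i) := injective_singleCx_X J n
  have : (singleCx n J).IsStrictlyGE n := by
    rw [CochainComplex.isStrictlyGE_iff]
    intro i hi
    exact isZero_singleCx_X n J i (by omega)
  have hK : (singleCx n J).IsKInjective := CochainComplex.isKInjective_of_injective _ n
  -- α : toD L ⟶ toD (singleCx n J)
  let α : toD L ⟶ toD (singleCx n J) := e.inv ≫ f ≫ (toDSingleIso' n J).inv
  obtain ⟨g, hg⟩ := (CochainComplex.IsKInjective.Qh_map_bijective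
    ((HomotopyCategory.quotient _ _).obj L) (singleCx n J)).surjective
    ((DerivedCategory.quotientCompQhIso (ModuleCat.{u} R)).hom.app L ≫ α ≫
      (DerivedCategory.quotientCompQhIso (ModuleCat.{u} R)).inv.app (singleCx n J))
  obtain ⟨g', rfl⟩ := (HomotopyCategory.quotient _ _).map_surjective g
  have hg0 : g' = 0 := by
    apply HomologicalComplex.to_single_hom_ext
    exact (L.isZero_of_isStrictlyGE (n + 1) n (by omega)).eq_of_src _ _
  rw [hg0, Functor.map_zero, Functor.map_zero] at hg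
  have hα : α = 0 := by
    rw [← cancel_epi ((DerivedCategory.quotientCompQhIso (ModuleCat.{u} R)).hom.app L),
      ← cancel_mono ((DerivedCategory.quotientCompQhIso (ModuleCat.{u} R)).inv.app (singleCx n J)),
      Category.assoc, ← hg, comp_zero, zero_comp]
  rw [← cancel_epi e.inv, ← cancel_mono (toDSingleIso' n J).inv, Category.assoc, comp_zero, zero_comp]
  exact hα

open Groth.Agent.Lib.Helper36 in
/-- L1: on an object concentrated in degree `n`, `a • 𝟙 = 0` as soon as `a` kills `H^n`. -/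
lemma smul_id_eq_zero_of_homology (X : Dual.D R) (n : ℤ) [X.IsGE n] [X.IsLE n] (a : R)
    (h : ∀ x : (homologyFunctor (ModuleCat.{u} R) n).obj X, a • x = 0) : a • 𝟙 X = 0 := by
  apply Groth.Agent.S14388.eq_zero_of_homologyMap_eq_zero n
  rw [derivedCategory_homologyFunctor_map_smul, CategoryTheory.Functor.map_id]
  ext x
  exact h x

lemma mono_homologyMap_single_map {C : Type*} [Category C] [Abelian C] [HasDerivedCategory C]
    {M N : C} (u : M ⟶ N) [Mono u] (c : ℤ) :
    Mono ((homologyFunctor C c).map ((singleFunctor C c).map u)) := by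
  have hn := (singleFunctorCompHomologyFunctorIso C c).hom.naturality u
  have : (homologyFunctor C c).map ((singleFunctor C c).map u) =
      (singleFunctorCompHomologyFunctorIso C c).hom.app M ≫ u ≫
        (singleFunctorCompHomologyFunctorIso C c).inv.app N := by
    rw [← Category.assoc, ← Functor.id_map u, ← hn]
    simp
  rw [this]
  infer_instance

section

variable (K : Dual.D R) [K.IsLE 0]

/-- `τ_{≥0} K ≅ H^0(K)[0]` for `K ∈ D^{≤ 0}`. -/
lemma nonempty_truncGE_zero_iso :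
    Nonempty (((tt (ModuleCat.{u} R)).truncGE 0).obj K ≅
      Dual.inD R ((homologyFunctor (ModuleCat.{u} R) 0).obj K)) := by
  let t := tt (ModuleCat.{u} R)
  have : t.IsLE ((t.truncGE 0).obj K) 0 := inferInstance
  have : t.IsGE ((t.truncGE 0).obj K) 0 := inferInstance
  obtain ⟨e⟩ := nonempty_iso_single ((t.truncGE 0).obj K) 0
  have iπ := Groth.Agent.S0973.isIso_homologyMap_truncGEπ K 0 0 le_rfl
  exact ⟨e ≪≫ (singleFunctor (ModuleCat.{u} R) 0).mapIso
    (asIso ((homologyFunctor (ModuleCat.{u} R) 0).map ((t.truncGEπ 0).app K))).symm⟩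

end

section

variable (K : Dual.D R) [K.IsGE (-1)] [K.IsLE 0]

/-- P2: `Ext¹(H^0 K, N) → Ext¹(K, N)` is injective, so annihilators pass down. -/
lemma smul_ext_H0_eq_zero (a : R)
    (h : ∀ (N : Type u) [AddCommGroup N] [Module R N] (ξ : K ⟶ (Dual.inD R N)⟦(1 : ℤ)⟧), a • ξ = 0)
    (N : Type u) [AddCommGroup N] [Module R N]
    (ξ : Dual.inD R ((homologyFunctor (ModuleCat.{u} R) 0).obj K) ⟶ (Dual.inD R N)⟦(1 : ℤ)⟧) :
    a • ξ = 0 := by
  let t := tt (ModuleCat.{u} R)
  obtain ⟨e0⟩ := nonempty_truncGE_zero_iso K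
  have hT := t.triangleLTGE_distinguished 0 K
  let g : (t.truncGE 0).obj K ⟶ (Dual.inD R N)⟦(1 : ℤ)⟧ := e0.hom ≫ (a • ξ)
  have hg : ((t.triangleLTGE 0).obj K).mor₂ ≫ g = 0 := by
    show (t.truncGEπ 0).app K ≫ e0.hom ≫ (a • ξ) = 0
    have := h N ((t.truncGEπ 0).app K ≫ e0.hom ≫ ξ)
    rw [← this, Linear.comp_smul, Linear.comp_smul]
  obtain ⟨g', hg'⟩ : ∃ g' : ((t.truncLT 0).obj K)⟦(1 : ℤ)⟧ ⟶ (Dual.inD R N)⟦(1 : ℤ)⟧,
      g = ((t.triangleLTGE 0).obj K).mor₃ ≫ g' := Triangle.yoneda_exact₃ _ hT g hg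
  have h1 : t.IsLE ((t.truncLT 0).obj K) (-1) := inferInstanceAs (t.IsLE ((t.truncLT 0).obj K) (0 - 1))
  have h2 : t.IsLE (((t.truncLT 0).obj K)⟦(1 : ℤ)⟧) (-2) := t.isLE_shift _ (-1) 1 (-2)
  have h3 : t.IsGE ((Dual.inD R N)⟦(1 : ℤ)⟧) (-1) := t.isGE_shift _ 0 1 (-1)
  have : g' = 0 := t.zero g' (-2) (-1)
  have hg0 : g = 0 := hg'.trans (by rw [this]; exact comp_zero)
  rw [← cancel_epi e0.hom, comp_zero]
  exact hg0

/-- P3 -/
lemma smul_mul_ext_eq_zero (b b' : R)
    (hb' : ∀ x : (homologyFunctor (ModuleCat.{u} R) (-1)).obj K, b' • x = 0)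
    (hb : ∀ (N : Type u) [AddCommGroup N] [Module R N]
      (ξ : Dual.inD R ((homologyFunctor (ModuleCat.{u} R) 0).obj K) ⟶ (Dual.inD R N)⟦(1 : ℤ)⟧), b • ξ = 0)
    (N : Type u) [AddCommGroup N] [Module R N] (ξ : K ⟶ (Dual.inD R N)⟦(1 : ℤ)⟧) :
    (b * b') • ξ = 0 := by
  let t := tt (ModuleCat.{u} R)
  obtain ⟨e0⟩ := nonempty_truncGE_zero_iso K
  have hT := t.triangleLTGE_distinguished 0 K
  -- b' kills the identity of τ_{<0} K
  have hX : b' • 𝟙 ((t.truncLT 0).obj K) = 0 := by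
    have h1 : t.IsLE ((t.truncLT 0).obj K) (-1) := inferInstanceAs (t.IsLE ((t.truncLT 0).obj K) (0 - 1))
    have h2 : t.IsGE ((t.truncLT 0).obj K) (-1) := inferInstance
    apply smul_id_eq_zero_of_homology _ (-1)
    intro y
    have iι := Groth.Agent.S0973.isIso_homologyMap_truncLTι K 0 (-1) (by omega)
    have hinj : Function.Injective ((homologyFunctor (ModuleCat.{u} R) (-1)).map ((t.truncLTι 0).app K)).hom :=
      (ModuleCat.mono_iff_injective _).mp inferInstance
    apply hinj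
    rw [map_smul, map_zero]
    exact hb' _
  have hη : ((t.triangleLTGE 0).obj K).mor₁ ≫ (b' • ξ) = 0 := by
    show (t.truncLTι 0).app K ≫ (b' • ξ) = 0
    rw [Linear.comp_smul, ← Category.id_comp ((t.truncLTι 0).app K ≫ ξ), ← Linear.smul_comp, hX,
      zero_comp]
  obtain ⟨η', hη''⟩ : ∃ η' : (t.truncGE 0).obj K ⟶ (Dual.inD R N)⟦(1 : ℤ)⟧,
      b' • ξ = (t.truncGEπ 0).app K ≫ η' := Triangle.yoneda_exact₂ _ hT (b' • ξ) hη
  have h0 : b • η' = 0 := by
    have := hb N (e0.inv ≫ η')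
    rw [← cancel_epi e0.inv, comp_zero, Linear.comp_smul]
    exact this
  rw [mul_smul, hη'']
  have : b • ((t.truncGEπ 0).app K ≫ η') = (t.truncGEπ 0).app K ≫ (b • η') :=
    (Linear.comp_smul _ _ _ _ _ _).symm
  rw [this, h0]
  exact comp_zero

end

section

variable (K : Dual.D R) [K.IsGE (-1)] [K.IsLE 0]

open Groth.Agent.Lib.Helper36 in
/-- P1: if `a` kills `Ext¹(K, N)` for all `N` then `a` kills `H^{-1}(K)`. -/
lemma smul_H_neg_one_eq_zero (a : R)
    (h : ∀ (N : Type u) [AddCommGroup N] [Module R N] (ξ : K ⟶ (Dual.inD R N)⟦(1 : ℤ)⟧), a • ξ = 0)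
    (x : (homologyFunctor (ModuleCat.{u} R) (-1)).obj K) : a • x = 0 := by
  let t := tt (ModuleCat.{u} R)
  let X := (t.truncLT 0).obj K
  have h1 : t.IsLE X (-1) := inferInstanceAs (t.IsLE ((t.truncLT 0).obj K) (0 - 1))
  have h2 : t.IsGE X (-1) := inferInstanceAs (t.IsGE ((t.truncLT 0).obj K) (-1))
  let H := (homologyFunctor (ModuleCat.{u} R) (-1)).obj X
  obtain ⟨eX⟩ := nonempty_iso_single X (-1)
  let J := Injective.under H
  let i : H ⟶ J := Injective.ι H
  let sh := ((singleFunctors (ModuleCat.{u} R)).shiftIso 1 (-1) 0 (by omega)).app J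
  let θ : X ⟶ (Dual.inD R J)⟦(1 : ℤ)⟧ := eX.hom ≫ (singleFunctor (ModuleCat.{u} R) (-1)).map i ≫ sh.inv
  have hT := inv_rot_of_distTriang _ (t.triangleLTGE_distinguished 0 K)
  have hδ : ((t.triangleLTGE 0).obj K).invRotate.mor₁ ≫ θ = 0 := by
    have hZ1 : t.IsGE (((t.truncGE 0).obj K)⟦(-1 : ℤ)⟧) 1 := t.isGE_shift _ 0 (-1) 1
    have hZ : t.IsGE (((t.truncGE 0).obj K)⟦(-1 : ℤ)⟧) (-1 + 1) := t.isGE_of_ge _ (-1 + 1) 1 (by omega)
    have := @hom_to_single_injective_eq_zero _ _ J _ (-1) _ hZ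
      (((t.triangleLTGE 0).obj K).invRotate.mor₁ ≫ θ ≫ sh.hom)
    have e : (((t.triangleLTGE 0).obj K).invRotate.mor₁ ≫ θ) ≫ sh.hom = 0 :=
      (Category.assoc _ _ _).trans this
    exact (cancel_mono sh.hom).mp (e.trans zero_comp.symm)
  obtain ⟨ξ, hξ⟩ : ∃ ξ : K ⟶ (Dual.inD R J)⟦(1 : ℤ)⟧, θ = (t.truncLTι 0).app K ≫ ξ :=
    Triangle.yoneda_exact₂ _ hT θ hδ
  have haθ : a • θ = 0 := by
    rw [hξ, ← Linear.comp_smul, h J ξ, comp_zero]
  -- H^{-1}(θ) is a monomorphism
  have hmono : Mono ((homologyFunctor (ModuleCat.{u} R) (-1)).map θ) := by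
    have := mono_homologyMap_single_map i (-1)
    dsimp only [θ]
    rw [CategoryTheory.Functor.map_comp, CategoryTheory.Functor.map_comp]
    infer_instance
  have hinj : Function.Injective ((homologyFunctor (ModuleCat.{u} R) (-1)).map θ).hom :=
    (ModuleCat.mono_iff_injective _).mp hmono
  have hy : ∀ y : H, a • y = 0 := by
    intro y
    apply hinj
    rw [map_smul, map_zero]
    have e1 : a • (homologyFunctor (ModuleCat.{u} R) (-1)).map θ = 0 := by
      rw [← derivedCategory_homologyFunctor_map_smul, haθ, Functor.map_zero]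
    have e2 := congrArg (fun φ => (ModuleCat.Hom.hom φ) y) e1
    exact e2
  have iι := Groth.Agent.S0973.isIso_homologyMap_truncLTι K 0 (-1) (by omega)
  have hsurj : Function.Surjective
      ((homologyFunctor (ModuleCat.{u} R) (-1)).map ((t.truncLTι 0).app K)).hom :=
    (ModuleCat.epi_iff_surjective _).mp inferInstance
  obtain ⟨y, rfl⟩ := hsurj x
  rw [← map_smul, hy y, map_zero]

end

end Groth.Agent.Lib.Helper32.TwoTermExt
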