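import Mathlib

set_option autoImplicit false
universe u
open CategoryTheory CategoryTheory.Limits

/-!
# The distinguished triangle of a two-term complex (helper32)

For `K : CochainComplex C ℤ` with `K.X i = 0` for `i ∉ {-1, 0}`, `exists_distTriang` gives a
distinguished triangle `K⁻¹[0] ⟶ K⁰[0] ⟶ Q(K) ⟶ K⁻¹[1]` in `D(C)` whose first map is
`(singleFunctor C 0).map (K.d (-1) 0)`.
-/

namespace Groth.Agent.Lib.Helper32.TwoTermTri
open Pretriangulated DerivedCategory CochainComplex HomComplex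

variable {C : Type*} [Category C] [Abelian C]
variable (K : CochainComplex C ℤ)

/-- the chain map `single₀ (K⁻¹) ⟶ single₀ (K⁰)` -/
noncomputable abbrev gmap : (CochainComplex.singleFunctor C 0).obj (K.X (-1)) ⟶
    (CochainComplex.singleFunctor C 0).obj (K.X 0) :=
  (CochainComplex.singleFunctor C 0).map (K.d (-1) 0)

noncomputable def βmap (h1 : IsZero (K.X 1)) :
    (CochainComplex.singleFunctor C 0).obj (K.X 0) ⟶ K :=
  HomologicalComplex.mkHomFromSingle (𝟙 (K.X 0)) (by
    intro j hj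
    have hj' : (0 : ℤ) + 1 = j := hj
    have : j = 1 := by omega
    subst this
    exact h1.eq_of_tgt _ _)

noncomputable def αco : Cochain ((CochainComplex.singleFunctor C 0).obj (K.X (-1))) K (-1) :=
  Cochain.fromSingleMk (𝟙 (K.X (-1))) (show (0 : ℤ) + -1 = -1 by simp)

lemma βmap_f_zero (h1 : IsZero (K.X 1)) :
    (βmap K h1).f 0 = (HomologicalComplex.singleObjXSelf (ComplexShape.up ℤ) 0 (K.X 0)).hom := by
  have := HomologicalComplex.mkHomFromSingle_f (c := ComplexShape.up ℤ) (K := K) (j := 0)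
    (𝟙 (K.X 0)) (by
    intro j hj
    have hj' : (0 : ℤ) + 1 = j := hj
    have : j = 1 := by omega
    subst this
    exact h1.eq_of_tgt _ _)
  rw [Category.comp_id] at this
  exact this

lemma ofHom_βmap (h1 : IsZero (K.X 1)) :
    Cochain.ofHom (βmap K h1) = Cochain.fromSingleMk (𝟙 (K.X 0)) (show (0 : ℤ) + 0 = 0 by simp) := by
  apply (Cochain.fromSingleEquiv (show (0 : ℤ) + 0 = 0 by simp)).injective
  simp only [Cochain.fromSingleEquiv, AddEquiv.coe_mk, Equiv.coe_fn_mk, Cochain.ofHom_v,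
    Cochain.fromSingleMk_v, βmap_f_zero]
  simp

lemma eqn (h1 : IsZero (K.X 1)) :
    δ (-1) 0 (αco K) = Cochain.ofHom (gmap K ≫ βmap K h1) := by
  rw [αco, Cochain.δ_fromSingleMk _ _ 0 0 (by simp), Cochain.ofHom_comp, ofHom_βmap,
    ← Cochain.fromSingleMk_precomp]
  simp

noncomputable def φmap (h1 : IsZero (K.X 1)) : mappingCone (gmap K) ⟶ K :=
  mappingCone.desc (gmap K) (αco K) (βmap K h1) (eqn K h1)

lemma isZero_single_X (M : C) (i : ℤ) (hi : i ≠ 0) :
    IsZero (((CochainComplex.singleFunctor C 0).obj M).X i) :=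
  HomologicalComplex.isZero_single_obj_X _ _ _ _ hi

lemma isIso_φmap_f (hK : ∀ i : ℤ, i < -1 ∨ 0 < i → IsZero (K.X i)) (i : ℤ) :
    IsIso ((φmap K (hK 1 (by omega))).f i) := by
  by_cases h0 : i = 0
  · subst h0
    have hid := mappingCone.id_X (gmap K) 0 1 (by simp)
    have hz : (mappingCone.fst (gmap K)).1.v 0 1 (by simp) = 0 :=
      (isZero_single_X (K.X (-1)) 1 (by omega)).eq_of_tgt _ _
    rw [hz, zero_comp, zero_add] at hid
    have hinr : IsIso ((mappingCone.inr (gmap K)).f 0) :=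
      ⟨(mappingCone.snd (gmap K)).v 0 0 (add_zero 0), mappingCone.inr_f_snd_v _ 0, hid⟩
    have hfac := mappingCone.inr_f_desc_f (gmap K) (αco K) (βmap K (hK 1 (by omega)))
      (eqn K (hK 1 (by omega))) 0
    have hβ : IsIso ((βmap K (hK 1 (by omega))).f 0) := by
      rw [βmap_f_zero]; exact Iso.isIso_hom _
    exact IsIso.of_isIso_fac_left hfac
  · by_cases h1 : i = -1
    · subst h1
      have hid := mappingCone.id_X (gmap K) (-1) 0 (by simp)
      have hz : (mappingCone.snd (gmap K)).v (-1) (-1) (add_zero _) = 0 :=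
        (isZero_single_X (K.X 0) (-1) (by omega)).eq_of_tgt _ _
      rw [hz, zero_comp, add_zero] at hid
      have hinl : IsIso ((mappingCone.inl (gmap K)).v 0 (-1) (by simp)) :=
        ⟨(mappingCone.fst (gmap K)).1.v (-1) 0 (by simp), mappingCone.inl_v_fst_v _ 0 (-1) (by simp),
          hid⟩
      have hfac := mappingCone.inl_v_desc_f (gmap K) (αco K) (βmap K (hK 1 (by omega)))
        (eqn K (hK 1 (by omega))) 0 (-1) (by simp)
      have hα : IsIso ((αco K).v 0 (-1) (by simp)) := by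
        rw [αco, Cochain.fromSingleMk_v, Category.comp_id]; exact Iso.isIso_hom _
      exact IsIso.of_isIso_fac_left hfac
    · have hsrc : IsZero ((mappingCone (gmap K)).X i) := by
        rw [IsZero.iff_id_eq_zero, ← mappingCone.id_X (gmap K) i (i + 1) rfl]
        have hz1 : (mappingCone.fst (gmap K)).1.v i (i + 1) rfl = 0 :=
          (isZero_single_X (K.X (-1)) (i + 1) (by omega)).eq_of_tgt _ _
        have hz2 : (mappingCone.snd (gmap K)).v i i (add_zero _) = 0 :=
          (isZero_single_X (K.X 0) i (by omega)).eq_of_tgt _ _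
        rw [hz1, hz2, zero_comp, zero_comp, add_zero]
      have htgt : IsZero (K.X i) := hK i (by omega)
      exact ⟨0, hsrc.eq_of_src _ _, htgt.eq_of_src _ _⟩

instance isIso_φmap (hK : ∀ i : ℤ, i < -1 ∨ 0 < i → IsZero (K.X i)) :
    IsIso (φmap K (hK 1 (by omega))) := by
  have := isIso_φmap_f K hK
  exact HomologicalComplex.Hom.isIso_of_components _

variable [HasDerivedCategory C]

omit [Abelian C] in
lemma aux₂ {A B C' D : C} (a : A ⟶ B) (b : B ⟶ C') (e : C' ≅ D) :
    (a ≫ b ≫ e.hom) ≫ e.inv = a ≫ b := by simp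

lemma aux₃ {A B C' D : DerivedCategory C} (a : A ⟶ B) (b : B ⟶ C'⟦(1 : ℤ)⟧) (e : D ≅ C') :
    (a ≫ b ≫ e.inv⟦(1 : ℤ)⟧') ≫ e.hom⟦(1 : ℤ)⟧' = a ≫ b := by
  rw [Category.assoc, Category.assoc, ← CategoryTheory.Functor.map_comp, Iso.inv_hom_id,
      CategoryTheory.Functor.map_id, Category.comp_id]

theorem exists_distTriang (hK : ∀ i : ℤ, i < -1 ∨ 0 < i → IsZero (K.X i)) :
    ∃ (j : (DerivedCategory.singleFunctor C 0).obj (K.X 0) ⟶ DerivedCategory.Q.obj K)
      (ρ : DerivedCategory.Q.obj K ⟶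
        ((DerivedCategory.singleFunctor C 0).obj (K.X (-1)))⟦(1 : ℤ)⟧),
      Triangle.mk ((DerivedCategory.singleFunctor C 0).map (K.d (-1) 0)) j ρ ∈
        distTriang (DerivedCategory C) := by
  let T₀ := DerivedCategory.Q.mapTriangle.obj (mappingCone.triangle (gmap K))
  have hT₀ : T₀ ∈ distTriang _ := DerivedCategory.mappingCone_triangle_distinguished _
  let e₁ := fun M : C => (DerivedCategory.singleFunctorIsoCompQ C 0).app M
  have := isIso_φmap K hK
  let e₃ : DerivedCategory.Q.obj (mappingCone (gmap K)) ≅ DerivedCategory.Q.obj K :=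
    DerivedCategory.Q.mapIso (asIso (φmap K (hK 1 (by omega))))
  refine ⟨(e₁ _).hom ≫ T₀.mor₂ ≫ e₃.hom, e₃.inv ≫ T₀.mor₃ ≫ ((e₁ _).inv)⟦(1 : ℤ)⟧', ?_⟩
  refine isomorphic_distinguished _ hT₀ _ (Triangle.isoMk _ _ (e₁ _) (e₁ _) e₃.symm ?_ ?_ ?_)
  · exact (DerivedCategory.singleFunctorIsoCompQ C 0).hom.naturality (K.d (-1) 0)
  · exact aux₂ _ _ _
  · exact aux₃ _ _ _

end Groth.Agent.Lib.Helper32.TwoTermTri
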