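import Mathlib

set_option autoImplicit false
universe v u

namespace Groth.Agent.Lib.Helper32.VerdierSemiOrth

open CategoryTheory CategoryTheory.Limits CategoryTheory.Pretriangulated

theorem main {D : Type u} [Category.{v} D] [Preadditive D] [Limits.HasZeroObject D] [HasShift D ℤ]
    [∀ n : ℤ, (shiftFunctor D n).Additive] [Pretriangulated D] [IsTriangulated D]
    (A B : ObjectProperty D) [A.IsTriangulated] [A.IsClosedUnderIsomorphisms]
    [B.IsTriangulated] [B.IsClosedUnderIsomorphisms]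
    (hAB : ∀ (a b : D), A a → B b → ∀ f : a ⟶ b, f = 0)
    (hdec : ∀ X : D, ∃ (a b : D) (f : a ⟶ X) (g : X ⟶ b) (h : b ⟶ (shiftFunctor D (1 : ℤ)).obj a),
      Triangle.mk f g h ∈ distinguishedTriangles ∧ A a ∧ B b) :
    (A.ι ⋙ B.trW.Q).IsEquivalence := by
  have hbij : ∀ (a : A.FullSubcategory) (Y : D),
      Function.Bijective (B.trW.Q.map : (a.obj ⟶ Y) → _) := fun a Y =>
    ObjectProperty.leftOrthogonal.map_bijective_of_isTriangulated
      (P := B) (fun Y f hY => hAB a.obj Y a.property hY f) B.trW.Q Y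
  have hff : (A.ι ⋙ B.trW.Q).FullyFaithful :=
    { preimage := fun {a a'} g => ObjectProperty.homMk ((hbij a a'.obj).2 g).choose
      map_preimage := fun {a a'} g => ((hbij a a'.obj).2 g).choose_spec
      preimage_map := fun {a a'} f => by
        apply A.ι.map_injective
        apply (hbij a a'.obj).1
        exact ((hbij a a'.obj).2 _).choose_spec }
  have : (A.ι ⋙ B.trW.Q).Full := hff.full
  have : (A.ι ⋙ B.trW.Q).Faithful := hff.faithful
  have : (A.ι ⋙ B.trW.Q).EssSurj := by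
    constructor
    intro Y
    have : B.trW.Q.EssSurj := Localization.essSurj B.trW.Q B.trW
    obtain ⟨X, ⟨e⟩⟩ : ∃ X, Nonempty (B.trW.Q.obj X ≅ Y) := ⟨_, ⟨B.trW.Q.objObjPreimageIso Y⟩⟩
    obtain ⟨a, b, f, g, h, hT, ha, hb⟩ := hdec X
    have hf : B.trW f := ObjectProperty.trW.mk (P := B) hT hb
    have : IsIso (B.trW.Q.map f) := Localization.inverts B.trW.Q B.trW f hf
    exact ⟨⟨a, ha⟩, ⟨asIso (B.trW.Q.map f) ≪≫ e⟩⟩
  exact { }

end Groth.Agent.Lib.Helper32.VerdierSemiOrth
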