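import Mathlib
import Groth.Agent.Lib.Helper32.AdjDevissage
/-
Helper32 library: the lemma on way-out functors (Hartshorne RD I.7.1) for a morphism
`η : F ⟶ G` of triangulated functors `D(A) ⥤ D(B)`: `bdd`, `bddBelow`, `unbdd`.
-/
set_option autoImplicit false
set_option linter.unusedSectionVars false
universe w w' v v' u u'
open CategoryTheory CategoryTheory.Limits CategoryTheory.Pretriangulated DerivedCategory
open scoped ZeroObject

namespace Groth.Agent.Lib.Helper32.WayOut

open AdjDevissage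

variable {A : Type u} [Category.{v} A] [Abelian A] [HasDerivedCategory.{w} A]
  {B : Type u'} [Category.{v'} B] [Abelian B] [HasDerivedCategory.{w'} B]

/-- in a distinguished triangle whose first vertex is `≤ n`, the second map is an isomorphism on
`H^q` for `q > n + 1`... precisely for `n < q - 1`?  we need `H^q(X₁) = 0 = H^{q+1}(X₁)`: `n < q` -/
lemma isIso_homology_mor₂_of_isLE (T : Triangle (DerivedCategory A)) (hT : T ∈ distTriang _)
    (n q : ℤ) (hq : n < q) [T.obj₁.IsLE n] :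
    IsIso ((homologyFunctor A q).map T.mor₂) := by
  have hm : Mono ((homologyFunctor A q).map T.mor₂) := by
    refine (HomologySequence.mono_homologyMap_mor₂_iff _ hT q).2 ?_
    exact (isZero_of_isLE T.obj₁ n q hq).eq_of_src _ _
  have he : Epi ((homologyFunctor A q).map T.mor₂) := by
    refine (HomologySequence.epi_homologyMap_mor₂_iff _ hT q (q + 1) rfl).2 ?_
    exact (isZero_of_isLE T.obj₁ n (q + 1) (by omega)).eq_of_tgt _ _
  exact isIso_of_mono_of_epi _

variable (P : ObjectProperty A) [P.IsClosedUnderIsomorphisms]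
  (F G : DerivedCategory A ⥤ DerivedCategory B) [F.CommShift ℤ] [G.CommShift ℤ]
  [F.IsTriangulated] [G.IsTriangulated] (η : F ⟶ G) [NatTrans.CommShift η ℤ]
  (hη : ∀ X : A, P X → IsIso (η.app ((singleFunctor A 0).obj X)))
include hη

/-- bounded case -/
theorem bdd (hP : ∃ Z : A, IsZero Z ∧ P Z)
    (X : DerivedCategory A) (a b : ℤ) [X.IsGE a] [X.IsLE b]
    (hX : ∀ i : ℤ, P ((homologyFunctor A i).obj X)) : IsIso (η.app X) := by
  have hP0 : P.ContainsZero := ⟨hP⟩
  have hbdd : WSerre.cohInBdd P ≤ isoLocus η := Devissage.gen P _ hη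
  exact hbdd X ⟨hX, ⟨a, inferInstance⟩, ⟨b, inferInstance⟩⟩

/-- bounded below case -/
theorem bddBelow
    (hF : ∀ n₁ : ℤ, ∃ n₂ : ℤ, ∀ Y : DerivedCategory A, Y.IsGE n₂ → (F.obj Y).IsGE n₁)
    (hG : ∀ n₁ : ℤ, ∃ n₂ : ℤ, ∀ Y : DerivedCategory A, Y.IsGE n₂ → (G.obj Y).IsGE n₁)
    (X : DerivedCategory A) (a : ℤ) [X.IsGE a]
    (hX : ∀ i : ℤ, P ((homologyFunctor A i).obj X)) : IsIso (η.app X) := by
  have hP : ∃ Z : A, IsZero Z ∧ P Z :=
    ⟨_, isZero_of_isGE X a (a - 1) (by omega), hX (a - 1)⟩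
  have hP0 : P.ContainsZero := ⟨hP⟩
  rw [DerivedCategory.isIso_iff]
  intro q
  obtain ⟨n₂, hn₂⟩ := hF (q + 1)
  obtain ⟨n₂', hn₂'⟩ := hG (q + 1)
  obtain ⟨m, hm1, hm2, hm3⟩ : ∃ m : ℤ, n₂ ≤ m ∧ n₂' ≤ m ∧ q < m :=
    ⟨max n₂ (max n₂' (q + 1)), le_max_left _ _, (le_max_left _ _).trans (le_max_right _ _),
      lt_of_lt_of_le (by omega) ((le_max_right _ _).trans (le_max_right _ _))⟩
  have hι := EssConstDer.isIso_homology_truncLTι X m q hm3
  have hT := TStructure.t.triangleLTGE_distinguished m X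
  have hTF := F.map_distinguished _ hT
  have hTG := G.map_distinguished _ hT
  have hGEF : (F.mapTriangle.obj ((TStructure.t.triangleLTGE m).obj X)).obj₃.IsGE (q + 1) := by
    show (F.obj ((TStructure.t.truncGE m).obj X)).IsGE (q + 1)
    exact hn₂ _ (TStructure.t.isGE_of_ge _ n₂ m hm1)
  have hGEG : (G.mapTriangle.obj ((TStructure.t.triangleLTGE m).obj X)).obj₃.IsGE (q + 1) := by
    show (G.obj ((TStructure.t.truncGE m).obj X)).IsGE (q + 1)
    exact hn₂' _ (TStructure.t.isGE_of_ge _ n₂' m hm2)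
  have h1F : IsIso ((homologyFunctor B q).map (F.map ((TStructure.t.truncLTι m).app X))) :=
    isIso_homology_mor₁_of_isGE _ hTF (q + 1) q (by omega)
  have h1G : IsIso ((homologyFunctor B q).map (G.map ((TStructure.t.truncLTι m).app X))) :=
    isIso_homology_mor₁_of_isGE _ hTG (q + 1) q (by omega)
  have hτ : ∀ i, P ((homologyFunctor A i).obj ((TStructure.t.truncLT m).obj X)) := by
    intro i
    by_cases hi : i < m
    · have := EssConstDer.isIso_homology_truncLTι X m i hi
      exact P.prop_of_iso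
        (asIso ((homologyFunctor A i).map ((TStructure.t.truncLTι m).app X))).symm (hX i)
    · exact P.prop_of_isZero
        (isZero_of_isLE ((TStructure.t.truncLT m).obj X) (m - 1) i (by omega))
  have h2 : IsIso (η.app ((TStructure.t.truncLT m).obj X)) :=
    bdd P F G η hη hP _ a (m - 1) hτ
  have nat := η.naturality ((TStructure.t.truncLTι m).app X)
  have nat' := congr_arg (homologyFunctor B q).map nat
  simp only [Functor.map_comp] at nat'
  exact IsIso.of_isIso_fac_left nat'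

/-- unbounded case -/
theorem unbdd (hP : ∀ Z : A, IsZero Z → P Z)
    (hF : ∀ n₁ : ℤ, ∃ n₂ : ℤ, ∀ Y : DerivedCategory A, Y.IsGE n₂ → (F.obj Y).IsGE n₁)
    (hF' : ∀ n₁ : ℤ, ∃ n₂ : ℤ, ∀ Y : DerivedCategory A, Y.IsLE n₂ → (F.obj Y).IsLE n₁)
    (hG : ∀ n₁ : ℤ, ∃ n₂ : ℤ, ∀ Y : DerivedCategory A, Y.IsGE n₂ → (G.obj Y).IsGE n₁)
    (hG' : ∀ n₁ : ℤ, ∃ n₂ : ℤ, ∀ Y : DerivedCategory A, Y.IsLE n₂ → (G.obj Y).IsLE n₁)
    (X : DerivedCategory A)
    (hX : ∀ i : ℤ, P ((homologyFunctor A i).obj X)) : IsIso (η.app X) := by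
  rw [DerivedCategory.isIso_iff]
  intro q
  obtain ⟨n₂, hn₂⟩ := hF' (q - 1)
  obtain ⟨n₂', hn₂'⟩ := hG' (q - 1)
  obtain ⟨m, hm1, hm2⟩ : ∃ m : ℤ, m - 1 ≤ n₂ ∧ m - 1 ≤ n₂' :=
    ⟨min n₂ n₂' + 1, by simp, by simp⟩
  have hT := TStructure.t.triangleLTGE_distinguished m X
  have hTF := F.map_distinguished _ hT
  have hTG := G.map_distinguished _ hT
  have hLEF : (F.mapTriangle.obj ((TStructure.t.triangleLTGE m).obj X)).obj₁.IsLE (q - 1) := by
    show (F.obj ((TStructure.t.truncLT m).obj X)).IsLE (q - 1)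
    exact hn₂ _ (TStructure.t.isLE_of_le _ (m - 1) n₂ hm1)
  have hLEG : (G.mapTriangle.obj ((TStructure.t.triangleLTGE m).obj X)).obj₁.IsLE (q - 1) := by
    show (G.obj ((TStructure.t.truncLT m).obj X)).IsLE (q - 1)
    exact hn₂' _ (TStructure.t.isLE_of_le _ (m - 1) n₂' hm2)
  have h1F : IsIso ((homologyFunctor B q).map (F.map ((TStructure.t.truncGEπ m).app X))) :=
    isIso_homology_mor₂_of_isLE _ hTF (q - 1) q (by omega)
  have h1G : IsIso ((homologyFunctor B q).map (G.map ((TStructure.t.truncGEπ m).app X))) :=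
    isIso_homology_mor₂_of_isLE _ hTG (q - 1) q (by omega)
  have hτ : ∀ i, P ((homologyFunctor A i).obj ((TStructure.t.truncGE m).obj X)) := by
    intro i
    by_cases hi : i < m
    · exact hP _ (isZero_of_isGE ((TStructure.t.truncGE m).obj X) m i hi)
    · have : ((TStructure.t.triangleLTGE m).obj X).obj₁.IsLE (m - 1) := by
        show ((TStructure.t.truncLT m).obj X).IsLE (m - 1)
        infer_instance
      have h3 : IsIso ((homologyFunctor A i).map ((TStructure.t.truncGEπ m).app X)) :=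
        isIso_homology_mor₂_of_isLE _ hT (m - 1) i (by omega)
      exact P.prop_of_iso
        (asIso ((homologyFunctor A i).map ((TStructure.t.truncGEπ m).app X))) (hX i)
  have h2 : IsIso (η.app ((TStructure.t.truncGE m).obj X)) :=
    bddBelow P F G η hη hF hG _ m hτ
  have nat := η.naturality ((TStructure.t.truncGEπ m).app X)
  have nat' := congr_arg (homologyFunctor B q).map nat
  simp only [Functor.map_comp] at nat'
  exact IsIso.of_isIso_fac_right nat'.symm

end Groth.Agent.Lib.Helper32.WayOut
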