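import Mathlib

/-!
# Weakly regular sequences: short exact sequences and Krull-intersection passage

* `isWeaklyRegular_of_exact`: in a short exact sequence, weakly regular on both ends implies
  weakly regular in the middle.
* `isWeaklyRegular_of_forall_quot_pow`: over a Noetherian ring with `J ≤ jacobson ⊥` and `M` finite,
  weak regularity on all `M ⧸ J^n M` implies weak regularity on `M`.
-/

open RingTheory.Sequence Function

namespace Groth.Agent.Lib.Helper32

universe u v

theorem isWeaklyRegular_of_subsingleton {R : Type u} [CommRing R] (M : Type v) [AddCommGroup M]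
    [Module R M] [Subsingleton M] (rs : List R) : IsWeaklyRegular M rs := by
  refine ⟨fun i hi => ?_⟩
  intro x y _
  exact Subsingleton.elim _ _

theorem isWeaklyRegular_of_exact {R : Type u} [CommRing R] (rs : List R) :
    ∀ {M' M M'' : Type v} [AddCommGroup M'] [AddCommGroup M] [AddCommGroup M'']
    [Module R M'] [Module R M] [Module R M''] (f : M' →ₗ[R] M) (g : M →ₗ[R] M'')
    (_ : Injective f) (_ : Surjective g) (_ : Exact f g)
    (_ : IsWeaklyRegular M' rs) (_ : IsWeaklyRegular M'' rs), IsWeaklyRegular M rs := by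
  induction rs with
  | nil => intros; exact IsWeaklyRegular.nil R _
  | cons r rs ih =>
    intro M' M M'' _ _ _ _ _ _ f g hf hg hfg h1 h2
    rw [isWeaklyRegular_cons_iff] at h1 h2 ⊢
    refine ⟨isSMulRegular_of_range_eq_ker hf hfg.linearMap_ker_eq.symm h1.1 h2.1, ?_⟩
    refine ih (QuotSMulTop.map r f) (QuotSMulTop.map r g) ?_ (QuotSMulTop.map_surjective r hg)
      (QuotSMulTop.map_exact r hfg hg) h1.2 h2.2
    have hz : Exact (0 : PUnit.{v+1} →ₗ[R] M') f := (LinearMap.exact_zero_iff_injective _ f).mpr hf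
    have := QuotSMulTop.map_first_exact_on_four_term_exact_of_isSMulRegular_last hz hfg h2.1
    rw [map_zero] at this
    exact (LinearMap.exact_zero_iff_injective _ _).mp this

theorem isWeaklyRegular_of_forall_quot_pow {R : Type u} [CommRing R] [IsNoetherianRing R]
    (J : Ideal R) (hJ : J ≤ Ideal.jacobson ⊥) (M : Type v) [AddCommGroup M] [Module R M]
    [Module.Finite R M] (rs : List R)
    (h : ∀ n : ℕ, IsWeaklyRegular (M ⧸ (J ^ n • ⊤ : Submodule R M)) rs) :
    IsWeaklyRegular M rs := by
  refine ⟨fun i hi => ?_⟩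
  set I : Ideal R := Ideal.ofList (rs.take i) with hI
  set N : Submodule R M := I • ⊤ with hN
  rw [isSMulRegular_quotient_iff_mem_of_smul_mem]
  intro x hx
  -- for each n, x ∈ N ⊔ J^n • ⊤
  have key : ∀ n : ℕ, x ∈ N ⊔ (J ^ n • ⊤ : Submodule R M) := by
    intro n
    have hn := (h n).regular_mod_prev i hi
    rw [isSMulRegular_quotient_iff_mem_of_smul_mem] at hn
    set P : Submodule R M := (J ^ n • ⊤ : Submodule R M) with hP
    have hmap : (I • ⊤ : Submodule R (M ⧸ P)) = N.map P.mkQ := by
      rw [hN, Submodule.map_smul'', Submodule.map_top, Submodule.range_mkQ]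
    have h1 : rs[i] • (P.mkQ x) ∈ (I • ⊤ : Submodule R (M ⧸ P)) := by
      rw [hmap, ← map_smul]
      exact Submodule.mem_map_of_mem hx
    have h2 := hn (P.mkQ x) h1
    rw [hmap] at h2
    obtain ⟨y, hy, hyx⟩ := h2
    have : x - y ∈ P := by
      rw [← Submodule.ker_mkQ P, LinearMap.mem_ker, map_sub, hyx, sub_self]
    have hx' : x = y + (x - y) := by abel
    rw [hx']
    exact Submodule.add_mem_sup hy this
  -- Krull on M ⧸ N
  have hK := Ideal.iInf_pow_smul_eq_bot_of_le_jacobson (M := M ⧸ N) J hJ
  have : N.mkQ x ∈ (⨅ n : ℕ, J ^ n • ⊤ : Submodule R (M ⧸ N)) := by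
    rw [Submodule.mem_iInf]
    intro n
    obtain ⟨y, hy, z, hz, hyz⟩ := Submodule.mem_sup.mp (key n)
    have hmap : (J ^ n • ⊤ : Submodule R (M ⧸ N)) = (J ^ n • ⊤ : Submodule R M).map N.mkQ := by
      rw [Submodule.map_smul'', Submodule.map_top, Submodule.range_mkQ]
    rw [hmap, ← hyz, map_add]
    have : N.mkQ y = 0 := by
      rw [← LinearMap.mem_ker, Submodule.ker_mkQ]; exact hy
    rw [this, zero_add]
    exact Submodule.mem_map_of_mem hz
  rw [hK] at this
  have h0 : N.mkQ x = 0 := by simpa using this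
  rwa [← LinearMap.mem_ker, Submodule.ker_mkQ] at h0

end Groth.Agent.Lib.Helper32
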