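import Mathlib

set_option autoImplicit false
universe w v u
open CategoryTheory CategoryTheory.Limits CategoryTheory.Abelian DerivedCategory Pretriangulated

namespace Groth.Agent.Lib.Helper32.YonedaExt

variable {C : Type u} [Category.{v} C] [Abelian C]

section
variable [HasDerivedCategory.{w} C]

/-- A distinguished triangle on single objects gives a short exact sequence. -/
lemma shortExact_of_distTriang {F X Q : C} (i : F ⟶ X) (q : X ⟶ Q)
    (α : (singleFunctor C 0).obj Q ⟶ ((singleFunctor C 0).obj F)⟦(1 : ℤ)⟧)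
    (hT : Triangle.mk ((singleFunctor C 0).map i) ((singleFunctor C 0).map q) α ∈
      distTriang (DerivedCategory C)) :
    ∃ (w : i ≫ q = 0), (ShortComplex.mk i q w).ShortExact := by
  set T := Triangle.mk ((singleFunctor C 0).map i) ((singleFunctor C 0).map q) α with hTdef
  have w : i ≫ q = 0 := by
    apply (singleFunctor C 0).map_injective
    rw [Functor.map_comp, Functor.map_zero]
    exact comp_distTriang_mor_zero₁₂ T hT
  refine ⟨w, ?_⟩
  let e := singleFunctorCompHomologyFunctorIso C 0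
  have hex := HomologySequence.exact₂ T hT 0
  have hmono : Mono ((homologyFunctor C 0).map T.mor₁) := by
    rw [HomologySequence.mono_homologyMap_mor₁_iff T hT (-1) 0 (by lia)]
    exact (isZero_of_isGE ((singleFunctor C 0).obj Q) 0 (-1) (by lia)).eq_of_src _ _
  have hepi : Epi ((homologyFunctor C 0).map T.mor₂) := by
    rw [HomologySequence.epi_homologyMap_mor₂_iff T hT 0 1 (by lia)]
    exact (isZero_of_isLE ((singleFunctor C 0).obj F) 0 1 (by lia)).eq_of_tgt _ _
  have n1 : (homologyFunctor C 0).map ((singleFunctor C 0).map i) ≫ e.hom.app X =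
      e.hom.app F ≫ i := e.hom.naturality i
  have n2 : (homologyFunctor C 0).map ((singleFunctor C 0).map q) ≫ e.hom.app Q =
      e.hom.app X ≫ q := e.hom.naturality q
  let ι : ShortComplex.mk ((homologyFunctor C 0).map T.mor₁) ((homologyFunctor C 0).map T.mor₂)
      (by simp only [← Functor.map_comp, comp_distTriang_mor_zero₁₂ _ hT, Functor.map_zero]) ≅
      ShortComplex.mk i q w :=
    ShortComplex.isoMk (e.app F) (e.app X) (e.app Q) n1.symm n2.symm
  exact ShortComplex.shortExact_of_iso ι (ShortComplex.ShortExact.mk' hex hmono hepi)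

end


section
variable [HasDerivedCategory.{w} C]

/-- third maps of distinguished triangles `single F → single X → single Q` are determined by the
first two maps. -/
lemma singleδ_eq {S : ShortComplex C} (hS : S.ShortExact)
    (α : (singleFunctor C 0).obj S.X₃ ⟶ ((singleFunctor C 0).obj S.X₁)⟦(1 : ℤ)⟧)
    (hT : Triangle.mk ((singleFunctor C 0).map S.f) ((singleFunctor C 0).map S.g) α ∈
      distTriang (DerivedCategory C)) : hS.singleδ = α := by
  obtain ⟨c, hc1, hc2⟩ : ∃ c : (singleFunctor C 0).obj S.X₃ ⟶ (singleFunctor C 0).obj S.X₃,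
      (singleFunctor C 0).map S.g ≫ c = (singleFunctor C 0).map S.g ∧ hS.singleδ = c ≫ α := by
    obtain ⟨c, hc1, hc2⟩ := complete_distinguished_triangle_morphism _ _
      hS.singleTriangle_distinguished hT (𝟙 _) (𝟙 _)
      (by erw [Category.comp_id, Category.id_comp]; rfl)
    refine ⟨c, hc1.trans (Category.id_comp _), ?_⟩
    have : hS.singleδ ≫ (𝟙 _)⟦(1 : ℤ)⟧' = c ≫ α := hc2
    rwa [CategoryTheory.Functor.map_id, Category.comp_id] at this
  obtain ⟨c₀, rfl⟩ := (singleFunctor C 0).map_surjective c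
  have := hS.epi_g
  have h1 : S.g ≫ c₀ = S.g := by
    apply (singleFunctor C 0).map_injective
    rw [Functor.map_comp, hc1]
  have h2 : c₀ = 𝟙 _ := by rw [← cancel_epi S.g, h1, Category.comp_id]
  subst h2
  rw [CategoryTheory.Functor.map_id, Category.id_comp] at hc2
  exact hc2

end

variable [HasExt.{w} C]

theorem exists_shortExact_extClass_eq {Q F : C} (y : Ext Q F 1) :
    ∃ (X : C) (i : F ⟶ X) (q : X ⟶ Q) (w : i ≫ q = 0)
      (h : (ShortComplex.mk i q w).ShortExact), h.extClass = y := by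
  let _ := HasDerivedCategory.standard C
  let α : (singleFunctor C 0).obj Q ⟶ ((singleFunctor C 0).obj F)⟦(1 : ℤ)⟧ := y.hom
  obtain ⟨Z, i', q', hT⟩ := distinguished_cocone_triangle₂ α
  have hle : TStructure.t.IsLE Z 0 :=
    TStructure.t.isLE₂ _ hT 0 (inferInstanceAs (TStructure.t.IsLE ((singleFunctor C 0).obj F) 0))
      (inferInstanceAs (TStructure.t.IsLE ((singleFunctor C 0).obj Q) 0))
  have hge : TStructure.t.IsGE Z 0 :=
    TStructure.t.isGE₂ _ hT 0 (inferInstanceAs (TStructure.t.IsGE ((singleFunctor C 0).obj F) 0))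
      (inferInstanceAs (TStructure.t.IsGE ((singleFunctor C 0).obj Q) 0))
  obtain ⟨X, ⟨ε⟩⟩ := exists_iso_singleFunctor_obj_of_isGE_of_isLE Z 0
  obtain ⟨i, hi⟩ := (singleFunctor C 0).map_surjective (i' ≫ ε.hom)
  obtain ⟨q, hq⟩ := (singleFunctor C 0).map_surjective (ε.inv ≫ q')
  have hT' : Triangle.mk ((singleFunctor C 0).map i) ((singleFunctor C 0).map q) α ∈
      distTriang (DerivedCategory C) := by
    refine isomorphic_distinguished _ hT _ ?_
    refine Triangle.isoMk _ _ (Iso.refl _) ε.symm (Iso.refl _) ?_ ?_ ?_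
    · show (singleFunctor C 0).map i ≫ ε.inv = 𝟙 _ ≫ i'
      rw [hi]; simp
    · show (singleFunctor C 0).map q ≫ 𝟙 _ = ε.inv ≫ q'
      rw [hq]; simp
    · show α ≫ (𝟙 _)⟦(1 : ℤ)⟧' = 𝟙 _ ≫ α
      simp
  obtain ⟨w, h⟩ := shortExact_of_distTriang i q α hT'
  refine ⟨X, i, q, w, h, ?_⟩
  ext
  rw [ShortComplex.ShortExact.extClass_hom]
  exact singleδ_eq h α hT'

theorem exists_hom_of_extClass_comp {S S' : ShortComplex C} (hS : S.ShortExact)
    (hS' : S'.ShortExact) (b : S.X₁ ⟶ S'.X₁) (g : S.X₃ ⟶ S'.X₃)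
    (h : hS.extClass.comp (Ext.mk₀ b) (add_zero 1) = (Ext.mk₀ g).comp hS'.extClass (zero_add 1)) :
    ∃ p : S.X₂ ⟶ S'.X₂, S.f ≫ p = b ≫ S'.f ∧ p ≫ S'.g = S.g ≫ g := by
  let _ := HasDerivedCategory.standard C
  have h' : hS.singleδ ≫ ((singleFunctor C 0).map b)⟦(1 : ℤ)⟧' =
      (singleFunctor C 0).map g ≫ hS'.singleδ := by
    have := congrArg Ext.hom h
    simpa [ShiftedHom.comp_mk₀, ShiftedHom.mk₀_comp] using this
  obtain ⟨p', hp1, hp2⟩ := complete_distinguished_triangle_morphism₂ _ _
    hS.singleTriangle_distinguished hS'.singleTriangle_distinguished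
    ((singleFunctor C 0).map b) ((singleFunctor C 0).map g) h'
  obtain ⟨p, rfl⟩ := (singleFunctor C 0).map_surjective p'
  refine ⟨p, ?_, ?_⟩
  · apply (singleFunctor C 0).map_injective
    rw [Functor.map_comp, Functor.map_comp]
    exact hp1
  · apply (singleFunctor C 0).map_injective
    rw [Functor.map_comp, Functor.map_comp]
    exact hp2.symm

end Groth.Agent.Lib.Helper32.YonedaExt
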